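import Mathlib.CategoryTheory.Abelian.Refinements
import Mathlib.CategoryTheory.Subobject.Lattice
import Mathlib.CategoryTheory.Subobject.Limits
import Mathlib.CategoryTheory.Subobject.ArtinianObject
import Mathlib.CategoryTheory.Subobject.NoetherianObject
import Mathlib.CategoryTheory.Simple
import Mathlib.CategoryTheory.Abelian.Basic
import Mathlib.Order.ModularLattice
import Mathlib.Order.JordanHolder

/-!
# Subobject lattices in abelian categories are modular; simple quotients; second isomorphism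
(helper1)
-/

set_option autoImplicit false
universe u v

namespace Groth.Agent.H1.SubobjMod

open CategoryTheory CategoryTheory.Limits

variable {A : Type u} [Category.{v} A] [Abelian A] {X : A}

lemma factors_of_eq {T : A} (P : Subobject X) (g : T ⟶ (P : A)) (f : T ⟶ X)
    (h : g ≫ P.arrow = f) : P.Factors f := by
  subst h
  exact P.factors_comp_arrow g

/-- Factoring through a subobject descends along epimorphisms. -/
lemma factors_of_epi_comp {T T' : A} (P : Subobject X) (e : T' ⟶ T) [Epi e] (f : T ⟶ X)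
    (h : P.Factors (e ≫ f)) : P.Factors f := by
  have hg : P.factorThru (e ≫ f) h ≫ P.arrow = e ≫ f := P.factorThru_arrow _ h
  have hk : kernel.ι e ≫ P.factorThru (e ≫ f) h = 0 := by
    rw [← cancel_mono P.arrow, Category.assoc, hg, ← Category.assoc, kernel.condition,
      zero_comp, zero_comp]
  have h2 : Abelian.epiDesc e _ hk ≫ P.arrow = f := by
    rw [← cancel_epi e, ← Category.assoc, Abelian.comp_epiDesc, hg]
  rw [← h2]
  exact P.factors_comp_arrow _

lemma factors_sub {T : A} (P : Subobject X) (f g : T ⟶ X) (hf : P.Factors f)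
    (hg : P.Factors g) : P.Factors (f - g) := by
  have : f - g = (P.factorThru f hf - P.factorThru g hg) ≫ P.arrow := by
    rw [Preadditive.sub_comp, P.factorThru_arrow, P.factorThru_arrow]
  rw [this]
  exact P.factors_comp_arrow _

lemma sup_eq_imageSubobject (x y : Subobject X) :
    x ⊔ y = imageSubobject (biprod.desc x.arrow y.arrow) := by
  apply le_antisymm
  · apply sup_le
    · apply Subobject.le_of_factors
      refine factors_of_eq _
        (biprod.inl ≫ factorThruImageSubobject (biprod.desc x.arrow y.arrow)) _ ?_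
      rw [Category.assoc, imageSubobject_arrow_comp, biprod.inl_desc]
    · apply Subobject.le_of_factors
      refine factors_of_eq _
        (biprod.inr ≫ factorThruImageSubobject (biprod.desc x.arrow y.arrow)) _ ?_
      rw [Category.assoc, imageSubobject_arrow_comp, biprod.inr_desc]
  · refine imageSubobject_le _ (biprod.desc (Subobject.ofLE x (x ⊔ y) le_sup_left)
      (Subobject.ofLE y (x ⊔ y) le_sup_right)) ?_
    apply biprod.hom_ext'
    · rw [← Category.assoc, biprod.inl_desc, biprod.inl_desc, Subobject.ofLE_arrow]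
    · rw [← Category.assoc, biprod.inr_desc, biprod.inr_desc, Subobject.ofLE_arrow]

/-- Elements of a sup, up to refinements. -/
lemma sup_factors_iff {T : A} (x y : Subobject X) (f : T ⟶ X) :
    (x ⊔ y).Factors f ↔ ∃ (T' : A) (e : T' ⟶ T) (_ : Epi e) (a : T' ⟶ (x : A))
      (b : T' ⟶ (y : A)), e ≫ f = a ≫ x.arrow + b ≫ y.arrow := by
  constructor
  · intro h
    rw [sup_eq_imageSubobject] at h
    set I := imageSubobject (biprod.desc x.arrow y.arrow) with hI
    let g := I.factorThru f h
    have hg : g ≫ I.arrow = f := I.factorThru_arrow f h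
    let p := factorThruImageSubobject (biprod.desc x.arrow y.arrow)
    have hp : p ≫ I.arrow = biprod.desc x.arrow y.arrow := imageSubobject_arrow_comp _
    have : Epi p := inferInstance
    refine ⟨pullback g p, pullback.fst g p, inferInstance, pullback.snd g p ≫ biprod.fst,
      pullback.snd g p ≫ biprod.snd, ?_⟩
    rw [← hg, ← Category.assoc, pullback.condition, Category.assoc, hp]
    rw [Category.assoc, Category.assoc, ← Preadditive.comp_add]
    congr 1
    apply biprod.hom_ext' <;> simp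
  · rintro ⟨T', e, he, a, b, hab⟩
    apply factors_of_epi_comp _ e
    rw [hab]
    apply Subobject.factors_add
    · exact Subobject.factors_of_le _ le_sup_left (Subobject.factors_comp_arrow _)
    · exact Subobject.factors_of_le _ le_sup_right (Subobject.factors_comp_arrow _)

instance : IsModularLattice (Subobject X) where
  sup_inf_le_assoc_of_le {x} y {z} hxz := by
    apply Subobject.le_of_factors
    set L := (x ⊔ y) ⊓ z with hL
    have h1 : (x ⊔ y).Factors L.arrow :=
      Subobject.factors_of_le _ inf_le_left L.factors_self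
    have h2 : z.Factors L.arrow :=
      Subobject.factors_of_le _ inf_le_right L.factors_self
    obtain ⟨T', e, he, a, b, hab⟩ := (sup_factors_iff x y L.arrow).mp h1
    apply factors_of_epi_comp _ e
    rw [hab]
    apply Subobject.factors_add
    · exact Subobject.factors_of_le _ le_sup_left (Subobject.factors_comp_arrow _)
    · apply Subobject.factors_of_le _ le_sup_right
      rw [Subobject.inf_factors]
      refine ⟨Subobject.factors_comp_arrow _, ?_⟩
      have : b ≫ y.arrow = e ≫ L.arrow - a ≫ x.arrow := by rw [hab]; abel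
      rw [this]
      apply factors_sub
      · exact Subobject.factors_of_factors_right _ h2
      · exact Subobject.factors_of_le _ hxz (Subobject.factors_comp_arrow _)

/-- The kernel of `Z ⟶ Z/Y` is `Y`. -/
lemma comp_cokernel_π_eq_zero_iff {T : A} {Y Z : Subobject X} (h : Y ≤ Z) (t : T ⟶ (Z : A)) :
    t ≫ cokernel.π (Subobject.ofLE Y Z h) = 0 ↔ Y.Factors (t ≫ Z.arrow) := by
  constructor
  · intro ht
    have : t ≫ Z.arrow = Abelian.monoLift (Subobject.ofLE Y Z h) t ht ≫ Y.arrow := by
      rw [← Subobject.ofLE_arrow h, ← Category.assoc, Abelian.monoLift_comp]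
    rw [this]
    exact Subobject.factors_comp_arrow _
  · intro ht
    have : t = Y.factorThru _ ht ≫ Subobject.ofLE Y Z h := by
      rw [← cancel_mono Z.arrow, Category.assoc, Subobject.ofLE_arrow, Subobject.factorThru_arrow]
    rw [this, Category.assoc, cokernel.condition, comp_zero]

section Aux

variable {Y Z : Subobject X} {Q : A} (π : (Z : A) ⟶ Q) [Epi π]

lemma simple_of_covBy_aux (hc : Y ⋖ Z)
    (hK : ∀ {T : A} (t : T ⟶ (Z : A)), t ≫ π = 0 ↔ Y.Factors (t ≫ Z.arrow)) : Simple Q := by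
  have h : Y ≤ Z := hc.le
  have hπ0 : π ≠ 0 := by
    intro h0
    have h1 : Y.Factors (𝟙 (Z : A) ≫ Z.arrow) :=
      (hK (𝟙 _)).mp (by rw [Category.id_comp]; exact h0)
    rw [Category.id_comp] at h1
    exact hc.lt.not_ge (Subobject.le_of_factors h1)
  refine ⟨fun {W} f hf => ?_⟩
  have hm : Mono (pullback.fst π f ≫ Z.arrow) := mono_comp _ _
  have hYP : Y ≤ Subobject.mk (pullback.fst π f ≫ Z.arrow) := by
    have h0 : Subobject.ofLE Y Z h ≫ π = 0 := by
      rw [hK, Subobject.ofLE_arrow]
      exact Y.factors_self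
    refine Subobject.le_mk_of_comm (pullback.lift (Subobject.ofLE Y Z h) 0
      (by rw [h0, zero_comp])) ?_
    rw [pullback.lift_fst_assoc, Subobject.ofLE_arrow]
  have hPZ : Subobject.mk (pullback.fst π f ≫ Z.arrow) ≤ Z :=
    Subobject.mk_le_of_comm (pullback.fst π f) rfl
  rcases hc.eq_or_eq hYP hPZ with hP | hP
  · have h1 : Y.Factors (pullback.fst π f ≫ Z.arrow) := by
      rw [← hP]
      exact Subobject.mk_factors_self _
    have h2 : pullback.fst π f ≫ π = 0 := (hK _).mpr h1
    have h3 : pullback.snd π f ≫ f = 0 := by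
      rw [← pullback.condition]
      exact h2
    have hf0 : f = 0 := by
      rw [← cancel_epi (pullback.snd π f), h3, comp_zero]
    constructor
    · intro hiso
      exfalso
      apply hπ0
      have e1 : inv f ≫ f = inv f ≫ 0 := congrArg (fun t => inv f ≫ t) hf0
      rw [IsIso.inv_hom_id, comp_zero] at e1
      rw [← Category.comp_id π, e1, comp_zero]
    · intro hne
      exact absurd hf0 hne
  · have h1 : (Subobject.mk (pullback.fst π f ≫ Z.arrow)).Factors Z.arrow := by
      rw [hP]
      exact Z.factors_self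
    obtain ⟨s0, hs0⟩ := (Subobject.mk_factors_iff (pullback.fst π f ≫ Z.arrow) _).mp h1
    obtain ⟨s, hs⟩ : ∃ s : (Z : A) ⟶ pullback π f, s ≫ pullback.fst π f ≫ Z.arrow = Z.arrow :=
      ⟨s0, hs0⟩
    have hs' : s ≫ pullback.fst π f = 𝟙 _ := by
      rw [← cancel_mono Z.arrow, Category.assoc, Category.id_comp]
      exact hs
    have hπf : (s ≫ pullback.snd π f) ≫ f = π := by
      rw [Category.assoc, ← pullback.condition, ← Category.assoc, hs', Category.id_comp]
    have hef : Epi f := epi_of_epi_fac hπf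
    have hif : IsIso f := isIso_of_mono_of_epi f
    constructor
    · intro _ hf0
      apply hπ0
      rw [← hπf]
      exact (congrArg (fun t => (s ≫ pullback.snd π f) ≫ t) hf0).trans comp_zero
    · intro _
      exact hif

lemma covBy_of_simple_aux (h : Y ≤ Z) (hs : Simple Q)
    (hK : ∀ {T : A} (t : T ⟶ (Z : A)), t ≫ π = 0 ↔ Y.Factors (t ≫ Z.arrow)) : Y ⋖ Z := by
  have hπ0 : π ≠ 0 := by
    intro h0
    have : 𝟙 Q = 0 := by
      rw [← cancel_epi π, Category.comp_id, comp_zero]
      exact h0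
    exact id_nonzero _ this
  have hlt : Y < Z := by
    refine lt_of_le_not_ge h (fun hZY => hπ0 ?_)
    have := (hK (𝟙 _)).mpr (by
      rw [Category.id_comp]
      exact Subobject.factors_of_le _ hZY Z.factors_self)
    rwa [Category.id_comp] at this
  refine ⟨hlt, fun P hYP hPZ => ?_⟩
  obtain ⟨g, hg⟩ : ∃ g : (P : A) ⟶ Q, g = Subobject.ofLE P Z hPZ.le ≫ π := ⟨_, rfl⟩
  by_cases h0 : image.ι g = 0
  · have hg0 : g = 0 := by rw [← image.fac g, h0, comp_zero]
    have h1 : Y.Factors (Subobject.ofLE P Z hPZ.le ≫ Z.arrow) :=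
      (hK _).mp (hg ▸ hg0)
    rw [Subobject.ofLE_arrow] at h1
    exact hYP.not_ge (Subobject.le_of_factors h1)
  · have hi : IsIso (image.ι g) := (Simple.mono_isIso_iff_nonzero _).mpr h0
    have hge : Epi g := by
      rw [← image.fac g]
      exact epi_comp _ _
    apply hPZ.not_ge
    apply Subobject.le_of_factors
    apply factors_of_epi_comp P (pullback.fst π g)
    have hcond : pullback.fst π g ≫ π =
        pullback.snd π g ≫ Subobject.ofLE P Z hPZ.le ≫ π := by
      rw [pullback.condition, hg]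
    have hd : (pullback.fst π g - pullback.snd π g ≫ Subobject.ofLE P Z hPZ.le) ≫ π = 0 := by
      rw [Preadditive.sub_comp, Category.assoc, ← hcond, sub_self]
    have h1 : Y.Factors
        ((pullback.fst π g - pullback.snd π g ≫ Subobject.ofLE P Z hPZ.le) ≫ Z.arrow) :=
      (hK _).mp hd
    have h2 := Subobject.factors_of_le _ hYP.le h1
    have h3 : pullback.fst π g ≫ Z.arrow =
        (pullback.fst π g - pullback.snd π g ≫ Subobject.ofLE P Z hPZ.le) ≫ Z.arrow +
          pullback.snd π g ≫ P.arrow := by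
      rw [Preadditive.sub_comp, Category.assoc, Subobject.ofLE_arrow]
      abel
    rw [h3]
    exact Subobject.factors_add _ _ h2 (Subobject.factors_comp_arrow _)

end Aux

/-- If `Y ⋖ Z` then `Z/Y` is simple. -/
theorem simple_cokernel_of_covBy {Y Z : Subobject X} (h : Y ≤ Z) (hc : Y ⋖ Z) :
    Simple (cokernel (Subobject.ofLE Y Z h)) :=
  simple_of_covBy_aux (cokernel.π (Subobject.ofLE Y Z h)) hc
    (fun t => comp_cokernel_π_eq_zero_iff h t)

/-- If `Z/Y` is simple then `Y ⋖ Z`. -/
theorem covBy_of_simple_cokernel {Y Z : Subobject X} (h : Y ≤ Z)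
    (hs : Simple (cokernel (Subobject.ofLE Y Z h))) : Y ⋖ Z :=
  covBy_of_simple_aux (cokernel.π (Subobject.ofLE Y Z h)) h hs
    (fun t => comp_cokernel_π_eq_zero_iff h t)

theorem simple_cokernel_iff_covBy {Y Z : Subobject X} (h : Y ≤ Z) :
    Simple (cokernel (Subobject.ofLE Y Z h)) ↔ Y ⋖ Z :=
  ⟨covBy_of_simple_cokernel h, simple_cokernel_of_covBy h⟩

/-- The comparison map `x/(x ⊓ y) ⟶ (x ⊔ y)/y`. -/
noncomputable def secondIsoMap (x y : Subobject X) :
    cokernel (Subobject.ofLE (x ⊓ y) x inf_le_left) ⟶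
      cokernel (Subobject.ofLE y (x ⊔ y) le_sup_right) :=
  cokernel.desc _ (Subobject.ofLE x (x ⊔ y) le_sup_left ≫ cokernel.π _) (by
    rw [← Category.assoc, comp_cokernel_π_eq_zero_iff le_sup_right, Category.assoc,
      Subobject.ofLE_arrow, Subobject.ofLE_arrow]
    exact Subobject.factors_of_le _ inf_le_right (Subobject.factors_self _))

lemma π_secondIsoMap (x y : Subobject X) :
    cokernel.π (Subobject.ofLE (x ⊓ y) x inf_le_left) ≫ secondIsoMap x y =
      Subobject.ofLE x (x ⊔ y) le_sup_left ≫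
        cokernel.π (Subobject.ofLE y (x ⊔ y) le_sup_right) :=
  cokernel.π_desc _ _ _

instance mono_secondIsoMap (x y : Subobject X) : Mono (secondIsoMap x y) := by
  apply Preadditive.mono_of_cancel_zero
  intro T t ht
  obtain ⟨T', e, he, u, hu⟩ := surjective_up_to_refinements_of_epi
    (cokernel.π (Subobject.ofLE (x ⊓ y) x inf_le_left)) t
  have h0 : (u ≫ Subobject.ofLE x (x ⊔ y) le_sup_left) ≫
      cokernel.π (Subobject.ofLE y (x ⊔ y) le_sup_right) = 0 := by
    rw [Category.assoc, ← π_secondIsoMap, ← Category.assoc, ← hu, Category.assoc, ht, comp_zero]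
  have h1 := (comp_cokernel_π_eq_zero_iff le_sup_right _).mp h0
  rw [Category.assoc, Subobject.ofLE_arrow] at h1
  have h2 : (x ⊓ y).Factors (u ≫ x.arrow) :=
    (Subobject.inf_factors _).mpr ⟨Subobject.factors_comp_arrow u, h1⟩
  have h3 : u ≫ cokernel.π (Subobject.ofLE (x ⊓ y) x inf_le_left) = 0 :=
    (comp_cokernel_π_eq_zero_iff inf_le_left u).mpr h2
  rw [← cancel_epi e, comp_zero, hu, h3]

instance epi_secondIsoMap (x y : Subobject X) : Epi (secondIsoMap x y) := by
  have : Epi (Subobject.ofLE x (x ⊔ y) le_sup_left ≫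
      cokernel.π (Subobject.ofLE y (x ⊔ y) le_sup_right)) := by
    rw [epi_iff_surjective_up_to_refinements]
    intro T t
    obtain ⟨T₁, e₁, he₁, t₁, ht₁⟩ := surjective_up_to_refinements_of_epi
      (cokernel.π (Subobject.ofLE y (x ⊔ y) le_sup_right)) t
    obtain ⟨T₂, e₂, he₂, a, b, hab⟩ := (sup_factors_iff x y (t₁ ≫ (x ⊔ y).arrow)).mp
      (Subobject.factors_comp_arrow t₁)
    have h4 : e₂ ≫ t₁ = a ≫ Subobject.ofLE x (x ⊔ y) le_sup_left +
        b ≫ Subobject.ofLE y (x ⊔ y) le_sup_right := by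
      rw [← cancel_mono (x ⊔ y).arrow, Category.assoc, hab, Preadditive.add_comp,
        Category.assoc, Category.assoc, Subobject.ofLE_arrow, Subobject.ofLE_arrow]
    refine ⟨T₂, e₂ ≫ e₁, epi_comp _ _, a, ?_⟩
    rw [Category.assoc, ht₁, ← Category.assoc, h4, Preadditive.add_comp, Category.assoc,
      Category.assoc, cokernel.condition, comp_zero, add_zero]
  exact epi_of_epi_fac (π_secondIsoMap x y)

instance isIso_secondIsoMap (x y : Subobject X) : IsIso (secondIsoMap x y) :=
  isIso_of_mono_of_epi _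

/-- Second isomorphism theorem. -/
noncomputable def secondIso (x y : Subobject X) :
    cokernel (Subobject.ofLE (x ⊓ y) x inf_le_left) ≅
      cokernel (Subobject.ofLE y (x ⊔ y) le_sup_right) :=
  asIso (secondIsoMap x y)

/-- Transport of quotients along equalities of subobjects. -/
lemma nonempty_cokernel_iso_of_eq {a b a' b' : Subobject X} (h : a ≤ b) (h' : a' ≤ b')
    (ha : a = a') (hb : b = b') :
    Nonempty (cokernel (Subobject.ofLE a b h) ≅ cokernel (Subobject.ofLE a' b' h')) := by
  subst ha hb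
  exact ⟨Iso.refl _⟩

section Order

variable {α : Type*} [Lattice α] [IsModularLattice α]

lemma wf_step_aux {a b : α} (hab : a ⋖ b) (z z' : α) (hz' : z' ≤ b) (hzz' : z < z') :
    z ⊓ a < z' ⊓ a ∨ (z ⊓ a = z' ⊓ a ∧ z ≤ a ∧ ¬ z' ≤ a) := by
  have hle : z ⊓ a ≤ z' ⊓ a := inf_le_inf_right a hzz'.le
  rcases hle.lt_or_eq with hlt | heq
  · exact Or.inl hlt
  · right
    have hz'a : ¬ z' ≤ a := by
      intro h
      have h1 : z ⊓ a = z := inf_eq_left.mpr (hzz'.le.trans h)
      have h2 : z' ⊓ a = z' := inf_eq_left.mpr h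
      rw [h1, h2] at heq
      exact hzz'.ne heq
    refine ⟨heq, ?_, hz'a⟩
    by_contra hza
    have hsup : ∀ w, w ≤ b → ¬ w ≤ a → w ⊔ a = b := by
      intro w hwb hwa
      rcases hab.eq_or_eq (le_sup_right : a ≤ w ⊔ a) (sup_le hwb hab.le) with h | h
      · exact absurd (le_sup_left.trans h.le) hwa
      · exact h
    have h1 := hsup z (hzz'.le.trans hz') hza
    have h2 := hsup z' hz' hz'a
    exact hzz'.ne (eq_of_le_of_inf_le_of_sup_le hzz'.le heq.ge (h2.le.trans h1.ge))

/-- The measure used to propagate well-foundedness along a covering step. -/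
def stepMeasure (a b : α) (z : Set.Iic b) : Set.Iic a × Prop :=
  (⟨z.1 ⊓ a, inf_le_right⟩, ¬ z.1 ≤ a)

lemma strictMono_stepMeasure {a b : α} (hab : a ⋖ b) : StrictMono (stepMeasure a b) := by
  intro z z' hzz'
  have hlt : z.1 < z'.1 := hzz'
  rw [Prod.lt_iff]
  rcases wf_step_aux hab z.1 z'.1 z'.2 hlt with h | ⟨h1, h2, h3⟩
  · left
    refine ⟨h, ?_⟩
    intro (hz : ¬ z.1 ≤ a) (hz' : z'.1 ≤ a)
    exact hz (hlt.le.trans hz')
  · right
    refine ⟨le_of_eq (Subtype.ext h1), ?_⟩
    show (¬ z.1 ≤ a) < (¬ z'.1 ≤ a)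
    rw [lt_iff_le_not_ge]
    refine ⟨fun hz => absurd h2 hz, fun h => ?_⟩
    exact (h h3) h2

theorem wellFounded_of_chain [BoundedOrder α]
    (n : ℕ) (g : ℕ → α) (h0 : g 0 = ⊥) (hn : g n = ⊤) (hstep : ∀ i < n, g i ⋖ g (i + 1)) :
    WellFoundedLT α ∧ WellFoundedGT α := by
  have key : ∀ i ≤ n, WellFoundedLT (Set.Iic (g i)) ∧ WellFoundedGT (Set.Iic (g i)) := by
    intro i
    induction i with
    | zero =>
      intro _
      rw [h0]
      haveI : Subsingleton (Set.Iic (⊥ : α)) :=
        ⟨fun x y => Subtype.ext (le_antisymm (x.2.trans bot_le) (y.2.trans bot_le))⟩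
      exact ⟨inferInstance, inferInstance⟩
    | succ i ih =>
      intro hi
      obtain ⟨h1, h2⟩ := ih (by omega)
      have hs := strictMono_stepMeasure (hstep i (by omega))
      exact ⟨hs.wellFoundedLT, hs.wellFoundedGT⟩
  obtain ⟨h1, h2⟩ := key n le_rfl
  rw [hn] at h1 h2
  let φ : α → Set.Iic (⊤ : α) := fun z => ⟨z, le_top⟩
  have hφ : StrictMono φ := fun _ _ h => h
  exact ⟨hφ.wellFoundedLT, hφ.wellFoundedGT⟩

theorem exists_chain_of_wellFounded {β : Type*} [PartialOrder β] [BoundedOrder β]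
    [WellFoundedLT β] [WellFoundedGT β] :
    ∃ (n : ℕ) (g : ℕ → β), g 0 = ⊥ ∧ g n = ⊤ ∧ Monotone g ∧ ∀ i < n, g i ⋖ g (i + 1) := by
  classical
  have hex : ∀ z : β, ∃ w : β, (z = ⊤ → w = ⊤) ∧ (z ≠ ⊤ → z ⋖ w) := by
    intro z
    by_cases hz : z = ⊤
    · exact ⟨⊤, fun _ => rfl, fun h => absurd hz h⟩
    · obtain ⟨w, hw⟩ := exists_covBy_of_wellFoundedLT (a := z) (by rwa [isMax_iff_eq_top])
      exact ⟨w, fun h => absurd h hz, fun _ => hw⟩
  choose next hnext1 hnext2 using hex
  have hle : ∀ z, z ≤ next z := by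
    intro z
    by_cases hz : z = ⊤
    · rw [hnext1 z hz, hz]
    · exact (hnext2 z hz).le
  let g : ℕ → β := fun k => next^[k] ⊥
  have hgs : ∀ k, g (k + 1) = next (g k) := fun k => Function.iterate_succ_apply' next k ⊥
  have hmono : Monotone g := monotone_nat_of_le_succ (fun k => by rw [hgs]; exact hle _)
  have htop : ∃ k, g k = ⊤ := by
    obtain ⟨k, hk⟩ := WellFoundedGT.monotone_chain_condition' ⟨g, hmono⟩
    refine ⟨k, ?_⟩
    by_contra hne
    have h1 : g k ⋖ g (k + 1) := by
      rw [hgs]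
      exact hnext2 _ hne
    exact hk (k + 1) (Nat.le_succ k) h1.lt
  refine ⟨Nat.find htop, g, rfl, Nat.find_spec htop, hmono, ?_⟩
  intro i hi
  rw [hgs]
  exact hnext2 _ (Nat.find_min htop hi)

end Order

section FiniteLength

/-- Forward direction of the finite-length characterisation. -/
theorem exists_filtration_of_artinian_noetherian (X : A) [IsArtinianObject X]
    [IsNoetherianObject X] :
    ∃ (n : ℕ) (F : Fin (n + 1) → Subobject X) (hF : Monotone F), F 0 = ⊥ ∧ F (Fin.last n) = ⊤ ∧
      ∀ i : Fin n, Simple (cokernel (Subobject.ofLE (F (Fin.castSucc i)) (F (Fin.succ i))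
        (hF (Fin.castSucc_lt_succ (i := i)).le))) := by
  obtain ⟨n, g, h0, hn, hmono, hstep⟩ := exists_chain_of_wellFounded (β := Subobject X)
  refine ⟨n, fun i => g i.val, fun i j hij => hmono hij, h0, hn, fun i => ?_⟩
  exact simple_cokernel_of_covBy _ (hstep i.val i.2)

/-- Backward direction. -/
theorem artinian_noetherian_of_filtration (X : A)
    (n : ℕ) (F : Fin (n + 1) → Subobject X) (hF : Monotone F) (hF0 : F 0 = ⊥)
    (hFn : F (Fin.last n) = ⊤)
    (hFs : ∀ i : Fin n, Simple (cokernel (Subobject.ofLE (F (Fin.castSucc i)) (F (Fin.succ i))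
        (hF (Fin.castSucc_lt_succ (i := i)).le)))) :
    IsArtinianObject X ∧ IsNoetherianObject X := by
  let g : ℕ → Subobject X := fun k => F ⟨min k n, by omega⟩
  have hg0 : g 0 = ⊥ := by
    rw [← hF0]
    exact congrArg F (Fin.ext (Nat.zero_min n))
  have hgn : g n = ⊤ := by
    rw [← hFn]
    exact congrArg F (Fin.ext (min_self n))
  have hstep : ∀ i < n, g i ⋖ g (i + 1) := by
    intro i hi
    have h1 : g i = F (Fin.castSucc ⟨i, hi⟩) := congrArg F (Fin.ext (min_eq_left hi.le))
    have h2 : g (i + 1) = F (Fin.succ ⟨i, hi⟩) := congrArg F (Fin.ext (min_eq_left hi))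
    rw [h1, h2]
    exact covBy_of_simple_cokernel _ (hFs ⟨i, hi⟩)
  obtain ⟨h1, h2⟩ := wellFounded_of_chain n g hg0 hgn hstep
  exact ⟨(ObjectProperty.is_iff _ _).mpr h1, (ObjectProperty.is_iff _ _).mpr h2⟩

end FiniteLength

section JH

/-- The quotient attached to a pair of subobjects (meaningful when `p.1 ≤ p.2`). -/
noncomputable def pairQuot (p : Subobject X × Subobject X) : A :=
  cokernel (Subobject.ofLE (p.1 ⊓ p.2) p.2 inf_le_right)

lemma nonempty_pairQuot_iso {a b : Subobject X} (h : a ≤ b) :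
    Nonempty (pairQuot (a, b) ≅ cokernel (Subobject.ofLE a b h)) :=
  nonempty_cokernel_iso_of_eq _ _ (inf_eq_left.mpr h) rfl

lemma pairQuot_second_iso (x y : Subobject X) :
    Nonempty (pairQuot (x, x ⊔ y) ≅ pairQuot (x ⊓ y, y)) := by
  obtain ⟨e1⟩ := nonempty_pairQuot_iso (le_sup_left : x ≤ x ⊔ y)
  obtain ⟨e2⟩ := nonempty_pairQuot_iso (inf_le_right : x ⊓ y ≤ y)
  obtain ⟨e3⟩ := nonempty_cokernel_iso_of_eq (le_sup_left : x ≤ x ⊔ y)
    (le_sup_right : x ≤ y ⊔ x) rfl (sup_comm x y)
  obtain ⟨e4⟩ := nonempty_cokernel_iso_of_eq (inf_le_right : x ⊓ y ≤ y)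
    (inf_le_left : y ⊓ x ≤ y) (inf_comm x y) rfl
  exact ⟨e1 ≪≫ e3 ≪≫ (secondIso y x).symm ≪≫ e4.symm ≪≫ e2.symm⟩

theorem jordanHolder (X : A)
    (n : ℕ) (F : Fin (n + 1) → Subobject X) (hF : Monotone F) (hF0 : F 0 = ⊥)
    (hFn : F (Fin.last n) = ⊤)
    (hFs : ∀ i : Fin n, Simple (cokernel (Subobject.ofLE (F (Fin.castSucc i)) (F (Fin.succ i))
        (hF (Fin.castSucc_lt_succ (i := i)).le))))
    (m : ℕ) (G : Fin (m + 1) → Subobject X) (hG : Monotone G) (hG0 : G 0 = ⊥)
    (hGm : G (Fin.last m) = ⊤)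
    (hGs : ∀ j : Fin m, Simple (cokernel (Subobject.ofLE (G (Fin.castSucc j)) (G (Fin.succ j))
        (hG (Fin.castSucc_lt_succ (i := j)).le)))) :
    ∃ (e : n = m) (σ : Equiv.Perm (Fin m)), ∀ i : Fin n,
      Nonempty (cokernel (Subobject.ofLE (F (Fin.castSucc i)) (F (Fin.succ i))
          (hF (Fin.castSucc_lt_succ (i := i)).le)) ≅
        cokernel (Subobject.ofLE (G (Fin.castSucc (σ (Fin.cast e i))))
          (G (Fin.succ (σ (Fin.cast e i))))
          (hG (Fin.castSucc_lt_succ (i := σ (Fin.cast e i))).le))) := by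
  let s₁ : CompositionSeries (Subobject X) :=
    { length := n
      toFun := F
      step := fun i => covBy_of_simple_cokernel _ (hFs i) }
  let s₂ : CompositionSeries (Subobject X) :=
    { length := m
      toFun := G
      step := fun j => covBy_of_simple_cokernel _ (hGs j) }
  have hb : s₁.head = s₂.head := hF0.trans hG0.symm
  have ht : s₁.last = s₂.last := hFn.trans hGm.symm
  obtain ⟨f, hf⟩ := CompositionSeries.jordan_holder s₁ s₂ hb ht
  have e : n = m := by
    have := Fintype.card_congr f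
    simpa using this
  subst e
  refine ⟨rfl, f, fun i => ?_⟩
  have hi := hf i
  have h1 : Nonempty (pairQuot (F (Fin.castSucc i), F (Fin.succ i)) ≅
      pairQuot (G (Fin.castSucc (f i)), G (Fin.succ (f i)))) := by
    refine JordanHolderLattice.Iso.rel
      (fun p q : Subobject X × Subobject X => Nonempty (pairQuot p ≅ pairQuot q))
      ⟨Iso.refl _⟩ (fun ⟨e⟩ => ⟨e.symm⟩) (fun ⟨e⟩ ⟨e'⟩ => ⟨e ≪≫ e'⟩)
      (fun {x y} _ => pairQuot_second_iso x y) hi
  obtain ⟨e1⟩ := h1
  obtain ⟨e2⟩ := nonempty_pairQuot_iso (hF (Fin.castSucc_lt_succ (i := i)).le)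
  obtain ⟨e3⟩ := nonempty_pairQuot_iso (hG (Fin.castSucc_lt_succ (i := f i)).le)
  exact ⟨e2.symm ≪≫ e1 ≪≫ e3⟩

end JH

end Groth.Agent.H1.SubobjMod
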