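import Mathlib
import Groth.Prelude.Def_ARSys
import Groth.Agent.Lib.helper1.SubobjMod

/-! Uniform Mittag-Leffler systems (S3188, S3151) (helper1). -/

set_option autoImplicit false
universe v u
open CategoryTheory CategoryTheory.Limits Opposite

namespace Groth.Agent.H1.ARSysML

open ARSys

variable {C : Type u} [Category.{v} C] [Abelian C]

section General

variable {X Y Z : C}

lemma imageSubobject_factors_iff (f : X ⟶ Y) {T : C} (t : T ⟶ Y) :
    (imageSubobject f).Factors t ↔
      ∃ (T' : C) (π : T' ⟶ T) (_ : Epi π) (x : T' ⟶ X), π ≫ t = x ≫ f := by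
  constructor
  · intro h
    obtain ⟨T', π, hπ, x, hx⟩ := surjective_up_to_refinements_of_epi
      (factorThruImageSubobject f) ((imageSubobject f).factorThru t h)
    refine ⟨T', π, hπ, x, ?_⟩
    have := congrArg (fun y => y ≫ (imageSubobject f).arrow) hx
    simpa using this
  · rintro ⟨T', π, hπ, x, hx⟩
    apply Groth.Agent.H1.SubobjMod.factors_of_epi_comp _ π
    rw [hx]
    exact imageSubobject_factors_comp_self f x

lemma imageSubobject_le_iff (f : X ⟶ Z) (g : Y ⟶ Z) :
    imageSubobject f ≤ imageSubobject g ↔
      ∃ (T' : C) (π : T' ⟶ X) (_ : Epi π) (x : T' ⟶ Y), π ≫ f = x ≫ g := by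
  rw [← imageSubobject_factors_iff]
  constructor
  · intro h
    have h1 : (imageSubobject f).Factors f := by
      have := imageSubobject_factors_comp_self f (𝟙 X)
      rwa [Category.id_comp] at this
    exact Subobject.factors_of_le _ h h1
  · intro h
    exact imageSubobject_le f ((imageSubobject g).factorThru f h) (by simp)

lemma imageSubobject_epi_comp (e : X ⟶ Y) [Epi e] (f : Y ⟶ Z) :
    imageSubobject (e ≫ f) = imageSubobject f := by
  apply le_antisymm (imageSubobject_comp_le e f)
  rw [imageSubobject_le_iff]
  obtain ⟨T', π, hπ, x, hx⟩ := surjective_up_to_refinements_of_epi e (𝟙 Y)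
  refine ⟨T', π, hπ, x, ?_⟩
  rw [← Category.assoc, ← hx, Category.comp_id]

lemma epi_of_imageSubobject_comp_eq (e : X ⟶ Y) (m : Y ⟶ Z) [Mono m]
    (h : imageSubobject (e ≫ m) = imageSubobject m) : Epi e := by
  rw [epi_iff_surjective_up_to_refinements]
  intro T y
  have h1 : (imageSubobject (e ≫ m)).Factors (y ≫ m) := by
    rw [h]; exact imageSubobject_factors_comp_self m y
  obtain ⟨T', π, hπ, x, hx⟩ := (imageSubobject_factors_iff _ _).1 h1
  refine ⟨T', π, hπ, x, ?_⟩
  rw [← cancel_mono m, Category.assoc, Category.assoc, hx]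

/-- If `f ≫ g = 0` for an exact pair `(i, g)` then the image of `f` is in the image of `i`. -/
lemma imageSubobject_le_of_exact (S : ShortComplex C) (hS : S.Exact) {T : C} (f : T ⟶ S.X₂)
    (hf : f ≫ S.g = 0) : imageSubobject f ≤ imageSubobject S.f := by
  rw [imageSubobject_le_iff]
  exact (ShortComplex.exact_iff_exact_up_to_refinements S).1 hS f hf

end General

section Sys

variable (X : PS C)

lemma imageSubobject_congr {A B : C} {f g : A ⟶ B} (h : f = g) :
    imageSubobject f = imageSubobject g := by subst h; rfl

/-- `shiftMap` with plain types. -/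
def sm (r n : ℕ) : X.obj (op (n + r)) ⟶ X.obj (op n) := tr X (Nat.le_add_right n r)

lemma shiftMap_eq_sm (r n : ℕ) : shiftMap X r n = sm X r n := rfl

/-- The canonical map `X[r] ⟶ X`. -/
def shiftNat (r : ℕ) : (shift C r).obj X ⟶ X where
  app j := shiftMap X r j.unop
  naturality a b f := by
    change X.map _ ≫ X.map _ = X.map _ ≫ X.map _
    rw [← X.map_comp, ← X.map_comp]
    exact congrArg X.map (Subsingleton.elim _ _)

lemma image_tr_eq_of_isMLAR {r : ℕ}
    (hr : ∀ s : ℕ, r ≤ s → ∀ n : ℕ,
      imageSubobject (shiftMap X s n) = imageSubobject (shiftMap X r n))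
    {n k : ℕ} (h : n + r ≤ k) :
    imageSubobject (tr X ((Nat.le_add_right n r).trans h)) = imageSubobject (sm X r n) := by
  obtain ⟨s, rfl⟩ := Nat.exists_eq_add_of_le ((Nat.le_add_right n r).trans h)
  exact hr s (by omega) n

lemma image_sm_anti {s s' : ℕ} (h : s' ≤ s) (n : ℕ) :
    imageSubobject (sm X s n) ≤ imageSubobject (sm X s' n) := by
  have : sm X s n = tr X (Nat.add_le_add_left h n) ≫ sm X s' n := by
    change X.map _ = X.map _ ≫ X.map _
    rw [← X.map_comp]
    exact congrArg X.map (Subsingleton.elim _ _)
  rw [this]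
  exact imageSubobject_comp_le _ _

/-- The system of universal images (for a given `r`). -/
noncomputable def univIm (r : ℕ) : PS C := Abelian.image (shiftNat X r)

noncomputable def univImι (r : ℕ) : univIm X r ⟶ X := Abelian.image.ι (shiftNat X r)

noncomputable def univImFac (r : ℕ) : (shift C r).obj X ⟶ univIm X r :=
  Abelian.factorThruImage (shiftNat X r)

instance (r : ℕ) : Mono (univImι X r) :=
  (inferInstance : Mono (Abelian.image.ι (shiftNat X r)))

instance (r : ℕ) : Epi (univImFac X r) :=
  (inferInstance : Epi (Abelian.factorThruImage (shiftNat X r)))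

instance (r : ℕ) (j : ℕᵒᵖ) : Mono ((univImι X r).app j) :=
  (NatTrans.mono_iff_mono_app (univImι X r)).1 inferInstance j

/-- component of the factorisation, with plain types -/
noncomputable def facApp (r n : ℕ) : X.obj (op (n + r)) ⟶ (univIm X r).obj (op n) :=
  (univImFac X r).app (op n)

instance epi_facApp (r n : ℕ) : Epi (facApp X r n) :=
  (NatTrans.epi_iff_epi_app (univImFac X r)).1 inferInstance _

lemma fac_app (r n : ℕ) : facApp X r n ≫ (univImι X r).app (op n) = sm X r n := by
  have : univImFac X r ≫ univImι X r = shiftNat X r :=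
    Abelian.image.fac (shiftNat X r)
  have h2 := congrArg (fun t => t.app (op n)) this
  exact h2

lemma sm_π {Y : PS C} (u : Y ⟶ X) (r n : ℕ) :
    (cokernel.π u).app (op (n + r)) ≫ sm (cokernel u) r n =
      sm X r n ≫ (cokernel.π u).app (op n) :=
  ((cokernel.π u).naturality (homOfLE (Nat.le_add_right n r)).op).symm

instance epi_π_app {Y : PS C} (u : Y ⟶ X) (j : ℕᵒᵖ) : Epi ((cokernel.π u).app j) :=
  (NatTrans.epi_iff_epi_app (cokernel.π u)).1 inferInstance _

lemma image_univImι (r n : ℕ) :
    imageSubobject ((univImι X r).app (op n)) = imageSubobject (sm X r n) := by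
  calc imageSubobject ((univImι X r).app (op n))
      = imageSubobject (facApp X r n ≫ (univImι X r).app (op n)) :=
        (imageSubobject_epi_comp _ _).symm
    _ = imageSubobject (sm X r n) := imageSubobject_congr (fac_app X r n)

lemma sm_cokernel_univImι (r n : ℕ) : sm (cokernel (univImι X r)) r n = 0 := by
  rw [← cancel_epi ((cokernel.π (univImι X r)).app (op (n + r))), comp_zero, sm_π,
    ← fac_app X r n, Category.assoc, ← NatTrans.comp_app, cokernel.condition]
  simp

lemma isARNull_cokernel_univImι (r : ℕ) : IsARNull (cokernel (univImι X r)) :=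
  ⟨r, fun n => sm_cokernel_univImι X r n⟩

lemma isARNull_of_isZero (Z : PS C) (hZ : IsZero Z) : IsARNull Z := by
  refine ⟨0, fun n => ?_⟩
  exact ((Functor.isZero_iff Z).1 hZ _).eq_of_src _ _

lemma isStrict_univIm {r : ℕ}
    (hr : ∀ s : ℕ, r ≤ s → ∀ n : ℕ,
      imageSubobject (shiftMap X s n) = imageSubobject (shiftMap X r n)) :
    IsStrict (univIm X r) := by
  intro n m h
  apply epi_of_imageSubobject_comp_eq (tr (univIm X r) h) ((univImι X r).app (op n))
  have hnat : tr (univIm X r) h ≫ (univImι X r).app (op n) =
      (univImι X r).app (op m) ≫ tr X h := (univImι X r).naturality (homOfLE h).op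
  have h2 : sm X r m ≫ tr X h = tr X ((Nat.le_add_right n r).trans
      (Nat.add_le_add_right h r)) := by
    change X.map _ ≫ X.map _ = X.map _
    rw [← X.map_comp]
    exact congrArg X.map (Subsingleton.elim _ _)
  calc imageSubobject (tr (univIm X r) h ≫ (univImι X r).app (op n))
      = imageSubobject ((univImι X r).app (op m) ≫ tr X h) := imageSubobject_congr hnat
    _ = imageSubobject (facApp X r m ≫ (univImι X r).app (op m) ≫ tr X h) :=
        (imageSubobject_epi_comp _ _).symm
    _ = imageSubobject (tr X ((Nat.le_add_right n r).trans (Nat.add_le_add_right h r))) := by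
        apply imageSubobject_congr
        rw [← Category.assoc, fac_app, h2]
    _ = imageSubobject (sm X r n) := image_tr_eq_of_isMLAR X hr (Nat.add_le_add_right h r)
    _ = imageSubobject ((univImι X r).app (op n)) := (image_univImι X r n).symm

/-- If the cokernel of `u` is killed by translation by `r`, the image of `X_{n+r} → X_n`
is contained in the image of `u_n`. -/
lemma image_sm_le_of_cokernel_null {Y : PS C} (u : Y ⟶ X) {r : ℕ}
    (hr : ∀ n : ℕ, shiftMap (cokernel u) r n = 0) (n : ℕ) :
    imageSubobject (sm X r n) ≤ imageSubobject (u.app (op n)) := by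
  have hex : (ShortComplex.mk u (cokernel.π u) (cokernel.condition u)).Exact :=
    ShortComplex.exact_cokernel u
  have hex' := hex.map ((evaluation ℕᵒᵖ C).obj (op n))
  apply imageSubobject_le_of_exact _ hex' (sm X r n)
  change sm X r n ≫ (cokernel.π u).app (op n) = 0
  have h0 : sm (cokernel u) r n = 0 := hr n
  rw [← sm_π, h0, comp_zero]

end Sys

end Groth.Agent.H1.ARSysML
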