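import Mathlib

set_option autoImplicit false
universe w v u
open CategoryTheory CategoryTheory.Limits

namespace Groth.Agent.H1.AbFilMono

lemma mono_of_isColimit {J : Type v} [SmallCategory J] [IsFiltered J]
    {G G' : J ⥤ AddCommGrpCat.{w}} (α : G ⟶ G') (hα : ∀ j, Mono (α.app j))
    {d : Cocone G} (hd : IsColimit d) {d' : Cocone G'} (hd' : IsColimit d')
    (m : d.pt ⟶ d'.pt) (hm : ∀ j, d.ι.app j ≫ m = α.app j ≫ d'.ι.app j) : Mono m := by
  let U := AddCommGrpCat.uliftFunctor.{v, w}
  haveI : AB5OfSize.{v, v} AddCommGrpCat.{max w v} := AB5OfSize_shrink.{v, v, w, w} _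
  haveI : Mono (Functor.whiskerRight α U) := by
    haveI : ∀ j, Mono ((Functor.whiskerRight α U).app j) := fun j => by
      dsimp
      haveI := hα j
      infer_instance
    exact NatTrans.mono_of_mono_app _
  have : Mono (U.map m) := colim.map_mono' (Functor.whiskerRight α U)
    (isColimitOfPreserves U hd) (isColimitOfPreserves U hd') (U.map m) (fun j => by
      dsimp
      rw [← U.map_comp, hm j, U.map_comp])
  exact U.mono_of_mono_map this

end Groth.Agent.H1.AbFilMono
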