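import Mathlib

set_option autoImplicit false

/-! Pre/post-composition with an equivalence in a bicategory (helper1). -/

universe w v u

open CategoryTheory Bicategory

namespace Groth.Agent.H1.FC

variable {B : Type u} [Bicategory.{w, v} B]

theorem H1_postcomp_isEquivalence {b c : B} (a : B) (f : b ⟶ c) (g : c ⟶ b) (e₁ : f ≫ g ≅ 𝟙 b)
    (e₂ : g ≫ f ≅ 𝟙 c) : (Bicategory.postcomp a f).IsEquivalence := by
  let i₁ : Bicategory.postcomp a f ⋙ Bicategory.postcomp a g ≅ 𝟭 (a ⟶ b) :=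
    associatorNatIsoLeft a f g ≪≫ (postcomposing a b b).mapIso e₁ ≪≫ rightUnitorNatIso a b
  let i₂ : Bicategory.postcomp a g ⋙ Bicategory.postcomp a f ≅ 𝟭 (a ⟶ c) :=
    associatorNatIsoLeft a g f ≪≫ (postcomposing a c c).mapIso e₂ ≪≫ rightUnitorNatIso a c
  exact (CategoryTheory.Equivalence.mk (Bicategory.postcomp a f) (Bicategory.postcomp a g) i₁.symm i₂).isEquivalence_functor

theorem H1_precomp_isEquivalence {a b : B} (c : B) (f : a ⟶ b) (g : b ⟶ a) (e₁ : f ≫ g ≅ 𝟙 a)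
    (e₂ : g ≫ f ≅ 𝟙 b) : (Bicategory.precomp c f).IsEquivalence := by
  let i₁ : Bicategory.precomp c f ⋙ Bicategory.precomp c g ≅ 𝟭 (b ⟶ c) :=
    (associatorNatIsoRight g f c).symm ≪≫ (precomposing b b c).mapIso e₂ ≪≫ leftUnitorNatIso b c
  let i₂ : Bicategory.precomp c g ⋙ Bicategory.precomp c f ≅ 𝟭 (a ⟶ c) :=
    (associatorNatIsoRight f g c).symm ≪≫ (precomposing a a c).mapIso e₁ ≪≫ leftUnitorNatIso a c
  exact (CategoryTheory.Equivalence.mk (Bicategory.precomp c f) (Bicategory.precomp c g) i₁.symm i₂).isEquivalence_functor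

end Groth.Agent.H1.FC
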