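import Mathlib
import Groth.Prelude.Def_FibCat2
universe v u
open CategoryTheory CategoryTheory.Limits

namespace Groth.Agent.H1.Paste

variable {A B A' B' A'' B'' : Type u} [Category.{v} A] [Category.{v} B] [Category.{v} A']
    [Category.{v} B'] [Category.{v} A''] [Category.{v} B'']
    (t : A ⥤ B) (l : A ⥤ A') (r : B ⥤ B') (t' : A' ⥤ B') (l' : A' ⥤ A'') (r' : B' ⥤ B'')
    (t'' : A'' ⥤ B'')
    (e₁ : t ⋙ r ≅ l ⋙ t') (e₂ : t' ⋙ r' ≅ l' ⋙ t'')

/-- comparison functor of the lower square -/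
abbrev K₂ : A' ⥤ CategoricalPullback r' t'' :=
  (CategoricalPullback.CatCommSqOver.toFunctorToCategoricalPullback r' t'' A').obj ⟨t', l', e₂⟩

/-- the functor between the 2-fibre products -/
def Θ : CategoricalPullback r t' ⥤ CategoricalPullback (r ⋙ r') t'' where
  obj x := ⟨x.fst, l'.obj x.snd, r'.mapIso x.iso ≪≫ e₂.app x.snd⟩
  map {x y} f :=
    { fst := f.fst
      snd := l'.map f.snd
      w := by
        have h1 := congrArg (fun k => r'.map k) f.w
        simp only [Functor.map_comp] at h1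
        have h2 := e₂.hom.naturality f.snd
        simp only [Functor.comp_map] at h2
        dsimp
        rw [← Category.assoc, h1, Category.assoc, h2, Category.assoc] }
  map_id x := by
    apply CategoricalPullback.hom_ext
    · rfl
    · exact l'.map_id _
  map_comp f g := by
    apply CategoricalPullback.hom_ext
    · rfl
    · exact l'.map_comp _ _

@[simp] lemma Θ_obj_fst (x : CategoricalPullback r t') : ((Θ r t' l' r' t'' e₂).obj x).fst = x.fst := rfl
@[simp] lemma Θ_obj_snd (x : CategoricalPullback r t') :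
    ((Θ r t' l' r' t'' e₂).obj x).snd = l'.obj x.snd := rfl
lemma Θ_obj_iso_hom (x : CategoricalPullback r t') :
    ((Θ r t' l' r' t'' e₂).obj x).iso.hom = r'.map x.iso.hom ≫ e₂.hom.app x.snd := rfl
@[simp] lemma Θ_map_fst {x y : CategoricalPullback r t'} (f : x ⟶ y) :
    ((Θ r t' l' r' t'' e₂).map f).fst = f.fst := rfl
@[simp] lemma Θ_map_snd {x y : CategoricalPullback r t'} (f : x ⟶ y) :
    ((Θ r t' l' r' t'' e₂).map f).snd = l'.map f.snd := rfl

lemma K₂_map_fst {a b : A'} (f : a ⟶ b) : ((K₂ t' l' r' t'' e₂).map f).fst = t'.map f := rfl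
lemma K₂_map_snd {a b : A'} (f : a ⟶ b) : ((K₂ t' l' r' t'' e₂).map f).snd = l'.map f := rfl
lemma K₂_obj_iso_hom (a : A') : ((K₂ t' l' r' t'' e₂).obj a).iso.hom = e₂.hom.app a := rfl

theorem Θ_faithful [(K₂ t' l' r' t'' e₂).Faithful] : (Θ r t' l' r' t'' e₂).Faithful := by
  constructor
  intro x y f g h
  have h1 : f.fst = g.fst :=
    congrArg (fun m : ((Θ r t' l' r' t'' e₂).obj x ⟶ (Θ r t' l' r' t'' e₂).obj y) => m.fst) h
  have h2 : l'.map f.snd = l'.map g.snd :=
    congrArg (fun m : ((Θ r t' l' r' t'' e₂).obj x ⟶ (Θ r t' l' r' t'' e₂).obj y) => m.snd) h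
  have h3 : t'.map f.snd = t'.map g.snd := by
    have wf := f.w
    have wg := g.w
    rw [h1] at wf
    have := wf.symm.trans wg
    exact (cancel_epi x.iso.hom).1 this
  apply CategoricalPullback.hom_ext h1
  apply (K₂ t' l' r' t'' e₂).map_injective
  apply CategoricalPullback.hom_ext
  · exact h3
  · exact h2

theorem Θ_full [(K₂ t' l' r' t'' e₂).Full] : (Θ r t' l' r' t'' e₂).Full := by
  constructor
  intro x y m
  let β : x.fst ⟶ y.fst := m.fst
  let γ : l'.obj x.snd ⟶ l'.obj y.snd := m.snd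
  have hw : r'.map (r.map β) ≫ r'.map y.iso.hom ≫ e₂.hom.app y.snd =
      r'.map x.iso.hom ≫ e₂.hom.app x.snd ≫ t''.map γ := by
    have := m.w
    rw [Θ_obj_iso_hom, Θ_obj_iso_hom] at this
    simpa using this
  let δ : t'.obj x.snd ⟶ t'.obj y.snd := x.iso.inv ≫ r.map β ≫ y.iso.hom
  let km : (K₂ t' l' r' t'' e₂).obj x.snd ⟶ (K₂ t' l' r' t'' e₂).obj y.snd :=
    { fst := δ
      snd := γ
      w := by
        change r'.map δ ≫ e₂.hom.app y.snd = e₂.hom.app x.snd ≫ t''.map γ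
        dsimp only [δ]
        simp only [Functor.map_comp, Category.assoc]
        rw [hw, ← Category.assoc, ← r'.map_comp, Iso.inv_hom_id, r'.map_id, Category.id_comp] }
  obtain ⟨α, hα⟩ := (K₂ t' l' r' t'' e₂).map_surjective km
  have ha1 : t'.map α = δ :=
    congrArg (fun k : ((K₂ t' l' r' t'' e₂).obj x.snd ⟶ (K₂ t' l' r' t'' e₂).obj y.snd) => k.fst) hα
  have ha2 : l'.map α = γ :=
    congrArg (fun k : ((K₂ t' l' r' t'' e₂).obj x.snd ⟶ (K₂ t' l' r' t'' e₂).obj y.snd) => k.snd) hα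
  refine ⟨⟨β, α, ?_⟩, ?_⟩
  · rw [ha1]
    dsimp only [δ]
    rw [Iso.hom_inv_id_assoc]
  · apply CategoricalPullback.hom_ext
    · rfl
    · exact ha2

theorem Θ_essSurj [(K₂ t' l' r' t'' e₂).EssSurj] : (Θ r t' l' r' t'' e₂).EssSurj := by
  constructor
  intro z
  let z' : CategoricalPullback r' t'' := ⟨r.obj z.fst, z.snd, z.iso⟩
  let a' : A' := (K₂ t' l' r' t'' e₂).objPreimage z'
  let κ : (K₂ t' l' r' t'' e₂).obj a' ≅ z' := (K₂ t' l' r' t'' e₂).objObjPreimageIso z'
  let μ : t'.obj a' ≅ r.obj z.fst := (CategoricalPullback.π₁ r' t'').mapIso κ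
  let ν : l'.obj a' ≅ z.snd := (CategoricalPullback.π₂ r' t'').mapIso κ
  have hκ : r'.map μ.hom ≫ z.iso.hom = e₂.hom.app a' ≫ t''.map ν.hom := κ.hom.w
  refine ⟨⟨z.fst, a', μ.symm⟩, ⟨CategoricalPullback.mkIso (Iso.refl _) ν ?_⟩⟩
  rw [Θ_obj_iso_hom]
  change (r ⋙ r').map (𝟙 z.fst) ≫ z.iso.hom = (r'.map μ.inv ≫ e₂.hom.app a') ≫ t''.map ν.hom
  rw [CategoryTheory.Functor.map_id, Category.id_comp, Category.assoc, ← hκ, ← Category.assoc,
    ← r'.map_comp, Iso.inv_hom_id, r'.map_id, Category.id_comp]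

theorem Θ_isEquivalence [(K₂ t' l' r' t'' e₂).IsEquivalence] :
    (Θ r t' l' r' t'' e₂).IsEquivalence :=
  { faithful := Θ_faithful r t' l' r' t'' e₂
    full := Θ_full r t' l' r' t'' e₂
    essSurj := Θ_essSurj r t' l' r' t'' e₂ }

/-- comparison functor of the upper square -/
abbrev K₁ : A ⥤ CategoricalPullback r t' :=
  (CategoricalPullback.CatCommSqOver.toFunctorToCategoricalPullback r t' A).obj ⟨t, l, e₁⟩

/-- comparison functor of the outer square -/
abbrev K₃ : A ⥤ CategoricalPullback (r ⋙ r') t'' :=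
  (CategoricalPullback.CatCommSqOver.toFunctorToCategoricalPullback (r ⋙ r') t'' A).obj
    ⟨t, l ⋙ l', (Functor.associator t r r').symm ≪≫ Functor.isoWhiskerRight e₁ r' ≪≫
      Functor.associator l t' r' ≪≫ Functor.isoWhiskerLeft l e₂ ≪≫
      (Functor.associator l l' t'').symm⟩

/-- the factorisation -/
def K₃Iso : K₃ t l r t' l' r' t'' e₁ e₂ ≅ K₁ t l r t' e₁ ⋙ Θ r t' l' r' t'' e₂ :=
  NatIso.ofComponents (fun a => CategoricalPullback.mkIso (Iso.refl _) (Iso.refl _) (by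
    change (r ⋙ r').map (𝟙 _) ≫ (r'.map (e₁.hom.app a) ≫ e₂.hom.app (l.obj a)) =
      (𝟙 _ ≫ r'.map (e₁.hom.app a) ≫ 𝟙 _ ≫ e₂.hom.app (l.obj a) ≫ 𝟙 _) ≫ t''.map (𝟙 _)
    simp)) (by
    intro a b f
    apply CategoricalPullback.hom_ext
    · exact (Category.comp_id _).trans (Category.id_comp _).symm
    · exact (Category.comp_id _).trans (Category.id_comp _).symm)

theorem paste (h₂ : FibCat.IsTwoCart t' l' r' t'' e₂) :
    FibCat.IsTwoCart t l r t' e₁ ↔
      FibCat.IsTwoCart t (l ⋙ l') (r ⋙ r') t''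
        ((Functor.associator t r r').symm ≪≫ Functor.isoWhiskerRight e₁ r' ≪≫
          Functor.associator l t' r' ≪≫
          Functor.isoWhiskerLeft l e₂ ≪≫ (Functor.associator l l' t'').symm) := by
  haveI : (K₂ t' l' r' t'' e₂).IsEquivalence := h₂
  haveI := Θ_isEquivalence r t' l' r' t'' e₂
  change (K₁ t l r t' e₁).IsEquivalence ↔ (K₃ t l r t' l' r' t'' e₁ e₂).IsEquivalence
  constructor
  · intro h
    exact Functor.isEquivalence_of_iso (K₃Iso t l r t' l' r' t'' e₁ e₂).symm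
  · intro h
    haveI : (K₁ t l r t' e₁ ⋙ Θ r t' l' r' t'' e₂).IsEquivalence :=
      Functor.isEquivalence_of_iso (K₃Iso t l r t' l' r' t'' e₁ e₂)
    exact Functor.isEquivalence_of_comp_right (K₁ t l r t' e₁) (Θ r t' l' r' t'' e₂)

end Groth.Agent.H1.Paste
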