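import Mathlib
import Groth.Prelude.Def_W4stkcategoriessitesFib

set_option autoImplicit false
open CategoryTheory CategoryTheory.Limits

universe v₉ u₉ v₈ u₈ v₇ u₇ v₆ u₆ v₅ u₅ v₄ u₄

namespace Groth.Agent.H1.CPM

variable {X : Type u₄} {Y : Type u₅} {Z : Type u₆} {A : Type u₇} {B : Type u₈} {C' : Type u₉}
  [Category.{v₄} X] [Category.{v₅} Y] [Category.{v₆} Z] [Category.{v₇} A] [Category.{v₈} B] [Category.{v₉} C']
  {H : X ⥤ Z} {I : Y ⥤ Z} {F : A ⥤ C'} {G : B ⥤ C'} (ψ : CatCospanTransform H I F G)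

@[simp] theorem map_obj_fst (x : CategoricalPullback H I) :
    ((FibCat.categoricalPullbackMap ψ).obj x).fst = ψ.left.obj x.fst := rfl

@[simp] theorem map_obj_snd (x : CategoricalPullback H I) :
    ((FibCat.categoricalPullbackMap ψ).obj x).snd = ψ.right.obj x.snd := rfl

theorem map_obj_iso_hom (x : CategoricalPullback H I) :
    ((FibCat.categoricalPullbackMap ψ).obj x).iso.hom =
      ψ.squareLeft.iso.inv.app x.fst ≫ ψ.base.map x.iso.hom ≫ ψ.squareRight.iso.hom.app x.snd := by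
  simp [FibCat.categoricalPullbackMap]
  rfl

@[simp] theorem map_map_fst {x y : CategoricalPullback H I} (f : x ⟶ y) :
    ((FibCat.categoricalPullbackMap ψ).map f).fst = ψ.left.map f.fst := rfl

@[simp] theorem map_map_snd {x y : CategoricalPullback H I} (f : x ⟶ y) :
    ((FibCat.categoricalPullbackMap ψ).map f).snd = ψ.right.map f.snd := rfl

theorem H1_faithful [ψ.left.Faithful] [ψ.right.Faithful] : (FibCat.categoricalPullbackMap ψ).Faithful := by
  constructor
  intro x y f g h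
  apply CategoricalPullback.hom_ext
  · apply ψ.left.map_injective
    have := congrArg CategoricalPullback.Hom.fst h
    simpa using this
  · apply ψ.right.map_injective
    have := congrArg CategoricalPullback.Hom.snd h
    simpa using this

theorem H1_full [ψ.left.Full] [ψ.right.Full] [ψ.base.Faithful] : (FibCat.categoricalPullbackMap ψ).Full := by
  constructor
  intro x y g
  have gf : ψ.left.obj x.fst ⟶ ψ.left.obj y.fst := g.fst
  have gs : ψ.right.obj x.snd ⟶ ψ.right.obj y.snd := g.snd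
  obtain ⟨a, ha⟩ : ∃ a : x.fst ⟶ y.fst, ψ.left.map a = g.fst := ψ.left.map_surjective (X := x.fst) (Y := y.fst) g.fst
  obtain ⟨b, hb⟩ : ∃ b : x.snd ⟶ y.snd, ψ.right.map b = g.snd := ψ.right.map_surjective (X := x.snd) (Y := y.snd) g.snd
  have hw : F.map (ψ.left.map a) ≫ (ψ.squareLeft.iso.inv.app y.fst ≫ ψ.base.map y.iso.hom ≫ ψ.squareRight.iso.hom.app y.snd) =
      (ψ.squareLeft.iso.inv.app x.fst ≫ ψ.base.map x.iso.hom ≫ ψ.squareRight.iso.hom.app x.snd) ≫ G.map (ψ.right.map b) := by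
    have hw := g.w
    rw [map_obj_iso_hom, map_obj_iso_hom, ← ha, ← hb] at hw
    exact hw
  have w : H.map a ≫ y.iso.hom = x.iso.hom ≫ I.map b := by
    apply ψ.base.map_injective
    rw [Functor.map_comp, Functor.map_comp]
    have n1 := ψ.squareLeft.iso.hom.naturality a
    have n2 := ψ.squareRight.iso.hom.naturality b
    simp only [Functor.comp_map] at n1 n2
    -- hw : F.map (ψ.left.map a) ≫ sqL.inv y.fst ≫ base.map y.iso.hom ≫ sqR.hom y.snd = (sqL.inv x.fst ≫ base.map x.iso.hom ≫ sqR.hom x.snd) ≫ G.map (ψ.right.map b)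
    have e1 : F.map (ψ.left.map a) ≫ ψ.squareLeft.iso.inv.app y.fst =
        ψ.squareLeft.iso.inv.app x.fst ≫ ψ.base.map (H.map a) := by
      have := ψ.squareLeft.iso.inv.naturality a
      simpa using this.symm
    have e2 : ψ.squareRight.iso.hom.app x.snd ≫ G.map (ψ.right.map b) =
        ψ.base.map (I.map b) ≫ ψ.squareRight.iso.hom.app y.snd := by
      simpa using n2.symm
    have hw' : ψ.squareLeft.iso.inv.app x.fst ≫ (ψ.base.map (H.map a) ≫ ψ.base.map y.iso.hom) ≫ ψ.squareRight.iso.hom.app y.snd =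
        ψ.squareLeft.iso.inv.app x.fst ≫ (ψ.base.map x.iso.hom ≫ ψ.base.map (I.map b)) ≫ ψ.squareRight.iso.hom.app y.snd := by
      simp only [Category.assoc] at hw ⊢
      rw [← reassoc_of% e1]
      refine hw.trans ?_
      rw [e2]
    have hw2 := (cancel_epi _).1 hw'
    exact (cancel_mono _).1 hw2
  refine ⟨⟨a, b, w⟩, ?_⟩
  apply CategoricalPullback.hom_ext
  · exact ha
  · exact hb

theorem H1_essSurj [ψ.left.EssSurj] [ψ.right.EssSurj] [ψ.base.Full] [ψ.base.Faithful] :
    (FibCat.categoricalPullbackMap ψ).EssSurj := by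
  constructor
  intro z
  let x := ψ.left.objPreimage z.fst
  let e₁ : ψ.left.obj x ≅ z.fst := ψ.left.objObjPreimageIso z.fst
  let y := ψ.right.objPreimage z.snd
  let e₂ : ψ.right.obj y ≅ z.snd := ψ.right.objObjPreimageIso z.snd
  let θ' : ψ.base.obj (H.obj x) ≅ ψ.base.obj (I.obj y) :=
    ψ.squareLeft.iso.app x ≪≫ F.mapIso e₁ ≪≫ z.iso ≪≫ (G.mapIso e₂).symm ≪≫ (ψ.squareRight.iso.app y).symm
  let θ : H.obj x ≅ I.obj y := ψ.base.preimageIso θ'
  let w : CategoricalPullback H I := ⟨x, y, θ⟩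
  refine ⟨w, ⟨CategoricalPullback.mkIso e₁ e₂ ?_⟩⟩
  rw [map_obj_iso_hom]
  simp [w, θ, θ']

end Groth.Agent.H1.CPM
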