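import Mathlib
import Groth.Agent.Lib.helper1.CatPullbackMap
import Groth.Prelude.Def_FibCat2

set_option autoImplicit false

/-! The diagonal of a 2-fibre product of categories is a base change of the diagonal (helper1). -/

universe v u

open CategoryTheory CategoryTheory.Limits

namespace Groth.Agent.H1.CPD

variable {X Y V : Type u} [Category.{v} X] [Category.{v} Y] [Category.{v} V] (p : X ⥤ Y) (q : V ⥤ Y)

/-- the diagonal of `U = X ×_Y V` over `V` -/
abbrev dU : CategoricalPullback p q ⥤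
    CategoricalPullback (CategoricalPullback.π₂ p q) (CategoricalPullback.π₂ p q) :=
  (CategoricalPullback.CatCommSqOver.toFunctorToCategoricalPullback (CategoricalPullback.π₂ p q)
    (CategoricalPullback.π₂ p q) (CategoricalPullback p q)).obj ⟨𝟭 _, 𝟭 _, Iso.refl _⟩

/-- the diagonal of `X` over `Y` -/
abbrev dX : X ⥤ CategoricalPullback p p :=
  (CategoricalPullback.CatCommSqOver.toFunctorToCategoricalPullback p p X).obj ⟨𝟭 _, 𝟭 _, Iso.refl _⟩

/-- the morphism of cospans -/
abbrev ψ : CatCospanTransform (CategoricalPullback.π₂ p q) (CategoricalPullback.π₂ p q) p p :=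
  ⟨CategoricalPullback.π₁ p q, q, CategoricalPullback.π₁ p q,
    ⟨(CatCommSq.iso (CategoricalPullback.π₁ p q) (CategoricalPullback.π₂ p q) p q).symm⟩,
    ⟨(CatCommSq.iso (CategoricalPullback.π₁ p q) (CategoricalPullback.π₂ p q) p q).symm⟩⟩

/-- the induced functor `U ×_V U ⥤ X ×_Y X` -/
noncomputable abbrev GG : CategoricalPullback (CategoricalPullback.π₂ p q) (CategoricalPullback.π₂ p q) ⥤
    CategoricalPullback p p :=
  FibCat.categoricalPullbackMap (ψ p q)

theorem GG_obj_iso_hom (w : CategoricalPullback (CategoricalPullback.π₂ p q) (CategoricalPullback.π₂ p q)) :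
    ((GG p q).obj w).iso.hom = w.fst.iso.hom ≫ q.map w.iso.hom ≫ w.snd.iso.inv := by
  rw [Groth.Agent.H1.CPM.map_obj_iso_hom]
  rfl

@[simp] theorem dX_obj_iso_hom (x : X) : ((dX p).obj x).iso.hom = 𝟙 (p.obj x) := rfl
@[simp] theorem dU_obj_iso_hom (u : CategoricalPullback p q) : ((dU p q).obj u).iso.hom = 𝟙 u.snd := rfl

@[simp] theorem dU_obj_fst (u : CategoricalPullback p q) : ((dU p q).obj u).fst = u := rfl
@[simp] theorem dU_obj_snd (u : CategoricalPullback p q) : ((dU p q).obj u).snd = u := rfl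
@[simp] theorem dX_obj_fst (x : X) : ((dX p).obj x).fst = x := rfl
@[simp] theorem dX_obj_snd (x : X) : ((dX p).obj x).snd = x := rfl

/-- the 2-isomorphism filling the square -/
noncomputable def e : CategoricalPullback.π₁ p q ⋙ dX p ≅ dU p q ⋙ GG p q :=
  NatIso.ofComponents (fun u => CategoricalPullback.mkIso (Iso.refl _) (Iso.refl _) (by
    show p.map (𝟙 _) ≫ ((GG p q).obj ((dU p q).obj u)).iso.hom = 𝟙 _ ≫ p.map (𝟙 _)
    rw [GG_obj_iso_hom, dU_obj_iso_hom]
    show p.map (𝟙 u.fst) ≫ (u.iso.hom ≫ q.map (𝟙 u.snd) ≫ u.iso.inv) = 𝟙 (p.obj u.fst) ≫ p.map (𝟙 u.fst)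
    simp)) (by
    intro u u' f
    apply CategoricalPullback.hom_ext
    · exact (Category.comp_id _).trans (Category.id_comp _).symm
    · exact (Category.comp_id _).trans (Category.id_comp _).symm)

theorem e_hom_app_fst (u : CategoricalPullback p q) : ((e p q).hom.app u).fst = 𝟙 _ := rfl
theorem e_hom_app_snd (u : CategoricalPullback p q) : ((e p q).hom.app u).snd = 𝟙 _ := rfl

/-- the comparison functor -/
noncomputable abbrev K : CategoricalPullback p q ⥤ CategoricalPullback (dX p) (GG p q) :=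
  (CategoricalPullback.CatCommSqOver.toFunctorToCategoricalPullback (dX p) (GG p q)
    (CategoricalPullback p q)).obj ⟨CategoricalPullback.π₁ p q, dU p q, e p q⟩

theorem K_faithful : (K p q).Faithful := by
  constructor
  intro u u' f g h
  have := congrArg (fun m : ((K p q).obj u ⟶ (K p q).obj u') => m.snd.fst) h
  exact this

theorem K_full : (K p q).Full := by
  constructor
  intro u u' m
  have hw := m.w
  have h1 : m.fst ≫ 𝟙 _ = 𝟙 _ ≫ m.snd.fst.fst := by
    have := congrArg (fun t : ((dX p).obj u.fst ⟶ (GG p q).obj ((dU p q).obj u')) => t.fst) hw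
    exact this
  have h2 : m.fst ≫ 𝟙 _ = 𝟙 _ ≫ m.snd.snd.fst := by
    have := congrArg (fun t : ((dX p).obj u.fst ⟶ (GG p q).obj ((dU p q).obj u')) => t.snd) hw
    exact this
  have h3 : m.snd.fst.snd ≫ 𝟙 _ = 𝟙 _ ≫ m.snd.snd.snd := m.snd.w
  have h1' : m.fst = m.snd.fst.fst := (Category.comp_id _).symm.trans (h1.trans (Category.id_comp _))
  have h2' : m.fst = m.snd.snd.fst := (Category.comp_id _).symm.trans (h2.trans (Category.id_comp _))
  have h3' : m.snd.fst.snd = m.snd.snd.snd := (Category.comp_id _).symm.trans (h3.trans (Category.id_comp _))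
  refine ⟨m.snd.fst, ?_⟩
  apply CategoricalPullback.hom_ext
  · exact h1'.symm
  · apply CategoricalPullback.hom_ext
    · rfl
    · apply CategoricalPullback.hom_ext
      · exact h1'.symm.trans h2'
      · exact h3'

theorem K_essSurj : (K p q).EssSurj := by
  constructor
  intro z
  let θ := z.iso
  let u₁ := z.snd.fst
  let u₂ := z.snd.snd
  let τ : u₁.snd ≅ u₂.snd := z.snd.iso
  let aI : z.fst ≅ u₁.fst := (CategoricalPullback.π₁ p p).mapIso θ
  let bI : z.fst ≅ u₂.fst := (CategoricalPullback.π₂ p p).mapIso θ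
  have hθ : p.map aI.hom ≫ (u₁.iso.hom ≫ q.map τ.hom ≫ u₂.iso.inv) = p.map bI.hom := by
    have hw := θ.hom.w
    rw [GG_obj_iso_hom, dX_obj_iso_hom] at hw
    exact hw.trans (Category.id_comp _)
  let mI : u₁ ≅ u₂ := CategoricalPullback.mkIso (aI.symm ≪≫ bI) τ (by
    show p.map (aI.inv ≫ bI.hom) ≫ u₂.iso.hom = u₁.iso.hom ≫ q.map τ.hom
    rw [p.map_comp, ← hθ]
    simp only [Category.assoc, Iso.inv_hom_id, Category.comp_id]
    rw [← p.map_comp_assoc, Iso.inv_hom_id, p.map_id, Category.id_comp])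
  let eR : (dU p q).obj u₁ ≅ z.snd := CategoricalPullback.mkIso (Iso.refl u₁) mI (by
    show 𝟙 _ ≫ τ.hom = 𝟙 _ ≫ τ.hom
    rfl)
  refine ⟨u₁, ⟨CategoricalPullback.mkIso aI.symm eR ?_⟩⟩
  apply CategoricalPullback.hom_ext
  · show aI.inv ≫ aI.hom = 𝟙 _ ≫ 𝟙 _
    simp
  · show aI.inv ≫ bI.hom = 𝟙 _ ≫ (aI.inv ≫ bI.hom)
    simp

theorem K_isEquivalence : (K p q).IsEquivalence :=
  { faithful := K_faithful p q, full := K_full p q, essSurj := K_essSurj p q }

end Groth.Agent.H1.CPD
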