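import Mathlib

/-!
Closed immersions and the lifting property against `Spec B ⟶ Spec A` for injective `A → B`.
-/

namespace Groth.Agent.H1

open AlgebraicGeometry CategoryTheory Limits

universe u

/-- The lifting property of a morphism against `Spec` of injective ring maps. -/
def H1_InjLift {X Y : Scheme.{u}} (f : X ⟶ Y) : Prop :=
  ∀ (A B : Type u) [CommRing A] [CommRing B] (φ : A →+* B), Function.Injective φ →
    ∀ (a : Spec (CommRingCat.of B) ⟶ X) (b : Spec (CommRingCat.of A) ⟶ Y),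
      Spec.map (CommRingCat.ofHom φ) ≫ b = a ≫ f →
        ∃ l : Spec (CommRingCat.of A) ⟶ X, Spec.map (CommRingCat.ofHom φ) ≫ l = a ∧ l ≫ f = b

theorem H1_ker_SpecMap_eq_bot {A B : CommRingCat.{u}} (φ : A ⟶ B)
    (hφ : Function.Injective φ.hom) : (Spec.map φ).ker = ⊥ := by
  apply Scheme.IdealSheafData.ext_of_isAffine
  rw [Scheme.Hom.ker_apply, Scheme.IdealSheafData.ideal_bot]
  change RingHom.ker (Spec.map φ).appTop.hom = ⊥
  rw [← RingHom.injective_iff_ker_eq_bot]
  have h := Scheme.ΓSpecIso_naturality φ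
  have h2 : (Spec.map φ).appTop = (Scheme.ΓSpecIso A).hom ≫ φ ≫ (Scheme.ΓSpecIso B).inv := by
    rw [← Category.assoc, ← h, Category.assoc, Iso.hom_inv_id, Category.comp_id]
  rw [h2]
  simp only [CommRingCat.hom_comp, RingHom.coe_comp]
  exact ((ConcreteCategory.bijective_of_isIso (Scheme.ΓSpecIso B).inv).1.comp hφ).comp
    (ConcreteCategory.bijective_of_isIso (Scheme.ΓSpecIso A).hom).1

theorem H1_injLift_of_isClosedImmersion {X Y : Scheme.{u}} (f : X ⟶ Y) [IsClosedImmersion f] :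
    H1_InjLift f := by
  intro A B _ _ φ hφ a b w
  have hker : f.ker ≤ b.ker := by
    calc f.ker ≤ (a ≫ f).ker := Scheme.Hom.le_ker_comp a f
      _ = (Spec.map (CommRingCat.ofHom φ) ≫ b).ker := by rw [w]
      _ = b.ker := by
        rw [Scheme.Hom.ker_comp, H1_ker_SpecMap_eq_bot _ hφ, Scheme.IdealSheafData.map_bot]
  refine ⟨IsClosedImmersion.lift f b hker, ?_, IsClosedImmersion.lift_fac f b hker⟩
  rw [← cancel_mono f, Category.assoc, IsClosedImmersion.lift_fac, w]

theorem H1_injLift_baseChange {X Y Y' : Scheme.{u}} (f : X ⟶ Y) (g : Y' ⟶ Y)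
    (hf : H1_InjLift f) : H1_InjLift (pullback.snd f g) := by
  intro A B _ _ φ hφ a b w
  obtain ⟨l, hl1, hl2⟩ := hf A B φ hφ (a ≫ pullback.fst f g) (b ≫ g) (by
    rw [← Category.assoc, w, Category.assoc, Category.assoc, pullback.condition])
  refine ⟨pullback.lift l b hl2, ?_, pullback.lift_snd _ _ _⟩
  apply pullback.hom_ext
  · rw [Category.assoc, pullback.lift_fst, hl1]
  · rw [Category.assoc, pullback.lift_snd, w]

theorem H1_isClosedImmersion_of_injLift_Spec {X : Scheme.{u}} {R : CommRingCat.{u}}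
    (f : X ⟶ Spec R) [CompactSpace X] (hf : H1_InjLift f) : IsClosedImmersion f := by
  let 𝒰 := X.affineCover.finiteSubcover
  haveI : ∀ i, IsAffine (𝒰.X i) := fun i => by
    dsimp [𝒰]
    infer_instance
  let Z : Scheme.{u} := ∐ 𝒰.X
  let a₀ : Z ⟶ X := Sigma.desc 𝒰.f
  haveI : IsAffine Z := inferInstance
  let B : CommRingCat.{u} := Γ(Z, ⊤)
  let a : Spec B ⟶ X := Z.isoSpec.inv ≫ a₀
  let ψ : R ⟶ B := Spec.preimage (a ≫ f)
  have hψ : Spec.map ψ = a ≫ f := Spec.map_preimage _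
  let J := RingHom.ker ψ.hom
  let ψ' : R ⧸ J →+* B := RingHom.kerLift ψ.hom
  have hψ' : Function.Injective ψ' := RingHom.kerLift_injective _
  have hfac : CommRingCat.ofHom (Ideal.Quotient.mk J) ≫ CommRingCat.ofHom ψ' = ψ := by
    ext x
    rfl
  obtain ⟨l, hl1, hl2⟩ := hf (R ⧸ J) B ψ' hψ' a
    (Spec.map (CommRingCat.ofHom (Ideal.Quotient.mk J))) (by
      rw [← Spec.map_comp]
      exact (congrArg Spec.map hfac).trans hψ)
  haveI : IsClosedImmersion (Spec.map (CommRingCat.ofHom (Ideal.Quotient.mk J))) :=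
    IsClosedImmersion.spec_of_surjective _ Ideal.Quotient.mk_surjective
  haveI hmono : Mono l := by
    haveI : Mono (l ≫ f) := by rw [hl2]; infer_instance
    exact mono_of_mono l f
  haveI : IsIso l := by
    refine (IsZariskiLocalAtTarget.iff_of_openCover (P := MorphismProperty.isomorphisms Scheme)
      𝒰).mpr fun i => ?_
    let σ : 𝒰.X i ⟶ Spec (CommRingCat.of (R ⧸ J)) :=
      Sigma.ι 𝒰.X i ≫ Z.isoSpec.hom ≫ Spec.map (CommRingCat.ofHom ψ')
    have hσ : σ ≫ l = 𝒰.f i := by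
      simp only [σ, Category.assoc]
      rw [hl1]
      simp [a, a₀]
    haveI : IsSplitEpi (pullback.snd l (𝒰.f i)) :=
      ⟨⟨⟨pullback.lift σ (𝟙 _) (by rw [hσ, Category.id_comp]), pullback.lift_snd _ _ _⟩⟩⟩
    change IsIso (pullback.snd l (𝒰.f i))
    exact isIso_of_mono_of_isSplitEpi _
  have hfl : f = inv l ≫ Spec.map (CommRingCat.ofHom (Ideal.Quotient.mk J)) := by
    rw [IsIso.eq_inv_comp, hl2]
  rw [hfl]
  infer_instance

end Groth.Agent.H1
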