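import Mathlib

set_option autoImplicit false

/-! Automorphisms of the forgetful functor on finite continuous `G`-sets (helper1). -/

universe u

open CategoryTheory PreGaloisCategory
open scoped FintypeCatDiscrete

namespace Groth.Agent.H1.ContActAut

variable (G : Type u) [Group G] [TopologicalSpace G] [IsTopologicalGroup G]

/-- the forgetful functor. -/
abbrev Fg : ContAction FintypeCat.{u} G ⥤ FintypeCat.{u} :=
  forget₂ (ContAction FintypeCat.{u} G) FintypeCat.{u}

variable {G}

/-- stabilizers of points of finite continuous `G`-sets are open. -/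
theorem isOpen_stab (X : ContAction FintypeCat.{u} G) (x : X.obj.V) :
    IsOpen {g : G | (X.obj.ρ g).hom x = x} := by
  haveI : ContinuousSMul G ((forget₂ _ TopCat).obj X.obj) := X.property
  haveI : DiscreteTopology ((forget₂ _ TopCat).obj X.obj) :=
    inferInstanceAs (DiscreteTopology X.obj.V)
  have h := stabilizer_isOpen G (X := (forget₂ _ TopCat).obj X.obj) x
  exact h

/-- a finite continuous `G`-set from a finite type with an action with open stabilizers. -/
noncomputable def mkObj (T : Type u) [Finite T] [MulAction G T]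
    (hT : ∀ t : T, IsOpen (MulAction.stabilizer G t : Set G)) : ContAction FintypeCat.{u} G :=
  ⟨Action.FintypeCat.ofMulAction G (FintypeCat.of T), by
    letI : TopologicalSpace T := ⊥
    haveI : DiscreteTopology T := ⟨rfl⟩
    have : ContinuousSMul G T := by
      rw [continuousSMul_iff_stabilizer_isOpen]
      exact hT
    exact this⟩

theorem mkObj_ρ (T : Type u) [Finite T] [MulAction G T]
    (hT : ∀ t : T, IsOpen (MulAction.stabilizer G t : Set G)) (g : G) (t : T) :
    ((mkObj T hT).obj.ρ g).hom t = g • t := rfl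

/-- morphisms out of `mkObj`. -/
noncomputable def mkHom (T : Type u) [Finite T] [MulAction G T]
    (hT : ∀ t : T, IsOpen (MulAction.stabilizer G t : Set G)) (X : ContAction FintypeCat.{u} G)
    (f : T → X.obj.V) (hf : ∀ (g : G) (t : T), f (g • t) = (X.obj.ρ g).hom (f t)) :
    mkObj T hT ⟶ X :=
  ObjectProperty.homMk
    { hom := FintypeCat.homMk f
      comm := fun g => by
        apply FintypeCat.hom_ext
        intro t
        exact hf g t }

theorem mkHom_apply (T : Type u) [Finite T] [MulAction G T]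
    (hT : ∀ t : T, IsOpen (MulAction.stabilizer G t : Set G)) (X : ContAction FintypeCat.{u} G)
    (f : T → X.obj.V) (hf : ∀ (g : G) (t : T), f (g • t) = (X.obj.ρ g).hom (f t)) (t : T) :
    ((Fg G).map (mkHom T hT X f hf)) t = f t := rfl

/-- naturality of an automorphism of the forgetful functor, elementwise. -/
theorem nat_apply (σ : Aut (Fg G)) {A B : ContAction FintypeCat.{u} G} (m : A ⟶ B)
    (x : A.obj.V) :
    σ.hom.app B ((Fg G).map m x) = (Fg G).map m (σ.hom.app A x) :=
  ConcreteCategory.congr_hom (σ.hom.naturality m) x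

variable (G)

/-- the canonical homomorphism from `G` to the automorphism group of the forgetful functor. -/
noncomputable def iota : G →* Aut (Fg G) where
  toFun g := NatIso.ofComponents (fun X => X.obj.ρAut g) (by
    intro X Y f
    exact (f.hom.comm g).symm)
  map_one' := by
    apply Iso.ext
    ext X x
    change (X.obj.ρ 1).hom x = x
    rw [X.obj.ρ.map_one]
    rfl
  map_mul' g h := by
    apply Iso.ext
    ext X x
    change (X.obj.ρ (g * h)).hom x = (X.obj.ρ g).hom ((X.obj.ρ h).hom x)
    rw [X.obj.ρ.map_mul]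
    rfl

theorem iota_apply (g : G) (X : ContAction FintypeCat.{u} G) (x : X.obj.V) :
    ((iota G g).hom.app X) x = (X.obj.ρ g).hom x := rfl

variable {G}

/-- the kernel of the action on a finite continuous `G`-set is open. -/
theorem isOpen_ker (X : ContAction FintypeCat.{u} G) :
    IsOpen {g : G | ∀ x : X.obj.V, (X.obj.ρ g).hom x = x} := by
  have : {g : G | ∀ x : X.obj.V, (X.obj.ρ g).hom x = x} =
      ⋂ x : X.obj.V, {g : G | (X.obj.ρ g).hom x = x} := by
    ext g
    simp only [Set.mem_setOf_eq, Set.mem_iInter]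
  rw [this]
  exact isOpen_iInter_of_finite (fun x => isOpen_stab X x)

theorem ρ_mul_apply (X : ContAction FintypeCat.{u} G) (g h : G) (x : X.obj.V) :
    (X.obj.ρ (g * h)).hom x = (X.obj.ρ g).hom ((X.obj.ρ h).hom x) := by
  rw [X.obj.ρ.map_mul]
  rfl

theorem continuous_iota : Continuous (iota G) := by
  rw [(autEmbedding_isClosedEmbedding (Fg G)).isInducing.continuous_iff, continuous_pi_iff]
  intro X
  rw [continuous_discrete_rng]
  intro b
  rw [isOpen_iff_mem_nhds]
  intro g₀ hg₀
  have hg₀' : autEmbedding (Fg G) (iota G g₀) X = b := hg₀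
  let W : Set G := (fun g => g₀⁻¹ * g) ⁻¹' {g : G | ∀ x : X.obj.V, (X.obj.ρ g).hom x = x}
  have hW : IsOpen W := (isOpen_ker X).preimage (continuous_const.mul continuous_id)
  have hg₀W : g₀ ∈ W := by
    change ∀ x : X.obj.V, (X.obj.ρ (g₀⁻¹ * g₀)).hom x = x
    intro x
    rw [inv_mul_cancel, X.obj.ρ.map_one]
    rfl
  refine Filter.mem_of_superset (hW.mem_nhds hg₀W) ?_
  intro g hg
  have hg' : ∀ x : X.obj.V, (X.obj.ρ (g₀⁻¹ * g)).hom x = x := hg
  change autEmbedding (Fg G) (iota G g) X = b
  rw [← hg₀']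
  apply Iso.ext
  apply FintypeCat.hom_ext
  intro x
  change (X.obj.ρ g).hom x = (X.obj.ρ g₀).hom x
  have h1 : g = g₀ * (g₀⁻¹ * g) := by rw [mul_inv_cancel_left]
  rw [h1, ρ_mul_apply, hg' x]

/-- key lemma: an automorphism of the forgetful functor agrees with some group element on any
finite family of objects. -/
theorem exists_agree (σ : Aut (Fg G)) {k : ℕ} (X_ : Fin k → ContAction FintypeCat.{u} G) :
    ∃ g : G, ∀ (i : Fin k) (x : (X_ i).obj.V),
      ((X_ i).obj.ρ g).hom x = σ.hom.app (X_ i) x := by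
  classical
  let T : Type u := ∀ i : Fin k, (X_ i).obj.V → (X_ i).obj.V
  have hsmul : ∀ (g : G) (f : T) (i : Fin k) (x : (X_ i).obj.V),
      (g • f) i x = ((X_ i).obj.ρ g).hom (f i x) := fun g f i x => rfl
  have hT : ∀ f : T, IsOpen (MulAction.stabilizer G f : Set G) := by
    intro f
    apply Subgroup.isOpen_of_mem_nhds (g := 1)
    have hW : IsOpen (⋂ i : Fin k, ⋂ x : (X_ i).obj.V,
        {g : G | ((X_ i).obj.ρ g).hom (f i x) = f i x}) :=
      isOpen_iInter_of_finite fun i => isOpen_iInter_of_finite fun x =>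
        isOpen_stab (X_ i) (f i x)
    refine Filter.mem_of_superset (hW.mem_nhds ?_) ?_
    · simp only [Set.mem_iInter, Set.mem_setOf_eq]
      intro i x
      rw [(X_ i).obj.ρ.map_one]
      rfl
    · intro g hg
      simp only [Set.mem_iInter, Set.mem_setOf_eq] at hg
      rw [SetLike.mem_coe, MulAction.mem_stabilizer_iff]
      funext i x
      rw [hsmul]
      exact hg i x
  let p₀ : T := fun i x => x
  have hO : ∀ q : MulAction.orbit G p₀, IsOpen (MulAction.stabilizer G q : Set G) := by
    intro q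
    have : (MulAction.stabilizer G q : Set G) = (MulAction.stabilizer G (q : T) : Set G) := by
      ext g
      simp only [SetLike.mem_coe, MulAction.mem_stabilizer_iff]
      rw [← Subtype.coe_inj, MulAction.orbit.coe_smul]
    rw [this]
    exact hT q
  let PT := mkObj T hT
  let PO := mkObj (MulAction.orbit G p₀) hO
  let incl : PO ⟶ PT := mkHom (MulAction.orbit G p₀) hO PT (fun q => (q : T)) (fun g q => by
    rw [MulAction.orbit.coe_smul]
    rfl)
  let ev (i : Fin k) (x : (X_ i).obj.V) : PT ⟶ X_ i :=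
    mkHom T hT (X_ i) (fun f => f i x) (fun g f => rfl)
  let q₀ : MulAction.orbit G p₀ := ⟨p₀, MulAction.mem_orbit_self p₀⟩
  let q₁ : MulAction.orbit G p₀ := σ.hom.app PO q₀
  have h1 : σ.hom.app PT p₀ = (q₁ : T) :=
    nat_apply σ incl q₀
  obtain ⟨g, hg⟩ := MulAction.mem_orbit_iff.1 q₁.property
  refine ⟨g, fun i x => ?_⟩
  have h2 := nat_apply σ (ev i x) p₀
  change σ.hom.app (X_ i) x = (σ.hom.app PT p₀ : T) i x at h2
  rw [h2, h1, ← hg]
  rfl

theorem denseRange_iota : DenseRange (iota G) := by
  classical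
  rw [DenseRange, dense_iff_inter_open]
  rintro U hU ⟨σ, hσ⟩
  obtain ⟨V, hV, rfl⟩ := isOpen_induced_iff.mp hU
  obtain ⟨I, u, hu, hI⟩ := isOpen_pi_iff.mp hV (autEmbedding (Fg G) σ) hσ
  let eI : I ≃ Fin I.card := I.equivFin
  obtain ⟨g, hg⟩ := exists_agree σ (fun i => (eI.symm i).val)
  have key : ∀ Y : I, ∀ x : Y.val.obj.V, (Y.val.obj.ρ g).hom x = σ.hom.app Y.val x := by
    intro Y
    have h1 := hg (eI Y)
    have h2 : eI.symm (eI Y) = Y := eI.symm_apply_apply Y
    exact h2 ▸ h1
  refine ⟨iota G g, ?_, ⟨g, rfl⟩⟩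
  apply hI
  intro X hX
  have hX' : autEmbedding (Fg G) σ X ∈ u X := (hu X hX).2
  have heq : autEmbedding (Fg G) (iota G g) X = autEmbedding (Fg G) σ X := by
    apply Iso.ext
    apply FintypeCat.hom_ext
    intro x
    exact key ⟨X, hX⟩ x
  rw [heq]
  exact hX'

section Univ

variable {Q : Type u} [Group Q] (π : G →* Q) [Finite Q] [TopologicalSpace Q] [DiscreteTopology Q]

theorem isOpen_stab_qact (hπ : Continuous π) (q : Q) :
    IsOpen (@MulAction.stabilizer G Q _ (MulAction.compHom Q π) q : Set G) := by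
  letI : MulAction G Q := MulAction.compHom Q π
  have : (MulAction.stabilizer G q : Set G) = π ⁻¹' {1} := by
    ext g
    simp only [SetLike.mem_coe, MulAction.mem_stabilizer_iff, Set.mem_preimage,
      Set.mem_singleton_iff]
    change π g * q = q ↔ π g = 1
    exact mul_eq_right
  rw [this]
  exact (isOpen_discrete _).preimage hπ

/-- the object `Q` with `G` acting through `π`. -/
noncomputable def XQ (hπ : Continuous π) : ContAction FintypeCat.{u} G :=
  @mkObj G _ _ _ Q _ (MulAction.compHom Q π) (isOpen_stab_qact π hπ)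

/-- identification of the underlying set of `XQ` with `Q`. -/
def toQ (hπ : Continuous π) (x : (XQ π hπ).obj.V) : Q := x

/-- identification of the underlying set of `XQ` with `Q`. -/
def ofQ (hπ : Continuous π) (q : Q) : (XQ π hπ).obj.V := q

theorem toQ_ofQ (hπ : Continuous π) (q : Q) : toQ π hπ (ofQ π hπ q) = q := rfl

theorem ofQ_toQ (hπ : Continuous π) (x : (XQ π hπ).obj.V) : ofQ π hπ (toQ π hπ x) = x := rfl

theorem XQ_ρ (hπ : Continuous π) (g : G) (q : Q) :
    toQ π hπ (((XQ π hπ).obj.ρ g).hom (ofQ π hπ q)) = π g * q := rfl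

/-- right multiplication as an endomorphism of `XQ`. -/
noncomputable def rmul (hπ : Continuous π) (q : Q) : XQ π hπ ⟶ XQ π hπ :=
  @mkHom G _ _ _ Q _ (MulAction.compHom Q π) (isOpen_stab_qact π hπ) (XQ π hπ)
    (fun t => ofQ π hπ (t * q))
    (fun g t => by
      change ((π g * t) * q : Q) = (π g * (t * q) : Q)
      rw [mul_assoc])

theorem rmul_apply (hπ : Continuous π) (q t : Q) :
    toQ π hπ (((Fg G).map (rmul π hπ q)) (ofQ π hπ t)) = t * q := rfl

theorem app_XQ (hπ : Continuous π) (σ : Aut (Fg G)) (q : Q) :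
    toQ π hπ (σ.hom.app (XQ π hπ) (ofQ π hπ q)) =
      toQ π hπ (σ.hom.app (XQ π hπ) (ofQ π hπ 1)) * q := by
  have h := nat_apply σ (rmul π hπ q) (ofQ π hπ 1)
  have h1 : ((Fg G).map (rmul π hπ q)) (ofQ π hπ 1) = ofQ π hπ q := by
    change ofQ π hπ ((1 : Q) * q) = ofQ π hπ q
    rw [one_mul]
  rw [h1] at h
  rw [h]
  rfl

/-- the induced homomorphism `Aut F → Q`. -/
noncomputable def psi (hπ : Continuous π) : Aut (Fg G) →* Q where
  toFun σ := toQ π hπ (σ.hom.app (XQ π hπ) (ofQ π hπ 1))
  map_one' := rfl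
  map_mul' σ τ := by
    change toQ π hπ (σ.hom.app (XQ π hπ) (τ.hom.app (XQ π hπ) (ofQ π hπ 1))) = _
    have := app_XQ π hπ σ (toQ π hπ (τ.hom.app (XQ π hπ) (ofQ π hπ 1)))
    rw [ofQ_toQ] at this
    exact this

theorem psi_iota (hπ : Continuous π) (g : G) : psi π hπ (iota G g) = π g := by
  change (π g * (1 : Q) : Q) = π g
  rw [mul_one]

theorem continuous_psi (hπ : Continuous π) : Continuous (psi π hπ) := by
  have h1 : Continuous (fun σ : Aut (Fg G) => autEmbedding (Fg G) σ (XQ π hπ)) :=
    (continuous_apply (XQ π hπ)).comp (autEmbedding_isClosedEmbedding (Fg G)).continuous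
  have h2 : Continuous (fun a : Aut ((Fg G).obj (XQ π hπ)) =>
      toQ π hπ (a.hom (ofQ π hπ 1))) :=
    continuous_of_discreteTopology
  exact h2.comp h1

end Univ

end Groth.Agent.H1.ContActAut
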