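import Groth.Prelude.Def_DTen

set_option autoImplicit false
universe u
open CategoryTheory CategoryTheory.Limits MonoidalCategory
attribute [local instance] HasDerivedCategory.standard

namespace Groth.Agent.H1.DTenSymm

open DTen

variable {A : Type u} [CommRing A]

lemma braidCx_braidCx (K L : DRing.Cx A) :
    (braidCx K L).hom ≫ (braidCx L K).hom = 𝟙 _ := by
  refine HomologicalComplex.hom_ext _ _ (fun n => HomologicalComplex.mapBifunctor.hom_ext (fun p q h => ?_))
  have h0 : p + q = n := h
  have h' : q + p = n := by rw [add_comm]; exact h0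
  rw [HomologicalComplex.comp_f]
  erw [ι_braidCx_hom_assoc K L p q n h0]
  simp only [Linear.units_smul_comp, Category.assoc]
  erw [ι_braidCx_hom L K q p n h']
  simp only [Linear.comp_units_smul, smul_smul]
  have e : ((p * q).negOnePow * (p * q).negOnePow) = 1 := by
    rw [← Int.negOnePow_add]
    exact Int.negOnePow_even _ ⟨_, rfl⟩
  rw [mul_comm q p, e, one_smul, ← Category.assoc,
    SymmetricCategory.symmetry, Category.id_comp]
  erw [HomologicalComplex.id_f, Category.comp_id]

variable (A)

/-- `symm` at the swapped pair, with the types spelled out. -/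
noncomputable def s' [HasLTen A] (X : Dual.D A × Dual.D A) :
    (LTen₂ A).obj X ⟶ (LTen₂ A).obj (X.2, X.1) :=
  (symm A).app (X.2, X.1)

noncomputable def s [HasLTen A] (X : Dual.D A × Dual.D A) :
    (LTen₂ A).obj (X.2, X.1) ⟶ (LTen₂ A).obj X :=
  (symm A).app X

lemma s'_nat [HasLTen A] {X Y : Dual.D A × Dual.D A} (f : X ⟶ Y) :
    (LTen₂ A).map f ≫ s' A Y = s' A X ≫ (LTen₂ A).map
      (show (X.2, X.1) ⟶ (Y.2, Y.1) from (f.2, f.1)) :=
  (symm A).naturality (show (X.2, X.1) ⟶ (Y.2, Y.1) from (f.2, f.1))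

lemma s_nat [HasLTen A] {X Y : Dual.D A × Dual.D A} (f : X ⟶ Y) :
    (LTen₂ A).map (show (X.2, X.1) ⟶ (Y.2, Y.1) from (f.2, f.1)) ≫ s A Y =
      s A X ≫ (LTen₂ A).map f :=
  (symm A).naturality f

noncomputable def τ [HasLTen A] : LTen₂ A ⟶ LTen₂ A where
  app X := s' A X ≫ s A X
  naturality X Y f := by
    rw [← Category.assoc, s'_nat, Category.assoc, s_nat, Category.assoc]

lemma τ_eq_id [HasLTen A] : τ A = 𝟙 _ := by
  apply (LTen₂ A).leftDerived_ext (ε A) (qis₂ A)
  ext ⟨K, L⟩
  have h1 := symm_fac A K L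
  have h2 := symm_fac A L K
  have e : (τ A).app (DerivedCategory.Q.obj K, DerivedCategory.Q.obj L) ≫ (ε A).app (K, L) =
      (ε A).app (K, L) := by
    change ((symm A).app (DerivedCategory.Q.obj L, DerivedCategory.Q.obj K) ≫
      (symm A).app (DerivedCategory.Q.obj K, DerivedCategory.Q.obj L)) ≫ (ε A).app (K, L) = _
    rw [Category.assoc, h1, ← Category.assoc, h2, Category.assoc, ← CategoryTheory.Functor.map_comp,
      braidCx_braidCx]
    exact (congrArg (fun t => (ε A).app (K, L) ≫ t) (DerivedCategory.Q.map_id _)).trans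
      (Category.comp_id _)
  simpa using e

theorem isIso_symm_app [HasLTen A] (K L : Dual.D A) : IsIso ((symm A).app (K, L)) := by
  refine ⟨(symm A).app (L, K), ?_, ?_⟩
  · have := congrArg (fun t => t.app (L, K)) (τ_eq_id A)
    exact this
  · have := congrArg (fun t => t.app (K, L)) (τ_eq_id A)
    exact this

end Groth.Agent.H1.DTenSymm
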