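import Groth.Prelude.Def_DeltaF
import Mathlib

set_option autoImplicit false
universe w v u
open CategoryTheory CategoryTheory.Limits

namespace Groth.Agent.H1.DeltaCmp

open DeltaF

variable {C : Type u} [Category.{v} C] [Abelian C]

/-- the short exact sequence of a monomorphism -/
noncomputable def ses {A M : C} (u : A ⟶ M) : ShortComplex C :=
  ShortComplex.mk u (cokernel.π u) (cokernel.condition u)

lemma ses_shortExact {A M : C} (u : A ⟶ M) [Mono u] : (ses u).ShortExact where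
  exact := ShortComplex.exact_cokernel u
  mono_f := by dsimp [ses]; infer_instance
  epi_g := by dsimp [ses]; infer_instance

variable {T T' : DeltaF.CohDeltaFunctor C AddCommGrpCat.{w} ℕ} (φ : T ⟶ T')

lemma comm_apply (S : ShortComplex C) (hS : S.ShortExact) (q : ℕ) (β : (T.F q).obj S.X₃) :
    (φ.app (q + 1)).app S.X₁ (T.δ S hS q (q + 1) rfl β) =
      T'.δ S hS q (q + 1) rfl ((φ.app q).app S.X₃ β) := by
  have := ConcreteCategory.congr_hom (φ.comm S hS q (q + 1) rfl) β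
  simpa only [ConcreteCategory.comp_apply] using this

lemma nat_apply {X Y : C} (f : X ⟶ Y) (q : ℕ) (x : (T.F q).obj X) :
    (φ.app q).app Y ((T.F q).map f x) = (T'.F q).map f ((φ.app q).app X x) := by
  have := ConcreteCategory.congr_hom ((φ.app q).naturality f) x
  simpa only [ConcreteCategory.comp_apply] using this

lemma ex1 (T : DeltaF.CohDeltaFunctor C AddCommGrpCat.{w} ℕ) (S : ShortComplex C)
    (hS : S.ShortExact) (q : ℕ) (α : (T.F (q + 1)).obj S.X₁)
    (hα : (T.F (q + 1)).map S.f α = 0) : ∃ β : (T.F q).obj S.X₃, T.δ S hS q (q + 1) rfl β = α :=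
  (ShortComplex.ab_exact_iff _).1 (T.exact₁ S hS q (q + 1) rfl) α hα

lemma ex3 (T : DeltaF.CohDeltaFunctor C AddCommGrpCat.{w} ℕ) (S : ShortComplex C)
    (hS : S.ShortExact) (q : ℕ) (β : (T.F q).obj S.X₃)
    (hβ : T.δ S hS q (q + 1) rfl β = 0) : ∃ γ : (T.F q).obj S.X₂, (T.F q).map S.g γ = β :=
  (ShortComplex.ab_exact_iff _).1 (T.exact₃ S hS q (q + 1) rfl) β hβ

lemma ex2 (T : DeltaF.CohDeltaFunctor C AddCommGrpCat.{w} ℕ) (S : ShortComplex C)
    (hS : S.ShortExact) (q : ℕ) (γ : (T.F q).obj S.X₂)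
    (hγ : (T.F q).map S.g γ = 0) : ∃ a : (T.F q).obj S.X₁, (T.F q).map S.f a = γ :=
  (ShortComplex.ab_exact_iff _).1 (T.exact₂ S hS q) γ hγ

lemma g_δ_apply (T : DeltaF.CohDeltaFunctor C AddCommGrpCat.{w} ℕ) (S : ShortComplex C)
    (hS : S.ShortExact) (q : ℕ) (γ : (T.F q).obj S.X₂) :
    T.δ S hS q (q + 1) rfl ((T.F q).map S.g γ) = 0 := by
  have := ConcreteCategory.congr_hom (T.comp_δ S hS q (q + 1) rfl) γ
  rw [ConcreteCategory.comp_apply] at this
  exact this.trans rfl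

lemma f_g_apply (T : DeltaF.CohDeltaFunctor C AddCommGrpCat.{w} ℕ) (S : ShortComplex C)
    (q : ℕ) (a : (T.F q).obj S.X₁) :
    (T.F q).map S.g ((T.F q).map S.f a) = 0 := by
  have h : (T.F q).map S.f ≫ (T.F q).map S.g = 0 := by
    rw [← Functor.map_comp, S.zero, Functor.map_zero]
  have := ConcreteCategory.congr_hom h a
  rw [ConcreteCategory.comp_apply] at this
  exact this.trans rfl

theorem inj_succ
    (hT : ∀ (q : ℕ) (A : C) (α : (T.F (q + 1)).obj A),
      ∃ (M : C) (u : A ⟶ M), Mono u ∧ (T.F (q + 1)).map u α = 0)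
    (q : ℕ) (hq : ∀ A : C, Function.Bijective ((φ.app q).app A)) (A : C)
    (α : (T.F (q + 1)).obj A) (hα : (φ.app (q + 1)).app A α = 0) : α = 0 := by
  obtain ⟨M, u, hu, huα⟩ := hT q A α
  have hS := ses_shortExact u
  obtain ⟨β, hβ⟩ := ex1 T (ses u) hS q α huα
  have h1 : T'.δ (ses u) hS q (q + 1) rfl ((φ.app q).app _ β) = 0 :=
    (comm_apply φ (ses u) hS q β).symm.trans ((congrArg _ hβ).trans hα)
  obtain ⟨γ', hγ'⟩ := ex3 T' (ses u) hS q _ h1
  obtain ⟨γ, hγ⟩ := (hq M).2 γ'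
  have h2 : (T.F q).map (ses u).g γ = β := by
    apply (hq _).1
    rw [nat_apply]
    exact (congrArg _ hγ).trans hγ'
  rw [← hβ, ← h2]
  exact g_δ_apply T (ses u) hS q γ

theorem surj_succ (q : ℕ) (hq : ∀ A : C, Function.Bijective ((φ.app q).app A)) (A : C)
    (α' : (T'.F (q + 1)).obj A) (M : C) (u : A ⟶ M) [Mono u]
    (hu : (T'.F (q + 1)).map u α' = 0) : ∃ α, (φ.app (q + 1)).app A α = α' := by
  have hS := ses_shortExact u
  obtain ⟨β', hβ'⟩ := ex1 T' (ses u) hS q α' hu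
  obtain ⟨β, hβ⟩ := (hq _).2 β'
  exact ⟨T.δ (ses u) hS q (q + 1) rfl β,
    (comm_apply φ (ses u) hS q β).trans ((congrArg _ hβ).trans hβ')⟩

lemma map_f_injective (T : DeltaF.CohDeltaFunctor C AddCommGrpCat.{w} ℕ) (hT0 : T.ZeroMono)
    {A M : C} (u : A ⟶ M) [Mono u] : Function.Injective ((T.F 0).map u) := by
  have := hT0 (ses u) (ses_shortExact u)
  exact (AddCommGrpCat.mono_iff_injective _).1 this

theorem inj_zero (hT0 : T.ZeroMono) (E : ObjectProperty C)
    (hE : ∀ A : C, ∃ (M : C) (i : A ⟶ M), Mono i ∧ E M)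
    (h0 : ∀ M : C, E M → Function.Bijective ((φ.app 0).app M)) (A : C) :
    Function.Injective ((φ.app 0).app A) := by
  obtain ⟨M, i, hi, hM⟩ := hE A
  intro x y hxy
  apply map_f_injective T hT0 i
  apply (h0 M hM).1
  rw [nat_apply, nat_apply, hxy]

theorem bij_zero (hT0 : T.ZeroMono) (hT'0 : T'.ZeroMono) (E : ObjectProperty C)
    (hE : ∀ A : C, ∃ (M : C) (i : A ⟶ M), Mono i ∧ E M)
    (h0 : ∀ M : C, E M → Function.Bijective ((φ.app 0).app M)) (A : C) :
    Function.Bijective ((φ.app 0).app A) := by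
  refine ⟨inj_zero φ hT0 E hE h0 A, ?_⟩
  intro α'
  obtain ⟨M, i, hi, hM⟩ := hE A
  have hS := ses_shortExact i
  obtain ⟨m, hm⟩ := (h0 M hM).2 ((T'.F 0).map i α')
  have h1 : (T.F 0).map (ses i).g m = 0 := by
    apply inj_zero φ hT0 E hE h0
    rw [nat_apply]
    refine ((congrArg _ hm).trans (f_g_apply T' (ses i) 0 α')).trans ?_
    exact (map_zero _).symm
  obtain ⟨a, ha⟩ := ex2 T (ses i) hS 0 m h1
  refine ⟨a, ?_⟩
  apply map_f_injective T' hT'0 i
  rw [← nat_apply]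
  exact (congrArg _ ha).trans hm

/-- induction step packaged -/
theorem bij_all
    (hT : ∀ (q : ℕ) (A : C) (α : (T.F (q + 1)).obj A),
      ∃ (M : C) (u : A ⟶ M), Mono u ∧ (T.F (q + 1)).map u α = 0)
    (h0 : ∀ A : C, Function.Bijective ((φ.app 0).app A))
    (hs : ∀ (q : ℕ), (∀ A : C, Function.Bijective ((φ.app q).app A)) →
      ∀ (A : C) (α' : (T'.F (q + 1)).obj A),
        ∃ (M : C) (u : A ⟶ M), Mono u ∧ (T'.F (q + 1)).map u α' = 0)
    (q : ℕ) : ∀ A : C, Function.Bijective ((φ.app q).app A) := by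
  induction q with
  | zero => exact h0
  | succ q ih =>
    intro A
    constructor
    · rw [injective_iff_map_eq_zero]
      intro α hα
      exact inj_succ φ hT q ih A α hα
    · intro α'
      obtain ⟨M, u, hu, huα⟩ := hs q ih A α'
      exact surj_succ φ q ih A α' M u huα

theorem main
    (hT0 : T.ZeroMono) (hT'0 : T'.ZeroMono)
    (hT : ∀ (q : ℕ) (A : C) (α : (T.F (q + 1)).obj A),
      ∃ (M : C) (u : A ⟶ M), Mono u ∧ (T.F (q + 1)).map u α = 0)
    (E : ObjectProperty C)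
    (hE : ∀ A : C, ∃ (M : C) (i : A ⟶ M), Mono i ∧ E M) :
    ((∀ (q : ℕ) (A : C), IsIso ((φ.app q).app A)) ↔
      ((∀ M : C, E M → IsIso ((φ.app 0).app M)) ∧
        ∀ (q : ℕ) (M : C), E M → Epi ((φ.app (q + 1)).app M))) ∧
    ((∀ (q : ℕ) (A : C), IsIso ((φ.app q).app A)) ↔
      ((∀ A : C, IsIso ((φ.app 0).app A)) ∧
        ∀ (q : ℕ) (A : C) (α : (T'.F (q + 1)).obj A),
          ∃ (M : C) (u : A ⟶ M), Mono u ∧ (T'.F (q + 1)).map u α = 0)) := by
  refine ⟨⟨?_, ?_⟩, ⟨?_, ?_⟩⟩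
  · intro h
    exact ⟨fun M _ => h 0 M, fun q M _ => by have := h (q + 1) M; infer_instance⟩
  · rintro ⟨h0, h1⟩ q A
    rw [ConcreteCategory.isIso_iff_bijective]
    refine bij_all φ hT (bij_zero φ hT0 hT'0 E hE
      (fun M hM => by have := h0 M hM; exact ConcreteCategory.bijective_of_isIso _)) ?_ q A
    intro q ih A α'
    obtain ⟨M, i, hi, hM⟩ := hE A
    have hepi := (AddCommGrpCat.epi_iff_surjective _).1 (h1 q M hM)
    obtain ⟨μ, hμ⟩ := hepi ((T'.F (q + 1)).map i α')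
    obtain ⟨M', v, hv, hvμ⟩ := hT q M μ
    refine ⟨M', i ≫ v, mono_comp i v, ?_⟩
    have e : (T'.F (q + 1)).map (i ≫ v) α' =
        (T'.F (q + 1)).map v ((T'.F (q + 1)).map i α') := by
      rw [Functor.map_comp, ConcreteCategory.comp_apply]
    rw [e, ← hμ, ← nat_apply, hvμ, map_zero]
  · intro h
    refine ⟨fun A => h 0 A, ?_⟩
    intro q A α'
    have hb := fun B : C => (ConcreteCategory.isIso_iff_bijective _).1 (h (q + 1) B)
    obtain ⟨α, hα⟩ := (hb A).2 α'
    obtain ⟨M, u, hu, huα⟩ := hT q A α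
    refine ⟨M, u, hu, ?_⟩
    rw [← hα, ← nat_apply, huα, map_zero]
  · rintro ⟨h0, h1⟩ q A
    rw [ConcreteCategory.isIso_iff_bijective]
    exact bij_all φ hT (fun A => by have := h0 A; exact ConcreteCategory.bijective_of_isIso _)
      (fun q _ A α' => h1 q A α') q A

end Groth.Agent.H1.DeltaCmp
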