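import Groth.Agent.Lib.helper1.DeltaCmp
import Groth.Agent.Lib.helper1.AbFilMono

set_option autoImplicit false
universe w v u
open CategoryTheory CategoryTheory.Limits

namespace Groth.Agent.H1.DeltaCmp

open DeltaF

variable {C : Type u} [Category.{v} C] [Abelian C]
  {T T' : DeltaF.CohDeltaFunctor C AddCommGrpCat.{w} ℕ} (φ : T ⟶ T')

lemma isIso_of_isColimit {J : Type v} [SmallCategory J]
    {G G' : J ⥤ AddCommGrpCat.{w}} (α : G ⟶ G') (hα : ∀ j, IsIso (α.app j))
    {d : Cocone G} (hd : IsColimit d) {d' : Cocone G'} (hd' : IsColimit d')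
    (m : d.pt ⟶ d'.pt) (hm : ∀ j, d.ι.app j ≫ m = α.app j ≫ d'.ι.app j) : IsIso m := by
  haveI : IsIso α := NatIso.isIso_of_isIso_app α
  have : m = (IsColimit.coconePointsIsoOfNatIso hd hd' (asIso α)).hom := by
    apply hd.hom_ext
    intro j
    rw [hm j, IsColimit.comp_coconePointsIsoOfNatIso_hom]
    rfl
  rw [this]
  infer_instance

lemma app_eq_of_iso (q : ℕ) {A B : C} (e : B ≅ A) :
    (φ.app q).app A = (T.F q).map e.inv ≫ (φ.app q).app B ≫ (T'.F q).map e.hom := by
  rw [← Category.assoc, (φ.app q).naturality, Category.assoc, ← CategoryTheory.Functor.map_comp, e.inv_hom_id,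
    CategoryTheory.Functor.map_id, Category.comp_id]

section Transfer

variable [∀ n, PreservesFilteredColimitsOfSize.{v, v} (T.F n)]
  [∀ n, PreservesFilteredColimitsOfSize.{v, v} (T'.F n)]
  (D : ObjectProperty C)
  (hD : ∀ A : C, ∃ (J : Type v) (_ : SmallCategory J) (_ : IsFiltered J) (K : J ⥤ C)
    (c : Cocone K) (_ : IsColimit c), (∀ j, D (K.obj j)) ∧ Nonempty (c.pt ≅ A))

include hD in
theorem transfer_mono (q : ℕ) (h : ∀ B : C, D B → Mono ((φ.app q).app B)) (A : C) :
    Mono ((φ.app q).app A) := by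
  obtain ⟨J, _, _, K, c, hc, hK, ⟨e⟩⟩ := hD A
  haveI : PreservesColimitsOfShape J (T.F q) :=
    PreservesFilteredColimitsOfSize.preserves_filtered_colimits J
  haveI : PreservesColimitsOfShape J (T'.F q) :=
    PreservesFilteredColimitsOfSize.preserves_filtered_colimits J
  haveI h1 : Mono ((φ.app q).app c.pt) :=
    AbFilMono.mono_of_isColimit (Functor.whiskerLeft K (φ.app q)) (fun j => h _ (hK j))
      (isColimitOfPreserves (T.F q) hc) (isColimitOfPreserves (T'.F q) hc) _ (fun j => by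
        dsimp
        exact (φ.app q).naturality _)
  rw [app_eq_of_iso φ q e]
  infer_instance

include hD in
theorem transfer_iso (q : ℕ) (h : ∀ B : C, D B → IsIso ((φ.app q).app B)) (A : C) :
    IsIso ((φ.app q).app A) := by
  obtain ⟨J, _, _, K, c, hc, hK, ⟨e⟩⟩ := hD A
  haveI : PreservesColimitsOfShape J (T.F q) :=
    PreservesFilteredColimitsOfSize.preserves_filtered_colimits J
  haveI : PreservesColimitsOfShape J (T'.F q) :=
    PreservesFilteredColimitsOfSize.preserves_filtered_colimits J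
  haveI h1 : IsIso ((φ.app q).app c.pt) :=
    isIso_of_isColimit (Functor.whiskerLeft K (φ.app q)) (fun j => h _ (hK j))
      (isColimitOfPreserves (T.F q) hc) (isColimitOfPreserves (T'.F q) hc) _ (fun j => by
        dsimp
        exact (φ.app q).naturality _)
  rw [app_eq_of_iso φ q e]
  infer_instance

end Transfer

lemma inj_zero_pt (hT0 : T.ZeroMono) {A M : C} (i : A ⟶ M) [Mono i]
    (hM : Function.Injective ((φ.app 0).app M)) : Function.Injective ((φ.app 0).app A) := by
  intro x y hxy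
  apply map_f_injective T hT0 i
  apply hM
  rw [nat_apply, nat_apply, hxy]

lemma surj_zero_pt (hT'0 : T'.ZeroMono) {A M : C} (i : A ⟶ M) [Mono i]
    (hM : Function.Surjective ((φ.app 0).app M))
    (hQ : Function.Injective ((φ.app 0).app (ses i).X₃)) :
    Function.Surjective ((φ.app 0).app A) := by
  intro α'
  have hS := ses_shortExact i
  obtain ⟨m, hm⟩ := hM ((T'.F 0).map i α')
  have h1 : (T.F 0).map (ses i).g m = 0 := by
    apply hQ
    rw [nat_apply]
    refine ((congrArg _ hm).trans (f_g_apply T' (ses i) 0 α')).trans ?_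
    exact (map_zero _).symm
  obtain ⟨a, ha⟩ := ex2 T (ses i) hS 0 m h1
  refine ⟨a, ?_⟩
  apply map_f_injective T' hT'0 i
  rw [← nat_apply]
  exact (congrArg _ ha).trans hm

lemma inj_succ_pt (q : ℕ) (hq : ∀ A : C, Function.Bijective ((φ.app q).app A))
    {A M : C} (u : A ⟶ M) [Mono u] (hM : Function.Injective ((φ.app (q + 1)).app M)) :
    Function.Injective ((φ.app (q + 1)).app A) := by
  rw [injective_iff_map_eq_zero]
  intro α hα
  have huα : (T.F (q + 1)).map u α = 0 := by
    apply hM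
    rw [nat_apply, hα, map_zero, map_zero]
  have hS := ses_shortExact u
  obtain ⟨β, hβ⟩ := ex1 T (ses u) hS q α huα
  have h1 : T'.δ (ses u) hS q (q + 1) rfl ((φ.app q).app _ β) = 0 :=
    (comm_apply φ (ses u) hS q β).symm.trans ((congrArg _ hβ).trans hα)
  obtain ⟨γ', hγ'⟩ := ex3 T' (ses u) hS q _ h1
  obtain ⟨γ, hγ⟩ := (hq M).2 γ'
  have h2 : (T.F q).map (ses u).g γ = β := by
    apply (hq _).1
    rw [nat_apply]
    exact (congrArg _ hγ).trans hγ'
  rw [← hβ, ← h2]
  exact g_δ_apply T (ses u) hS q γ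

lemma surj_succ_pt (q : ℕ) (hq : ∀ A : C, Function.Bijective ((φ.app q).app A))
    {A M : C} (i : A ⟶ M) [Mono i] (hM : Function.Surjective ((φ.app (q + 1)).app M))
    (hQ : Function.Injective ((φ.app (q + 1)).app (ses i).X₃)) :
    Function.Surjective ((φ.app (q + 1)).app A) := by
  intro α'
  have hS := ses_shortExact i
  obtain ⟨μ, hμ⟩ := hM ((T'.F (q + 1)).map i α')
  have h1 : (T.F (q + 1)).map (ses i).g μ = 0 := by
    apply hQ
    rw [nat_apply]
    refine ((congrArg _ hμ).trans (f_g_apply T' (ses i) (q + 1) α')).trans ?_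
    exact (map_zero _).symm
  obtain ⟨a, ha⟩ : ∃ a : (T.F (q + 1)).obj A, (T.F (q + 1)).map i a = μ :=
    ex2 T (ses i) hS (q + 1) μ h1
  have h2 : (T'.F (q + 1)).map i (α' - (φ.app (q + 1)).app A a) = 0 := by
    rw [map_sub, sub_eq_zero]
    refine hμ.symm.trans ?_
    rw [← ha]
    exact nat_apply φ i (q + 1) a
  obtain ⟨β', hβ'⟩ := ex1 T' (ses i) hS q _ h2
  obtain ⟨β, hβ⟩ := (hq _).2 β'
  obtain ⟨d, hd⟩ : ∃ d : (T.F (q + 1)).obj A, d = T.δ (ses i) hS q (q + 1) rfl β := ⟨_, rfl⟩
  have h3 : (φ.app (q + 1)).app A d = α' - (φ.app (q + 1)).app A a := by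
    rw [hd]
    exact (comm_apply φ (ses i) hS q β).trans ((congrArg _ hβ).trans hβ')
  refine ⟨a + d, ?_⟩
  rw [map_add, h3]
  abel

section Main

variable [∀ n, PreservesFilteredColimitsOfSize.{v, v} (T.F n)]
  [∀ n, PreservesFilteredColimitsOfSize.{v, v} (T'.F n)]
  (D E : ObjectProperty C)
  (hD : ∀ A : C, ∃ (J : Type v) (_ : SmallCategory J) (_ : IsFiltered J) (K : J ⥤ C)
    (c : Cocone K) (_ : IsColimit c), (∀ j, D (K.obj j)) ∧ Nonempty (c.pt ≅ A))
  (hE : ∀ A : C, D A → ∃ (M : C) (i : A ⟶ M), Mono i ∧ E M)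

include hD hE in
theorem bij_all2 (hT0 : T.ZeroMono) (hT'0 : T'.ZeroMono)
    (h : ∀ (q : ℕ) (M : C), E M → IsIso ((φ.app q).app M)) (q : ℕ) :
    ∀ A : C, Function.Bijective ((φ.app q).app A) := by
  have hb : ∀ (q : ℕ) (M : C), E M → Function.Bijective ((φ.app q).app M) := fun q M hM => by
    have := h q M hM
    exact ConcreteCategory.bijective_of_isIso _
  induction q with
  | zero =>
    have hinj : ∀ A : C, Function.Injective ((φ.app 0).app A) := by
      intro A
      rw [← AddCommGrpCat.mono_iff_injective]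
      apply transfer_mono φ D hD 0
      intro B hB
      rw [AddCommGrpCat.mono_iff_injective]
      obtain ⟨M, i, hi, hM⟩ := hE B hB
      exact inj_zero_pt φ hT0 i (hb 0 M hM).1
    intro A
    rw [← ConcreteCategory.isIso_iff_bijective]
    apply transfer_iso φ D hD 0
    intro B hB
    rw [ConcreteCategory.isIso_iff_bijective]
    obtain ⟨M, i, hi, hM⟩ := hE B hB
    exact ⟨hinj B, surj_zero_pt φ hT'0 i (hb 0 M hM).2 (hinj _)⟩
  | succ q ih =>
    have hinj : ∀ A : C, Function.Injective ((φ.app (q + 1)).app A) := by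
      intro A
      rw [← AddCommGrpCat.mono_iff_injective]
      apply transfer_mono φ D hD (q + 1)
      intro B hB
      rw [AddCommGrpCat.mono_iff_injective]
      obtain ⟨M, i, hi, hM⟩ := hE B hB
      exact inj_succ_pt φ q ih i (hb (q + 1) M hM).1
    intro A
    rw [← ConcreteCategory.isIso_iff_bijective]
    apply transfer_iso φ D hD (q + 1)
    intro B hB
    rw [ConcreteCategory.isIso_iff_bijective]
    obtain ⟨M, i, hi, hM⟩ := hE B hB
    exact ⟨hinj B, surj_succ_pt φ q ih i (hb (q + 1) M hM).2 (hinj _)⟩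

include hD hE in
theorem main2 (hT0 : T.ZeroMono) (hT'0 : T'.ZeroMono) :
    (∀ (q : ℕ) (A : C), IsIso ((φ.app q).app A)) ↔
      ∀ (q : ℕ) (M : C), E M → IsIso ((φ.app q).app M) := by
  constructor
  · intro h q M _
    exact h q M
  · intro h q A
    rw [ConcreteCategory.isIso_iff_bijective]
    exact bij_all2 φ D E hD hE hT0 hT'0 h q A

end Main

end Groth.Agent.H1.DeltaCmp
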