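import Mathlib

set_option autoImplicit false
universe u

namespace Groth.Agent.H1

open Matrix in
/-- Determinant trick: if `ã f_j ∈ J + I²` for generators `f_j` of `I ⊇ J`, then some
`h₀ ≡ ã^m mod I` multiplies `I` into `J`. -/
theorem H1_det_trick {P : Type u} [CommRing P] {m : ℕ} (f : Fin m → P) (J : Ideal P)
    (a : P) (h : ∀ j, a * f j ∈ J ⊔ (Ideal.span (Set.range f)) ^ 2) :
    ∃ h₀ : P, h₀ - a ^ m ∈ Ideal.span (Set.range f) ∧ ∀ j, h₀ * f j ∈ J := by
  classical
  set I := Ideal.span (Set.range f) with hI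
  -- extract the coefficient matrix
  have hex : ∀ j, ∃ (y : P) (u : Fin m → P), y ∈ J ∧ (∀ l, u l ∈ I) ∧
      a * f j = y + ∑ l, u l * f l := by
    intro j
    obtain ⟨y, hy, z, hz, hyz⟩ := Submodule.mem_sup.mp (h j)
    rw [pow_two, ← smul_eq_mul, hI] at hz
    change z ∈ (Ideal.span (Set.range f)) • Submodule.span P (Set.range f) at hz
    rw [Submodule.mem_ideal_smul_span_iff_exists_sum] at hz
    obtain ⟨c, hc, hcz⟩ := hz
    refine ⟨y, fun l => c l, hy, hc, ?_⟩
    rw [← hyz, ← hcz, Finsupp.sum_fintype _ _ (fun i => by simp)]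
    simp [smul_eq_mul]
  choose y U hy hU hyU using hex
  let M : Matrix (Fin m) (Fin m) P := Matrix.scalar (Fin m) a - Matrix.of U
  refine ⟨M.det, ?_, ?_⟩
  · -- reduce mod I
    rw [← Ideal.Quotient.eq, RingHom.map_det, map_pow]
    have : (Ideal.Quotient.mk I).mapMatrix M = Matrix.scalar (Fin m) (Ideal.Quotient.mk I a) := by
      ext i j
      simp only [M, RingHom.mapMatrix_apply, Matrix.map_apply, Matrix.sub_apply, map_sub,
        Matrix.of_apply]
      have h0 : Ideal.Quotient.mk I (U i j) = 0 := Ideal.Quotient.eq_zero_iff_mem.mpr (hU i j)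
      rw [h0, sub_zero]
      by_cases hij : i = j
      · subst hij; simp [Matrix.scalar_apply]
      · simp [Matrix.scalar_apply, hij]
    rw [this]
    change (Matrix.diagonal fun _ => Ideal.Quotient.mk I a).det = _
    rw [Matrix.det_diagonal]
    simp
  · -- adjugate
    intro j
    have hMf : M.mulVec f = y := by
      ext i
      simp only [M, Matrix.sub_mulVec, Pi.sub_apply]
      have h1 : (Matrix.scalar (Fin m) a).mulVec f i = a * f i := by
        simp [Matrix.mulVec, dotProduct, Matrix.scalar_apply, Matrix.diagonal_apply,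
          Finset.sum_ite_eq]
      have h2 : (Matrix.of U).mulVec f i = ∑ l, U i l * f l := by
        simp [Matrix.mulVec, dotProduct]
      rw [h1, h2, hyU i]
      ring
    have h3 : (M.adjugate * M).mulVec f = M.adjugate.mulVec y := by
      rw [← Matrix.mulVec_mulVec, hMf]
    rw [Matrix.adjugate_mul] at h3
    have h4 : (M.det • (1 : Matrix (Fin m) (Fin m) P)).mulVec f j = M.det * f j := by
      simp [Matrix.smul_mulVec]
    rw [← h4, h3]
    simp only [Matrix.mulVec, dotProduct]
    exact Ideal.sum_mem _ fun l _ => Ideal.mul_mem_left _ _ (hy l)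

end Groth.Agent.H1
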