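import Groth.Prelude.Def_DiffOp
import Mathlib

set_option autoImplicit false
universe u v
open scoped TensorProduct
open Diff16

namespace Groth.Agent.H1

section
variable {A B : Type u} [CommRing A] [CommRing B] [Algebra A B]
variable {M N : Type v} [AddCommGroup M] [Module A M] [Module B M] [IsScalarTower A B M]
  [AddCommGroup N] [Module A N] [Module B N] [IsScalarTower A B N]

theorem H1_commutator_apply (D : M →ₗ[A] N) (b : B) (m : M) :
    Diff16.commutator A B M N D b m = D (b • m) - b • D m := by
  simp [Diff16.commutator]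

theorem H1_commutator_zero (b : B) : Diff16.commutator A B M N (0 : M →ₗ[A] N) b = 0 := by
  ext m; simp [H1_commutator_apply]

theorem H1_commutator_add (D D' : M →ₗ[A] N) (b : B) :
    Diff16.commutator A B M N (D + D') b = Diff16.commutator A B M N D b + Diff16.commutator A B M N D' b := by
  ext m; simp [H1_commutator_apply]; abel

theorem H1_commutator_neg (D : M →ₗ[A] N) (b : B) :
    Diff16.commutator A B M N (-D) b = -Diff16.commutator A B M N D b := by
  ext m; simp [H1_commutator_apply]; abel

theorem H1_isDiffOpLE_succ_iff (n : ℕ) (D : M →ₗ[A] N) :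
    IsDiffOpLE A B M N (n + 1) D ↔ ∀ b : B, IsDiffOpLE A B M N n (Diff16.commutator A B M N D b) :=
  Iff.rfl

theorem H1_isDiffOpLE_zero_iff (D : M →ₗ[A] N) :
    IsDiffOpLE A B M N 0 D ↔ ∀ (b : B) (m : M), D (b • m) = b • D m :=
  Iff.rfl

theorem H1_isDiffOpLE_zero_iff' (D : M →ₗ[A] N) :
    IsDiffOpLE A B M N 0 D ↔ ∀ b : B, Diff16.commutator A B M N D b = 0 := by
  rw [H1_isDiffOpLE_zero_iff]
  constructor
  · intro h b; ext m; simp [H1_commutator_apply, h b m]
  · intro h b m
    have := LinearMap.congr_fun (h b) m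
    rw [H1_commutator_apply] at this
    simpa [sub_eq_zero] using this

theorem H1_isDiffOpLE_zeroMap (n : ℕ) : IsDiffOpLE A B M N n (0 : M →ₗ[A] N) := by
  induction n with
  | zero => intro b m; simp
  | succ n ih => intro b; rw [H1_commutator_zero]; exact ih

theorem H1_isDiffOpLE_add (n : ℕ) : ∀ (D D' : M →ₗ[A] N), IsDiffOpLE A B M N n D →
    IsDiffOpLE A B M N n D' → IsDiffOpLE A B M N n (D + D') := by
  induction n with
  | zero =>
    intro D D' h h' b m
    simp [h b m, h' b m]
  | succ n ih =>
    intro D D' h h' b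
    rw [H1_commutator_add]
    exact ih _ _ (h b) (h' b)

theorem H1_isDiffOpLE_neg (n : ℕ) : ∀ (D : M →ₗ[A] N), IsDiffOpLE A B M N n D →
    IsDiffOpLE A B M N n (-D) := by
  induction n with
  | zero =>
    intro D h b m
    simp [h b m]
  | succ n ih =>
    intro D h b
    rw [H1_commutator_neg]
    exact ih _ (h b)

theorem H1_isDiffOpLE_succ (n : ℕ) : ∀ (D : M →ₗ[A] N), IsDiffOpLE A B M N n D →
    IsDiffOpLE A B M N (n + 1) D := by
  induction n with
  | zero =>
    intro D h b
    rw [(H1_isDiffOpLE_zero_iff' D).mp h b]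
    exact H1_isDiffOpLE_zeroMap 0
  | succ n ih =>
    intro D h b
    exact ih _ (h b)

theorem H1_isDiffOpLE_mono {n m : ℕ} (h : n ≤ m) (D : M →ₗ[A] N)
    (hD : IsDiffOpLE A B M N n D) : IsDiffOpLE A B M N m D := by
  induction h with
  | refl => exact hD
  | step _ ih => exact H1_isDiffOpLE_succ _ _ ih

end

section comp
variable {A B : Type u} [CommRing A] [CommRing B] [Algebra A B]
variable {M N P : Type v} [AddCommGroup M] [Module A M] [Module B M] [IsScalarTower A B M]
  [AddCommGroup N] [Module A N] [Module B N] [IsScalarTower A B N]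
  [AddCommGroup P] [Module A P] [Module B P] [IsScalarTower A B P]

theorem H1_commutator_comp (D : M →ₗ[A] N) (D' : N →ₗ[A] P) (b : B) :
    Diff16.commutator A B M P (D' ∘ₗ D) b =
      D' ∘ₗ Diff16.commutator A B M N D b + Diff16.commutator A B N P D' b ∘ₗ D := by
  ext m; simp [H1_commutator_apply]

theorem H1_isDiffOpLE_comp_aux (k : ℕ) : ∀ (n n' : ℕ), n + n' = k →
    ∀ (D : M →ₗ[A] N) (D' : N →ₗ[A] P), IsDiffOpLE A B M N n D → IsDiffOpLE A B N P n' D' →
      IsDiffOpLE A B M P k (D' ∘ₗ D) := by
  induction k with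
  | zero =>
    intro n n' h D D' hD hD'
    obtain ⟨rfl, rfl⟩ : n = 0 ∧ n' = 0 := by omega
    intro b m
    simp [hD b m, hD' b (D m)]
  | succ k ih =>
    intro n n' h D D' hD hD' b
    rw [H1_commutator_comp]
    apply H1_isDiffOpLE_add
    · cases n with
      | zero =>
        rw [(H1_isDiffOpLE_zero_iff' D).mp hD b]
        simp only [LinearMap.comp_zero]
        exact H1_isDiffOpLE_zeroMap k
      | succ n => exact ih n n' (by omega) _ _ (hD b) hD'
    · cases n' with
      | zero =>
        rw [(H1_isDiffOpLE_zero_iff' D').mp hD' b]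
        simp only [LinearMap.zero_comp]
        exact H1_isDiffOpLE_zeroMap k
      | succ n' => exact ih n n' (by omega) _ _ hD (hD' b)

theorem H1_isDiffOpLE_comp (n n' : ℕ) (D : M →ₗ[A] N) (D' : N →ₗ[A] P)
    (hD : IsDiffOpLE A B M N n D) (hD' : IsDiffOpLE A B N P n' D') :
    IsDiffOpLE A B M P (n + n') (D' ∘ₗ D) :=
  H1_isDiffOpLE_comp_aux (n + n') n n' rfl D D' hD hD'

end comp

end Groth.Agent.H1

namespace Groth.Agent.H1

section gens
variable {A B : Type u} [CommRing A] [CommRing B] [Algebra A B]
variable {M N : Type v} [AddCommGroup M] [Module A M] [Module B M] [IsScalarTower A B M]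
  [AddCommGroup N] [Module A N] [Module B N] [IsScalarTower A B N]

/-- multiplication by `b` as an `A`-linear map -/
noncomputable abbrev H1_mulL (M : Type v) [AddCommGroup M] [Module A M] [Module B M]
    [IsScalarTower A B M] (b : B) : M →ₗ[A] M :=
  (LinearMap.lsmul B M b).restrictScalars A

theorem H1_isDiffOpLE_mulL (b : B) : IsDiffOpLE A B M M 0 (H1_mulL (A := A) M b) := by
  intro c m
  simp [smul_smul, mul_comm]

theorem H1_commutator_algebraMap (D : M →ₗ[A] N) (a : A) :
    Diff16.commutator A B M N D (algebraMap A B a) = 0 := by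
  ext m
  simp [H1_commutator_apply, algebraMap_smul]

theorem H1_commutator_add_right (D : M →ₗ[A] N) (b b' : B) :
    Diff16.commutator A B M N D (b + b') =
      Diff16.commutator A B M N D b + Diff16.commutator A B M N D b' := by
  ext m
  simp [H1_commutator_apply, add_smul]; abel

theorem H1_commutator_mul_right (D : M →ₗ[A] N) (b b' : B) :
    Diff16.commutator A B M N D (b * b') =
      Diff16.commutator A B M N D b ∘ₗ H1_mulL (A := A) M b' +
        H1_mulL (A := A) N b ∘ₗ Diff16.commutator A B M N D b' := by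
  ext m
  simp [H1_commutator_apply, mul_smul, smul_sub]

theorem H1_isDiffOpLE_of_generators (s : Set B) (hs : Algebra.adjoin A s = ⊤) (n : ℕ)
    (D : M →ₗ[A] N)
    (hD : ∀ g ∈ s, IsDiffOpLE A B M N n (Diff16.commutator A B M N D g)) :
    IsDiffOpLE A B M N (n + 1) D := by
  intro b
  have hb : b ∈ Algebra.adjoin A s := by rw [hs]; trivial
  induction hb using Algebra.adjoin_induction with
  | mem x hx => exact hD x hx
  | algebraMap r => rw [H1_commutator_algebraMap]; exact H1_isDiffOpLE_zeroMap n
  | add x y _ _ hx hy => rw [H1_commutator_add_right]; exact H1_isDiffOpLE_add n _ _ hx hy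
  | mul x y _ _ hx hy =>
    rw [H1_commutator_mul_right]
    apply H1_isDiffOpLE_add
    · have := H1_isDiffOpLE_comp 0 n (H1_mulL (A := A) M y) _ (H1_isDiffOpLE_mulL y) hx
      simpa using this
    · have := H1_isDiffOpLE_comp n 0 _ (H1_mulL (A := A) N x) hy (H1_isDiffOpLE_mulL x)
      simpa using this

end gens

end Groth.Agent.H1
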