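import Mathlib.Algebra.Homology.DerivedCategory.Ext.ExtClass
import Mathlib.Algebra.Homology.DerivedCategory.Ext.ExactSequences
import Mathlib.CategoryTheory.Abelian.Refinements
import Mathlib.CategoryTheory.Abelian.Basic

/-!
# Existence of a morphism of extensions and the obstruction in `Ext¹` (helper1)
-/

set_option autoImplicit false
universe w v u

namespace Groth.Agent.H1.ExtObstr

open CategoryTheory CategoryTheory.Limits CategoryTheory.Abelian

variable {C : Type u} [Category.{v} C] [Abelian C]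

section Pushout

variable {S : ShortComplex C} (hS : S.ShortExact) {Q : C} (φ : S.X₁ ⟶ Q)

/-- The map `E ⟶ A''` from the pushout extension. -/
noncomputable def pg : pushout S.f φ ⟶ S.X₃ :=
  pushout.desc S.g 0 (by rw [S.zero, comp_zero])

lemma inl_pg : pushout.inl S.f φ ≫ pg φ = S.g := pushout.inl_desc _ _ _

lemma inr_pg : pushout.inr S.f φ ≫ pg φ = 0 := pushout.inr_desc _ _ _

/-- The pushout extension `0 → Q → E → A'' → 0`. -/
noncomputable def pushoutSC : ShortComplex C :=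
  ShortComplex.mk (pushout.inr S.f φ) (pg φ) (inr_pg φ)

include hS in
lemma exists_rep {T : C} (t : T ⟶ pushout S.f φ) :
    ∃ (T' : C) (e : T' ⟶ T) (_ : Epi e) (a : T' ⟶ S.X₂) (q : T' ⟶ Q),
      e ≫ t = a ≫ pushout.inl S.f φ + q ≫ pushout.inr S.f φ := by
  have hepi : Epi (biprod.desc (pushout.inl S.f φ) (pushout.inr S.f φ)) := by
    apply Preadditive.epi_of_cancel_zero
    intro Z c hc
    apply pushout.hom_ext
    · have := congrArg (fun x => biprod.inl ≫ x) hc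
      simpa using this
    · have := congrArg (fun x => biprod.inr ≫ x) hc
      simpa using this
  obtain ⟨T', e, he, x, hx⟩ := surjective_up_to_refinements_of_epi
    (biprod.desc (pushout.inl S.f φ) (pushout.inr S.f φ)) t
  refine ⟨T', e, he, x ≫ biprod.fst, x ≫ biprod.snd, ?_⟩
  rw [hx, Category.assoc, Category.assoc, ← Preadditive.comp_add]
  congr 1
  apply biprod.hom_ext' <;> simp

include hS in
lemma exact_aux {T : C} (t : T ⟶ pushout S.f φ) (ht : t ≫ pg φ = 0) :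
    ∃ (T' : C) (e : T' ⟶ T) (_ : Epi e) (q : T' ⟶ Q), e ≫ t = q ≫ pushout.inr S.f φ := by
  obtain ⟨T₁, e₁, he₁, a, q, hrep⟩ := exists_rep hS φ t
  have ha : a ≫ S.g = 0 := by
    have := congrArg (fun x => x ≫ pg φ) hrep
    simp only [Category.assoc, ht, comp_zero, Preadditive.add_comp, inl_pg, inr_pg,
      add_zero] at this
    exact this.symm
  obtain ⟨T₂, e₂, he₂, a', ha'⟩ := hS.exact.exact_up_to_refinements a ha
  refine ⟨T₂, e₂ ≫ e₁, epi_comp _ _, a' ≫ φ + e₂ ≫ q, ?_⟩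
  rw [Category.assoc, hrep, Preadditive.comp_add, ← Category.assoc e₂ a, ha', Category.assoc,
    pushout.condition, Preadditive.add_comp, Category.assoc, Category.assoc]

include hS in
lemma pushoutSC_shortExact : (pushoutSC φ).ShortExact := by
  haveI := hS.mono_f
  haveI := hS.epi_g
  have hmono : Mono (pushout.inr S.f φ) := inferInstance
  have hepi : Epi (pg φ) := epi_of_epi_fac (inl_pg φ)
  refine ShortComplex.ShortExact.mk' ?_ hmono hepi
  rw [ShortComplex.exact_iff_exact_up_to_refinements]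
  intro T t ht
  exact exact_aux hS φ t ht

/-- The morphism of short complexes from `S` to the pushout extension. -/
noncomputable def toPushoutSC : S ⟶ pushoutSC φ where
  τ₁ := φ
  τ₂ := pushout.inl S.f φ
  τ₃ := 𝟙 _
  comm₁₂ := pushout.condition.symm
  comm₂₃ := by
    change pushout.inl S.f φ ≫ pg φ = S.g ≫ 𝟙 _
    rw [inl_pg, Category.comp_id]

end Pushout

section Quot

variable {Q E A'' P : C} (j : Q ⟶ E) (g' : E ⟶ A'') (π : A'' ⟶ P) (σ : kernel π ⟶ E)
  (w : σ ≫ g' ≫ π = 0)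

lemma quot_w (hjg : j ≫ g' = 0) :
    (j ≫ cokernel.π σ) ≫ cokernel.desc σ (g' ≫ π) w = 0 := by
  rw [Category.assoc, cokernel.π_desc, ← Category.assoc, hjg, zero_comp]

lemma quot_exact_aux
    (hex : ∀ ⦃T : C⦄ (t : T ⟶ E), t ≫ g' = 0 →
      ∃ (T' : C) (e : T' ⟶ T) (_ : Epi e) (q : T' ⟶ Q), e ≫ t = q ≫ j)
    (hσ : σ ≫ g' = kernel.ι π) {T : C} (t : T ⟶ cokernel σ)
    (ht : t ≫ cokernel.desc σ (g' ≫ π) w = 0) :
    ∃ (T' : C) (e : T' ⟶ T) (_ : Epi e) (q : T' ⟶ Q), e ≫ t = q ≫ j ≫ cokernel.π σ := by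
  obtain ⟨T₁, e₁, he₁, x, hx⟩ := surjective_up_to_refinements_of_epi (cokernel.π σ) t
  have h3 : (x ≫ g') ≫ π = 0 := by
    have := congrArg (fun y => y ≫ cokernel.desc σ (g' ≫ π) w) hx
    simp only [Category.assoc, ht, comp_zero, cokernel.π_desc] at this
    rw [Category.assoc]
    exact this.symm
  have h4 : (x - kernel.lift π (x ≫ g') h3 ≫ σ) ≫ g' = 0 := by
    rw [Preadditive.sub_comp, Category.assoc, hσ, kernel.lift_ι, sub_self]
  obtain ⟨T₂, e₂, he₂, q, hq⟩ := hex _ h4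
  refine ⟨T₂, e₂ ≫ e₁, epi_comp _ _, q, ?_⟩
  rw [Category.assoc, hx, ← Category.assoc q, ← hq, Preadditive.comp_sub,
    Preadditive.sub_comp, Category.assoc, Category.assoc, Category.assoc,
    cokernel.condition, comp_zero, comp_zero, sub_zero]

lemma quot_mono [Mono j] (hjg : j ≫ g' = 0) (hσ : σ ≫ g' = kernel.ι π) :
    Mono (j ≫ cokernel.π σ) := by
  have hmσ : Mono σ := mono_of_mono_fac hσ
  apply Preadditive.mono_of_cancel_zero
  intro T t ht
  have h3 : (t ≫ j) ≫ cokernel.π σ = 0 := by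
    rw [Category.assoc]; exact ht
  have h4 : Abelian.monoLift σ _ h3 ≫ σ = t ≫ j := Abelian.monoLift_comp _ _ _
  have h5 : Abelian.monoLift σ _ h3 ≫ kernel.ι π = 0 := by
    rw [← hσ, ← Category.assoc, h4, Category.assoc, hjg, comp_zero]
  have h6 : Abelian.monoLift σ _ h3 = 0 := by
    rw [← cancel_mono (kernel.ι π), h5, zero_comp]
  rw [h6, zero_comp] at h4
  rw [← cancel_mono j, ← h4, zero_comp]

lemma quot_epi [Epi g'] [Epi π] : Epi (cokernel.desc σ (g' ≫ π) w) := by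
  have h1 : Epi (g' ≫ π) := epi_comp _ _
  exact epi_of_epi_fac (cokernel.π_desc σ (g' ≫ π) w)

lemma quot_shortExact [Mono j] [Epi g'] [Epi π] (hjg : j ≫ g' = 0)
    (hex : ∀ ⦃T : C⦄ (t : T ⟶ E), t ≫ g' = 0 →
      ∃ (T' : C) (e : T' ⟶ T) (_ : Epi e) (q : T' ⟶ Q), e ≫ t = q ≫ j)
    (hσ : σ ≫ g' = kernel.ι π) :
    (ShortComplex.mk (j ≫ cokernel.π σ) (cokernel.desc σ (g' ≫ π) w)
      (quot_w j g' π σ w hjg)).ShortExact := by
  refine ShortComplex.ShortExact.mk' ?_ (quot_mono j g' π σ hjg hσ) (quot_epi g' π σ w)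
  rw [ShortComplex.exact_iff_exact_up_to_refinements]
  intro T t ht
  exact quot_exact_aux j g' π σ w hex hσ t ht

end Quot


variable [HasExt.{w} C]

section Main

variable {S : ShortComplex C} (hS : S.ShortExact) {Q P : C} (φ : S.X₁ ⟶ Q) (π : S.X₃ ⟶ P)

include hS in
lemma pushout_extClass :
    (pushoutSC_shortExact hS φ).extClass = hS.extClass.comp (Ext.mk₀ φ) (add_zero 1) := by
  have := ShortComplex.ShortExact.extClass_naturality hS (pushoutSC_shortExact hS φ)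
    (toPushoutSC φ)
  have h2 : (Ext.mk₀ (𝟙 S.X₃)).comp (pushoutSC_shortExact hS φ).extClass (zero_add 1) =
      (pushoutSC_shortExact hS φ).extClass := Ext.mk₀_id_comp _
  exact h2.symm.trans this.symm

theorem forward (B : C) (f : Q ⟶ B) (g : B ⟶ P) (h : S.X₂ ⟶ B) (w : f ≫ g = 0)
    (hT : (ShortComplex.mk f g w).ShortExact) (h1 : S.f ≫ h = φ ≫ f) (h2 : h ≫ g = S.g ≫ π) :
    (Ext.mk₀ (kernel.ι π)).comp (hS.extClass.comp (Ext.mk₀ φ) (add_zero 1)) (zero_add 1) = 0 := by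
  let Ψ : S ⟶ ShortComplex.mk f g w :=
    { τ₁ := φ
      τ₂ := h
      τ₃ := π
      comm₁₂ := h1.symm
      comm₂₃ := h2 }
  have := ShortComplex.ShortExact.extClass_naturality hS hT Ψ
  change hS.extClass.comp (Ext.mk₀ φ) (add_zero 1) = (Ext.mk₀ π).comp hT.extClass (zero_add 1)
    at this
  rw [this, Ext.mk₀_comp_mk₀_assoc, kernel.condition, Ext.mk₀_zero, Ext.zero_comp]

theorem backward [Epi π]
    (h0 : (Ext.mk₀ (kernel.ι π)).comp (hS.extClass.comp (Ext.mk₀ φ) (add_zero 1))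
      (zero_add 1) = 0) :
    ∃ (B : C) (f : Q ⟶ B) (g : B ⟶ P) (h : S.X₂ ⟶ B) (w : f ≫ g = 0),
      (ShortComplex.mk f g w).ShortExact ∧ S.f ≫ h = φ ≫ f ∧ h ≫ g = S.g ≫ π := by
  have hE := pushoutSC_shortExact hS φ
  rw [← pushout_extClass hS φ] at h0
  obtain ⟨x₂, hx₂⟩ := Ext.covariant_sequence_exact₃ (kernel π) hE (Ext.mk₀ (kernel.ι π))
    (zero_add 1) h0
  obtain ⟨σ, rfl⟩ : ∃ σ : kernel π ⟶ pushout S.f φ, Ext.mk₀ σ = x₂ :=
    ⟨Ext.homEquiv₀ x₂, Ext.mk₀_homEquiv₀_apply x₂⟩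
  have hσ : σ ≫ pg φ = kernel.ι π := by
    apply (Ext.mk₀_bijective _ _).1
    exact (Ext.mk₀_comp_mk₀ σ (pg φ)).symm.trans hx₂
  have hmf := hS.mono_f
  have hepg := hS.epi_g
  have hmono : Mono (pushout.inr S.f φ) := inferInstance
  have hepi : Epi (pg φ) := epi_of_epi_fac (inl_pg φ)
  have w : σ ≫ pg φ ≫ π = 0 := by rw [← Category.assoc, hσ, kernel.condition]
  have hse := quot_shortExact (pushout.inr S.f φ) (pg φ) π σ w (inr_pg φ)
    (fun T t ht => exact_aux hS φ t ht) hσ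
  refine ⟨cokernel σ, pushout.inr S.f φ ≫ cokernel.π σ,
    cokernel.desc σ (pg φ ≫ π) w,
    pushout.inl S.f φ ≫ cokernel.π σ, quot_w _ _ _ _ w (inr_pg φ), hse, ?_, ?_⟩
  · rw [← Category.assoc, pushout.condition, Category.assoc]
  · rw [Category.assoc, cokernel.π_desc, ← Category.assoc, inl_pg]

end Main

end Groth.Agent.H1.ExtObstr
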