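import Mathlib
import Groth.Prelude.Def_MoreMor

/-!
Formally étale morphisms of schemes (infinitesimal lifting against affine first order thickenings)
versus formally étale ring maps on affine opens.
-/

namespace Groth.Agent.H1

open AlgebraicGeometry CategoryTheory

universe u

/-- The closed immersion `Spec (A/I) ⟶ Spec A`. -/
noncomputable abbrev H1_thk (A : Type u) [CommRing A] (I : Ideal A) :
    Spec (CommRingCat.of (A ⧸ I)) ⟶ Spec (CommRingCat.of A) :=
  Spec.map (CommRingCat.ofHom (Ideal.Quotient.mk I))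

instance H1_thk_isClosedImmersion (A : Type u) [CommRing A] (I : Ideal A) :
    IsClosedImmersion (H1_thk A I) :=
  IsClosedImmersion.spec_of_surjective _ Ideal.Quotient.mk_surjective

theorem H1_thk_surjective (A : Type u) [CommRing A] (I : Ideal A) (hI : I ^ 2 = ⊥) :
    Function.Surjective (H1_thk A I) := by
  intro x
  have hle : I ≤ x.asIdeal := by
    apply x.2.le_of_pow_le (n := 2)
    rw [hI]; exact bot_le
  have h1 : (x : PrimeSpectrum A) ∈ Set.range (PrimeSpectrum.comap (Ideal.Quotient.mk I)) := by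
    rw [range_comap_of_surjective _ _ Ideal.Quotient.mk_surjective, Ideal.mk_ker]
    exact (PrimeSpectrum.mem_zeroLocus _ _).mpr hle
  obtain ⟨y, hy⟩ := h1
  exact ⟨y, hy⟩

theorem H1_exists_of_range_subset {Z : Scheme.{u}} {U : Z.Opens} (hU : IsAffineOpen U)
    {B : CommRingCat.{u}} (l : Spec B ⟶ Z) (h : Set.range l ⊆ U) :
    ∃ φ : Γ(Z, U) ⟶ B, l = Spec.map φ ≫ hU.fromSpec := by
  have h' : Set.range l ⊆ Set.range hU.fromSpec := by
    rw [hU.range_fromSpec]; exact h
  refine ⟨Spec.preimage (IsOpenImmersion.lift hU.fromSpec l h'), ?_⟩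
  rw [Spec.map_preimage, IsOpenImmersion.lift_fac]

theorem H1_SpecMap_fromSpec_injective {Z : Scheme.{u}} {U : Z.Opens} (hU : IsAffineOpen U)
    {B : CommRingCat.{u}} {φ ψ : Γ(Z, U) ⟶ B}
    (h : Spec.map φ ≫ hU.fromSpec = Spec.map ψ ≫ hU.fromSpec) : φ = ψ := by
  rw [cancel_mono] at h
  exact Spec.map_injective h

theorem H1_range_SpecMap_fromSpec {Z : Scheme.{u}} {U : Z.Opens} (hU : IsAffineOpen U)
    {B : CommRingCat.{u}} (φ : Γ(Z, U) ⟶ B) :
    Set.range (Spec.map φ ≫ hU.fromSpec) ⊆ U := by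
  rintro _ ⟨x, rfl⟩
  have : hU.fromSpec (Spec.map φ x) ∈ Set.range hU.fromSpec := ⟨_, rfl⟩
  rw [hU.range_fromSpec] at this
  exact this

end Groth.Agent.H1

namespace Groth.Agent.H1

open AlgebraicGeometry CategoryTheory

universe u

/-- Unique lifting for an affine pair with formally étale ring map. -/
theorem H1_lift_affine_pair {X Y : Scheme.{u}} (f : X ⟶ Y) {U : X.Opens} {V : Y.Opens}
    (hU : IsAffineOpen U) (hV : IsAffineOpen V) (hUV : U ≤ f ⁻¹ᵁ V)
    (hfe : @Algebra.FormallyEtale Γ(Y, V) Γ(X, U) _ _ (f.appLE V U hUV).hom.toAlgebra)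
    (B : Type u) [CommRing B] (J : Ideal B) (hJ : J ^ 2 = ⊥)
    (a : Spec (.of (B ⧸ J)) ⟶ X) (b : Spec (.of B) ⟶ Y) (w : H1_thk B J ≫ b = a ≫ f)
    (ha : Set.range a ⊆ U) (hb : Set.range b ⊆ V) :
    ∃! l : Spec (.of B) ⟶ X, H1_thk B J ≫ l = a ∧ l ≫ f = b := by
  obtain ⟨γ, rfl⟩ := H1_exists_of_range_subset hU a ha
  obtain ⟨ρ, rfl⟩ := H1_exists_of_range_subset hV b hb
  letI := (f.appLE V U hUV).hom.toAlgebra
  letI : Algebra Γ(Y, V) B := ρ.hom.toAlgebra
  haveI : Algebra.FormallyEtale Γ(Y, V) Γ(X, U) := hfe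
  have hcomp : f.appLE V U hUV ≫ γ = ρ ≫ CommRingCat.ofHom (Ideal.Quotient.mk J) := by
    apply H1_SpecMap_fromSpec_injective hV
    rw [Spec.map_comp, Spec.map_comp, Category.assoc, Category.assoc,
      hV.SpecMap_appLE_fromSpec f hU hUV]
    exact w.symm
  let g : Γ(X, U) →ₐ[Γ(Y, V)] B ⧸ J :=
    { γ.hom with
      commutes' := fun r => by
        have := congr($(hcomp).hom r)
        exact this }
  obtain ⟨φ, hφ⟩ := (Algebra.FormallyEtale.comp_bijective Γ(Y, V) Γ(X, U) J hJ).2 g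
  have hφ1 : CommRingCat.ofHom φ.toRingHom ≫ CommRingCat.ofHom (Ideal.Quotient.mk J) = γ := by
    ext x
    exact congr($hφ x)
  have hφ2 : f.appLE V U hUV ≫ CommRingCat.ofHom φ.toRingHom = ρ := by
    ext r
    exact φ.commutes r
  refine ⟨Spec.map (CommRingCat.ofHom φ.toRingHom) ≫ hU.fromSpec, ⟨?_, ?_⟩, ?_⟩
  · rw [← Category.assoc, ← Spec.map_comp, hφ1]
  · rw [Category.assoc, ← hV.SpecMap_appLE_fromSpec f hU hUV, ← Category.assoc, ← Spec.map_comp,
      hφ2]
  · rintro l ⟨hl1, hl2⟩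
    have hlU : Set.range l ⊆ U := by
      rintro _ ⟨x, rfl⟩
      obtain ⟨y, rfl⟩ := H1_thk_surjective B J hJ x
      have h1 : l (H1_thk B J y) = (H1_thk B J ≫ l) y := rfl
      rw [h1, hl1]
      exact H1_range_SpecMap_fromSpec hU γ ⟨y, rfl⟩
    obtain ⟨ψ, rfl⟩ := H1_exists_of_range_subset hU l hlU
    have hψ1 : ψ ≫ CommRingCat.ofHom (Ideal.Quotient.mk J) = γ := by
      apply H1_SpecMap_fromSpec_injective hU
      rw [Spec.map_comp, Category.assoc]
      exact hl1
    have hψ2 : f.appLE V U hUV ≫ ψ = ρ := by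
      apply H1_SpecMap_fromSpec_injective hV
      rw [Spec.map_comp, Category.assoc, hV.SpecMap_appLE_fromSpec f hU hUV]
      rw [Category.assoc] at hl2
      exact hl2
    let ψ' : Γ(X, U) →ₐ[Γ(Y, V)] B :=
      { ψ.hom with
        commutes' := fun r => congr($(hψ2).hom r) }
    have heq : ψ' = φ := by
      apply (Algebra.FormallyEtale.comp_bijective Γ(Y, V) Γ(X, U) J hJ).1
      rw [hφ]
      ext x
      exact congr($(hψ1).hom x)
    have : ψ = CommRingCat.ofHom φ.toRingHom := by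
      ext x
      exact congr($heq x)
    rw [this]

end Groth.Agent.H1

namespace Groth.Agent.H1

open AlgebraicGeometry CategoryTheory

universe u

/-- A formally étale morphism (lifting property) has formally étale ring maps on affine pairs. -/
theorem H1_formallyEtale_of_hom {X Y : Scheme.{u}} (f : X ⟶ Y)
    (hf : MoreMor.IsFormallyEtaleHom f) {U : X.Opens} {V : Y.Opens}
    (hU : IsAffineOpen U) (hV : IsAffineOpen V) (hUV : U ≤ f ⁻¹ᵁ V) :
    @Algebra.FormallyEtale Γ(Y, V) Γ(X, U) _ _ (f.appLE V U hUV).hom.toAlgebra := by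
  letI := (f.appLE V U hUV).hom.toAlgebra
  rw [Algebra.FormallyEtale.iff_comp_bijective]
  intro B _ _ J hJ
  -- general facts about algebra homs
  have key1 : ∀ φ : Γ(X, U) →ₐ[Γ(Y, V)] B,
      (Spec.map (CommRingCat.ofHom φ.toRingHom) ≫ hU.fromSpec) ≫ f =
        Spec.map (CommRingCat.ofHom (algebraMap Γ(Y, V) B)) ≫ hV.fromSpec := by
    intro φ
    rw [Category.assoc, ← hV.SpecMap_appLE_fromSpec f hU hUV, ← Category.assoc, ← Spec.map_comp]
    congr 2
    ext r
    exact φ.commutes r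
  have key2 : ∀ φ : Γ(X, U) →ₐ[Γ(Y, V)] B,
      H1_thk B J ≫ (Spec.map (CommRingCat.ofHom φ.toRingHom) ≫ hU.fromSpec) =
        Spec.map (CommRingCat.ofHom ((Ideal.Quotient.mkₐ Γ(Y, V) J).comp φ).toRingHom) ≫
          hU.fromSpec := by
    intro φ
    rw [← Category.assoc, ← Spec.map_comp]
    rfl
  constructor
  · intro φ₁ φ₂ h
    have h' : (Ideal.Quotient.mkₐ Γ(Y, V) J).comp φ₁ = (Ideal.Quotient.mkₐ Γ(Y, V) J).comp φ₂ := h
    obtain ⟨l, -, hl⟩ := hf B J hJ
      (Spec.map (CommRingCat.ofHom ((Ideal.Quotient.mkₐ Γ(Y, V) J).comp φ₁).toRingHom) ≫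
        hU.fromSpec)
      (Spec.map (CommRingCat.ofHom (algebraMap Γ(Y, V) B)) ≫ hV.fromSpec)
      (by rw [← key1 φ₁, ← Category.assoc, key2 φ₁])
    have e1 := hl _ ⟨key2 φ₁, key1 φ₁⟩
    have e2 := hl _ ⟨(key2 φ₂).trans (by rw [h']), key1 φ₂⟩
    have e3 := H1_SpecMap_fromSpec_injective hU (e1.trans e2.symm)
    ext x
    exact congr($(e3).hom x)
  · intro g
    have w : H1_thk B J ≫ (Spec.map (CommRingCat.ofHom (algebraMap Γ(Y, V) B)) ≫ hV.fromSpec) =
        (Spec.map (CommRingCat.ofHom g.toRingHom) ≫ hU.fromSpec) ≫ f := by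
      rw [Category.assoc, ← hV.SpecMap_appLE_fromSpec f hU hUV, ← Category.assoc, ← Category.assoc,
        ← Spec.map_comp, ← Spec.map_comp]
      congr 2
      ext r
      exact (g.commutes r).symm
    obtain ⟨l, ⟨hl1, hl2⟩, -⟩ := hf B J hJ _ _ w
    have hlU : Set.range l ⊆ U := by
      rintro _ ⟨x, rfl⟩
      obtain ⟨y, rfl⟩ := H1_thk_surjective B J hJ x
      have h1 : l (H1_thk B J y) = (H1_thk B J ≫ l) y := rfl
      rw [h1, hl1]
      exact H1_range_SpecMap_fromSpec hU _ ⟨y, rfl⟩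
    obtain ⟨ψ, rfl⟩ := H1_exists_of_range_subset hU l hlU
    have hψ1 : ψ ≫ CommRingCat.ofHom (Ideal.Quotient.mk J) = CommRingCat.ofHom g.toRingHom := by
      apply H1_SpecMap_fromSpec_injective hU
      rw [Spec.map_comp, Category.assoc]
      exact hl1
    have hψ2 : f.appLE V U hUV ≫ ψ = CommRingCat.ofHom (algebraMap Γ(Y, V) B) := by
      apply H1_SpecMap_fromSpec_injective hV
      rw [Spec.map_comp, Category.assoc, hV.SpecMap_appLE_fromSpec f hU hUV]
      rw [Category.assoc] at hl2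
      exact hl2
    refine ⟨{ ψ.hom with commutes' := fun r => congr($(hψ2).hom r) }, ?_⟩
    ext x
    exact congr($(hψ1).hom x)

end Groth.Agent.H1
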