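import Mathlib
import Groth.Agent.Lib.helper1.FEtHom

/-!
Gluing of local infinitesimal lifts: from formally étale ring maps on affine pairs to the lifting
property of the morphism of schemes.
-/

namespace Groth.Agent.H1

open AlgebraicGeometry CategoryTheory

universe u

section

variable {X Y : Scheme.{u}} (f : X ⟶ Y) {A : Type u} [CommRing A] (I : Ideal A)
  (a : Spec (.of (A ⧸ I)) ⟶ X) (b : Spec (.of A) ⟶ Y)

/-- `l : Spec B ⟶ X` is a lift of the data `(a, b)` restricted along `ψ : A → B`, for the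
thickening `Spec (B/J) ⟶ Spec B`. -/
def H1_IsLift {B : Type u} [CommRing B] (ψ : A →+* B) (J : Ideal B) (hIJ : I ≤ J.comap ψ)
    (l : Spec (.of B) ⟶ X) : Prop :=
  H1_thk B J ≫ l = Spec.map (CommRingCat.ofHom (Ideal.quotientMap J ψ hIJ)) ≫ a ∧
    l ≫ f = Spec.map (CommRingCat.ofHom ψ) ≫ b

variable {f I a b}

theorem H1_thk_square {B : Type u} [CommRing B] (ψ : A →+* B) (J : Ideal B)
    (hIJ : I ≤ J.comap ψ) :
    H1_thk B J ≫ Spec.map (CommRingCat.ofHom ψ) =
      Spec.map (CommRingCat.ofHom (Ideal.quotientMap J ψ hIJ)) ≫ H1_thk A I := by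
  rw [← Spec.map_comp, ← Spec.map_comp]
  congr 1

theorem H1_IsLift.w {B : Type u} [CommRing B] {ψ : A →+* B} {J : Ideal B} {hIJ : I ≤ J.comap ψ}
    (w : H1_thk A I ≫ b = a ≫ f) :
    H1_thk B J ≫ (Spec.map (CommRingCat.ofHom ψ) ≫ b) =
      (Spec.map (CommRingCat.ofHom (Ideal.quotientMap J ψ hIJ)) ≫ a) ≫ f := by
  rw [← Category.assoc, H1_thk_square ψ J hIJ, Category.assoc, w, Category.assoc]

theorem H1_IsLift.comp {B : Type u} [CommRing B] {ψ : A →+* B} {J : Ideal B}
    {hIJ : I ≤ J.comap ψ} {l : Spec (.of B) ⟶ X} (hl : H1_IsLift f I a b ψ J hIJ l)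
    {C : Type u} [CommRing C] (χ : B →+* C) (K : Ideal C) (hJK : J ≤ K.comap χ) :
    H1_IsLift f I a b (χ.comp ψ) K (hIJ.trans (Ideal.comap_mono hJK))
      (Spec.map (CommRingCat.ofHom χ) ≫ l) := by
  constructor
  · rw [← Category.assoc, H1_thk_square χ K hJK, Category.assoc, hl.1, ← Category.assoc,
      ← Spec.map_comp]
    congr 2
    ext x
    rfl
  · rw [Category.assoc, hl.2, ← Category.assoc, ← Spec.map_comp]
    rfl

end

/-- All ring maps on affine pairs are formally étale. -/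
def H1_AffFEt {X Y : Scheme.{u}} (f : X ⟶ Y) : Prop :=
  ∀ (U : X.Opens) (V : Y.Opens) (_ : IsAffineOpen U) (_ : IsAffineOpen V) (hUV : U ≤ f ⁻¹ᵁ V),
    @Algebra.FormallyEtale Γ(Y, V) Γ(X, U) _ _ (f.appLE V U hUV).hom.toAlgebra

theorem H1_exists_affine_pair {X Y : Scheme.{u}} (f : X ⟶ Y) (y : X) :
    ∃ (U : X.Opens) (V : Y.Opens), IsAffineOpen U ∧ IsAffineOpen V ∧ U ≤ f ⁻¹ᵁ V ∧ y ∈ U := by
  obtain ⟨_, ⟨V, hV : IsAffineOpen V, rfl⟩, hyV, -⟩ :=
    Y.isBasis_affineOpens.exists_subset_of_mem_open (Set.mem_univ (f y)) isOpen_univ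
  obtain ⟨_, ⟨U, hU : IsAffineOpen U, rfl⟩, hyU, hUV⟩ :=
    X.isBasis_affineOpens.exists_subset_of_mem_open (show y ∈ (f ⁻¹ᵁ V : Set X) from hyV)
      (f ⁻¹ᵁ V).isOpen
  exact ⟨U, V, hU, hV, hUV, hyU⟩

theorem H1_range_SpecMap_away {B : Type u} [CommRing B] (r : B) :
    Set.range (Spec.map (CommRingCat.ofHom (algebraMap B (Localization.Away r)))) =
      (PrimeSpectrum.basicOpen r : Set (PrimeSpectrum B)) :=
  PrimeSpectrum.localization_away_comap_range (Localization.Away r) r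

theorem H1_span_eq_top_of_forall {B : Type u} [CommRing B] (r : PrimeSpectrum B → B)
    (hr : ∀ x, r x ∉ x.asIdeal) : Ideal.span (Set.range r) = ⊤ := by
  by_contra hne
  obtain ⟨m, hm, hle⟩ := Ideal.exists_le_maximal _ hne
  exact hr ⟨m, hm.isPrime⟩ (hle (Ideal.subset_span ⟨_, rfl⟩))

section

variable {X Y : Scheme.{u}} {f : X ⟶ Y} {A : Type u} [CommRing A] {I : Ideal A}
  {a : Spec (.of (A ⧸ I)) ⟶ X} {b : Spec (.of A) ⟶ Y}

theorem H1_IsLift.unique (H : H1_AffFEt f) {B : Type u} [CommRing B] {ψ : A →+* B} {J : Ideal B}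
    (hJ : J ^ 2 = ⊥) {hIJ : I ≤ J.comap ψ} {l₁ l₂ : Spec (.of B) ⟶ X}
    (hl₁ : H1_IsLift f I a b ψ J hIJ l₁) (hl₂ : H1_IsLift f I a b ψ J hIJ l₂) : l₁ = l₂ := by
  -- choose good basic opens
  have hloc : ∀ x : PrimeSpectrum B, ∃ r : B, r ∉ x.asIdeal ∧
      Spec.map (CommRingCat.ofHom (algebraMap B (Localization.Away r))) ≫ l₁ =
        Spec.map (CommRingCat.ofHom (algebraMap B (Localization.Away r))) ≫ l₂ := by
    intro x
    obtain ⟨U, V, hU, hV, hUV, hxU⟩ := H1_exists_affine_pair f (l₁ x)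
    have hopen : IsOpen (X := PrimeSpectrum B) (l₁ ⁻¹ᵁ U).1 := (l₁ ⁻¹ᵁ U).2
    obtain ⟨_, ⟨r, rfl⟩, hxr, hrU⟩ :=
      PrimeSpectrum.isTopologicalBasis_basic_opens.exists_subset_of_mem_open
        (a := x) (u := (l₁ ⁻¹ᵁ U).1) hxU hopen
    refine ⟨r, hxr, ?_⟩
    have hK : (J.map (algebraMap B (Localization.Away r))) ^ 2 = ⊥ := by
      rw [← Ideal.map_pow, hJ, Ideal.map_bot]
    have h1 := hl₁.comp (algebraMap B (Localization.Away r)) _ Ideal.le_comap_map
    have h2 := hl₂.comp (algebraMap B (Localization.Away r)) _ Ideal.le_comap_map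
    have hrange : ∀ z : Spec (.of (Localization.Away r)),
        l₁ (Spec.map (CommRingCat.ofHom (algebraMap B (Localization.Away r))) z) ∈ U := by
      intro z
      apply hrU
      have : Spec.map (CommRingCat.ofHom (algebraMap B (Localization.Away r))) z ∈
          Set.range (Spec.map (CommRingCat.ofHom (algebraMap B (Localization.Away r)))) :=
        ⟨z, rfl⟩
      rw [H1_range_SpecMap_away r] at this
      exact this
    refine (H1_lift_affine_pair f hU hV hUV (H U V hU hV hUV) (Localization.Away r) _ hK _ _ ?_ ?_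
      ?_).unique h1 h2
    · rw [← h1.2, ← Category.assoc, h1.1]
    · rw [← h1.1]
      rintro _ ⟨z, rfl⟩
      exact hrange _
    · rw [← h1.2]
      rintro _ ⟨z, rfl⟩
      exact hUV (hrange z)
  choose r hr hrl using hloc
  exact (Scheme.affineOpenCoverOfSpanRangeEqTop (R := .of B) r
    (H1_span_eq_top_of_forall r hr)).openCover.hom_ext _ _ hrl

theorem H1_exists_local_lift (H : H1_AffFEt f) (hI : I ^ 2 = ⊥) (w : H1_thk A I ≫ b = a ≫ f)
    (x : PrimeSpectrum A) :
    ∃ s : A, s ∉ x.asIdeal ∧ ∃ l : Spec (.of (Localization.Away s)) ⟶ X,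
      H1_IsLift f I a b (algebraMap A (Localization.Away s))
        (I.map (algebraMap A (Localization.Away s))) Ideal.le_comap_map l := by
  obtain ⟨x₀, rfl⟩ := H1_thk_surjective A I hI x
  obtain ⟨U, V, hU, hV, hUV, hxU⟩ := H1_exists_affine_pair f (a x₀)
  have hcl : IsClosedMap (H1_thk A I) := (H1_thk A I).isClosedEmbedding.isClosedMap
  have hinj : Function.Injective (H1_thk A I) := (H1_thk A I).isClosedEmbedding.injective
  have hopen : IsOpen (X := PrimeSpectrum A)
      ((b ⁻¹ᵁ V).1 ∩ ((H1_thk A I) '' ((a ⁻¹ᵁ U).1)ᶜ)ᶜ) :=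
    (b ⁻¹ᵁ V).2.inter (hcl _ (a ⁻¹ᵁ U).2.isClosed_compl).isOpen_compl
  have hmem : H1_thk A I x₀ ∈ ((b ⁻¹ᵁ V).1 ∩ ((H1_thk A I) '' ((a ⁻¹ᵁ U).1)ᶜ)ᶜ) := by
    refine ⟨?_, ?_⟩
    · change b (H1_thk A I x₀) ∈ V
      have : b (H1_thk A I x₀) = (H1_thk A I ≫ b) x₀ := rfl
      rw [this, w]
      exact hUV hxU
    · rintro ⟨z, hz, hzx⟩
      exact hz (hinj hzx ▸ hxU)
  obtain ⟨_, ⟨s, rfl⟩, hxs, hsW⟩ :=
    PrimeSpectrum.isTopologicalBasis_basic_opens.exists_subset_of_mem_open
      (a := H1_thk A I x₀) hmem hopen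
  refine ⟨s, hxs, ?_⟩
  have hK : (I.map (algebraMap A (Localization.Away s))) ^ 2 = ⊥ := by
    rw [← Ideal.map_pow, hI, Ideal.map_bot]
  have hrange : ∀ z : Spec (.of (Localization.Away s)),
      Spec.map (CommRingCat.ofHom (algebraMap A (Localization.Away s))) z ∈
        ((b ⁻¹ᵁ V).1 ∩ ((H1_thk A I) '' ((a ⁻¹ᵁ U).1)ᶜ)ᶜ) := by
    intro z
    apply hsW
    have : Spec.map (CommRingCat.ofHom (algebraMap A (Localization.Away s))) z ∈
        Set.range (Spec.map (CommRingCat.ofHom (algebraMap A (Localization.Away s)))) :=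
      ⟨z, rfl⟩
    rw [H1_range_SpecMap_away s] at this
    exact this
  have ha' : Set.range (Spec.map (CommRingCat.ofHom (Ideal.quotientMap
      (I.map (algebraMap A (Localization.Away s))) (algebraMap A (Localization.Away s))
      Ideal.le_comap_map)) ≫ a) ⊆ U := by
    rintro _ ⟨z, rfl⟩
    by_contra hne
    have h1 := (hrange (H1_thk _ _ z)).2
    apply h1
    refine ⟨Spec.map (CommRingCat.ofHom (Ideal.quotientMap _ (algebraMap A (Localization.Away s))
      Ideal.le_comap_map)) z, hne, ?_⟩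
    have := congr($(H1_thk_square (I := I) (algebraMap A (Localization.Away s))
      (I.map (algebraMap A (Localization.Away s))) Ideal.le_comap_map) z)
    exact this.symm
  have hb' : Set.range (Spec.map (CommRingCat.ofHom (algebraMap A (Localization.Away s))) ≫ b) ⊆
      V := by
    rintro _ ⟨z, rfl⟩
    exact (hrange z).1
  obtain ⟨l, hl, -⟩ := H1_lift_affine_pair f hU hV hUV (H U V hU hV hUV) (Localization.Away s)
    (I.map (algebraMap A (Localization.Away s))) hK _ _ (H1_IsLift.w w) ha' hb'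
  exact ⟨l, hl⟩

theorem H1_IsLift.congr_ψ {B : Type u} [CommRing B] {ψ₁ ψ₂ : A →+* B} {J : Ideal B}
    {h₁ : I ≤ J.comap ψ₁} {l : Spec (.of B) ⟶ X} (hl : H1_IsLift f I a b ψ₁ J h₁ l)
    (e : ψ₁ = ψ₂) : H1_IsLift f I a b ψ₂ J (e ▸ h₁) l := by
  subst e
  exact hl

theorem H1_isLift_id_iff (h : I ≤ I.comap (RingHom.id A)) (l : Spec (.of A) ⟶ X) :
    H1_IsLift f I a b (RingHom.id A) I h l ↔
      H1_thk A I ≫ l = a ∧ l ≫ f = b := by
  have e1 : Ideal.quotientMap I (RingHom.id A) h = RingHom.id (A ⧸ I) := by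
    ext x
    rfl
  unfold H1_IsLift
  rw [e1]
  simp

/-- The ring map `A → (A/I)_{s̄}`. -/
noncomputable def H1_theta0 (I : Ideal A) (s : A) :
    Localization.Away s →+* Localization.Away (Ideal.Quotient.mk I s) :=
  IsLocalization.Away.lift (S := Localization.Away s) s
    (g := (algebraMap (A ⧸ I) (Localization.Away (Ideal.Quotient.mk I s))).comp
      (Ideal.Quotient.mk I))
    (show IsUnit (((algebraMap (A ⧸ I) (Localization.Away (Ideal.Quotient.mk I s))).comp
      (Ideal.Quotient.mk I)) s) from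
      IsLocalization.Away.algebraMap_isUnit (Ideal.Quotient.mk I s))

theorem H1_theta0_algebraMap (I : Ideal A) (s : A) (x : A) :
    H1_theta0 I s (algebraMap A (Localization.Away s) x) =
      algebraMap (A ⧸ I) (Localization.Away (Ideal.Quotient.mk I s)) (Ideal.Quotient.mk I x) := by
  unfold H1_theta0
  rw [IsLocalization.Away.lift_eq]
  rfl

/-- The ring map `A_s / I A_s → (A/I)_{s̄}`. -/
noncomputable def H1_theta (I : Ideal A) (s : A) :
    (Localization.Away s ⧸ I.map (algebraMap A (Localization.Away s))) →+*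
      Localization.Away (Ideal.Quotient.mk I s) :=
  Ideal.Quotient.lift _ (H1_theta0 I s)
    (by
      intro z hz
      have hle : I.map (algebraMap A (Localization.Away s)) ≤ RingHom.ker (H1_theta0 I s) := by
        rw [Ideal.map_le_iff_le_comap]
        intro i hi
        rw [Ideal.mem_comap, RingHom.mem_ker, H1_theta0_algebraMap,
          Ideal.Quotient.eq_zero_iff_mem.mpr hi, map_zero]
      exact RingHom.mem_ker.mp (hle hz))

theorem H1_theta_comp (I : Ideal A) (s : A) :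
    (H1_theta I s).comp (Ideal.quotientMap _ (algebraMap A (Localization.Away s))
      Ideal.le_comap_map) = algebraMap (A ⧸ I) (Localization.Away (Ideal.Quotient.mk I s)) := by
  ext x
  change H1_theta I s (Ideal.Quotient.mk _ (algebraMap A (Localization.Away s) x)) = _
  rw [H1_theta, Ideal.Quotient.lift_mk, H1_theta0_algebraMap]
  rfl

end

end Groth.Agent.H1
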