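import Mathlib
import Groth.Agent.Lib.helper1.FEtHom2

/-!
Gluing local lifts: affine-locally formally étale morphisms are formally étale.
-/

namespace Groth.Agent.H1

open AlgebraicGeometry CategoryTheory Limits TensorProduct

universe u

theorem H1_formallyEtaleHom_of_affFEt {X Y : Scheme.{u}} {f : X ⟶ Y} (H : H1_AffFEt f) :
    MoreMor.IsFormallyEtaleHom f := by
  intro A _ I hI a b w
  change H1_thk A I ≫ b = a ≫ f at w
  choose s hs l hl using H1_exists_local_lift H hI w
  have hspan := H1_span_eq_top_of_forall s hs
  let 𝒰 := Scheme.affineOpenCoverOfSpanRangeEqTop (R := .of A) s hspan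
  have hcompat : ∀ x y : PrimeSpectrum A,
      pullback.fst (𝒰.openCover.f x) (𝒰.openCover.f y) ≫ l x = pullback.snd _ _ ≫ l y := by
    intro x y
    change pullback.fst (Spec.map (CommRingCat.ofHom (algebraMap A (Localization.Away (s x)))))
      (Spec.map (CommRingCat.ofHom (algebraMap A (Localization.Away (s y))))) ≫ l x =
      pullback.snd _ _ ≫ l y
    rw [← cancel_epi (pullbackSpecIso A (Localization.Away (s x)) (Localization.Away (s y))).inv,
      pullbackSpecIso_inv_fst_assoc, pullbackSpecIso_inv_snd_assoc]
    let C := Localization.Away (s x) ⊗[A] Localization.Away (s y)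
    let K : Ideal C := I.map (algebraMap A C)
    have hK : K ^ 2 = ⊥ := by
      rw [← Ideal.map_pow, hI, Ideal.map_bot]
    have e1 : (Algebra.TensorProduct.includeLeftRingHom :
        Localization.Away (s x) →+* C).comp (algebraMap A (Localization.Away (s x))) =
        algebraMap A C := by
      ext r
      exact (Algebra.TensorProduct.includeLeft (R := A) (S := A) (A := Localization.Away (s x))
        (B := Localization.Away (s y))).commutes r
    have e2 : (RingHomClass.toRingHom (Algebra.TensorProduct.includeRight (R := A)
        (A := Localization.Away (s x)) (B := Localization.Away (s y)))).comp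
        (algebraMap A (Localization.Away (s y))) = algebraMap A C := by
      ext r
      exact (Algebra.TensorProduct.includeRight (R := A) (A := Localization.Away (s x))
        (B := Localization.Away (s y))).commutes r
    have hJK1 : I.map (algebraMap A (Localization.Away (s x))) ≤
        K.comap (Algebra.TensorProduct.includeLeftRingHom : Localization.Away (s x) →+* C) := by
      rw [Ideal.map_le_iff_le_comap, Ideal.comap_comap, e1]
      exact Ideal.le_comap_map
    have hJK2 : I.map (algebraMap A (Localization.Away (s y))) ≤
        K.comap (RingHomClass.toRingHom (Algebra.TensorProduct.includeRight (R := A)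
        (A := Localization.Away (s x)) (B := Localization.Away (s y)))) := by
      rw [Ideal.map_le_iff_le_comap, Ideal.comap_comap, e2]
      exact Ideal.le_comap_map
    have h1 := ((hl x).comp _ K hJK1).congr_ψ e1
    have h2 := ((hl y).comp _ K hJK2).congr_ψ e2
    exact H1_IsLift.unique H hK h1 h2
  let L : Spec (.of A) ⟶ X := 𝒰.openCover.glueMorphisms l hcompat
  have hL : ∀ x, Spec.map (CommRingCat.ofHom (algebraMap A (Localization.Away (s x)))) ≫ L = l x :=
    fun x => 𝒰.openCover.ι_glueMorphisms l hcompat x
  have hLf : L ≫ f = b := by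
    apply 𝒰.openCover.hom_ext
    intro x
    change Spec.map (CommRingCat.ofHom (algebraMap A (Localization.Away (s x)))) ≫ L ≫ f =
      Spec.map _ ≫ b
    rw [← Category.assoc, hL x, (hl x).2]
  have hLa : H1_thk A I ≫ L = a := by
    have hspan0 : Ideal.span (Set.range (fun x => Ideal.Quotient.mk I (s x))) = ⊤ := by
      have : Set.range (fun x => Ideal.Quotient.mk I (s x)) =
          Ideal.Quotient.mk I '' Set.range s := by
        rw [← Set.range_comp]; rfl
      rw [this, ← Ideal.map_span, hspan, Ideal.map_top]
    let 𝒰₀ := Scheme.affineOpenCoverOfSpanRangeEqTop (R := .of (A ⧸ I))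
      (fun x => Ideal.Quotient.mk I (s x)) hspan0
    apply 𝒰₀.openCover.hom_ext
    intro x
    change Spec.map (CommRingCat.ofHom (algebraMap (A ⧸ I)
      (Localization.Away (Ideal.Quotient.mk I (s x))))) ≫ H1_thk A I ≫ L = Spec.map _ ≫ a
    rw [← H1_theta_comp I (s x), CommRingCat.ofHom_comp, Spec.map_comp, Category.assoc,
      Category.assoc]
    congr 1
    rw [← Category.assoc, ← H1_thk_square, Category.assoc, hL x, (hl x).1]
  have hid : I ≤ I.comap (RingHom.id A) := fun x hx => hx
  refine ⟨L, ⟨hLa, hLf⟩, ?_⟩
  intro l' hl'
  exact H1_IsLift.unique H hI ((H1_isLift_id_iff hid l').mpr hl')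
    ((H1_isLift_id_iff hid L).mpr ⟨hLa, hLf⟩)

end Groth.Agent.H1
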