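import Mathlib
import Groth.Agent.Lib.helper1.FEtHom3

/-!
Formally étale morphisms lift uniquely along arbitrary first order thickenings of schemes.
-/

namespace Groth.Agent.H1

open AlgebraicGeometry CategoryTheory Limits

universe u

theorem H1_lift_surj {X Y : Scheme.{u}} {f : X ⟶ Y} (hf : MoreMor.IsFormallyEtaleHom f)
    {A B : CommRingCat.{u}} (φ : A ⟶ B) (hφ : Function.Surjective φ.hom)
    (hker : (RingHom.ker φ.hom) ^ 2 = ⊥) (a : Spec B ⟶ X) (b : Spec A ⟶ Y)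
    (w : Spec.map φ ≫ b = a ≫ f) : ∃! l : Spec A ⟶ X, Spec.map φ ≫ l = a ∧ l ≫ f = b := by
  let e : (A ⧸ RingHom.ker φ.hom) ≃+* B := RingHom.quotientKerEquivOfSurjective hφ
  let ε : CommRingCat.of (A ⧸ RingHom.ker φ.hom) ≅ B := e.toCommRingCatIso
  have hε : CommRingCat.ofHom (Ideal.Quotient.mk (RingHom.ker φ.hom)) ≫ ε.hom = φ := by
    ext x; rfl
  have hS : Spec.map φ = Spec.map ε.hom ≫ H1_thk A (RingHom.ker φ.hom) := by
    rw [← Spec.map_comp]
    exact congrArg Spec.map hε.symm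
  have hinv : Spec.map ε.inv ≫ Spec.map ε.hom = 𝟙 _ := by
    rw [← Spec.map_comp, ε.hom_inv_id, Spec.map_id]
  have hinv' : Spec.map ε.hom ≫ Spec.map ε.inv = 𝟙 _ := by
    rw [← Spec.map_comp, ε.inv_hom_id, Spec.map_id]
  have w' : H1_thk A (RingHom.ker φ.hom) ≫ b = (Spec.map ε.inv ≫ a) ≫ f := by
    rw [Category.assoc, ← w, hS, Category.assoc, ← Category.assoc (Spec.map ε.inv), hinv,
      Category.id_comp]
  obtain ⟨l, ⟨h1, h2⟩, h3⟩ := hf A (RingHom.ker φ.hom) hker (Spec.map ε.inv ≫ a) b w'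
  refine ⟨l, ⟨?_, h2⟩, ?_⟩
  · rw [hS, Category.assoc]
    change Spec.map ε.hom ≫ H1_thk A (RingHom.ker φ.hom) ≫ l = a
    rw [h1, ← Category.assoc, hinv', Category.id_comp]
  · rintro l' ⟨h1', h2'⟩
    apply h3
    refine ⟨?_, h2'⟩
    change H1_thk A (RingHom.ker φ.hom) ≫ l' = _
    rw [← h1', hS, Category.assoc, ← Category.assoc (Spec.map ε.inv), hinv, Category.id_comp]

theorem H1_lift_thickening {X S : Scheme.{u}} (f : X ⟶ S) (hf : MoreMor.IsFormallyEtaleHom f)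
    {T T' : Scheme.{u}} (t : T ⟶ T') [IsClosedImmersion t] (hker : t.ker * t.ker = ⊥)
    (a : T ⟶ X) (b : T' ⟶ S) (w : t ≫ b = a ≫ f) :
    ∃! l : T' ⟶ X, t ≫ l = a ∧ l ≫ f = b := by
  have hpre : ∀ W : T'.affineOpens, IsAffineOpen (t ⁻¹ᵁ W.1) := fun W => W.2.preimage t
  have F2 : ∀ W : T'.affineOpens,
      Spec.map (t.app W.1) ≫ W.2.fromSpec = (hpre W).fromSpec ≫ t := by
    intro W
    rw [Scheme.Hom.app_eq_appLE]
    exact W.2.SpecMap_appLE_fromSpec t (hpre W) le_rfl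
  have F6 : ∀ W : T'.affineOpens, (RingHom.ker (t.app W.1).hom) ^ 2 = ⊥ := by
    intro W
    have h1 : t.ker.ideal W = RingHom.ker (t.app W.1).hom := Scheme.Hom.ker_apply t W
    have h2 : (t.ker * t.ker).ideal W = t.ker.ideal W * t.ker.ideal W := rfl
    rw [hker] at h2
    rw [sq, ← h1, ← h2]
    rfl
  have wW : ∀ W : T'.affineOpens, Spec.map (t.app W.1) ≫ (W.2.fromSpec ≫ b) =
      ((hpre W).fromSpec ≫ a) ≫ f := by
    intro W
    rw [← Category.assoc, F2, Category.assoc, w, Category.assoc]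
  have key := fun W : T'.affineOpens =>
    H1_lift_surj hf (t.app W.1) (t.app_surjective W.1 W.2) (F6 W) _ _ (wW W)
  let l : ∀ W : T'.affineOpens, Spec Γ(T', W.1) ⟶ X := fun W => (key W).exists.choose
  have hl : ∀ W : T'.affineOpens, Spec.map (t.app W.1) ≫ l W = (hpre W).fromSpec ≫ a ∧
      l W ≫ f = W.2.fromSpec ≫ b := fun W => (key W).exists.choose_spec
  have compat : ∀ {W W' : T'.affineOpens} (h : W ≤ W'),
      Spec.map (T'.presheaf.map (homOfLE h).op) ≫ l W' = l W := by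
    intro W W' h
    apply (key W).unique _ (hl W)
    constructor
    · rw [← Category.assoc, ← Spec.map_comp, t.naturality, Spec.map_comp, Category.assoc,
        (hl W').1, ← Category.assoc, IsAffineOpen.map_fromSpec]
    · rw [Category.assoc, (hl W').2, ← Category.assoc, IsAffineOpen.map_fromSpec]
  let 𝒰 := T'.directedAffineCover
  let Lc : ∀ W : T'.affineOpens, (W.1 : Scheme) ⟶ X := fun W => W.2.isoSpec.hom ≫ l W
  have F3 : ∀ {W W' : T'.affineOpens} (h : W ≤ W'), T'.homOfLE h ≫ W'.2.isoSpec.hom =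
      W.2.isoSpec.hom ≫ Spec.map (T'.presheaf.map (homOfLE h).op) := by
    intro W W' h
    rw [← cancel_mono W'.2.fromSpec, Category.assoc, Category.assoc,
      IsAffineOpen.isoSpec_hom_fromSpec, Scheme.homOfLE_ι, W'.2.map_fromSpec W.2 (homOfLE h).op,
      IsAffineOpen.isoSpec_hom_fromSpec]
  have hLc : ∀ {i j : 𝒰.I₀} (hij : i ⟶ j), 𝒰.trans hij ≫ Lc j = Lc i := by
    intro i j hij
    change T'.homOfLE (leOfHom hij) ≫ _ = _
    simp only [Lc]
    rw [← Category.assoc, F3, Category.assoc, compat]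
  let L : T' ⟶ X := 𝒰.glueMorphismsOfLocallyDirected Lc hLc
  have hL : ∀ W : T'.affineOpens, W.1.ι ≫ L = Lc W :=
    fun W => 𝒰.map_glueMorphismsOfLocallyDirected Lc hLc W
  have hL' : ∀ W : T'.affineOpens, W.2.fromSpec ≫ L = l W := by
    intro W
    rw [← IsAffineOpen.isoSpec_inv_ι, Category.assoc, hL W]
    simp only [Lc]
    rw [Iso.inv_hom_id_assoc]
  have hLf : L ≫ f = b := by
    apply 𝒰.hom_ext
    intro W
    change W.1.ι ≫ L ≫ f = W.1.ι ≫ b
    rw [← W.2.isoSpec_hom_fromSpec, Category.assoc, Category.assoc,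
      ← Category.assoc W.2.fromSpec, hL' W, (hl W).2]
  have hLa : t ≫ L = a := by
    have hcov : TopologicalSpace.IsOpenCover (fun W : T'.affineOpens => t ⁻¹ᵁ W.1) :=
      t.iSup_preimage_eq_top (iSup_affineOpens_eq_top T')
    apply (Scheme.openCoverOfIsOpenCover _ _ hcov).hom_ext
    intro W
    change (t ⁻¹ᵁ W.1).ι ≫ t ≫ L = (t ⁻¹ᵁ W.1).ι ≫ a
    rw [← (hpre W).isoSpec_hom_fromSpec, Category.assoc, Category.assoc,
      ← Category.assoc (hpre W).fromSpec, ← F2 W, Category.assoc, hL' W, (hl W).1]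
  refine ⟨L, ⟨hLa, hLf⟩, ?_⟩
  rintro l' ⟨h1, h2⟩
  apply 𝒰.hom_ext
  intro W
  change W.1.ι ≫ l' = W.1.ι ≫ L
  rw [← W.2.isoSpec_hom_fromSpec, Category.assoc, Category.assoc, hL' W]
  congr 1
  apply (key W).unique _ (hl W)
  constructor
  · rw [← Category.assoc, F2 W, Category.assoc, h1]
  · rw [Category.assoc, h2]

end Groth.Agent.H1
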