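import Mathlib
import Groth.Agent.Lib.helper1.FEtHom

/-!
Restricting infinitesimal lifts to open subschemes.
-/

namespace Groth.Agent.H1

open AlgebraicGeometry CategoryTheory Limits

universe u

theorem H1_lift_resLE {X S : Scheme.{u}} (f : X ⟶ S) (U : X.Opens) (V : S.Opens)
    (h : U ≤ f ⁻¹ᵁ V) {A : Type u} [CommRing A] (I : Ideal A) (hI : I ^ 2 = ⊥)
    (a : Spec (.of (A ⧸ I)) ⟶ (U : Scheme.{u})) (b : Spec (.of A) ⟶ (V : Scheme.{u}))
    (l' : Spec (.of A) ⟶ X) (h1 : H1_thk A I ≫ l' = a ≫ U.ι) (h2 : l' ≫ f = b ≫ V.ι) :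
    ∃ l : Spec (.of A) ⟶ (U : Scheme.{u}), l ≫ U.ι = l' ∧ H1_thk A I ≫ l = a ∧
      l ≫ f.resLE V U h = b := by
  have hr : Set.range l' ⊆ Set.range U.ι := by
    rintro _ ⟨x, rfl⟩
    obtain ⟨y, rfl⟩ := H1_thk_surjective A I hI x
    have e : l' (H1_thk A I y) = (H1_thk A I ≫ l') y := rfl
    rw [e, h1]
    exact ⟨a y, rfl⟩
  refine ⟨IsOpenImmersion.lift U.ι l' hr, IsOpenImmersion.lift_fac _ _ _, ?_, ?_⟩
  · rw [← cancel_mono U.ι, Category.assoc, IsOpenImmersion.lift_fac, h1]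
  · rw [← cancel_mono V.ι, Category.assoc, Scheme.Hom.resLE_comp_ι, ← Category.assoc,
      IsOpenImmersion.lift_fac, h2]

end Groth.Agent.H1
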