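import Mathlib
import Groth.Prelude.Def_FibCat2

set_option autoImplicit false

/-! Basic lemmas on categories fibred in groupoids / sets (helper1). -/

universe v₁ u₁ v₂ u₂ v₃ u₃

open CategoryTheory

namespace Groth.Agent.H1.FC

variable {C : Type u₁} [Category.{v₁} C] {𝒳 : Type u₂} [Category.{v₂} 𝒳]

/-- For `f` between the images, lifting is equality with `p.map`. -/
theorem H1_isHomLift_iff (p : 𝒳 ⥤ C) {a b : 𝒳} (f : p.obj a ⟶ p.obj b) (φ : a ⟶ b) :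
    p.IsHomLift f φ ↔ p.map φ = f := by
  constructor
  · intro h; exact (IsHomLift.eq_of_isHomLift p f φ).symm
  · rintro rfl; infer_instance

/-- Composition of lifts through a composite functor. -/
theorem H1_isHomLift_comp {𝒴 : Type u₃} [Category.{v₃} 𝒴] (F : 𝒴 ⥤ 𝒳) (p : 𝒳 ⥤ C)
    {R S : C} (f : R ⟶ S) {a b : 𝒳} (ψ : a ⟶ b) {a' b' : 𝒴} (φ : a' ⟶ b')
    [hψ : p.IsHomLift f ψ] [hφ : F.IsHomLift ψ φ] : (F ⋙ p).IsHomLift f φ := by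
  subst_hom_lift F ψ φ
  subst_hom_lift p f (F.map φ)
  exact inferInstanceAs ((F ⋙ p).IsHomLift ((F ⋙ p).map φ) φ)

/-- the strongly cartesian composite statement (S6414) as a lemma. -/
theorem H1_isStronglyCartesian_comp {𝒜 : Type u₁} [Category.{v₁} 𝒜] {ℬ : Type u₂} [Category.{v₂} ℬ]
    {𝒞 : Type u₃} [Category.{v₃} 𝒞] (F : 𝒜 ⥤ ℬ) (G : ℬ ⥤ 𝒞) {x y : 𝒜} (φ : x ⟶ y)
    [F.IsStronglyCartesian (F.map φ) φ] [G.IsStronglyCartesian (G.map (F.map φ)) (F.map φ)] :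
    (F ⋙ G).IsStronglyCartesian ((F ⋙ G).map φ) φ := by
  refine { toIsHomLift := inferInstance, universal_property' := ?_ }
  intro a' g φ' hφ'
  have e1 : g ≫ G.map (F.map φ) = G.map (F.map φ') :=
    IsHomLift.eq_of_isHomLift (F ⋙ G) (g ≫ (F ⋙ G).map φ) φ'
  have h1 : G.IsHomLift (g ≫ G.map (F.map φ)) (F.map φ') := by
    rw [e1]; infer_instance
  let χ₁ : F.obj a' ⟶ F.obj x :=
    Functor.IsStronglyCartesian.map G (G.map (F.map φ)) (F.map φ) (g := g) rfl (F.map φ')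
  have hχ₁ : G.IsHomLift g χ₁ := inferInstance
  have hχ₁f : χ₁ ≫ F.map φ = F.map φ' := Functor.IsStronglyCartesian.fac _ _ _ _ _
  have h2 : F.IsHomLift (χ₁ ≫ F.map φ) φ' := by
    rw [hχ₁f]; infer_instance
  let χ : a' ⟶ x := Functor.IsStronglyCartesian.map F (F.map φ) φ (g := χ₁) rfl φ'
  have hχ : F.IsHomLift χ₁ χ := inferInstance
  have hχf : χ ≫ φ = φ' := Functor.IsStronglyCartesian.fac _ _ _ _ _
  have eχ : F.map χ = χ₁ := (IsHomLift.eq_of_isHomLift F χ₁ χ).symm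
  have eg : G.map χ₁ = g := (IsHomLift.eq_of_isHomLift G g χ₁).symm
  refine ⟨χ, ⟨?_, hχf⟩, ?_⟩
  · have : (F ⋙ G).map χ = g := by rw [Functor.comp_map, eχ, eg]
    rw [← this]; infer_instance
  · rintro ψ ⟨hψ, hψf⟩
    have eψ : g = G.map (F.map ψ) := IsHomLift.eq_of_isHomLift (F ⋙ G) g ψ
    have h3 : G.IsHomLift g (F.map ψ) := by rw [eψ]; infer_instance
    have e3 : F.map ψ = χ₁ := by
      apply Functor.IsStronglyCartesian.map_uniq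
      rw [← F.map_comp, hψf]
    have h4 : F.IsHomLift χ₁ ψ := by rw [← e3]; infer_instance
    exact Functor.IsStronglyCartesian.map_uniq F (F.map φ) φ (g := χ₁) rfl φ' ψ hψf

/-- The unique lifting property characterising categories fibred in sets. -/
def UL (p : 𝒳 ⥤ C) : Prop :=
  ∀ (η : 𝒳) (U : C) (f : U ⟶ p.obj η), ∃! φ : (Σ ξ : 𝒳, (ξ ⟶ η)), p.IsHomLift f φ.2

/-- Under `UL`, two lifts of the same morphism with the same target coincide. -/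
theorem H1_UL_eq {p : 𝒳 ⥤ C} (h : UL p) {a b η : 𝒳} (φ : a ⟶ η) (ψ : b ⟶ η) {R S : C} (f : R ⟶ S)
    [hφ : p.IsHomLift f φ] [hψ : p.IsHomLift f ψ] : ∃ e : a = b, φ = eqToHom e ≫ ψ := by
  have hS : S = p.obj η := (IsHomLift.codomain_eq p f φ).symm
  obtain ⟨x, -, hx⟩ := h η R (f ≫ eqToHom hS)
  have h1 := hx ⟨a, φ⟩ (inferInstance : p.IsHomLift (f ≫ eqToHom hS) φ)
  have h2 := hx ⟨b, ψ⟩ (inferInstance : p.IsHomLift (f ≫ eqToHom hS) ψ)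
  have h3 : (⟨a, φ⟩ : Σ ξ : 𝒳, (ξ ⟶ η)) = ⟨b, ψ⟩ := h1.trans h2.symm
  obtain ⟨e, he⟩ := Sigma.mk.inj_iff.1 h3
  subst e
  exact ⟨rfl, by simpa using eq_of_heq he⟩

theorem H1_UL_hom_eq {p : 𝒳 ⥤ C} (h : UL p) {a η : 𝒳} (φ ψ : a ⟶ η) {R S : C} (f : R ⟶ S)
    [hφ : p.IsHomLift f φ] [hψ : p.IsHomLift f ψ] : φ = ψ := by
  obtain ⟨e, he⟩ := H1_UL_eq h φ ψ f
  simpa using he

theorem H1_UL_exists {p : 𝒳 ⥤ C} (h : UL p) (η : 𝒳) {U : C} (f : U ⟶ p.obj η) :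
    ∃ (ξ : 𝒳) (φ : ξ ⟶ η), p.IsHomLift f φ := by
  obtain ⟨x, hx, -⟩ := h η U f
  exact ⟨x.1, x.2, hx⟩

/-- `UL` implies fibred in groupoids. -/
theorem H1_isFibGrpd_of_UL {p : 𝒳 ⥤ C} (h : UL p) : FibCat.IsFibGrpd p := by
  refine ⟨fun {x V} f => H1_UL_exists h x f, ?_⟩
  intro y x φ
  refine { toIsHomLift := inferInstance, universal_property' := ?_ }
  intro a' g φ' hφ'
  obtain ⟨a'', χ, hχ⟩ := H1_UL_exists h y g
  have hχφ : p.IsHomLift (g ≫ p.map φ) (χ ≫ φ) := inferInstance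
  obtain ⟨e, he⟩ := H1_UL_eq h φ' (χ ≫ φ) (g ≫ p.map φ)
  subst e
  refine ⟨χ, ⟨hχ, by simpa using he.symm⟩, ?_⟩
  rintro ψ ⟨hψ, -⟩
  exact H1_UL_hom_eq h ψ χ g

/-- `UL` implies fibred in sets. -/
theorem H1_isFibSet_of_UL {p : 𝒳 ⥤ C} (h : UL p) : FibCat.IsFibSet p := by
  refine ⟨H1_isFibGrpd_of_UL h, fun U => ?_⟩
  have key : ∀ {a b : p.Fiber U} (ψ : a ⟶ b), ∃ e : a = b, ψ = eqToHom e := by
    intro a b ψ
    have h1 : p.IsHomLift (𝟙 U) ψ.1 := ψ.2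
    have h2 : p.IsHomLift (𝟙 U) (𝟙 b.1) := IsHomLift.id b.2
    obtain ⟨e, he⟩ := H1_UL_eq h ψ.1 (𝟙 b.1) (𝟙 U)
    have e' : a = b := Subtype.ext e
    subst e'
    refine ⟨rfl, ?_⟩
    apply Functor.Fiber.hom_ext
    rw [eqToHom_refl, CategoryTheory.Functor.map_id]
    have he' : ψ.1 = 𝟙 a.1 := by simpa using he
    exact he'
  refine { subsingleton := fun a b => ⟨fun f g => ?_⟩, eq_of_hom := fun f => (key f).1 }
  obtain ⟨e, rfl⟩ := key f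
  obtain ⟨e', rfl⟩ := key g
  rfl

/-- fibred in sets implies `UL`. -/
theorem H1_UL_of_isFibSet {p : 𝒳 ⥤ C} (h : FibCat.IsFibSet p) : UL p := by
  obtain ⟨hg, hd⟩ := h
  intro η U f
  obtain ⟨ξ, φ, hφ⟩ := hg.exists_lift f
  refine ⟨⟨ξ, φ⟩, hφ, ?_⟩
  rintro ⟨ξ', φ'⟩ hφ'
  change p.IsHomLift f φ' at hφ'
  have := hg.isStronglyCartesian φ
  have hU : p.obj ξ = U := IsHomLift.domain_eq p f φ
  have hU' : p.obj ξ' = U := IsHomLift.domain_eq p f φ'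
  have hfac : f = eqToHom hU.symm ≫ p.map φ := by
    have := IsHomLift.fac p f φ
    simpa using this
  have h1 : p.IsHomLift (eqToHom hU.symm ≫ p.map φ) φ' := by rw [← hfac]; exact hφ'
  obtain ⟨χ, ⟨hχ, hχφ⟩, -⟩ := Functor.IsStronglyCartesian.universal_property p (p.map φ) φ
    (eqToHom hU.symm) (eqToHom hU.symm ≫ p.map φ) rfl φ'
  -- χ is a morphism in the fibre over U
  have hχ' : p.IsHomLift (𝟙 U) χ := by
    have : p.IsHomLift (eqToHom hU.symm ≫ eqToHom hU) χ := inferInstance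
    simpa using this
  let a : p.Fiber U := ⟨ξ', hU'⟩
  let b : p.Fiber U := ⟨ξ, hU⟩
  let ψ : a ⟶ b := ⟨χ, hχ'⟩
  have := hd U
  have hab : a = b := IsDiscrete.eq_of_hom ψ
  have hξ : ξ' = ξ := congrArg Subtype.val hab
  subst hξ
  have hψ : ψ = 𝟙 a := Subsingleton.elim _ _
  have hχ1 : χ = 𝟙 ξ' := congrArg Subtype.val hψ
  rw [hχ1, Category.id_comp] at hχφ
  rw [hχφ]

theorem H1_isFibSet_iff_UL (p : 𝒳 ⥤ C) : FibCat.IsFibSet p ↔ UL p :=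
  ⟨H1_UL_of_isFibSet, H1_isFibSet_of_UL⟩

end Groth.Agent.H1.FC
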