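import Mathlib
import Groth.Agent.Lib.helper1.FibCatBasic

set_option autoImplicit false

/-! Discrete fibrations (`UL`) and composition (helper1). -/

universe v₁ u₁ v₂ u₂ v₃ u₃

open CategoryTheory

namespace Groth.Agent.H1.FC

variable {C : Type u₁} [Category.{v₁} C] {𝒢 : Type u₂} [Category.{v₂} 𝒢]
  {ℱ : Type u₃} [Category.{v₃} ℱ]

theorem H1_isHomLift_comp_iff (F : ℱ ⥤ 𝒢) (G : 𝒢 ⥤ C) {R S : C} (f : R ⟶ S) {a b : ℱ} (φ : a ⟶ b) :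
    (F ⋙ G).IsHomLift f φ ↔ G.IsHomLift f (F.map φ) := by
  constructor
  · intro h
    subst_hom_lift (F ⋙ G) f φ
    exact inferInstanceAs (G.IsHomLift (G.map (F.map φ)) (F.map φ))
  · intro h
    exact H1_isHomLift_comp F G f (F.map φ) φ

theorem H1_UL_mk {𝒳 : Type u₂} [Category.{v₂} 𝒳] {p : 𝒳 ⥤ C}
    (hex : ∀ (η : 𝒳) (U : C) (f : U ⟶ p.obj η), ∃ (ξ : 𝒳) (φ : ξ ⟶ η), p.IsHomLift f φ)
    (huniq : ∀ {a b η : 𝒳} (φ : a ⟶ η) (ψ : b ⟶ η) {U : C} (f : U ⟶ p.obj η),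
      p.IsHomLift f φ → p.IsHomLift f ψ → ∃ e : a = b, φ = eqToHom e ≫ ψ) : UL p := by
  intro η U f
  obtain ⟨ξ, φ, hφ⟩ := hex η U f
  refine ⟨⟨ξ, φ⟩, hφ, ?_⟩
  rintro ⟨ξ', φ'⟩ hφ'
  obtain ⟨e, he⟩ := huniq φ' φ f hφ' hφ
  subst e
  simp only [eqToHom_refl, Category.id_comp] at he
  rw [he]

/-- Transfer of lifts along a discrete fibration `G`. -/
theorem H1_UL_lift_transfer {F : ℱ ⥤ 𝒢} {G : 𝒢 ⥤ C} (hG : UL G) {a b : ℱ} (φ : a ⟶ b) {V : 𝒢}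
    (g : V ⟶ F.obj b) {R S : C} (f : R ⟶ S) [hg : G.IsHomLift f g] [hφ : (F ⋙ G).IsHomLift f φ] :
    F.IsHomLift g φ := by
  have h1 : G.IsHomLift f (F.map φ) := (H1_isHomLift_comp_iff F G f φ).1 hφ
  obtain ⟨e, he⟩ := H1_UL_eq hG (F.map φ) g f
  exact IsHomLift.of_fac' F g φ e rfl (by simpa using he)

theorem H1_UL_comp {F : ℱ ⥤ 𝒢} {G : 𝒢 ⥤ C} (hF : UL F) (hG : UL G) : UL (F ⋙ G) := by
  refine H1_UL_mk ?_ ?_
  · intro η U f
    obtain ⟨V, g, hg⟩ := H1_UL_exists hG (F.obj η) f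
    obtain ⟨ξ, φ, hφ⟩ := H1_UL_exists hF η g
    exact ⟨ξ, φ, H1_isHomLift_comp F G f g φ⟩
  · intro a b η φ ψ U f hφ hψ
    obtain ⟨V, g, hg⟩ := H1_UL_exists hG (F.obj η) f
    have h1 : F.IsHomLift g φ := H1_UL_lift_transfer hG φ g f
    have h2 : F.IsHomLift g ψ := H1_UL_lift_transfer hG ψ g f
    exact H1_UL_eq hF φ ψ g

theorem H1_UL_of_comp {F : ℱ ⥤ 𝒢} {G : 𝒢 ⥤ C} (hG : UL G) (hFG : UL (F ⋙ G)) : UL F := by
  refine H1_UL_mk ?_ ?_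
  · intro η V g
    obtain ⟨ξ, φ, hφ⟩ := H1_UL_exists hFG η (G.map g)
    exact ⟨ξ, φ, H1_UL_lift_transfer hG φ g (G.map g)⟩
  · intro a b η φ ψ V g hφ hψ
    have h1 : (F ⋙ G).IsHomLift (G.map g) φ := H1_isHomLift_comp F G (G.map g) g φ
    have h2 : (F ⋙ G).IsHomLift (G.map g) ψ := H1_isHomLift_comp F G (G.map g) g ψ
    exact H1_UL_eq hFG φ ψ (G.map g)

/-- strongly cartesian for the composite implies strongly cartesian for `F`, when `G` is a discrete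
fibration. -/
theorem H1_isStronglyCartesian_of_comp {F : ℱ ⥤ 𝒢} {G : 𝒢 ⥤ C} (hG : UL G) {y x : ℱ} (φ : y ⟶ x)
    [h : (F ⋙ G).IsStronglyCartesian ((F ⋙ G).map φ) φ] : F.IsStronglyCartesian (F.map φ) φ := by
  refine { toIsHomLift := inferInstance, universal_property' := ?_ }
  intro a' g φ' hφ'
  have h0 : G.IsHomLift (G.map g ≫ G.map (F.map φ)) (g ≫ F.map φ) := by
    rw [← G.map_comp]; infer_instance
  have h1 : (F ⋙ G).IsHomLift (G.map g ≫ (F ⋙ G).map φ) φ' :=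
    H1_isHomLift_comp F G (G.map g ≫ G.map (F.map φ)) (g ≫ F.map φ) φ'
  obtain ⟨χ, ⟨hχ, hχφ⟩, huniq⟩ := Functor.IsStronglyCartesian.universal_property (F ⋙ G)
    ((F ⋙ G).map φ) φ (G.map g) (G.map g ≫ (F ⋙ G).map φ) rfl φ'
  refine ⟨χ, ⟨H1_UL_lift_transfer hG χ g (G.map g), hχφ⟩, ?_⟩
  rintro ψ ⟨hψ, hψφ⟩
  exact huniq ψ ⟨H1_isHomLift_comp F G (G.map g) g ψ, hψφ⟩

theorem H1_isFibGrpd_comp {F : ℱ ⥤ 𝒢} {G : 𝒢 ⥤ C} (hF : FibCat.IsFibGrpd F) (hG : FibCat.IsFibGrpd G) :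
    FibCat.IsFibGrpd (F ⋙ G) := by
  refine ⟨?_, ?_⟩
  · intro x V f
    obtain ⟨y', ψ, hψ⟩ := hG.exists_lift (x := F.obj x) f
    obtain ⟨y, φ, hφ⟩ := hF.exists_lift (x := x) ψ
    exact ⟨y, φ, H1_isHomLift_comp F G f ψ φ⟩
  · intro y x φ
    have := hF.isStronglyCartesian φ
    have := hG.isStronglyCartesian (F.map φ)
    exact H1_isStronglyCartesian_comp F G φ

theorem H1_isFibGrpd_of_comp {F : ℱ ⥤ 𝒢} {G : 𝒢 ⥤ C} (hG : UL G) (hFG : FibCat.IsFibGrpd (F ⋙ G)) :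
    FibCat.IsFibGrpd F := by
  refine ⟨?_, ?_⟩
  · intro x V g
    obtain ⟨ξ, φ, hφ⟩ := hFG.exists_lift (x := x) (G.map g)
    exact ⟨ξ, φ, H1_UL_lift_transfer hG φ g (G.map g)⟩
  · intro y x φ
    have := hFG.isStronglyCartesian φ
    exact H1_isStronglyCartesian_of_comp hG φ

/-- strong cartesianness only depends on the lifted morphism up to the `IsHomLift` relation. -/
theorem H1_isStronglyCartesian_iff {𝒳 : Type u₂} [Category.{v₂} 𝒳] (p : 𝒳 ⥤ C) {R S : C} (f : R ⟶ S)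
    {a b : 𝒳} (φ : a ⟶ b) :
    p.IsStronglyCartesian f φ ↔ p.IsHomLift f φ ∧ p.IsStronglyCartesian (p.map φ) φ := by
  constructor
  · intro h
    refine ⟨inferInstance, ?_⟩
    subst_hom_lift p f φ
    exact h
  · rintro ⟨h1, h2⟩
    subst_hom_lift p f φ
    exact h2

theorem H1_isFibered_iff {𝒳 : Type u₂} [Category.{v₂} 𝒳] (p : 𝒳 ⥤ C) :
    p.IsFibered ↔ ∀ (a : 𝒳) (R : C) (f : R ⟶ p.obj a),
      ∃ (b : 𝒳) (φ : b ⟶ a), p.IsStronglyCartesian f φ := by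
  constructor
  · intro h a R f
    obtain ⟨b, φ, hφ⟩ := CategoryTheory.IsPreFibered.exists_isCartesian p rfl f
    exact ⟨b, φ, inferInstance⟩
  · intro h
    exact CategoryTheory.Functor.IsFibered.of_exists_isStronglyCartesian h

theorem H1_isFibered_comp_iff {F : ℱ ⥤ 𝒢} {G : 𝒢 ⥤ C} (hG : UL G) :
    F.IsFibered ↔ (F ⋙ G).IsFibered := by
  have hGg : FibCat.IsFibGrpd G := H1_isFibGrpd_of_UL hG
  rw [H1_isFibered_iff, H1_isFibered_iff]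
  constructor
  · intro h a R f
    obtain ⟨V, g, hg⟩ := H1_UL_exists hG (F.obj a) f
    obtain ⟨b, φ, hφ⟩ := h a V g
    refine ⟨b, φ, ?_⟩
    have h1 : F.IsHomLift g φ := inferInstance
    rw [H1_isStronglyCartesian_iff]
    refine ⟨H1_isHomLift_comp F G f g φ, ?_⟩
    have h2 : F.IsStronglyCartesian (F.map φ) φ := ((H1_isStronglyCartesian_iff F g φ).1 hφ).2
    have h3 := hGg.isStronglyCartesian (F.map φ)
    exact H1_isStronglyCartesian_comp F G φ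
  · intro h a V g
    obtain ⟨b, φ, hφ⟩ := h a (G.obj V) (G.map g)
    refine ⟨b, φ, ?_⟩
    have h1 : (F ⋙ G).IsHomLift (G.map g) φ := inferInstance
    rw [H1_isStronglyCartesian_iff]
    refine ⟨H1_UL_lift_transfer hG φ g (G.map g), ?_⟩
    have h2 : (F ⋙ G).IsStronglyCartesian ((F ⋙ G).map φ) φ :=
      ((H1_isStronglyCartesian_iff (F ⋙ G) (G.map g) φ).1 hφ).2
    exact H1_isStronglyCartesian_of_comp hG φ

end Groth.Agent.H1.FC
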