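import Mathlib
import Groth.Agent.Lib.helper1.FibCatSet

set_option autoImplicit false

/-! Fibred in groupoids = fibred with groupoid fibres (helper1). -/

universe v₁ u₁ v₂ u₂ v₃ u₃

open CategoryTheory

namespace Groth.Agent.H1.FC

variable {C : Type u₁} [Category.{v₁} C] {𝒳 : Type u₂} [Category.{v₂} 𝒳]

theorem H1_isFibered_of_isFibGrpd {p : 𝒳 ⥤ C} (h : FibCat.IsFibGrpd p) : p.IsFibered := by
  rw [H1_isFibered_iff]
  intro a R f
  obtain ⟨b, φ, hφ⟩ := h.exists_lift f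
  refine ⟨b, φ, ?_⟩
  rw [H1_isStronglyCartesian_iff]
  exact ⟨hφ, h.isStronglyCartesian φ⟩

/-- in a category fibred in groupoids, a morphism over an isomorphism is an isomorphism. -/
theorem H1_isIso_of_isFibGrpd {p : 𝒳 ⥤ C} (h : FibCat.IsFibGrpd p) {a b : 𝒳} (φ : a ⟶ b)
    [IsIso (p.map φ)] : IsIso φ := by
  have := h.isStronglyCartesian φ
  exact Functor.IsStronglyCartesian.isIso_of_base_isIso p (p.map φ) φ

theorem H1_isIso_fiber_of_isIso {p : 𝒳 ⥤ C} {U : C} {a b : p.Fiber U} (ψ : a ⟶ b) [IsIso ψ.1] :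
    IsIso ψ := by
  have h1 : p.IsHomLift (𝟙 U) ψ.1 := ψ.2
  have h2 : p.IsHomLift (𝟙 U) (inv ψ.1) := inferInstance
  refine ⟨⟨⟨inv ψ.1, h2⟩, ?_, ?_⟩⟩
  · apply Functor.Fiber.hom_ext
    change ψ.1 ≫ inv ψ.1 = 𝟙 _
    simp
  · apply Functor.Fiber.hom_ext
    change inv ψ.1 ≫ ψ.1 = 𝟙 _
    simp

theorem H1_isGroupoid_fiber_of_isFibGrpd {p : 𝒳 ⥤ C} (h : FibCat.IsFibGrpd p) (U : C) :
    IsGroupoid (p.Fiber U) := by
  refine ⟨fun {a b} ψ => ?_⟩
  have h1 : p.IsHomLift (𝟙 U) ψ.1 := ψ.2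
  have h2 : IsIso (p.map ψ.1) := by
    rw [IsHomLift.fac' p (𝟙 U) ψ.1]
    infer_instance
  have := H1_isIso_of_isFibGrpd h ψ.1
  exact H1_isIso_fiber_of_isIso ψ

theorem H1_isFibGrpd_of_isFibered {p : 𝒳 ⥤ C} [hp : p.IsFibered]
    (hg : ∀ U : C, IsGroupoid (p.Fiber U)) : FibCat.IsFibGrpd p := by
  refine ⟨?_, ?_⟩
  · intro x V f
    obtain ⟨b, φ, hφ⟩ := CategoryTheory.IsPreFibered.exists_isCartesian p rfl f
    exact ⟨b, φ, inferInstance⟩
  · intro y x φ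
    obtain ⟨y₀, φ₀, hφ₀⟩ := CategoryTheory.IsPreFibered.exists_isCartesian p rfl (p.map φ)
    have hs : p.IsStronglyCartesian (p.map φ) φ₀ := inferInstance
    let χ : y ⟶ y₀ := Functor.IsCartesian.map p (p.map φ) φ₀ φ
    have hχ : p.IsHomLift (𝟙 (p.obj y)) χ := inferInstance
    have hχφ : χ ≫ φ₀ = φ := Functor.IsCartesian.fac p (p.map φ) φ₀ φ
    have hy₀ : p.obj y₀ = p.obj y := IsHomLift.domain_eq p (p.map φ) φ₀
    let a : p.Fiber (p.obj y) := ⟨y, rfl⟩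
    let b : p.Fiber (p.obj y) := ⟨y₀, hy₀⟩
    let ψ : a ⟶ b := ⟨χ, hχ⟩
    have := hg (p.obj y)
    have hψ : IsIso ψ := inferInstance
    have hχiso : IsIso χ := by
      have := Functor.map_isIso (Functor.Fiber.fiberInclusion (p := p) (S := p.obj y)) ψ
      exact this
    have h3 : p.IsStronglyCartesian (𝟙 (p.obj y)) χ := inferInstance
    have h4 : p.IsStronglyCartesian (𝟙 (p.obj y) ≫ p.map φ) (χ ≫ φ₀) := inferInstance
    rw [hχφ, Category.id_comp] at h4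
    exact h4

theorem H1_isFibGrpd_iff (p : 𝒳 ⥤ C) :
    FibCat.IsFibGrpd p ↔ (p.IsFibered ∧ ∀ U : C, IsGroupoid (p.Fiber U)) := by
  constructor
  · intro h
    exact ⟨H1_isFibered_of_isFibGrpd h, H1_isGroupoid_fiber_of_isFibGrpd h⟩
  · rintro ⟨h1, h2⟩
    exact H1_isFibGrpd_of_isFibered h2

end Groth.Agent.H1.FC
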