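import Mathlib
import Groth.Agent.Lib.helper1.FibCatGrpd

set_option autoImplicit false

/-! Equivalences over the base (helper1). -/

universe v₁ u₁ v₂ u₂ v₃ u₃

open CategoryTheory

namespace Groth.Agent.H1.FC

variable {C : Type u₁} [Category.{v₁} C]
  {𝒳 : BasedCategory.{v₂, u₂} C} {𝒴 : BasedCategory.{v₃, u₃} C}

theorem H1_isHomLift_id_of_eq {𝒵 : Type u₂} [Category.{v₂} 𝒵] (p : 𝒵 ⥤ C) {R S : C} (h : R = S) {a b : 𝒵}
    (φ : a ⟶ b) [hφ : p.IsHomLift (𝟙 R) φ] : p.IsHomLift (𝟙 S) φ := by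
  subst h; exact hφ

/-- An equivalence over `C` has an underlying equivalence of categories. -/
theorem H1_isEquivalence_of_isEquivOver (F : 𝒳 ⥤ᵇ 𝒴) (h : FibCat.IsEquivOver F) :
    F.toFunctor.IsEquivalence := by
  obtain ⟨G, ⟨ε⟩, ⟨η⟩⟩ := h
  let ε' : F.toFunctor ⋙ G.toFunctor ≅ 𝟭 _ := (BasedNatTrans.forgetful 𝒳 𝒳).mapIso ε
  let η' : G.toFunctor ⋙ F.toFunctor ≅ 𝟭 _ := (BasedNatTrans.forgetful 𝒴 𝒴).mapIso η
  exact (CategoryTheory.Equivalence.mk F.toFunctor G.toFunctor ε'.symm η').isEquivalence_functor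

theorem H1_essSurj_of_isEquivOver (F : 𝒳 ⥤ᵇ 𝒴) (h : FibCat.IsEquivOver F) (y : 𝒴.obj) :
    ∃ (ξ : 𝒳.obj) (e : F.toFunctor.obj ξ ≅ y), 𝒴.p.IsHomLift (𝟙 (𝒴.p.obj y)) e.hom := by
  obtain ⟨G, ⟨ε⟩, ⟨η⟩⟩ := h
  let η' : G.toFunctor ⋙ F.toFunctor ≅ 𝟭 _ := (BasedNatTrans.forgetful 𝒴 𝒴).mapIso η
  refine ⟨G.obj y, η'.app y, ?_⟩
  exact η.hom.isHomLift' y

section Construct

variable (F : 𝒳 ⥤ᵇ 𝒴) [F.toFunctor.Full] [F.toFunctor.Faithful]
  (ξ : 𝒴.obj → 𝒳.obj) (e : ∀ y, F.toFunctor.obj (ξ y) ≅ y)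

/-- the quasi-inverse functor -/
@[reducible] noncomputable def invFun : 𝒴.obj ⥤ 𝒳.obj where
  obj := ξ
  map {y y'} f := F.toFunctor.preimage ((e y).hom ≫ f ≫ (e y').inv)
  map_id y := by
    apply F.toFunctor.map_injective
    simp
  map_comp f g := by
    apply F.toFunctor.map_injective
    simp

theorem invFun_map {y y' : 𝒴.obj} (f : y ⟶ y') :
    F.toFunctor.map ((invFun F ξ e).map f) = (e y).hom ≫ f ≫ (e y').inv := by
  simp [invFun]

variable (he : ∀ y, 𝒴.p.IsHomLift (𝟙 (𝒴.p.obj y)) (e y).hom)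

include he in
theorem invFun_isHomLift {y y' : 𝒴.obj} (f : y ⟶ y') :
    𝒳.p.IsHomLift (𝒴.p.map f) ((invFun F ξ e).map f) := by
  rw [← BasedFunctor.isHomLift_iff F, invFun_map]
  have h1 := he y
  have h2 := he y'
  have h3 : 𝒴.p.IsHomLift (𝟙 (𝒴.p.obj y')) (e y').inv := inferInstance
  have h4 : 𝒴.p.IsHomLift (𝟙 (𝒴.p.obj y) ≫ 𝒴.p.map f ≫ 𝟙 (𝒴.p.obj y')) ((e y).hom ≫ f ≫ (e y').inv) :=
    inferInstance
  simpa using h4

include he in
theorem invFun_w : invFun F ξ e ⋙ 𝒳.p = 𝒴.p := by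
  have hobj : ∀ y, 𝒳.p.obj (ξ y) = 𝒴.p.obj y := fun y =>
    (F.w_obj (ξ y)).symm.trans (IsHomLift.domain_eq 𝒴.p (𝟙 (𝒴.p.obj y)) (e y).hom)
  refine CategoryTheory.Functor.ext hobj ?_
  intro y y' f
  have := invFun_isHomLift F ξ e he f
  exact IsHomLift.fac' 𝒳.p (𝒴.p.map f) ((invFun F ξ e).map f)

/-- the quasi-inverse as a based functor -/
@[reducible] noncomputable def invBased : 𝒴 ⥤ᵇ 𝒳 where
  toFunctor := invFun F ξ e
  w := invFun_w F ξ e he

include he in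
theorem H1_isEquivOver_of_data : FibCat.IsEquivOver F := by
  refine ⟨invBased F ξ e he, ⟨?_⟩, ⟨?_⟩⟩
  · refine BasedNatIso.mkNatIso
      (NatIso.ofComponents (fun x => F.toFunctor.preimageIso (e (F.obj x))) ?_) ?_
    · intro x x' f
      apply F.toFunctor.map_injective
      simp only [Functor.map_comp, Functor.preimageIso_hom, Functor.map_preimage]
      have h : F.toFunctor.map ((invFun F ξ e).map (F.toFunctor.map f)) ≫ (e (F.obj x')).hom =
          (e (F.obj x)).hom ≫ F.toFunctor.map f := by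
        rw [invFun_map]; simp
      exact h
    · intro x
      rw [← BasedFunctor.isHomLift_iff F]
      have h1 := he (F.obj x)
      have h2 : 𝒴.p.IsHomLift (𝟙 (𝒳.p.obj x)) (e (F.obj x)).hom :=
        H1_isHomLift_id_of_eq 𝒴.p (F.w_obj x) _
      have h3 : F.toFunctor.map ((NatIso.ofComponents (fun x => F.toFunctor.preimageIso (e (F.obj x)))
          (by
            intro x x' f
            apply F.toFunctor.map_injective
            simp only [Functor.map_comp, Functor.preimageIso_hom, Functor.map_preimage]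
            have h : F.toFunctor.map ((invFun F ξ e).map (F.toFunctor.map f)) ≫ (e (F.obj x')).hom =
                (e (F.obj x)).hom ≫ F.toFunctor.map f := by
              rw [invFun_map]; simp
            exact h) : (F.toFunctor ⋙ invFun F ξ e) ≅ 𝟭 _).hom.app x) = (e (F.obj x)).hom := by
        simp
      rw [← h3] at h2
      exact h2
  · refine BasedNatIso.mkNatIso (NatIso.ofComponents (fun y => e y) ?_) ?_
    · intro y y' f
      have h : F.toFunctor.map ((invFun F ξ e).map f) ≫ (e y').hom = (e y).hom ≫ f := by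
        rw [invFun_map]; simp
      exact h
    · intro y
      exact he y

end Construct

theorem H1_isEquivOver_iff (F : 𝒳 ⥤ᵇ 𝒴) :
    FibCat.IsEquivOver F ↔
      (F.toFunctor.Full ∧ F.toFunctor.Faithful) ∧
        ∀ η : 𝒴.obj, ∃ (ξ : 𝒳.obj) (e : F.toFunctor.obj ξ ≅ η), 𝒴.p.IsHomLift (𝟙 (𝒴.p.obj η)) e.hom := by
  constructor
  · intro h
    have := H1_isEquivalence_of_isEquivOver F h
    exact ⟨⟨inferInstance, inferInstance⟩, H1_essSurj_of_isEquivOver F h⟩
  · rintro ⟨⟨h1, h2⟩, h3⟩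
    choose ξ e he using h3
    exact H1_isEquivOver_of_data F ξ e he

end Groth.Agent.H1.FC
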