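import Mathlib
import Groth.Agent.Lib.helper1.FibCatEquiv

set_option autoImplicit false

/-! Cartesian morphisms and equivalences over the base (helper1). -/

universe v₁ u₁ v₂ u₂ v₃ u₃

open CategoryTheory

namespace Groth.Agent.H1.FC

variable {C : Type u₁} [Category.{v₁} C]
  {𝒳 : BasedCategory.{v₂, u₂} C} {𝒴 : BasedCategory.{v₃, u₃} C}

/-- essential surjectivity over identities -/
def EssOver (F : 𝒳 ⥤ᵇ 𝒴) : Prop :=
  ∀ η : 𝒴.obj, ∃ (ξ : 𝒳.obj) (e : F.toFunctor.obj ξ ≅ η), 𝒴.p.IsHomLift (𝟙 (𝒴.p.obj η)) e.hom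

theorem H1_isStronglyCartesian_of_map (F : 𝒳 ⥤ᵇ 𝒴) [F.toFunctor.Full] [F.toFunctor.Faithful]
    {R S : C} (f : R ⟶ S) {a b : 𝒳.obj} (φ : a ⟶ b)
    [h : 𝒴.p.IsStronglyCartesian f (F.toFunctor.map φ)] : 𝒳.p.IsStronglyCartesian f φ := by
  have h0 : 𝒳.p.IsHomLift f φ := (BasedFunctor.isHomLift_iff F f φ).1 inferInstance
  refine { toIsHomLift := h0, universal_property' := ?_ }
  intro a' g φ' hφ'
  have h1 : 𝒴.p.IsHomLift (g ≫ f) (F.toFunctor.map φ') := inferInstance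
  obtain ⟨χ', ⟨hχ', hχ'φ⟩, huniq⟩ := Functor.IsStronglyCartesian.universal_property 𝒴.p f
    (F.toFunctor.map φ) g (g ≫ f) rfl (F.toFunctor.map φ')
  refine ⟨F.toFunctor.preimage χ', ⟨?_, ?_⟩, ?_⟩
  · rw [← BasedFunctor.isHomLift_iff F]
    simpa using hχ'
  · apply F.toFunctor.map_injective
    simpa using hχ'φ
  · rintro χ₁ ⟨hχ₁, hχ₁φ⟩
    apply F.toFunctor.map_injective
    rw [Functor.map_preimage]
    apply huniq
    refine ⟨inferInstance, ?_⟩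
    rw [← F.toFunctor.map_comp, hχ₁φ]

theorem H1_isStronglyCartesian_map (F : 𝒳 ⥤ᵇ 𝒴) [F.toFunctor.Full] [F.toFunctor.Faithful]
    (hess : EssOver F) {R S : C} (f : R ⟶ S) {a b : 𝒳.obj} (φ : a ⟶ b)
    [h : 𝒳.p.IsStronglyCartesian f φ] : 𝒴.p.IsStronglyCartesian f (F.toFunctor.map φ) := by
  refine { toIsHomLift := inferInstance, universal_property' := ?_ }
  intro a' g ψ' hψ'
  obtain ⟨ξ, e, he⟩ := hess a'
  have h1 : 𝒴.p.IsHomLift (𝟙 (𝒴.p.obj a') ≫ g ≫ f) (e.hom ≫ ψ') := inferInstance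
  have h2 : 𝒴.p.IsHomLift (g ≫ f) (F.toFunctor.map (F.toFunctor.preimage (e.hom ≫ ψ'))) := by
    rw [Functor.map_preimage]; simpa using h1
  have h3 : 𝒳.p.IsHomLift (g ≫ f) (F.toFunctor.preimage (e.hom ≫ ψ')) :=
    (BasedFunctor.isHomLift_iff F _ _).1 h2
  obtain ⟨χ'', ⟨hχ'', hχ''φ⟩, huniq⟩ := Functor.IsStronglyCartesian.universal_property 𝒳.p f φ g (g ≫ f) rfl
    (F.toFunctor.preimage (e.hom ≫ ψ'))
  have h4 : 𝒴.p.IsHomLift (𝟙 (𝒴.p.obj a')) e.inv := inferInstance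
  refine ⟨e.inv ≫ F.toFunctor.map χ'', ⟨?_, ?_⟩, ?_⟩
  · have : 𝒴.p.IsHomLift (𝟙 (𝒴.p.obj a') ≫ g) (e.inv ≫ F.toFunctor.map χ'') := inferInstance
    simpa using this
  · rw [Category.assoc, ← F.toFunctor.map_comp, hχ''φ, Functor.map_preimage]
    simp
  · rintro χ₁ ⟨hχ₁, hχ₁φ⟩
    have h5 : 𝒴.p.IsHomLift (𝟙 (𝒴.p.obj a') ≫ g) (e.hom ≫ χ₁) := inferInstance
    have h6 : 𝒴.p.IsHomLift g (F.toFunctor.map (F.toFunctor.preimage (e.hom ≫ χ₁))) := by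
      rw [Functor.map_preimage]; simpa using h5
    have h7 : 𝒳.p.IsHomLift g (F.toFunctor.preimage (e.hom ≫ χ₁)) :=
      (BasedFunctor.isHomLift_iff F _ _).1 h6
    have h8 : F.toFunctor.preimage (e.hom ≫ χ₁) = χ'' := by
      apply huniq
      refine ⟨h7, ?_⟩
      apply F.toFunctor.map_injective
      rw [Functor.map_comp, Functor.map_preimage, Functor.map_preimage, Category.assoc, hχ₁φ]
    rw [← h8, Functor.map_preimage]
    simp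

theorem H1_isStronglyCartesian_map_iff (F : 𝒳 ⥤ᵇ 𝒴) [F.toFunctor.Full] [F.toFunctor.Faithful]
    (hess : EssOver F) {R S : C} (f : R ⟶ S) {a b : 𝒳.obj} (φ : a ⟶ b) :
    𝒴.p.IsStronglyCartesian f (F.toFunctor.map φ) ↔ 𝒳.p.IsStronglyCartesian f φ :=
  ⟨fun _ => H1_isStronglyCartesian_of_map F f φ, fun _ => H1_isStronglyCartesian_map F hess f φ⟩

theorem H1_isCartesian_of_map (F : 𝒳 ⥤ᵇ 𝒴) [F.toFunctor.Full] [F.toFunctor.Faithful]
    {R S : C} (f : R ⟶ S) {a b : 𝒳.obj} (φ : a ⟶ b)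
    [h : 𝒴.p.IsCartesian f (F.toFunctor.map φ)] : 𝒳.p.IsCartesian f φ := by
  have h0 : 𝒳.p.IsHomLift f φ := (BasedFunctor.isHomLift_iff F f φ).1 inferInstance
  refine { toIsHomLift := h0, universal_property := ?_ }
  intro a' φ' hφ'
  have h1 : 𝒴.p.IsHomLift f (F.toFunctor.map φ') := inferInstance
  obtain ⟨χ', ⟨hχ', hχ'φ⟩, huniq⟩ := Functor.IsCartesian.universal_property (p := 𝒴.p) (f := f)
    (φ := F.toFunctor.map φ) (F.toFunctor.map φ')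
  refine ⟨F.toFunctor.preimage χ', ⟨?_, ?_⟩, ?_⟩
  · rw [← BasedFunctor.isHomLift_iff F]
    simpa using hχ'
  · apply F.toFunctor.map_injective
    simpa using hχ'φ
  · rintro χ₁ ⟨hχ₁, hχ₁φ⟩
    apply F.toFunctor.map_injective
    rw [Functor.map_preimage]
    apply huniq
    refine ⟨inferInstance, ?_⟩
    rw [← F.toFunctor.map_comp, hχ₁φ]

theorem H1_isCartesian_map (F : 𝒳 ⥤ᵇ 𝒴) [F.toFunctor.Full] [F.toFunctor.Faithful]
    (hess : EssOver F) {R S : C} (f : R ⟶ S) {a b : 𝒳.obj} (φ : a ⟶ b)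
    [h : 𝒳.p.IsCartesian f φ] : 𝒴.p.IsCartesian f (F.toFunctor.map φ) := by
  refine { toIsHomLift := inferInstance, universal_property := ?_ }
  intro a' ψ' hψ'
  have hR : 𝒴.p.obj a' = R := IsHomLift.domain_eq 𝒴.p f ψ'
  obtain ⟨ξ, e, he⟩ := hess a'
  have he' : 𝒴.p.IsHomLift (𝟙 R) e.hom := H1_isHomLift_id_of_eq 𝒴.p hR e.hom
  have h1 : 𝒴.p.IsHomLift (𝟙 R ≫ f) (e.hom ≫ ψ') := inferInstance
  have h2 : 𝒴.p.IsHomLift f (F.toFunctor.map (F.toFunctor.preimage (e.hom ≫ ψ'))) := by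
    rw [Functor.map_preimage]; simpa using h1
  have h3 : 𝒳.p.IsHomLift f (F.toFunctor.preimage (e.hom ≫ ψ')) :=
    (BasedFunctor.isHomLift_iff F _ _).1 h2
  obtain ⟨χ'', ⟨hχ'', hχ''φ⟩, huniq⟩ := Functor.IsCartesian.universal_property (p := 𝒳.p) (f := f)
    (φ := φ) (F.toFunctor.preimage (e.hom ≫ ψ'))
  have h4 : 𝒴.p.IsHomLift (𝟙 R) e.inv := inferInstance
  refine ⟨e.inv ≫ F.toFunctor.map χ'', ⟨?_, ?_⟩, ?_⟩
  · have : 𝒴.p.IsHomLift (𝟙 R ≫ 𝟙 R) (e.inv ≫ F.toFunctor.map χ'') := inferInstance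
    simpa using this
  · rw [Category.assoc, ← F.toFunctor.map_comp, hχ''φ, Functor.map_preimage]
    simp
  · rintro χ₁ ⟨hχ₁, hχ₁φ⟩
    have h5 : 𝒴.p.IsHomLift (𝟙 R ≫ 𝟙 R) (e.hom ≫ χ₁) := inferInstance
    have h6 : 𝒴.p.IsHomLift (𝟙 R) (F.toFunctor.map (F.toFunctor.preimage (e.hom ≫ χ₁))) := by
      rw [Functor.map_preimage]; simpa using h5
    have h7 : 𝒳.p.IsHomLift (𝟙 R) (F.toFunctor.preimage (e.hom ≫ χ₁)) :=
      (BasedFunctor.isHomLift_iff F _ _).1 h6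
    have h8 : F.toFunctor.preimage (e.hom ≫ χ₁) = χ'' := by
      apply huniq
      refine ⟨h7, ?_⟩
      apply F.toFunctor.map_injective
      rw [Functor.map_comp, Functor.map_preimage, Functor.map_preimage, Category.assoc, hχ₁φ]
    rw [← h8, Functor.map_preimage]
    simp

theorem H1_isCartesian_map_iff (F : 𝒳 ⥤ᵇ 𝒴) [F.toFunctor.Full] [F.toFunctor.Faithful]
    (hess : EssOver F) {R S : C} (f : R ⟶ S) {a b : 𝒳.obj} (φ : a ⟶ b) :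
    𝒴.p.IsCartesian f (F.toFunctor.map φ) ↔ 𝒳.p.IsCartesian f φ :=
  ⟨fun _ => H1_isCartesian_of_map F f φ, fun _ => H1_isCartesian_map F hess f φ⟩

theorem H1_isEquivOver_data (F : 𝒳 ⥤ᵇ 𝒴) (h : FibCat.IsEquivOver F) :
    F.toFunctor.Full ∧ F.toFunctor.Faithful ∧ EssOver F := by
  obtain ⟨⟨h1, h2⟩, h3⟩ := (H1_isEquivOver_iff F).1 h
  exact ⟨h1, h2, h3⟩

/-- the quasi-inverse of an equivalence over `C` is an equivalence over `C`. -/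
theorem H1_isEquivOver_symm (F : 𝒳 ⥤ᵇ 𝒴) (h : FibCat.IsEquivOver F) :
    ∃ G : 𝒴 ⥤ᵇ 𝒳, FibCat.IsEquivOver G := by
  obtain ⟨G, h1, h2⟩ := h
  exact ⟨G, F, h2, h1⟩

/-- fibredness transfers along an equivalence over `C`. -/
theorem H1_isFibered_of_isEquivOver (F : 𝒳 ⥤ᵇ 𝒴) (h : FibCat.IsEquivOver F) [h𝒳 : 𝒳.p.IsFibered] :
    𝒴.p.IsFibered := by
  obtain ⟨hfull, hfaith, hess⟩ := H1_isEquivOver_data F h
  rw [H1_isFibered_iff]
  intro y R f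
  obtain ⟨x, e, he⟩ := hess y
  have hx : 𝒳.p.obj x = 𝒴.p.obj y :=
    (F.w_obj x).symm.trans (IsHomLift.domain_eq 𝒴.p (𝟙 (𝒴.p.obj y)) e.hom)
  obtain ⟨x', φ, hφ⟩ := CategoryTheory.IsPreFibered.exists_isCartesian 𝒳.p hx f
  have hs : 𝒳.p.IsStronglyCartesian f φ := inferInstance
  have h1 : 𝒴.p.IsStronglyCartesian f (F.toFunctor.map φ) := H1_isStronglyCartesian_map F hess f φ
  have h2 : 𝒴.p.IsStronglyCartesian (𝟙 (𝒴.p.obj y)) e.hom := inferInstance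
  have h3 : 𝒴.p.IsStronglyCartesian (f ≫ 𝟙 (𝒴.p.obj y)) (F.toFunctor.map φ ≫ e.hom) := inferInstance
  rw [Category.comp_id] at h3
  exact ⟨_, _, h3⟩

end Groth.Agent.H1.FC
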