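import Mathlib
import Groth.Agent.Lib.helper1.FibCatEquiv2
import Groth.Prelude.Def_W4stkcategoriessitesFib

set_option autoImplicit false

/-! Fibrewise criteria for functors between categories fibred in groupoids (helper1). -/

universe v₁ u₁ v₂ u₂ v₃ u₃

open CategoryTheory

namespace Groth.Agent.H1.FC

variable {C : Type u₁} [Category.{v₁} C]

theorem H1_isStronglyCartesian_of_isFibGrpd {𝒵 : Type u₂} [Category.{v₂} 𝒵] {p : 𝒵 ⥤ C}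
    (h : FibCat.IsFibGrpd p) {R S : C} (f : R ⟶ S) {a b : 𝒵} (φ : a ⟶ b) [hφ : p.IsHomLift f φ] :
    p.IsStronglyCartesian f φ :=
  (H1_isStronglyCartesian_iff p f φ).2 ⟨hφ, h.isStronglyCartesian φ⟩

variable {𝒳 : BasedCategory.{v₂, u₂} C} {𝒴 : BasedCategory.{v₃, u₃} C}

theorem H1_fiberFunctor_faithful_of_faithful (G : 𝒳 ⥤ᵇ 𝒴) [G.toFunctor.Faithful] (U : C) :
    (FibCat.fiberFunctor G U).Faithful := by
  refine ⟨fun {x y} φ ψ h => ?_⟩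
  apply Functor.Fiber.hom_ext
  apply G.toFunctor.map_injective
  have := congrArg Subtype.val h
  exact this

theorem H1_faithful_of_fiberFunctor (G : 𝒳 ⥤ᵇ 𝒴) (h𝒳 : FibCat.IsFibGrpd 𝒳.p)
    (h𝒴 : FibCat.IsFibGrpd 𝒴.p) (hG : ∀ U : C, (FibCat.fiberFunctor G U).Faithful) :
    G.toFunctor.Faithful := by
  refine ⟨fun {a b} φ₁ φ₂ h => ?_⟩
  -- both lift f
  have h1 : 𝒳.p.IsHomLift (𝒳.p.map φ₁) φ₁ := inferInstance
  have h2 : 𝒳.p.IsHomLift (𝒳.p.map φ₁) φ₂ := by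
    rw [← BasedFunctor.isHomLift_iff G, ← h]
    infer_instance
  have hs : 𝒳.p.IsStronglyCartesian (𝒳.p.map φ₁) φ₂ :=
    H1_isStronglyCartesian_of_isFibGrpd h𝒳 _ _
  obtain ⟨χ, ⟨hχ, hχφ⟩, -⟩ := Functor.IsStronglyCartesian.universal_property 𝒳.p (𝒳.p.map φ₁) φ₂
    (𝟙 _) (𝒳.p.map φ₁) (by simp) φ₁
  -- G χ = 𝟙
  have hs' : 𝒴.p.IsStronglyCartesian (𝒳.p.map φ₁) (G.toFunctor.map φ₂) :=
    H1_isStronglyCartesian_of_isFibGrpd h𝒴 _ _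
  have hGχ : G.toFunctor.map χ = 𝟙 _ := by
    have h3 : 𝒴.p.IsHomLift (𝟙 (𝒳.p.obj a)) (G.toFunctor.map χ) := inferInstance
    have h4 : 𝒴.p.IsHomLift (𝟙 (𝒳.p.obj a)) (𝟙 (G.toFunctor.obj a)) := inferInstance
    apply Functor.IsStronglyCartesian.ext 𝒴.p (𝒳.p.map φ₁) (G.toFunctor.map φ₂) (𝟙 (𝒳.p.obj a))
    rw [← G.toFunctor.map_comp, hχφ, h, Category.id_comp]
  -- pass to the fibre
  let x : 𝒳.p.Fiber (𝒳.p.obj a) := ⟨a, rfl⟩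
  let χ' : x ⟶ x := ⟨χ, hχ⟩
  have := hG (𝒳.p.obj a)
  have hχ' : χ' = 𝟙 x := by
    apply (FibCat.fiberFunctor G (𝒳.p.obj a)).map_injective
    apply Functor.Fiber.hom_ext
    rw [CategoryTheory.Functor.map_id, CategoryTheory.Functor.map_id]
    exact hGχ
  have hχ1 : χ = 𝟙 a := congrArg Subtype.val hχ'
  rw [← hχφ, hχ1, Category.id_comp]

theorem H1_fiberFunctor_full_of_full (G : 𝒳 ⥤ᵇ 𝒴) [G.toFunctor.Full] (U : C) :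
    (FibCat.fiberFunctor G U).Full := by
  refine ⟨fun {x y} ψ => ?_⟩
  have h1 : 𝒴.p.IsHomLift (𝟙 U) ψ.1 := ψ.2
  have h2 : 𝒴.p.IsHomLift (𝟙 U) (G.toFunctor.map (G.toFunctor.preimage ψ.1)) := by
    rw [Functor.map_preimage]; exact h1
  have h3 : 𝒳.p.IsHomLift (𝟙 U) (G.toFunctor.preimage ψ.1) :=
    (BasedFunctor.isHomLift_iff G _ _).1 h2
  refine ⟨⟨G.toFunctor.preimage ψ.1, h3⟩, ?_⟩
  apply Functor.Fiber.hom_ext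
  exact G.toFunctor.map_preimage ψ.1

theorem H1_full_of_fiberFunctor (G : 𝒳 ⥤ᵇ 𝒴) (h𝒳 : FibCat.IsFibGrpd 𝒳.p)
    (h𝒴 : FibCat.IsFibGrpd 𝒴.p) (hG : ∀ U : C, (FibCat.fiberFunctor G U).Full) :
    G.toFunctor.Full := by
  refine ⟨fun {a b} ψ => ?_⟩
  -- f = image of ψ in the base, as a map p a ⟶ p b
  let f : 𝒳.p.obj a ⟶ 𝒳.p.obj b :=
    eqToHom (G.w_obj a).symm ≫ 𝒴.p.map ψ ≫ eqToHom (G.w_obj b)
  have hψ : 𝒴.p.IsHomLift f ψ := by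
    apply IsHomLift.of_fac 𝒴.p f ψ (G.w_obj a) (G.w_obj b)
    simp [f]
  obtain ⟨a', φ₀, hφ₀⟩ := h𝒳.exists_lift (x := b) f
  have hs : 𝒴.p.IsStronglyCartesian f (G.toFunctor.map φ₀) :=
    H1_isStronglyCartesian_of_isFibGrpd h𝒴 _ _
  obtain ⟨χ', ⟨hχ', hχ'φ⟩, -⟩ := Functor.IsStronglyCartesian.universal_property 𝒴.p f
    (G.toFunctor.map φ₀) (𝟙 _) f (by simp) ψ
  have ha' : 𝒳.p.obj a' = 𝒳.p.obj a := IsHomLift.domain_eq 𝒳.p f φ₀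
  let x : 𝒳.p.Fiber (𝒳.p.obj a) := ⟨a, rfl⟩
  let x' : 𝒳.p.Fiber (𝒳.p.obj a) := ⟨a', ha'⟩
  let χf : (FibCat.fiberFunctor G (𝒳.p.obj a)).obj x ⟶ (FibCat.fiberFunctor G (𝒳.p.obj a)).obj x' :=
    ⟨χ', hχ'⟩
  have := hG (𝒳.p.obj a)
  obtain ⟨χ, hχ⟩ := (FibCat.fiberFunctor G (𝒳.p.obj a)).map_surjective χf
  have hχ1 : G.toFunctor.map χ.1 = χ' := congrArg Subtype.val hχ
  refine ⟨χ.1 ≫ φ₀, ?_⟩
  rw [Functor.map_comp, hχ1, hχ'φ]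

end Groth.Agent.H1.FC
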