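import Mathlib
import Groth.Agent.Lib.helper1.FibCatFiber

set_option autoImplicit false

/-! Fibrewise criteria for functors between fibred categories (helper1). -/

universe v₁ u₁ v₂ u₂ v₃ u₃

open CategoryTheory

namespace Groth.Agent.H1.FC

variable {C : Type u₁} [Category.{v₁} C]
variable {𝒳 : BasedCategory.{v₂, u₂} C} {𝒴 : BasedCategory.{v₃, u₃} C}

/-- common hypothesis: enough strongly cartesian lifts preserved by `G`. -/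
def GoodLifts (G : 𝒳 ⥤ᵇ 𝒴) : Prop :=
  ∀ (b : 𝒳.obj) (R : C) (f : R ⟶ 𝒳.p.obj b), ∃ (a₀ : 𝒳.obj) (φ₀ : a₀ ⟶ b),
    𝒳.p.IsStronglyCartesian f φ₀ ∧ 𝒴.p.IsStronglyCartesian f (G.toFunctor.map φ₀)

theorem H1_goodLifts_of_isFibGrpd (G : 𝒳 ⥤ᵇ 𝒴) (h𝒳 : FibCat.IsFibGrpd 𝒳.p)
    (h𝒴 : FibCat.IsFibGrpd 𝒴.p) : GoodLifts G := by
  intro b R f
  obtain ⟨a₀, φ₀, hφ₀⟩ := h𝒳.exists_lift (x := b) f
  exact ⟨a₀, φ₀, H1_isStronglyCartesian_of_isFibGrpd h𝒳 _ _,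
    H1_isStronglyCartesian_of_isFibGrpd h𝒴 _ _⟩

theorem H1_goodLifts_of_isFibered (G : 𝒳 ⥤ᵇ 𝒴) [𝒳.p.IsFibered]
    (hG : ∀ ⦃a b : 𝒳.obj⦄ (φ : a ⟶ b), 𝒳.p.IsStronglyCartesian (𝒳.p.map φ) φ →
      𝒴.p.IsStronglyCartesian (𝒳.p.map φ) (G.toFunctor.map φ)) : GoodLifts G := by
  intro b R f
  obtain ⟨a₀, φ₀, hφ₀⟩ := CategoryTheory.IsPreFibered.exists_isCartesian 𝒳.p rfl f
  have hs : 𝒳.p.IsStronglyCartesian f φ₀ := inferInstance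
  refine ⟨a₀, φ₀, hs, ?_⟩
  have h1 := ((H1_isStronglyCartesian_iff 𝒳.p f φ₀).1 hs).2
  have h2 := hG φ₀ h1
  rw [H1_isStronglyCartesian_iff]
  refine ⟨inferInstance, ?_⟩
  rw [H1_isStronglyCartesian_iff] at h2
  exact h2.2

theorem H1_faithful_of_fiberFunctor' (G : 𝒳 ⥤ᵇ 𝒴) (hgl : GoodLifts G)
    (hG : ∀ U : C, (FibCat.fiberFunctor G U).Faithful) :
    G.toFunctor.Faithful := by
  refine ⟨fun {a b} φ₁ φ₂ h => ?_⟩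
  have h1 : 𝒳.p.IsHomLift (𝒳.p.map φ₁) φ₁ := inferInstance
  have h2 : 𝒳.p.IsHomLift (𝒳.p.map φ₁) φ₂ := by
    rw [← BasedFunctor.isHomLift_iff G, ← h]
    infer_instance
  obtain ⟨a₀, φ₀, hs, hs'⟩ := hgl b _ (𝒳.p.map φ₁)
  obtain ⟨χ₁, ⟨hχ₁, hχ₁φ⟩, -⟩ := Functor.IsStronglyCartesian.universal_property 𝒳.p (𝒳.p.map φ₁) φ₀
    (𝟙 _) (𝒳.p.map φ₁) (by simp) φ₁
  obtain ⟨χ₂, ⟨hχ₂, hχ₂φ⟩, -⟩ := Functor.IsStronglyCartesian.universal_property 𝒳.p (𝒳.p.map φ₁) φ₀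
    (𝟙 _) (𝒳.p.map φ₁) (by simp) φ₂
  have hGχ : G.toFunctor.map χ₁ = G.toFunctor.map χ₂ := by
    have h3 : 𝒴.p.IsHomLift (𝟙 (𝒳.p.obj a)) (G.toFunctor.map χ₁) := inferInstance
    have h4 : 𝒴.p.IsHomLift (𝟙 (𝒳.p.obj a)) (G.toFunctor.map χ₂) := inferInstance
    apply Functor.IsStronglyCartesian.ext 𝒴.p (𝒳.p.map φ₁) (G.toFunctor.map φ₀) (𝟙 (𝒳.p.obj a))
    rw [← G.toFunctor.map_comp, ← G.toFunctor.map_comp, hχ₁φ, hχ₂φ, h]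
  have ha₀ : 𝒳.p.obj a₀ = 𝒳.p.obj a := IsHomLift.domain_eq 𝒳.p (𝒳.p.map φ₁) φ₀
  let x : 𝒳.p.Fiber (𝒳.p.obj a) := ⟨a, rfl⟩
  let x₀ : 𝒳.p.Fiber (𝒳.p.obj a) := ⟨a₀, ha₀⟩
  let χ₁' : x ⟶ x₀ := ⟨χ₁, hχ₁⟩
  let χ₂' : x ⟶ x₀ := ⟨χ₂, hχ₂⟩
  have := hG (𝒳.p.obj a)
  have hχ' : χ₁' = χ₂' := by
    apply (FibCat.fiberFunctor G (𝒳.p.obj a)).map_injective
    apply Functor.Fiber.hom_ext
    exact hGχ
  have hχ1 : χ₁ = χ₂ := congrArg Subtype.val hχ'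
  rw [← hχ₁φ, ← hχ₂φ, hχ1]

theorem H1_full_of_fiberFunctor' (G : 𝒳 ⥤ᵇ 𝒴) (hgl : GoodLifts G)
    (hG : ∀ U : C, (FibCat.fiberFunctor G U).Full) :
    G.toFunctor.Full := by
  refine ⟨fun {a b} ψ => ?_⟩
  let f : 𝒳.p.obj a ⟶ 𝒳.p.obj b :=
    eqToHom (G.w_obj a).symm ≫ 𝒴.p.map ψ ≫ eqToHom (G.w_obj b)
  have hψ : 𝒴.p.IsHomLift f ψ := by
    apply IsHomLift.of_fac 𝒴.p f ψ (G.w_obj a) (G.w_obj b)
    simp [f]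
  obtain ⟨a', φ₀, hs0, hs⟩ := hgl b _ f
  obtain ⟨χ', ⟨hχ', hχ'φ⟩, -⟩ := Functor.IsStronglyCartesian.universal_property 𝒴.p f
    (G.toFunctor.map φ₀) (𝟙 _) f (by simp) ψ
  have ha' : 𝒳.p.obj a' = 𝒳.p.obj a := IsHomLift.domain_eq 𝒳.p f φ₀
  let x : 𝒳.p.Fiber (𝒳.p.obj a) := ⟨a, rfl⟩
  let x' : 𝒳.p.Fiber (𝒳.p.obj a) := ⟨a', ha'⟩
  let χf : (FibCat.fiberFunctor G (𝒳.p.obj a)).obj x ⟶ (FibCat.fiberFunctor G (𝒳.p.obj a)).obj x' :=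
    ⟨χ', hχ'⟩
  have := hG (𝒳.p.obj a)
  obtain ⟨χ, hχ⟩ := (FibCat.fiberFunctor G (𝒳.p.obj a)).map_surjective χf
  have hχ1 : G.toFunctor.map χ.1 = χ' := congrArg Subtype.val hχ
  refine ⟨χ.1 ≫ φ₀, ?_⟩
  rw [Functor.map_comp, hχ1, hχ'φ]

/-- any functor on fibres commuting with the inclusions is the canonical one. -/
theorem H1_fiberFunctor_unique (G : 𝒳 ⥤ᵇ 𝒴) (U : C) (GU : 𝒳.p.Fiber U ⥤ 𝒴.p.Fiber U)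
    (hGU : GU ⋙ Functor.Fiber.fiberInclusion = Functor.Fiber.fiberInclusion ⋙ G.toFunctor) :
    GU = FibCat.fiberFunctor G U := by
  have hobj : ∀ x, GU.obj x = (FibCat.fiberFunctor G U).obj x := by
    intro x
    apply Subtype.ext
    exact Functor.congr_obj hGU x
  refine CategoryTheory.Functor.ext hobj ?_
  intro x y φ
  apply Functor.Fiber.hom_ext
  have h := Functor.congr_hom hGU φ
  simp only [Functor.comp_map] at h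
  rw [h]
  simp only [Functor.map_comp, eqToHom_map]
  rfl

theorem H1_essSurj_fiberFunctor (G : 𝒳 ⥤ᵇ 𝒴) (hess : EssOver G) (U : C) :
    (FibCat.fiberFunctor G U).EssSurj := by
  refine ⟨fun y => ?_⟩
  obtain ⟨ξ, e, he⟩ := hess y.1
  have hU : 𝒴.p.obj y.1 = U := y.2
  have he' : 𝒴.p.IsHomLift (𝟙 U) e.hom := H1_isHomLift_id_of_eq 𝒴.p hU e.hom
  have hξ : 𝒳.p.obj ξ = U := (G.w_obj ξ).symm.trans (IsHomLift.domain_eq 𝒴.p (𝟙 U) e.hom)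
  have he'' : 𝒴.p.IsHomLift (𝟙 U) e.inv := inferInstance
  refine ⟨⟨ξ, hξ⟩, ⟨⟨⟨e.hom, he'⟩, ⟨e.inv, he''⟩, ?_, ?_⟩⟩⟩
  · apply Functor.Fiber.hom_ext
    change e.hom ≫ e.inv = 𝟙 _
    simp
  · apply Functor.Fiber.hom_ext
    change e.inv ≫ e.hom = 𝟙 _
    simp

theorem H1_essOver_of_fiberFunctor (G : 𝒳 ⥤ᵇ 𝒴) (h : ∀ U : C, (FibCat.fiberFunctor G U).EssSurj) :
    EssOver G := by
  intro η
  let y : 𝒴.p.Fiber (𝒴.p.obj η) := ⟨η, rfl⟩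
  have := h (𝒴.p.obj η)
  let x := (FibCat.fiberFunctor G (𝒴.p.obj η)).objPreimage y
  let e : (FibCat.fiberFunctor G (𝒴.p.obj η)).obj x ≅ y :=
    (FibCat.fiberFunctor G (𝒴.p.obj η)).objObjPreimageIso y
  refine ⟨x.1, Functor.Fiber.fiberInclusion.mapIso e, ?_⟩
  exact e.hom.2

end Groth.Agent.H1.FC
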