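import Mathlib
import Groth.Agent.Lib.helper1.FibCatFiber2

set_option autoImplicit false

/-! Equivalences of categories vs equivalences over the base (helper1). -/

universe v₁ u₁ v₂ u₂ v₃ u₃

open CategoryTheory

namespace Groth.Agent.H1.FC

variable {C : Type u₁} [Category.{v₁} C]
variable {𝒳 : BasedCategory.{v₂, u₂} C} {𝒴 : BasedCategory.{v₃, u₃} C}

/-- transportability -/
def Transportable (𝒳 : BasedCategory.{v₂, u₂} C) : Prop :=
  ∀ ⦃T S : C⦄ (α : T ≅ S) (ξ : 𝒳.obj), 𝒳.p.obj ξ = T →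
      ∃ (ξ' : 𝒳.obj) (e : ξ ≅ ξ'), 𝒳.p.IsHomLift α.hom e.hom

theorem H1_transportable_of_isFibGrpd (h : FibCat.IsFibGrpd 𝒳.p) : Transportable 𝒳 := by
  intro T S α ξ hξ
  subst hξ
  obtain ⟨ξ', φ, hφ⟩ := h.exists_lift (x := ξ) α.inv
  have h1 : IsIso (𝒳.p.map φ) := by
    rw [IsHomLift.fac' 𝒳.p α.inv φ]
    infer_instance
  have h2 : IsIso φ := H1_isIso_of_isFibGrpd h φ
  refine ⟨ξ', (asIso φ).symm, ?_⟩
  have h3 : 𝒳.p.IsHomLift (inv α.inv) (inv φ) := inferInstance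
  simpa using h3

theorem H1_essOver_of_isEquivalence (h𝒳 : Transportable 𝒳) (F : 𝒳 ⥤ᵇ 𝒴) [F.toFunctor.IsEquivalence] :
    EssOver F := by
  intro η
  let ξ₀ := F.toFunctor.objPreimage η
  let e₀ : F.toFunctor.obj ξ₀ ≅ η := F.toFunctor.objObjPreimageIso η
  let α : 𝒳.p.obj ξ₀ ≅ 𝒴.p.obj η :=
    (eqToIso (F.w_obj ξ₀).symm) ≪≫ 𝒴.p.mapIso e₀
  obtain ⟨ξ', e, he⟩ := h𝒳 α ξ₀ rfl
  refine ⟨ξ', F.toFunctor.mapIso e.symm ≪≫ e₀, ?_⟩
  have h1 : 𝒴.p.IsHomLift α.hom (F.toFunctor.map e.hom) := inferInstance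
  have h2 : 𝒴.p.IsHomLift α.inv (F.toFunctor.map e.inv) := by
    have : 𝒴.p.IsHomLift α.hom (F.toFunctor.mapIso e).hom := h1
    exact IsHomLift.inv_lift_inv 𝒴.p α (F.toFunctor.mapIso e)
  have h3 : 𝒴.p.IsHomLift α.hom e₀.hom := by
    apply IsHomLift.of_fac 𝒴.p α.hom e₀.hom (F.w_obj ξ₀) rfl
    simp [α]
  have h4 : 𝒴.p.IsHomLift (α.inv ≫ α.hom) (F.toFunctor.map e.inv ≫ e₀.hom) := inferInstance
  simpa using h4

theorem H1_isEquivOver_of_isEquivalence (h𝒳 : Transportable 𝒳) (F : 𝒳 ⥤ᵇ 𝒴)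
    [F.toFunctor.IsEquivalence] : FibCat.IsEquivOver F := by
  rw [H1_isEquivOver_iff]
  exact ⟨⟨inferInstance, inferInstance⟩, H1_essOver_of_isEquivalence h𝒳 F⟩

theorem H1_isEquivalence_iff_fiberFunctor (G : 𝒳 ⥤ᵇ 𝒴) (h𝒳 : FibCat.IsFibGrpd 𝒳.p)
    (h𝒴 : FibCat.IsFibGrpd 𝒴.p) :
    G.toFunctor.IsEquivalence ↔ ∀ U : C, (FibCat.fiberFunctor G U).IsEquivalence := by
  have hgl := H1_goodLifts_of_isFibGrpd G h𝒳 h𝒴
  constructor
  · intro h U
    have hess := H1_essOver_of_isEquivalence (H1_transportable_of_isFibGrpd h𝒳) G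
    have h1 := H1_fiberFunctor_full_of_full G U
    have h2 := H1_fiberFunctor_faithful_of_faithful G U
    have h3 := H1_essSurj_fiberFunctor G hess U
    exact { }
  · intro h
    have h1 : G.toFunctor.Full :=
      H1_full_of_fiberFunctor' G hgl (fun U => by have := h U; infer_instance)
    have h2 : G.toFunctor.Faithful :=
      H1_faithful_of_fiberFunctor' G hgl (fun U => by have := h U; infer_instance)
    have hess : EssOver G :=
      H1_essOver_of_fiberFunctor G (fun U => by have := h U; infer_instance)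
    have h3 : G.toFunctor.EssSurj := by
      refine ⟨fun y => ?_⟩
      obtain ⟨x, e, -⟩ := hess y
      exact ⟨x, ⟨e⟩⟩
    exact { }

end Groth.Agent.H1.FC
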