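import Mathlib
import Groth.Agent.Lib.helper1.FibCatEquiv3

set_option autoImplicit false

/-! 2-fibre products over the base (helper1). -/

universe v₁ u₁ v₂ u₂ v₃ u₃ v₄ u₄

open CategoryTheory CategoryTheory.Limits

namespace Groth.Agent.H1.FC

variable {C : Type u₁} [Category.{v₁} C]
variable {𝒳 : BasedCategory.{v₂, u₂} C} {𝒴 : BasedCategory.{v₃, u₃} C} {𝒮 : BasedCategory.{v₄, u₄} C}
variable (F : 𝒳 ⥤ᵇ 𝒮) (G : 𝒴 ⥤ᵇ 𝒮)

theorem H1_fp_isHomLift_iff {x y : (FibCat.fp F G).obj} (m : x ⟶ y) {R S : C} (f : R ⟶ S) :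
    (FibCat.fp F G).p.IsHomLift f m ↔ 𝒳.p.IsHomLift f m.hom.fst := by
  constructor
  · intro h
    subst_hom_lift (FibCat.fp F G).p f m
    exact inferInstanceAs (𝒳.p.IsHomLift (𝒳.p.map m.hom.fst) m.hom.fst)
  · intro h
    subst_hom_lift 𝒳.p f m.hom.fst
    exact inferInstanceAs ((FibCat.fp F G).p.IsHomLift ((FibCat.fp F G).p.map m) m)

theorem H1_fp_isHomLift_snd {x y : (FibCat.fp F G).obj} (m : x ⟶ y) {R S : C} (f : R ⟶ S)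
    [h : (FibCat.fp F G).p.IsHomLift f m] : 𝒴.p.IsHomLift f m.hom.snd := by
  subst_hom_lift (FibCat.fp F G).p f m
  exact FibCat.fp_isHomLift_snd F G m

theorem H1_fp_iso_isHomLift (x : (FibCat.fp F G).obj) {R : C} (hR : 𝒳.p.obj x.obj.fst = R) :
    𝒮.p.IsHomLift (𝟙 R) x.obj.iso.hom := by
  subst hR
  exact x.property

/-- criterion for a morphism of the fibre product to be strongly cartesian. -/
theorem H1_fp_isStronglyCartesian {x' x : (FibCat.fp F G).obj} (m : x' ⟶ x) {R S : C} (f : R ⟶ S)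
    [h1 : 𝒳.p.IsStronglyCartesian f m.hom.fst] [h2 : 𝒴.p.IsStronglyCartesian f m.hom.snd]
    [h3 : 𝒮.p.IsStronglyCartesian f (G.toFunctor.map m.hom.snd)] :
    (FibCat.fp F G).p.IsStronglyCartesian f m := by
  have h0 : (FibCat.fp F G).p.IsHomLift f m := (H1_fp_isHomLift_iff F G m f).2 inferInstance
  refine { toIsHomLift := h0, universal_property' := ?_ }
  intro a g m' hm'
  have hm'1 : 𝒳.p.IsHomLift (g ≫ f) m'.hom.fst := (H1_fp_isHomLift_iff F G m' (g ≫ f)).1 hm'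
  have hm'2 : 𝒴.p.IsHomLift (g ≫ f) m'.hom.snd := H1_fp_isHomLift_snd F G m' (g ≫ f)
  let χ₁ : a.obj.fst ⟶ x'.obj.fst :=
    Functor.IsStronglyCartesian.map 𝒳.p f m.hom.fst (g := g) rfl m'.hom.fst
  let χ₂ : a.obj.snd ⟶ x'.obj.snd :=
    Functor.IsStronglyCartesian.map 𝒴.p f m.hom.snd (g := g) rfl m'.hom.snd
  have hχ₁ : 𝒳.p.IsHomLift g χ₁ := inferInstance
  have hχ₂ : 𝒴.p.IsHomLift g χ₂ := inferInstance
  have hχ₁f : χ₁ ≫ m.hom.fst = m'.hom.fst := Functor.IsStronglyCartesian.fac _ _ _ _ _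
  have hχ₂f : χ₂ ≫ m.hom.snd = m'.hom.snd := Functor.IsStronglyCartesian.fac _ _ _ _ _
  have hR : 𝒳.p.obj x'.obj.fst = R := IsHomLift.domain_eq 𝒳.p f m.hom.fst
  have hx' : 𝒮.p.IsHomLift (𝟙 R) x'.obj.iso.hom := H1_fp_iso_isHomLift F G x' hR
  have ha : 𝒮.p.IsHomLift (𝟙 ((FibCat.fp F G).p.obj a)) a.obj.iso.hom := a.property
  have hw : F.toFunctor.map χ₁ ≫ x'.obj.iso.hom = a.obj.iso.hom ≫ G.toFunctor.map χ₂ := by
    have l1 : 𝒮.p.IsHomLift g (F.toFunctor.map χ₁ ≫ x'.obj.iso.hom) := inferInstance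
    have l2 : 𝒮.p.IsHomLift g (a.obj.iso.hom ≫ G.toFunctor.map χ₂) := inferInstance
    apply Functor.IsStronglyCartesian.ext 𝒮.p f (G.toFunctor.map m.hom.snd) g
    rw [Category.assoc, ← m.hom.w, ← Category.assoc, ← F.toFunctor.map_comp, hχ₁f, m'.hom.w,
      Category.assoc, ← G.toFunctor.map_comp, hχ₂f]
  let χ : a ⟶ x' := ObjectProperty.homMk (⟨χ₁, χ₂, hw⟩ : a.obj ⟶ x'.obj)
  refine ⟨χ, ⟨?_, ?_⟩, ?_⟩
  · exact (H1_fp_isHomLift_iff F G χ g).2 hχ₁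
  · apply ObjectProperty.hom_ext
    apply CategoricalPullback.hom_ext
    · exact hχ₁f
    · exact hχ₂f
  · rintro χ' ⟨hχ', hχ'm⟩
    have e1 : χ'.hom.fst ≫ m.hom.fst = m'.hom.fst := by rw [← hχ'm]; rfl
    have e2 : χ'.hom.snd ≫ m.hom.snd = m'.hom.snd := by rw [← hχ'm]; rfl
    have l1 : 𝒳.p.IsHomLift g χ'.hom.fst := (H1_fp_isHomLift_iff F G χ' g).1 hχ'
    have l2 : 𝒴.p.IsHomLift g χ'.hom.snd := H1_fp_isHomLift_snd F G χ' g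
    apply ObjectProperty.hom_ext
    apply CategoricalPullback.hom_ext
    · exact Functor.IsStronglyCartesian.map_uniq 𝒳.p f m.hom.fst rfl m'.hom.fst χ'.hom.fst e1
    · exact Functor.IsStronglyCartesian.map_uniq 𝒴.p f m.hom.snd rfl m'.hom.snd χ'.hom.snd e2

/-- existence of the comparison isomorphism for lifts. -/
theorem H1_fp_exists_iso (x : (FibCat.fp F G).obj) {V : C} (f : V ⟶ 𝒳.p.obj x.obj.fst)
    {a : 𝒳.obj} (φ : a ⟶ x.obj.fst) [hφ : 𝒳.p.IsHomLift f φ]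
    {b : 𝒴.obj} (ψ : b ⟶ x.obj.snd) [hψ : 𝒮.p.IsStronglyCartesian f (G.toFunctor.map ψ)]
    (hiso : ∀ (j : F.toFunctor.obj a ⟶ G.toFunctor.obj b), 𝒮.p.IsHomLift (𝟙 V) j →
      j ≫ G.toFunctor.map ψ = F.toFunctor.map φ ≫ x.obj.iso.hom → IsIso j) :
    ∃ (i' : F.toFunctor.obj a ≅ G.toFunctor.obj b), 𝒮.p.IsHomLift (𝟙 (𝒳.p.obj a)) i'.hom ∧
      F.toFunctor.map φ ≫ x.obj.iso.hom = i'.hom ≫ G.toFunctor.map ψ := by
  have hx : 𝒮.p.IsHomLift (𝟙 (𝒳.p.obj x.obj.fst)) x.obj.iso.hom := x.property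
  have h1 : 𝒮.p.IsHomLift f (F.toFunctor.map φ ≫ x.obj.iso.hom) := inferInstance
  let j : F.toFunctor.obj a ⟶ G.toFunctor.obj b :=
    Functor.IsStronglyCartesian.map 𝒮.p f (G.toFunctor.map ψ) (g := 𝟙 V) (f' := f) (by simp)
      (F.toFunctor.map φ ≫ x.obj.iso.hom)
  have hj : 𝒮.p.IsHomLift (𝟙 V) j := inferInstance
  have hjf : j ≫ G.toFunctor.map ψ = F.toFunctor.map φ ≫ x.obj.iso.hom :=
    Functor.IsStronglyCartesian.fac _ _ _ _ _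
  have := hiso j hj hjf
  have hV : V = 𝒳.p.obj a := (IsHomLift.domain_eq 𝒳.p f φ).symm
  refine ⟨asIso j, H1_isHomLift_id_of_eq 𝒮.p hV j, hjf.symm⟩

theorem H1_isFibGrpd_fp (h𝒳 : FibCat.IsFibGrpd 𝒳.p) (h𝒴 : FibCat.IsFibGrpd 𝒴.p)
    (h𝒮 : FibCat.IsFibGrpd 𝒮.p) : FibCat.IsFibGrpd (FibCat.fp F G).p := by
  refine ⟨?_, ?_⟩
  · intro x V f
    change V ⟶ 𝒳.p.obj x.obj.fst at f
    obtain ⟨a, φ, hφ⟩ := h𝒳.exists_lift (x := x.obj.fst) f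
    have hx0 : 𝒮.p.IsHomLift (𝟙 (𝒳.p.obj x.obj.fst)) x.obj.iso.hom := x.property
    have hsnd : 𝒴.p.obj x.obj.snd = 𝒳.p.obj x.obj.fst :=
      (G.w_obj x.obj.snd).symm.trans
        ((IsHomLift.codomain_eq 𝒮.p (𝟙 (𝒳.p.obj x.obj.fst)) x.obj.iso.hom))
    obtain ⟨b, ψ, hψ'⟩ := h𝒴.exists_lift (x := x.obj.snd) (f ≫ eqToHom hsnd.symm)
    have hψ : 𝒴.p.IsHomLift f ψ := (IsHomLift.lift_comp_eqToHom_iff 𝒴.p f ψ hsnd.symm).1 hψ'
    have hGψ : 𝒮.p.IsStronglyCartesian f (G.toFunctor.map ψ) :=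
      H1_isStronglyCartesian_of_isFibGrpd h𝒮 _ _
    obtain ⟨i', hi', hw⟩ := H1_fp_exists_iso F G x f φ ψ (by
      intro j hj _
      have : IsIso (𝒮.p.map j) := by
        rw [IsHomLift.fac' 𝒮.p (𝟙 V) j]; infer_instance
      exact H1_isIso_of_isFibGrpd h𝒮 j)
    let x' : (FibCat.fp F G).obj := ⟨⟨a, b, i'⟩, hi'⟩
    let m : x' ⟶ x := ObjectProperty.homMk (⟨φ, ψ, hw⟩ : x'.obj ⟶ x.obj)
    exact ⟨x', m, (H1_fp_isHomLift_iff F G m f).2 hφ⟩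
  · intro x' x m
    have h1 : 𝒳.p.IsStronglyCartesian (𝒳.p.map m.hom.fst) m.hom.fst := h𝒳.isStronglyCartesian _
    have h2' : 𝒴.p.IsHomLift (𝒳.p.map m.hom.fst) m.hom.snd := FibCat.fp_isHomLift_snd F G m
    have h2 : 𝒴.p.IsStronglyCartesian (𝒳.p.map m.hom.fst) m.hom.snd :=
      H1_isStronglyCartesian_of_isFibGrpd h𝒴 _ _
    have h3 : 𝒮.p.IsStronglyCartesian (𝒳.p.map m.hom.fst) (G.toFunctor.map m.hom.snd) :=
      H1_isStronglyCartesian_of_isFibGrpd h𝒮 _ _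
    exact H1_fp_isStronglyCartesian F G m (𝒳.p.map m.hom.fst)

theorem H1_isFibered_fp [𝒳.p.IsFibered] [𝒴.p.IsFibered] [𝒮.p.IsFibered]
    (hF : ∀ {R S : C} (f : R ⟶ S) {a b : 𝒳.obj} (φ : a ⟶ b), 𝒳.p.IsStronglyCartesian f φ →
      𝒮.p.IsStronglyCartesian f (F.toFunctor.map φ))
    (hG : ∀ {R S : C} (f : R ⟶ S) {a b : 𝒴.obj} (φ : a ⟶ b), 𝒴.p.IsStronglyCartesian f φ →
      𝒮.p.IsStronglyCartesian f (G.toFunctor.map φ)) :
    (FibCat.fp F G).p.IsFibered := by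
  rw [H1_isFibered_iff]
  intro x V f
  change V ⟶ 𝒳.p.obj x.obj.fst at f
  obtain ⟨a, φ, hφ⟩ := CategoryTheory.IsPreFibered.exists_isCartesian 𝒳.p rfl f
  have hφs : 𝒳.p.IsStronglyCartesian f φ := inferInstance
  have hx0 : 𝒮.p.IsHomLift (𝟙 (𝒳.p.obj x.obj.fst)) x.obj.iso.hom := x.property
  have hsnd : 𝒴.p.obj x.obj.snd = 𝒳.p.obj x.obj.fst :=
    (G.w_obj x.obj.snd).symm.trans
      ((IsHomLift.codomain_eq 𝒮.p (𝟙 (𝒳.p.obj x.obj.fst)) x.obj.iso.hom))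
  obtain ⟨b, ψ, hψ⟩ := CategoryTheory.IsPreFibered.exists_isCartesian 𝒴.p hsnd f
  have hψs : 𝒴.p.IsStronglyCartesian f ψ := inferInstance
  have hFφ : 𝒮.p.IsStronglyCartesian f (F.toFunctor.map φ) := hF f φ hφs
  have hGψ : 𝒮.p.IsStronglyCartesian f (G.toFunctor.map ψ) := hG f ψ hψs
  have hx : 𝒮.p.IsHomLift (𝟙 (𝒳.p.obj x.obj.fst)) x.obj.iso.hom := x.property
  obtain ⟨i', hi', hw⟩ := H1_fp_exists_iso F G x f φ ψ (by
    intro j hj hjf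
    have h1 : 𝒮.p.IsStronglyCartesian (f ≫ 𝟙 (𝒳.p.obj x.obj.fst)) (F.toFunctor.map φ ≫ x.obj.iso.hom) :=
      inferInstance
    have h2 : 𝒮.p.IsStronglyCartesian (𝟙 V ≫ f) (j ≫ G.toFunctor.map ψ) := by
      rw [hjf, Category.id_comp]
      rw [Category.comp_id] at h1
      exact h1
    have h3 : 𝒮.p.IsStronglyCartesian (𝟙 V) j :=
      Functor.IsStronglyCartesian.of_comp 𝒮.p (f := 𝟙 V) (g := f) (φ := j) (ψ := G.toFunctor.map ψ)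
    exact Functor.IsStronglyCartesian.isIso_of_base_isIso 𝒮.p (𝟙 V) j)
  let x' : (FibCat.fp F G).obj := ⟨⟨a, b, i'⟩, hi'⟩
  let m : x' ⟶ x := ObjectProperty.homMk (⟨φ, ψ, hw⟩ : x'.obj ⟶ x.obj)
  have hm1 : 𝒳.p.IsStronglyCartesian f m.hom.fst := hφs
  have hm2 : 𝒴.p.IsStronglyCartesian f m.hom.snd := hψs
  have hm3 : 𝒮.p.IsStronglyCartesian f (G.toFunctor.map m.hom.snd) := hGψ
  exact ⟨x', m, H1_fp_isStronglyCartesian F G m f⟩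

end Groth.Agent.H1.FC
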