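import Mathlib
import Groth.Agent.Lib.helper1.FibCatFp

set_option autoImplicit false

/-! The wide subcategory of strongly cartesian morphisms (helper1). -/

universe v₁ u₁ v₂ u₂

open CategoryTheory

namespace Groth.Agent.H1.FC

variable {C : Type u₁} [Category.{v₁} C] {𝒮 : Type u₂} [Category.{v₂} 𝒮] (p : 𝒮 ⥤ C)

theorem H1_cartSub_isHomLift_iff {x y : FibCat.cartSub p} (m : x ⟶ y) {R S : C} (f : R ⟶ S) :
    (FibCat.cartSubProj p).IsHomLift f m ↔ p.IsHomLift f m.hom := by
  constructor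
  · intro h
    subst_hom_lift (FibCat.cartSubProj p) f m
    exact inferInstanceAs (p.IsHomLift (p.map m.hom) m.hom)
  · intro h
    subst_hom_lift p f m.hom
    exact inferInstanceAs ((FibCat.cartSubProj p).IsHomLift ((FibCat.cartSubProj p).map m) m)

theorem H1_isFibGrpd_cartSubProj [p.IsFibered] : FibCat.IsFibGrpd (FibCat.cartSubProj p) := by
  refine ⟨?_, ?_⟩
  · intro x V f
    change V ⟶ p.obj x.obj at f
    obtain ⟨y₀, φ, hφ⟩ := CategoryTheory.IsPreFibered.exists_isCartesian p rfl f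
    have hs : p.IsStronglyCartesian f φ := inferInstance
    have hc : FibCat.cartMor p φ := ((H1_isStronglyCartesian_iff p f φ).1 hs).2
    let y : FibCat.cartSub p := ⟨y₀⟩
    let m : y ⟶ x := ⟨φ, hc⟩
    exact ⟨y, m, (H1_cartSub_isHomLift_iff p m f).2 inferInstance⟩
  · intro y x m
    have h0 : (FibCat.cartSubProj p).IsHomLift ((FibCat.cartSubProj p).map m) m := inferInstance
    refine { toIsHomLift := h0, universal_property' := ?_ }
    intro a g m' hm'
    change p.obj a.obj ⟶ p.obj y.obj at g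
    have hm'1 : p.IsHomLift (g ≫ p.map m.hom) m'.hom :=
      (H1_cartSub_isHomLift_iff p m' (g ≫ p.map m.hom)).1 hm'
    have hms : p.IsStronglyCartesian (p.map m.hom) m.hom := m.property
    have hm's : p.IsStronglyCartesian (g ≫ p.map m.hom) m'.hom :=
      (H1_isStronglyCartesian_iff p _ m'.hom).2 ⟨hm'1, m'.property⟩
    let χ₀ : a.obj ⟶ y.obj :=
      Functor.IsStronglyCartesian.map p (p.map m.hom) m.hom (g := g) rfl m'.hom
    have hχ₀ : p.IsHomLift g χ₀ := inferInstance
    have hχ₀f : χ₀ ≫ m.hom = m'.hom := Functor.IsStronglyCartesian.fac _ _ _ _ _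
    have hχs : p.IsStronglyCartesian g χ₀ := by
      have : p.IsStronglyCartesian (g ≫ p.map m.hom) (χ₀ ≫ m.hom) := by rw [hχ₀f]; exact hm's
      exact Functor.IsStronglyCartesian.of_comp p (f := g) (g := p.map m.hom) (φ := χ₀) (ψ := m.hom)
    have hc : FibCat.cartMor p χ₀ := ((H1_isStronglyCartesian_iff p g χ₀).1 hχs).2
    let χ : a ⟶ y := ⟨χ₀, hc⟩
    refine ⟨χ, ⟨(H1_cartSub_isHomLift_iff p χ g).2 hχ₀, ?_⟩, ?_⟩
    · apply WideSubcategory.hom_ext
      exact hχ₀f
    · rintro χ' ⟨hχ', hχ'm⟩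
      have l1 : p.IsHomLift g χ'.hom := (H1_cartSub_isHomLift_iff p χ' g).1 hχ'
      have e1 : χ'.hom ≫ m.hom = m'.hom := by rw [← hχ'm]; rfl
      apply WideSubcategory.hom_ext
      exact Functor.IsStronglyCartesian.map_uniq p (p.map m.hom) m.hom rfl m'.hom χ'.hom e1

end Groth.Agent.H1.FC
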