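import Mathlib
import Groth.Agent.Lib.helper1.FibCatFp

set_option autoImplicit false

/-! The diagonal of a functor over the base (helper1). -/

universe v₁ u₁ v₂ u₂ v₃ u₃

open CategoryTheory CategoryTheory.Limits

namespace Groth.Agent.H1.FC

variable {C : Type u₁} [Category.{v₁} C]
variable {𝒳 : BasedCategory.{v₂, u₂} C} {𝒴 : BasedCategory.{v₃, u₃} C} (G : 𝒳 ⥤ᵇ 𝒴)

@[simp] theorem diag_obj_fst (z : 𝒳.obj) : ((FibCat.diag G).toFunctor.obj z).obj.fst = z := rfl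
@[simp] theorem diag_obj_snd (z : 𝒳.obj) : ((FibCat.diag G).toFunctor.obj z).obj.snd = z := rfl
theorem diag_obj_iso_hom (z : 𝒳.obj) :
    ((FibCat.diag G).toFunctor.obj z).obj.iso.hom = 𝟙 (G.toFunctor.obj z) := rfl
@[simp] theorem diag_map_fst {z z' : 𝒳.obj} (a : z ⟶ z') :
    ((FibCat.diag G).toFunctor.map a).hom.fst = a := rfl
@[simp] theorem diag_map_snd {z z' : 𝒳.obj} (a : z ⟶ z') :
    ((FibCat.diag G).toFunctor.map a).hom.snd = a := rfl

theorem H1_diag_faithful : (FibCat.diag G).toFunctor.Faithful := by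
  refine ⟨fun {x x'} a b h => ?_⟩
  have := congrArg (fun m => m.hom.fst) h
  exact this

theorem H1_diag_full_of_faithful [G.toFunctor.Faithful] : (FibCat.diag G).toFunctor.Full := by
  refine ⟨fun {x x'} m => ?_⟩
  have hw := m.hom.w
  rw [diag_obj_iso_hom, diag_obj_iso_hom] at hw
  have h1 : G.toFunctor.map m.hom.fst = G.toFunctor.map m.hom.snd := by
    simpa using hw
  have h2 : m.hom.fst = m.hom.snd := G.toFunctor.map_injective h1
  refine ⟨m.hom.fst, ?_⟩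
  apply ObjectProperty.hom_ext
  apply CategoricalPullback.hom_ext
  · rfl
  · exact h2

theorem H1_diag_essOver_of_fullyFaithful [G.toFunctor.Full] [G.toFunctor.Faithful] :
    EssOver (FibCat.diag G) := by
  intro w
  -- w = (x, y, i)
  let j : w.obj.fst ≅ w.obj.snd := G.toFunctor.preimageIso w.obj.iso
  have hj : G.toFunctor.map j.hom = w.obj.iso.hom := by simp [j]
  let e : ((FibCat.diag G).toFunctor.obj w.obj.fst).obj ≅ w.obj :=
    CategoricalPullback.mkIso (Iso.refl _) j (by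
      rw [diag_obj_iso_hom]
      simp [hj])
  refine ⟨w.obj.fst, ObjectProperty.isoMk _ e, ?_⟩
  rw [H1_fp_isHomLift_iff]
  have : 𝒳.p.IsHomLift (𝟙 (𝒳.p.obj w.obj.fst)) (𝟙 w.obj.fst) := inferInstance
  exact this

theorem H1_faithful_of_diag_full [(FibCat.diag G).toFunctor.Full] : G.toFunctor.Faithful := by
  refine ⟨fun {x x'} a b h => ?_⟩
  let m : (FibCat.diag G).toFunctor.obj x ⟶ (FibCat.diag G).toFunctor.obj x' :=
    ObjectProperty.homMk (⟨a, b, by
      rw [diag_obj_iso_hom, diag_obj_iso_hom]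
      simpa using h⟩ : ((FibCat.diag G).toFunctor.obj x).obj ⟶ ((FibCat.diag G).toFunctor.obj x').obj)
  obtain ⟨c, hc⟩ := (FibCat.diag G).toFunctor.map_surjective m
  have h1 : c = a := congrArg (fun m => m.hom.fst) hc
  have h2 : c = b := congrArg (fun m => m.hom.snd) hc
  rw [← h1, ← h2]

theorem H1_full_of_diag_essOver (h𝒳 : FibCat.IsFibGrpd 𝒳.p) (h𝒴 : FibCat.IsFibGrpd 𝒴.p)
    (hess : EssOver (FibCat.diag G)) : G.toFunctor.Full := by
  refine ⟨fun {x x'} h => ?_⟩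
  let f : 𝒳.p.obj x ⟶ 𝒳.p.obj x' :=
    eqToHom (G.w_obj x).symm ≫ 𝒴.p.map h ≫ eqToHom (G.w_obj x')
  have hh : 𝒴.p.IsHomLift f h := by
    apply IsHomLift.of_fac 𝒴.p f h (G.w_obj x) (G.w_obj x')
    simp [f]
  obtain ⟨x'', φ, hφ⟩ := h𝒳.exists_lift (x := x') f
  have hs : 𝒴.p.IsStronglyCartesian f (G.toFunctor.map φ) :=
    H1_isStronglyCartesian_of_isFibGrpd h𝒴 _ _
  obtain ⟨i, ⟨hi, hiφ⟩, -⟩ := Functor.IsStronglyCartesian.universal_property 𝒴.p f
    (G.toFunctor.map φ) (𝟙 _) f (by simp) h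
  have hiso : IsIso i := by
    have : IsIso (𝒴.p.map i) := by
      rw [IsHomLift.fac' 𝒴.p (𝟙 (𝒳.p.obj x)) i]; infer_instance
    exact H1_isIso_of_isFibGrpd h𝒴 i
  let w : (FibCat.fp G G).obj := ⟨⟨x, x'', asIso i⟩, hi⟩
  obtain ⟨z, e, -⟩ := hess w
  let a : z ⟶ x := e.hom.hom.fst
  let b : z ⟶ x'' := e.hom.hom.snd
  let a' : x ⟶ z := e.inv.hom.fst
  have hw : G.toFunctor.map a ≫ i = 𝟙 _ ≫ G.toFunctor.map b := e.hom.hom.w
  rw [Category.id_comp] at hw
  have hinv : a' ≫ a = 𝟙 x := by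
    have := congrArg (fun m => m.hom.fst) e.inv_hom_id
    exact this
  refine ⟨a' ≫ b ≫ φ, ?_⟩
  calc G.toFunctor.map (a' ≫ b ≫ φ)
      = G.toFunctor.map a' ≫ G.toFunctor.map b ≫ G.toFunctor.map φ := by
        rw [Functor.map_comp, Functor.map_comp]
    _ = G.toFunctor.map a' ≫ (G.toFunctor.map a ≫ i) ≫ G.toFunctor.map φ := by rw [hw]
    _ = G.toFunctor.map (a' ≫ a) ≫ i ≫ G.toFunctor.map φ := by
        rw [Functor.map_comp]; simp only [Category.assoc]
    _ = h := by rw [hinv, CategoryTheory.Functor.map_id, Category.id_comp, hiφ]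

theorem H1_fullyFaithful_iff_diag (h𝒳 : FibCat.IsFibGrpd 𝒳.p) (h𝒴 : FibCat.IsFibGrpd 𝒴.p) :
    (G.toFunctor.Full ∧ G.toFunctor.Faithful) ↔ FibCat.IsEquivOver (FibCat.diag G) := by
  constructor
  · rintro ⟨h1, h2⟩
    rw [H1_isEquivOver_iff]
    exact ⟨⟨H1_diag_full_of_faithful G, H1_diag_faithful G⟩, H1_diag_essOver_of_fullyFaithful G⟩
  · intro h
    obtain ⟨hfull, hfaith, hess⟩ := H1_isEquivOver_data _ h
    exact ⟨H1_full_of_diag_essOver G h𝒳 h𝒴 hess, H1_faithful_of_diag_full G⟩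

end Groth.Agent.H1.FC
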