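import Mathlib
import Groth.Agent.Lib.helper1.FibCatSet

set_option autoImplicit false

/-! The forgetful functor of a slice category is a discrete fibration (helper1). -/

universe v₁ u₁ v₂ u₂ v₃ u₃

open CategoryTheory

namespace Groth.Agent.H1.FC

variable {C : Type u₁} [Category.{v₁} C]

theorem H1_over_obj_ext {U : C} {a b : Over U} (h1 : a.left = b.left)
    (h2 : a.hom = eqToHom h1 ≫ b.hom) : a = b := by
  obtain ⟨al, ar, ah⟩ := a
  obtain ⟨bl, br, bh⟩ := b
  change al = bl at h1
  subst h1
  obtain rfl : ar = br := Subsingleton.elim _ _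
  simp only [eqToHom_refl, Category.id_comp] at h2
  change ah = bh at h2
  subst h2
  rfl

theorem H1_UL_overForget (U : C) : UL (Over.forget U) := by
  refine H1_UL_mk ?_ ?_
  · intro η V f
    refine ⟨Over.mk (f ≫ η.hom), Over.homMk f rfl, ?_⟩
    exact (H1_isHomLift_iff (Over.forget U) (a := Over.mk (f ≫ η.hom)) (b := η) f (Over.homMk f rfl)).2 rfl
  · intro a b η φ ψ V f hφ hψ
    have ha : a.left = V := IsHomLift.domain_eq (Over.forget U) f φ
    have hb : b.left = V := IsHomLift.domain_eq (Over.forget U) f ψ
    have hφf : φ.left = eqToHom ha ≫ f := by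
      have := IsHomLift.fac' (Over.forget U) f φ
      simpa using this
    have hψf : ψ.left = eqToHom hb ≫ f := by
      have := IsHomLift.fac' (Over.forget U) f ψ
      simpa using this
    have hab : a.left = b.left := ha.trans hb.symm
    have e : a = b := by
      apply H1_over_obj_ext hab
      rw [← Over.w φ, ← Over.w ψ, hφf, hψf]
      simp
    subst e
    refine ⟨rfl, ?_⟩
    apply Over.OverMorphism.ext
    rw [hφf, eqToHom_refl, Category.id_comp, hψf]

end Groth.Agent.H1.FC
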