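import Mathlib
import Groth.Agent.Lib.helper1.FibCatCart
import Groth.Agent.Lib.helper1.FibCatOver

set_option autoImplicit false

/-! Representable categories over the base (helper1). -/

universe v u

open CategoryTheory

namespace Groth.Agent.H1.FC

variable {C : Type u} [Category.{v} C]

theorem H1_isFibSet_overForget (U : C) : FibCat.IsFibSet (Over.forget U) :=
  H1_isFibSet_of_UL (H1_UL_overForget U)

/-- fibred in groupoids transfers backwards along a fully faithful functor over `C` from a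
category with enough lifts. -/
theorem H1_isFibGrpd_of_fullyFaithful {𝒳 𝒴 : BasedCategory.{v, max u v} C} (F : 𝒳 ⥤ᵇ 𝒴)
    [F.toFunctor.Full] [F.toFunctor.Faithful] (h𝒴 : FibCat.IsFibGrpd 𝒴.p)
    (hl : ∀ {x : 𝒳.obj} {V : C} (f : V ⟶ 𝒳.p.obj x), ∃ (y : 𝒳.obj) (φ : y ⟶ x), 𝒳.p.IsHomLift f φ) :
    FibCat.IsFibGrpd 𝒳.p := by
  refine ⟨hl, ?_⟩
  intro y x φ
  have h1 : 𝒴.p.IsStronglyCartesian (𝒳.p.map φ) (F.toFunctor.map φ) :=
    H1_isStronglyCartesian_of_isFibGrpd h𝒴 _ _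
  exact H1_isStronglyCartesian_of_map F (𝒳.p.map φ) φ

theorem H1_terminal_of_isRepresentable {𝒳 : BasedCategory.{v, max u v} C} {U : C}
    (F : 𝒳 ⥤ᵇ FibCat.overCat U) (hF : FibCat.IsEquivOver F) :
    ∃ ξ : 𝒳.obj, ∀ ρ : 𝒳.obj, Nonempty (Unique (ρ ⟶ ξ)) := by
  obtain ⟨hfull, hfaith, hess⟩ := H1_isEquivOver_data F hF
  obtain ⟨ξ, e, -⟩ := hess (Over.mk (𝟙 U))
  refine ⟨ξ, fun ρ => ⟨?_⟩⟩
  let T : Limits.IsTerminal (Over.mk (𝟙 U)) := Over.mkIdTerminal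
  refine { default := F.toFunctor.preimage (T.from (F.toFunctor.obj ρ) ≫ e.inv), uniq := ?_ }
  intro a
  apply F.toFunctor.map_injective
  rw [Functor.map_preimage, Iso.eq_comp_inv]
  exact T.hom_ext _ _

section Construct

variable {𝒳 : BasedCategory.{v, max u v} C} (h : FibCat.IsFibGrpd 𝒳.p) (ξ : 𝒳.obj)
  (t : ∀ ρ : 𝒳.obj, ρ ⟶ ξ) (uniq : ∀ {ρ : 𝒳.obj} (a b : ρ ⟶ ξ), a = b)

/-- the functor to the slice over the image of a terminal object -/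
@[reducible] def toOver : 𝒳.obj ⥤ Over (𝒳.p.obj ξ) where
  obj ρ := Over.mk (𝒳.p.map (t ρ))
  map {ρ ρ'} φ := Over.homMk (𝒳.p.map φ) (by
    change 𝒳.p.map φ ≫ 𝒳.p.map (t ρ') = 𝒳.p.map (t ρ)
    rw [← 𝒳.p.map_comp]
    congr 1
    exact uniq _ _)
  map_id ρ := by
    apply Over.OverMorphism.ext
    simp
  map_comp φ ψ := by
    apply Over.OverMorphism.ext
    simp

@[reducible] def toOverBased : 𝒳 ⥤ᵇ FibCat.overCat (𝒳.p.obj ξ) where
  toFunctor := toOver ξ t uniq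
  w := rfl

include h in
theorem H1_isEquivOver_toOverBased : FibCat.IsEquivOver (toOverBased ξ t uniq) := by
  rw [H1_isEquivOver_iff]
  refine ⟨⟨⟨fun {ρ ρ'} g => ?_⟩, ⟨fun {ρ ρ'} χ₁ χ₂ hχ => ?_⟩⟩, ?_⟩
  · -- full
    have hw : g.left ≫ 𝒳.p.map (t ρ') = 𝒳.p.map (t ρ) := Over.w g
    have hs : 𝒳.p.IsStronglyCartesian (𝒳.p.map (t ρ')) (t ρ') := h.isStronglyCartesian _
    have hl : 𝒳.p.IsHomLift (g.left ≫ 𝒳.p.map (t ρ')) (t ρ) := by rw [hw]; infer_instance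
    let χ : ρ ⟶ ρ' := Functor.IsStronglyCartesian.map 𝒳.p (𝒳.p.map (t ρ')) (t ρ') (g := g.left) rfl (t ρ)
    have hχ : 𝒳.p.IsHomLift g.left χ := inferInstance
    refine ⟨χ, ?_⟩
    apply Over.OverMorphism.ext
    exact (IsHomLift.eq_of_isHomLift 𝒳.p g.left χ).symm
  · -- faithful
    have h1 : 𝒳.p.map χ₁ = 𝒳.p.map χ₂ := congrArg CommaMorphism.left hχ
    have hs : 𝒳.p.IsStronglyCartesian (𝒳.p.map (t ρ')) (t ρ') := h.isStronglyCartesian _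
    have l1 : 𝒳.p.IsHomLift (𝒳.p.map χ₁) χ₁ := inferInstance
    have l2 : 𝒳.p.IsHomLift (𝒳.p.map χ₁) χ₂ := by rw [h1]; infer_instance
    apply Functor.IsStronglyCartesian.ext 𝒳.p (𝒳.p.map (t ρ')) (t ρ') (𝒳.p.map χ₁)
    exact uniq _ _
  · -- essentially surjective over identities
    intro η
    obtain ⟨ρ, φ, hφ⟩ := h.exists_lift (x := ξ) η.hom
    have hV : 𝒳.p.obj ρ = η.left := IsHomLift.domain_eq 𝒳.p η.hom φ
    have hφt : φ = t ρ := uniq _ _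
    have hfac : 𝒳.p.map (t ρ) = eqToHom hV ≫ η.hom := by
      rw [← hφt]
      have := IsHomLift.fac' 𝒳.p η.hom φ
      simpa using this
    let e : (toOver ξ t uniq).obj ρ ≅ η := Over.isoMk (eqToIso hV) (by
      change eqToHom hV ≫ η.hom = 𝒳.p.map (t ρ)
      exact hfac.symm)
    refine ⟨ρ, e, ?_⟩
    apply IsHomLift.of_fac (Over.forget (𝒳.p.obj ξ)) (𝟙 _) e.hom hV rfl
    change 𝟙 η.left = eqToHom hV.symm ≫ eqToHom hV ≫ eqToHom rfl
    simp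

end Construct

theorem H1_isRepresentable_iff (𝒳 : BasedCategory.{v, max u v} C) [𝒳.p.IsFibered] :
    FibCat.IsRepresentable 𝒳 ↔
      (FibCat.IsFibGrpd 𝒳.p ∧ ∃ ξ : 𝒳.obj, ∀ ρ : 𝒳.obj, Nonempty (Unique (ρ ⟶ ξ))) := by
  constructor
  · rintro ⟨U, F, hF⟩
    obtain ⟨hfull, hfaith, hess⟩ := H1_isEquivOver_data F hF
    refine ⟨?_, H1_terminal_of_isRepresentable F hF⟩
    apply H1_isFibGrpd_of_fullyFaithful F (H1_isFibSet_overForget U).1
    intro x V f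
    obtain ⟨b, φ, hφ⟩ := CategoryTheory.IsPreFibered.exists_isCartesian 𝒳.p rfl f
    exact ⟨b, φ, inferInstance⟩
  · rintro ⟨h, ξ, hξ⟩
    have uniq : ∀ {ρ : 𝒳.obj} (a b : ρ ⟶ ξ), a = b := fun {ρ} a b => by
      obtain ⟨u⟩ := hξ ρ
      exact (u.uniq a).trans (u.uniq b).symm
    let t : ∀ ρ : 𝒳.obj, ρ ⟶ ξ := fun ρ => (hξ ρ).some.default
    exact ⟨𝒳.p.obj ξ, toOverBased ξ t uniq, H1_isEquivOver_toOverBased h ξ t uniq⟩

end Groth.Agent.H1.FC
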