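import Mathlib
import Groth.Agent.Lib.helper1.FibCatDiag
import Groth.Agent.Lib.helper1.FibCatRep

set_option autoImplicit false

/-! 2-Yoneda lemma for categories over the base (helper1). -/

universe v u v₂ u₂

open CategoryTheory CategoryTheory.Limits

namespace Groth.Agent.H1.FC

variable {C : Type u} [Category.{v} C] {𝒳 : BasedCategory.{v₂, u₂} C} {U : C}

theorem H1_domain_eq_of_sc {𝒵 : Type u₂} [Category.{v₂} 𝒵] {p : 𝒵 ⥤ C} {R S : C} {f : R ⟶ S} {a b : 𝒵}
    {φ : a ⟶ b} (h : p.IsStronglyCartesian f φ) : p.obj a = R :=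
  IsHomLift.domain_eq p f φ

/-- the terminal object of the slice and the canonical maps to it -/
abbrev oT (U : C) : Over U := Over.mk (𝟙 U)

def toT (a : Over U) : a ⟶ oT U := Over.homMk a.hom (by simp)

@[simp] theorem toT_left (a : Over U) : (toT a).left = a.hom := rfl

theorem comp_toT {a b : Over U} (g : a ⟶ b) : g ≫ toT b = toT a := by
  apply Over.OverMorphism.ext
  simp

theorem toT_T : toT (oT U) = 𝟙 (oT U) := by
  apply Over.OverMorphism.ext
  simp

instance toT_isHomLift (a : Over U) : (FibCat.overCat U).p.IsHomLift a.hom (toT a) :=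
  (H1_isHomLift_iff (Over.forget U) (a := a) (b := oT U) a.hom (toT a)).2 rfl

instance isHomLift_over {a b : Over U} (g : a ⟶ b) : (FibCat.overCat U).p.IsHomLift g.left g :=
  (H1_isHomLift_iff (Over.forget U) (a := a) (b := b) g.left g).2 rfl

/-- the condition that `H` sends the canonical maps to the terminal object to strongly cartesian maps -/
def SC (H : FibCat.overCat U ⥤ᵇ 𝒳) : Prop :=
  ∀ a : Over U, 𝒳.p.IsStronglyCartesian a.hom (H.toFunctor.map (toT a))

theorem H1_SC_of_isFibGrpd (h : FibCat.IsFibGrpd 𝒳.p) (H : FibCat.overCat U ⥤ᵇ 𝒳) : SC H := by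
  intro a
  exact H1_isStronglyCartesian_of_isFibGrpd h _ _

theorem H1_SC_of_preserves (H : FibCat.overCat U ⥤ᵇ 𝒳) (hH : FibCat.PreservesStronglyCartesian H) :
    SC H := by
  intro a
  apply hH
  exact H1_isStronglyCartesian_of_isFibGrpd (H1_isFibSet_overForget U).1 _ _ (hφ := toT_isHomLift a)

theorem H1_evalAtId_faithful {G H : FibCat.overCat U ⥤ᵇ 𝒳} (hH : SC H) (α β : G ⟶ H)
    (h : α.toNatTrans.app (oT U) = β.toNatTrans.app (oT U)) : α = β := by
  apply BasedNatTrans.homCategory.ext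
  ext a
  have := hH a
  have ha : 𝒳.p.IsHomLift (𝟙 a.left) (α.toNatTrans.app a) := α.isHomLift' a
  have hb : 𝒳.p.IsHomLift (𝟙 a.left) (β.toNatTrans.app a) := β.isHomLift' a
  apply Functor.IsStronglyCartesian.ext 𝒳.p a.hom (H.toFunctor.map (toT a)) (𝟙 a.left)
  rw [← α.toNatTrans.naturality, ← β.toNatTrans.naturality, h]

section Full

variable {G H : FibCat.overCat U ⥤ᵇ 𝒳} (hH : SC H)
  (φ : G.toFunctor.obj (oT U) ⟶ H.toFunctor.obj (oT U)) [hφ : 𝒳.p.IsHomLift (𝟙 U) φ]

include hH hφ in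
theorem H1_evalAtId_full : ∃ α : G ⟶ H, α.toNatTrans.app (oT U) = φ := by
  have hl : ∀ a : Over U, 𝒳.p.IsHomLift (𝟙 a.left ≫ a.hom) (G.toFunctor.map (toT a) ≫ φ) := by
    intro a
    have : 𝒳.p.IsHomLift (a.hom ≫ 𝟙 U) (G.toFunctor.map (toT a) ≫ φ) := inferInstance
    simpa using this
  let αa : ∀ a : Over U, G.toFunctor.obj a ⟶ H.toFunctor.obj a := fun a =>
    haveI := hH a
    haveI := hl a
    Functor.IsStronglyCartesian.map 𝒳.p a.hom (H.toFunctor.map (toT a)) (g := 𝟙 a.left) rfl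
      (G.toFunctor.map (toT a) ≫ φ)
  have hα1 : ∀ a, 𝒳.p.IsHomLift (𝟙 a.left) (αa a) := by
    intro a
    haveI := hH a
    haveI := hl a
    exact Functor.IsStronglyCartesian.map_isHomLift 𝒳.p a.hom (H.toFunctor.map (toT a)) rfl _
  have hα2 : ∀ a, αa a ≫ H.toFunctor.map (toT a) = G.toFunctor.map (toT a) ≫ φ := by
    intro a
    haveI := hH a
    haveI := hl a
    exact Functor.IsStronglyCartesian.fac 𝒳.p a.hom (H.toFunctor.map (toT a)) rfl _
  have hnat : ∀ {a b : Over U} (g : a ⟶ b), G.toFunctor.map g ≫ αa b = αa a ≫ H.toFunctor.map g := by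
    intro a b g
    have := hH b
    have := hα1 a
    have := hα1 b
    have l1 : 𝒳.p.IsHomLift g.left (G.toFunctor.map g ≫ αa b) := inferInstance
    have l2 : 𝒳.p.IsHomLift g.left (αa a ≫ H.toFunctor.map g) := inferInstance
    have eG : G.toFunctor.map g ≫ G.toFunctor.map (toT b) = G.toFunctor.map (toT a) := by
      rw [← G.toFunctor.map_comp]; exact congrArg G.toFunctor.map (comp_toT g)
    have eH : H.toFunctor.map g ≫ H.toFunctor.map (toT b) = H.toFunctor.map (toT a) := by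
      rw [← H.toFunctor.map_comp]; exact congrArg H.toFunctor.map (comp_toT g)
    apply Functor.IsStronglyCartesian.ext 𝒳.p b.hom (H.toFunctor.map (toT b)) g.left
    rw [Category.assoc, hα2 b, ← Category.assoc, eG, Category.assoc, eH, hα2 a]
  let α : G ⟶ H :=
    { toNatTrans := { app := αa, naturality := fun a b g => hnat g }
      isHomLift' := fun a => hα1 a }
  refine ⟨α, ?_⟩
  have h1 := hα2 (oT U)
  have eG : G.toFunctor.map (toT (oT U)) = 𝟙 _ := by
    rw [← G.toFunctor.map_id]; exact congrArg G.toFunctor.map toT_T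
  have eH : H.toFunctor.map (toT (oT U)) = 𝟙 _ := by
    rw [← H.toFunctor.map_id]; exact congrArg H.toFunctor.map toT_T
  rw [eG, eH, Category.comp_id, Category.id_comp] at h1
  exact h1

end Full

section EssSurj

variable (x : 𝒳.obj) (hx : 𝒳.p.obj x = U)
  (Gobj : Over U → 𝒳.obj) (lam : ∀ a : Over U, Gobj a ⟶ x)
  (hlam : ∀ a : Over U, 𝒳.p.IsStronglyCartesian a.hom (lam a))

/-- the functor `C/U ⥤ 𝒳` attached to a choice of pullbacks of `x` -/
@[reducible] noncomputable def yFun : Over U ⥤ 𝒳.obj where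
  obj := Gobj
  map {a b} g :=
    haveI := hlam a
    haveI := hlam b
    Functor.IsStronglyCartesian.map 𝒳.p b.hom (lam b) (g := g.left) (f' := a.hom) (Over.w g).symm (lam a)
  map_id a := by
    haveI := hlam a
    symm
    have : 𝒳.p.IsHomLift (CommaMorphism.left (𝟙 a)) (𝟙 (Gobj a)) := by
      have : 𝒳.p.obj (Gobj a) = a.left := IsHomLift.domain_eq 𝒳.p a.hom (lam a)
      exact IsHomLift.id this
    apply Functor.IsStronglyCartesian.map_uniq
    simp
  map_comp {a b c} g g' := by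
    haveI := hlam a
    haveI := hlam b
    haveI := hlam c
    symm
    have h1 : 𝒳.p.IsHomLift g.left
        (Functor.IsStronglyCartesian.map 𝒳.p b.hom (lam b) (g := g.left) (f' := a.hom) (Over.w g).symm (lam a)) :=
      inferInstance
    have h2 : 𝒳.p.IsHomLift g'.left
        (Functor.IsStronglyCartesian.map 𝒳.p c.hom (lam c) (g := g'.left) (f' := b.hom) (Over.w g').symm (lam b)) :=
      inferInstance
    have h3 : 𝒳.p.IsHomLift (g ≫ g').left
        (Functor.IsStronglyCartesian.map 𝒳.p b.hom (lam b) (g := g.left) (f' := a.hom) (Over.w g).symm (lam a) ≫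
          Functor.IsStronglyCartesian.map 𝒳.p c.hom (lam c) (g := g'.left) (f' := b.hom) (Over.w g').symm (lam b)) := by
      rw [Over.comp_left]; infer_instance
    apply Functor.IsStronglyCartesian.map_uniq
    simp

theorem yFun_map_fac {a b : Over U} (g : a ⟶ b) :
    (yFun x Gobj lam hlam).map g ≫ lam b = lam a := by
  haveI := hlam a
  haveI := hlam b
  exact Functor.IsStronglyCartesian.fac 𝒳.p b.hom (lam b) (Over.w g).symm (lam a)

theorem yFun_map_isHomLift {a b : Over U} (g : a ⟶ b) :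
    𝒳.p.IsHomLift g.left ((yFun x Gobj lam hlam).map g) := by
  haveI := hlam a
  haveI := hlam b
  exact Functor.IsStronglyCartesian.map_isHomLift 𝒳.p b.hom (lam b) (Over.w g).symm (lam a)

@[reducible] noncomputable def yBased : FibCat.overCat U ⥤ᵇ 𝒳 where
  toFunctor := yFun x Gobj lam hlam
  w := by
    refine CategoryTheory.Functor.ext (fun a => ?_) ?_
    · show 𝒳.p.obj (Gobj a) = a.left
      haveI := hlam a
      exact IsHomLift.domain_eq 𝒳.p a.hom (lam a)
    · intro a b g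
      have := yFun_map_isHomLift x Gobj lam hlam g
      exact IsHomLift.fac' 𝒳.p g.left ((yFun x Gobj lam hlam).map g)

theorem yBased_map_isStronglyCartesian {a b : Over U} (g : a ⟶ b) :
    𝒳.p.IsStronglyCartesian g.left ((yBased x Gobj lam hlam).toFunctor.map g) := by
  haveI := hlam a
  haveI := hlam b
  have h1 := yFun_map_isHomLift x Gobj lam hlam g
  have h2 : 𝒳.p.IsStronglyCartesian (g.left ≫ b.hom) ((yFun x Gobj lam hlam).map g ≫ lam b) := by
    rw [yFun_map_fac, Over.w g]; infer_instance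
  exact Functor.IsStronglyCartesian.of_comp 𝒳.p (f := g.left) (g := b.hom)
    (φ := (yFun x Gobj lam hlam).map g) (ψ := lam b)

end EssSurj

theorem H1_evalAtId_essSurj [𝒳.p.IsFibered] (x : 𝒳.p.Fiber U) :
    ∃ (G : FibCat.overCat U ⥤ᵇ 𝒳), FibCat.PreservesStronglyCartesian G ∧
      Nonempty ((FibCat.evalAtId 𝒳 U).obj G ≅ x) := by
  obtain ⟨x, hx⟩ := x
  subst hx
  have hex := (H1_isFibered_iff 𝒳.p).1 inferInstance x
  choose Gobj lam hlam using fun a : Over (𝒳.p.obj x) => hex a.left a.hom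
  refine ⟨yBased x Gobj lam hlam, ?_, ?_⟩
  · intro R S f a b φ hφ
    have h1 := yBased_map_isStronglyCartesian x Gobj lam hlam φ
    have h2 : (FibCat.overCat (𝒳.p.obj x)).p.IsHomLift f φ := inferInstance
    have h3 : 𝒳.p.IsHomLift f ((yBased x Gobj lam hlam).toFunctor.map φ) :=
      BasedFunctor.preserves_isHomLift (yBased x Gobj lam hlam) f φ
    rw [H1_isStronglyCartesian_iff] at h1 ⊢
    exact ⟨h3, h1.2⟩
  · haveI : 𝒳.p.IsStronglyCartesian (𝟙 (𝒳.p.obj x)) (lam (oT (𝒳.p.obj x))) := hlam (oT (𝒳.p.obj x))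
    have hiso : IsIso (lam (oT (𝒳.p.obj x))) :=
      Functor.IsStronglyCartesian.isIso_of_base_isIso 𝒳.p (𝟙 (𝒳.p.obj x)) (lam (oT (𝒳.p.obj x)))
    have hl : 𝒳.p.IsHomLift (𝟙 (𝒳.p.obj x)) (lam (oT (𝒳.p.obj x))) := inferInstance
    let ψ : (FibCat.evalAtId 𝒳 (𝒳.p.obj x)).obj (yBased x Gobj lam hlam) ⟶ ⟨x, rfl⟩ :=
      ⟨lam (oT (𝒳.p.obj x)), hl⟩
    haveI : IsIso ψ.1 := hiso
    haveI : IsIso ψ := H1_isIso_fiber_of_isIso ψ
    exact ⟨asIso ψ⟩

theorem H1_evalAtId_isEquivalence_of_isFibGrpd (h : FibCat.IsFibGrpd 𝒳.p) (U : C) :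
    (FibCat.evalAtId 𝒳 U).IsEquivalence := by
  haveI := H1_isFibered_of_isFibGrpd h
  have hF : (FibCat.evalAtId 𝒳 U).Faithful := by
    constructor
    intro G H α β hαβ
    apply H1_evalAtId_faithful (H1_SC_of_isFibGrpd h H)
    exact congrArg Subtype.val hαβ
  have hFull : (FibCat.evalAtId 𝒳 U).Full := by
    constructor
    intro G H φ
    haveI : 𝒳.p.IsHomLift (𝟙 U) φ.1 := φ.2
    obtain ⟨α, hα⟩ := H1_evalAtId_full (G := G) (H := H) (H1_SC_of_isFibGrpd h H) φ.1 (hφ := φ.2)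
    refine ⟨α, ?_⟩
    apply Functor.Fiber.hom_ext
    exact hα
  have hE : (FibCat.evalAtId 𝒳 U).EssSurj := by
    constructor
    intro x
    obtain ⟨G, _, ⟨e⟩⟩ := H1_evalAtId_essSurj (U := U) x
    exact ⟨G, ⟨e⟩⟩
  exact { faithful := hF, full := hFull, essSurj := hE }

theorem H1_evalAtId_isEquivalence_of_isFibered [𝒳.p.IsFibered] (U : C) :
    ((ObjectProperty.ι (FibCat.PreservesStronglyCartesian (𝒳 := FibCat.overCat U) (𝒴 := 𝒳))) ⋙
      FibCat.evalAtId 𝒳 U).IsEquivalence := by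
  have hF : ((ObjectProperty.ι (FibCat.PreservesStronglyCartesian (𝒳 := FibCat.overCat U) (𝒴 := 𝒳))) ⋙
      FibCat.evalAtId 𝒳 U).Faithful := by
    constructor
    intro G H α β hαβ
    apply ObjectProperty.hom_ext
    apply H1_evalAtId_faithful (H1_SC_of_preserves H.obj H.property)
    exact congrArg Subtype.val hαβ
  have hFull : ((ObjectProperty.ι (FibCat.PreservesStronglyCartesian (𝒳 := FibCat.overCat U) (𝒴 := 𝒳))) ⋙
      FibCat.evalAtId 𝒳 U).Full := by
    constructor
    intro G H φ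
    haveI : 𝒳.p.IsHomLift (𝟙 U) φ.1 := φ.2
    obtain ⟨α, hα⟩ := H1_evalAtId_full (G := G.obj) (H := H.obj) (H1_SC_of_preserves H.obj H.property) φ.1 (hφ := φ.2)
    refine ⟨ObjectProperty.homMk α, ?_⟩
    apply Functor.Fiber.hom_ext
    exact hα
  have hE : ((ObjectProperty.ι (FibCat.PreservesStronglyCartesian (𝒳 := FibCat.overCat U) (𝒴 := 𝒳))) ⋙
      FibCat.evalAtId 𝒳 U).EssSurj := by
    constructor
    intro x
    obtain ⟨G, hG, ⟨e⟩⟩ := H1_evalAtId_essSurj (U := U) x
    exact ⟨⟨G, hG⟩, ⟨e⟩⟩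
  exact { faithful := hF, full := hFull, essSurj := hE }

end Groth.Agent.H1.FC
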