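import Mathlib
import Groth.Agent.Lib.helper1.FibCatRep
import Groth.Agent.Lib.helper1.FibCatFp
import Groth.Agent.Lib.helper1.FibCatDiag
import Groth.Agent.Lib.helper1.FibCatYoneda

set_option autoImplicit false

/-! Representability of the diagonal (helper1). -/

universe v u v₂ u₂ v₃ u₃ w₁ w₂ w₃ w₄

open CategoryTheory CategoryTheory.Limits

namespace Groth.Agent.H1.FC

section HasTerm

/-- existence of a terminal object, in elementary form -/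
def HasTerm (𝒜 : Type w₁) [Category.{w₂} 𝒜] : Prop := ∃ ξ : 𝒜, ∀ ρ : 𝒜, Nonempty (Unique (ρ ⟶ ξ))

variable {𝒜 : Type w₁} [Category.{w₂} 𝒜] {ℬ : Type w₃} [Category.{w₄} ℬ]

theorem H1_hasTerm_iff_of_ff (Φ : 𝒜 ⥤ ℬ) [Φ.Full] [Φ.Faithful] (P : ℬ → Prop)
    (hP : ∀ a, P (Φ.obj a)) (hess : ∀ b, P b → ∃ a, Nonempty (Φ.obj a ≅ b)) :
    HasTerm 𝒜 ↔ ∃ ξ : ℬ, P ξ ∧ ∀ ρ : ℬ, P ρ → Nonempty (Unique (ρ ⟶ ξ)) := by
  have ff : Φ.FullyFaithful := Functor.FullyFaithful.ofFullyFaithful Φ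
  constructor
  · rintro ⟨ξ₀, h₀⟩
    refine ⟨Φ.obj ξ₀, hP ξ₀, fun ρ hρ => ?_⟩
    obtain ⟨a, ⟨e⟩⟩ := hess ρ hρ
    obtain ⟨u⟩ := h₀ a
    exact ⟨(e.symm.homFromEquiv.trans ff.homEquiv.symm).unique⟩
  · rintro ⟨ξ, hξ, h⟩
    obtain ⟨a₀, ⟨e₀⟩⟩ := hess ξ hξ
    refine ⟨a₀, fun a => ?_⟩
    obtain ⟨u⟩ := h (Φ.obj a) (hP a)
    exact ⟨(ff.homEquiv.trans e₀.homToEquiv).unique⟩

theorem H1_hasTerm_of_relFF (Ψ : ℬ ⥤ 𝒜) [Ψ.Faithful] (P : ℬ → Prop)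
    (hfull : ∀ {b b' : ℬ}, P b → P b' → ∀ k : Ψ.obj b ⟶ Ψ.obj b', ∃ n : b ⟶ b', Ψ.map n = k)
    (hess : ∀ a : 𝒜, ∃ b, P b ∧ Nonempty (Ψ.obj b ≅ a))
    (h : ∃ ξ : ℬ, P ξ ∧ ∀ ρ : ℬ, P ρ → Nonempty (Unique (ρ ⟶ ξ))) : HasTerm 𝒜 := by
  obtain ⟨ξ, hξ, h⟩ := h
  refine ⟨Ψ.obj ξ, fun a => ?_⟩
  obtain ⟨b, hb, ⟨e⟩⟩ := hess a
  obtain ⟨u⟩ := h b hb
  have E : (b ⟶ ξ) ≃ (Ψ.obj b ⟶ Ψ.obj ξ) :=
    Equiv.ofBijective (fun n => Ψ.map n) ⟨fun n n' hn => Ψ.map_injective hn, fun k => hfull hb hξ k⟩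
  exact ⟨(e.symm.homFromEquiv.trans E.symm).unique⟩

end HasTerm

theorem H1_isRepresentable_iff_hasTerm {C : Type u} [Category.{v} C] (𝒳 : BasedCategory.{v, max u v} C)
    (h : FibCat.IsFibGrpd 𝒳.p) : FibCat.IsRepresentable 𝒳 ↔ HasTerm 𝒳.obj := by
  haveI := H1_isFibered_of_isFibGrpd h
  rw [H1_isRepresentable_iff]
  exact ⟨fun h' => h'.2, fun h' => ⟨h, h'⟩⟩


section Phi

variable {C : Type u} [Category.{v} C] {𝒮 : BasedCategory.{v₂, u₂} C} {𝒲 : BasedCategory.{v₃, u₃} C}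

theorem H1_map_eq_eqToHom_of_lift_id {𝒵 : Type w₁} [Category.{w₂} 𝒵] (p : 𝒵 ⥤ C) {R : C} {a b : 𝒵}
    (φ : a ⟶ b) [hφ : p.IsHomLift (𝟙 R) φ] :
    p.map φ = eqToHom ((IsHomLift.domain_eq p (𝟙 R) φ).trans (IsHomLift.codomain_eq p (𝟙 R) φ).symm) := by
  have := IsHomLift.fac' p (𝟙 R) φ
  rw [this]
  simp

variable (K : 𝒲 ⥤ᵇ FibCat.fp (FibCat.toSelf 𝒮) (FibCat.toSelf 𝒮))

/-- first component of `K` -/
abbrev K1 : 𝒲 ⥤ᵇ 𝒮 := BasedFunctor.comp K (FibCat.fpFst _ _)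
/-- second component of `K` -/
abbrev K2 : 𝒲 ⥤ᵇ 𝒮 := BasedFunctor.comp K (FibCat.fpSnd _ _)

variable {K}

/-- first component of the structure isomorphism -/
def alphaIso (z : (FibCat.fp K (FibCat.diag (FibCat.toSelf 𝒮))).obj) :
    (K1 K).toFunctor.obj z.obj.fst ≅ z.obj.snd :=
  (FibCat.fpFst _ _).toFunctor.mapIso z.obj.iso

/-- second component of the structure isomorphism -/
def betaIso (z : (FibCat.fp K (FibCat.diag (FibCat.toSelf 𝒮))).obj) :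
    (K2 K).toFunctor.obj z.obj.fst ≅ z.obj.snd :=
  (FibCat.fpSnd _ _).toFunctor.mapIso z.obj.iso

theorem alphaIso_isHomLift (z : (FibCat.fp K (FibCat.diag (FibCat.toSelf 𝒮))).obj) :
    𝒮.p.IsHomLift (𝟙 (𝒲.p.obj z.obj.fst)) (alphaIso z).hom := by
  have h := z.property
  change (FibCat.fp (FibCat.toSelf 𝒮) (FibCat.toSelf 𝒮)).p.IsHomLift (𝟙 (𝒲.p.obj z.obj.fst)) z.obj.iso.hom at h
  exact (H1_fp_isHomLift_iff _ _ _ _).1 h

theorem betaIso_isHomLift (z : (FibCat.fp K (FibCat.diag (FibCat.toSelf 𝒮))).obj) :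
    𝒮.p.IsHomLift (𝟙 (𝒲.p.obj z.obj.fst)) (betaIso z).hom := by
  have h := z.property
  change (FibCat.fp (FibCat.toSelf 𝒮) (FibCat.toSelf 𝒮)).p.IsHomLift (𝟙 (𝒲.p.obj z.obj.fst)) z.obj.iso.hom at h
  exact H1_fp_isHomLift_snd _ _ z.obj.iso.hom (𝟙 (𝒲.p.obj z.obj.fst))

/-- the isomorphism between the two components -/
def gammaIso (z : (FibCat.fp K (FibCat.diag (FibCat.toSelf 𝒮))).obj) :
    (K1 K).toFunctor.obj z.obj.fst ≅ (K2 K).toFunctor.obj z.obj.fst :=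
  alphaIso z ≪≫ (betaIso z).symm

theorem gammaIso_isHomLift (z : (FibCat.fp K (FibCat.diag (FibCat.toSelf 𝒮))).obj) :
    𝒮.p.IsHomLift (𝟙 (𝒲.p.obj z.obj.fst)) (gammaIso z).hom := by
  haveI := alphaIso_isHomLift z
  haveI := betaIso_isHomLift z
  haveI : 𝒮.p.IsHomLift (𝟙 (𝒲.p.obj z.obj.fst)) (betaIso z).inv := IsHomLift.lift_id_inv _ _ (betaIso z)
  change 𝒮.p.IsHomLift (𝟙 (𝒲.p.obj z.obj.fst)) ((alphaIso z).hom ≫ (betaIso z).inv)
  infer_instance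

theorem alpha_naturality {z z' : (FibCat.fp K (FibCat.diag (FibCat.toSelf 𝒮))).obj} (m : z ⟶ z') :
    (K1 K).toFunctor.map m.hom.fst ≫ (alphaIso z').hom = (alphaIso z).hom ≫ m.hom.snd := by
  have hw := m.hom.w
  have := congrArg (fun t => t.hom.fst) hw
  exact this

theorem beta_naturality {z z' : (FibCat.fp K (FibCat.diag (FibCat.toSelf 𝒮))).obj} (m : z ⟶ z') :
    (K2 K).toFunctor.map m.hom.fst ≫ (betaIso z').hom = (betaIso z).hom ≫ m.hom.snd := by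
  have hw := m.hom.w
  have := congrArg (fun t => t.hom.snd) hw
  exact this

theorem snd_eq {z z' : (FibCat.fp K (FibCat.diag (FibCat.toSelf 𝒮))).obj} (m : z ⟶ z') :
    m.hom.snd = (betaIso z).inv ≫ (K2 K).toFunctor.map m.hom.fst ≫ (betaIso z').hom := by
  rw [beta_naturality, Iso.inv_hom_id_assoc]

theorem gamma_naturality {z z' : (FibCat.fp K (FibCat.diag (FibCat.toSelf 𝒮))).obj} (m : z ⟶ z') :
    (K1 K).toFunctor.map m.hom.fst ≫ (gammaIso z').hom = (gammaIso z).hom ≫ (K2 K).toFunctor.map m.hom.fst := by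
  change (K1 K).toFunctor.map m.hom.fst ≫ (alphaIso z').hom ≫ (betaIso z').inv =
    ((alphaIso z).hom ≫ (betaIso z).inv) ≫ (K2 K).toFunctor.map m.hom.fst
  rw [← Category.assoc, alpha_naturality, snd_eq m]
  simp

/-- the comparison functor on objects -/
def phiObj (z : (FibCat.fp K (FibCat.diag (FibCat.toSelf 𝒮))).obj) : (FibCat.fp (K1 K) (K2 K)).obj :=
  ⟨⟨z.obj.fst, z.obj.fst, gammaIso z⟩, gammaIso_isHomLift z⟩

/-- the comparison functor -/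
def phiFun : (FibCat.fp K (FibCat.diag (FibCat.toSelf 𝒮))).obj ⥤ (FibCat.fp (K1 K) (K2 K)).obj where
  obj := phiObj
  map {z z'} m := ObjectProperty.homMk
    (⟨m.hom.fst, m.hom.fst, gamma_naturality m⟩ : (phiObj z).obj ⟶ (phiObj z').obj)
  map_id z := rfl
  map_comp m m' := rfl


theorem H1_phiFun_faithful : (phiFun (K := K)).Faithful := by
  constructor
  intro z z' m m' h
  have h1 : m.hom.fst = m'.hom.fst := congrArg (fun n : (phiObj z ⟶ phiObj z') => n.hom.fst) h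
  apply ObjectProperty.hom_ext
  apply CategoricalPullback.hom_ext
  · exact h1
  · rw [snd_eq m, snd_eq m', h1]

theorem H1_phiFun_full (hW : 𝒲.p.Faithful) : (phiFun (K := K)).Full := by
  constructor
  intro z z' n
  have hn : n.hom.fst = n.hom.snd := by
    apply hW.map_injective
    have h2 := FibCat.fp_isHomLift_snd (K1 K) (K2 K) n
    exact ((H1_isHomLift_iff 𝒲.p (a := (phiObj z).obj.snd) (b := (phiObj z').obj.snd)
      (𝒲.p.map n.hom.fst) n.hom.snd).1 h2).symm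
  have hw : (K1 K).toFunctor.map n.hom.fst ≫ (gammaIso z').hom =
      (gammaIso z).hom ≫ (K2 K).toFunctor.map n.hom.snd := n.hom.w
  rw [← hn] at hw
  let σ : z.obj.snd ⟶ z'.obj.snd := (betaIso z).inv ≫ (K2 K).toFunctor.map n.hom.fst ≫ (betaIso z').hom
  have e1 : (K1 K).toFunctor.map n.hom.fst ≫ (alphaIso z').hom = (alphaIso z).hom ≫ σ := by
    have : (K1 K).toFunctor.map n.hom.fst ≫ (alphaIso z').hom ≫ (betaIso z').inv =
        ((alphaIso z).hom ≫ (betaIso z).inv) ≫ (K2 K).toFunctor.map n.hom.fst := hw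
    have h3 := congrArg (· ≫ (betaIso z').hom) this
    simp only [Category.assoc, Iso.inv_hom_id, Category.comp_id] at h3
    rw [h3]
    exact (Category.assoc _ _ _).trans (congrArg ((alphaIso z).hom ≫ ·) (Category.assoc _ _ _))
  have e2 : (K2 K).toFunctor.map n.hom.fst ≫ (betaIso z').hom = (betaIso z).hom ≫ σ := by
    exact (Iso.hom_inv_id_assoc (betaIso z) _).symm
  let m : z ⟶ z' := ObjectProperty.homMk (⟨n.hom.fst, σ, by
    apply ObjectProperty.hom_ext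
    apply CategoricalPullback.hom_ext
    · exact e1
    · exact e2⟩ : z.obj ⟶ z'.obj)
  refine ⟨m, ?_⟩
  apply ObjectProperty.hom_ext
  apply CategoricalPullback.hom_ext
  · rfl
  · exact hn

theorem H1_phiFun_diag (z : (FibCat.fp K (FibCat.diag (FibCat.toSelf 𝒮))).obj) :
    (phiFun.obj z).obj.fst = (phiFun.obj z).obj.snd := rfl

theorem H1_phiFun_ess (y : (FibCat.fp (K1 K) (K2 K)).obj) (hy : y.obj.fst = y.obj.snd) :
    ∃ z : (FibCat.fp K (FibCat.diag (FibCat.toSelf 𝒮))).obj, Nonempty (phiFun.obj z ≅ y) := by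
  obtain ⟨⟨w, w', γ⟩, hγ⟩ := y
  change w = w' at hy
  subst hy
  change 𝒮.p.IsHomLift (𝟙 (𝒲.p.obj w)) γ.hom at hγ
  have hK := (K.toFunctor.obj w).property
  change (FibCat.selfOver C).p.IsHomLift (𝟙 (𝒮.p.obj (K.toFunctor.obj w).obj.fst)) (K.toFunctor.obj w).obj.iso.hom at hK
  let θ : (K.toFunctor.obj w).obj ≅ ((FibCat.diag (FibCat.toSelf 𝒮)).toFunctor.obj ((K2 K).toFunctor.obj w)).obj :=
    CategoricalPullback.mkIso γ (Iso.refl _) (by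
      rw [diag_obj_iso_hom]
      change 𝒮.p.map γ.hom ≫ 𝟙 _ = (K.toFunctor.obj w).obj.iso.hom ≫ 𝒮.p.map (𝟙 _)
      rw [H1_map_eq_eqToHom_of_lift_id 𝒮.p γ.hom (R := 𝒲.p.obj w)]
      haveI : (𝟭 C).IsHomLift (𝟙 (𝒮.p.obj (K.toFunctor.obj w).obj.fst)) (K.toFunctor.obj w).obj.iso.hom := hK
      have h2 := H1_map_eq_eqToHom_of_lift_id (𝟭 C) (K.toFunctor.obj w).obj.iso.hom
        (R := 𝒮.p.obj (K.toFunctor.obj w).obj.fst)
      simp only [Functor.id_map] at h2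
      rw [h2]
      simp
      exact (Category.comp_id _).symm)
  have hθ : (FibCat.fp (FibCat.toSelf 𝒮) (FibCat.toSelf 𝒮)).p.IsHomLift (𝟙 (𝒲.p.obj w))
      (ObjectProperty.isoMk _ θ : K.toFunctor.obj w ≅ (FibCat.diag (FibCat.toSelf 𝒮)).toFunctor.obj ((K2 K).toFunctor.obj w)).hom := by
    rw [H1_fp_isHomLift_iff]
    exact hγ
  let z : (FibCat.fp K (FibCat.diag (FibCat.toSelf 𝒮))).obj :=
    ⟨⟨w, (K2 K).toFunctor.obj w, ObjectProperty.isoMk _ θ⟩, hθ⟩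
  refine ⟨z, ⟨ObjectProperty.isoMk _ (CategoricalPullback.mkIso (Iso.refl _) (Iso.refl _) ?_)⟩⟩
  change (K1 K).toFunctor.map (𝟙 w) ≫ γ.hom = (γ.hom ≫ 𝟙 _) ≫ (K2 K).toFunctor.map (𝟙 w)
  simp

theorem H1_hasTerm_fp_diag_iff (hW : 𝒲.p.Faithful) :
    HasTerm (FibCat.fp K (FibCat.diag (FibCat.toSelf 𝒮))).obj ↔
      ∃ ξ : (FibCat.fp (K1 K) (K2 K)).obj, ξ.obj.fst = ξ.obj.snd ∧
        ∀ ρ : (FibCat.fp (K1 K) (K2 K)).obj, ρ.obj.fst = ρ.obj.snd → Nonempty (Unique (ρ ⟶ ξ)) := by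
  haveI := H1_phiFun_full (K := K) hW
  haveI := H1_phiFun_faithful (K := K)
  exact H1_hasTerm_iff_of_ff (phiFun (K := K)) (fun y => y.obj.fst = y.obj.snd) (fun z => rfl)
    (fun y hy => H1_phiFun_ess y hy)

end Phi


section Equalizer

variable {C : Type u} [Category.{v} C] [HasBinaryProducts C] [HasPullbacks C]
  {𝒮 : BasedCategory.{v₂, u₂} C} {U : C}

theorem H1_diagTerm_of_hasTerm (h𝒮 : FibCat.IsFibGrpd 𝒮.p) (G₁ G₂ : FibCat.overCat U ⥤ᵇ 𝒮)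
    (hT : HasTerm (FibCat.fp G₁ G₂).obj) :
    ∃ ξ : (FibCat.fp G₁ G₂).obj, ξ.obj.fst = ξ.obj.snd ∧
      ∀ ρ : (FibCat.fp G₁ G₂).obj, ρ.obj.fst = ρ.obj.snd → Nonempty (Unique (ρ ⟶ ξ)) := by
  haveI : HasEqualizers C := hasEqualizers_of_hasPullbacks_and_binary_products
  have hO : FibCat.IsFibGrpd (FibCat.overCat U).p := (H1_isFibSet_overForget U).1
  have hfp : FibCat.IsFibGrpd (FibCat.fp G₁ G₂).p := H1_isFibGrpd_fp G₁ G₂ hO hO h𝒮
  obtain ⟨ξ, hξ⟩ := hT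
  have hx0 : 𝒮.p.IsHomLift (𝟙 ξ.obj.fst.left) ξ.obj.iso.hom := ξ.property
  have h : ξ.obj.snd.left = ξ.obj.fst.left :=
    (G₂.w_obj ξ.obj.snd).symm.trans (IsHomLift.codomain_eq 𝒮.p (𝟙 ξ.obj.fst.left) ξ.obj.iso.hom)
  let u₁ : ξ.obj.fst.left ⟶ U := ξ.obj.fst.hom
  let u₂ : ξ.obj.fst.left ⟶ U := eqToHom h.symm ≫ ξ.obj.snd.hom
  let e : equalizer u₁ u₂ ⟶ ξ.obj.fst.left := equalizer.ι u₁ u₂
  have cond : e ≫ u₁ = e ≫ u₂ := equalizer.condition u₁ u₂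
  let c : Over U := Over.mk (e ≫ u₁)
  let e₁ : c ⟶ ξ.obj.fst := Over.homMk e rfl
  let e₂ : c ⟶ ξ.obj.snd := Over.homMk (e ≫ eqToHom h.symm) (by
    change (e ≫ eqToHom h.symm) ≫ ξ.obj.snd.hom = e ≫ u₁
    rw [cond, Category.assoc])
  have he₁ : (FibCat.overCat U).p.IsHomLift e e₁ := isHomLift_over e₁
  have he₂ : (FibCat.overCat U).p.IsHomLift e e₂ := by
    apply IsHomLift.of_fac (Over.forget U) e e₂ rfl h
    change e = eqToHom rfl ≫ (e ≫ eqToHom h.symm) ≫ eqToHom h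
    simp
  have hG₂ : 𝒮.p.IsHomLift e (G₂.toFunctor.map e₂) := BasedFunctor.preserves_isHomLift G₂ e e₂
  have hsc : 𝒮.p.IsStronglyCartesian e (G₂.toFunctor.map e₂) :=
    H1_isStronglyCartesian_of_isFibGrpd h𝒮 _ _
  obtain ⟨i', hi', hw⟩ := H1_fp_exists_iso G₁ G₂ ξ e e₁ (hφ := he₁) e₂ (hψ := hsc) (by
    intro j hj _
    have : IsIso (𝒮.p.map j) := by
      rw [IsHomLift.fac' 𝒮.p (𝟙 (equalizer u₁ u₂)) j]; infer_instance
    exact H1_isIso_of_isFibGrpd h𝒮 j)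
  let ξE : (FibCat.fp G₁ G₂).obj := ⟨⟨c, c, i'⟩, hi'⟩
  let ι : ξE ⟶ ξ := ObjectProperty.homMk (⟨e₁, e₂, hw⟩ : ξE.obj ⟶ ξ.obj)
  have hι : (FibCat.fp G₁ G₂).p.IsStronglyCartesian e ι := hfp.isStronglyCartesian ι
  refine ⟨ξE, rfl, ?_⟩
  intro ρ hρ
  obtain ⟨⟨r, r', γ⟩, hγ⟩ := ρ
  change r = r' at hρ
  subst hρ
  obtain ⟨uρ⟩ := hξ ⟨⟨r, r, γ⟩, hγ⟩
  let t : (⟨⟨r, r, γ⟩, hγ⟩ : (FibCat.fp G₁ G₂).obj) ⟶ ξ := uρ.default
  have ht : ∀ t' : (⟨⟨r, r, γ⟩, hγ⟩ : (FibCat.fp G₁ G₂).obj) ⟶ ξ, t' = t := fun t' => uρ.uniq t'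
  let n : r.left ⟶ ξ.obj.fst.left := t.hom.fst.left
  have hn1 : n ≫ u₁ = r.hom := Over.w t.hom.fst
  have hn2 : t.hom.snd.left ≫ ξ.obj.snd.hom = r.hom := Over.w t.hom.snd
  have hsnd : (Over.forget U).IsHomLift n t.hom.snd := FibCat.fp_isHomLift_snd G₁ G₂ t
  have hn3 : n = t.hom.snd.left ≫ eqToHom h := by
    have := IsHomLift.fac (Over.forget U) n t.hom.snd
    simpa using this
  have hn4 : n ≫ u₁ = n ≫ u₂ := by
    rw [hn1]
    change r.hom = n ≫ eqToHom h.symm ≫ ξ.obj.snd.hom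
    rw [hn3, Category.assoc, eqToHom_trans_assoc, eqToHom_refl, Category.id_comp, hn2]
  let l : r.left ⟶ equalizer u₁ u₂ := equalizer.lift n hn4
  have hl : l ≫ e = n := equalizer.lift_ι n hn4
  have htl : (FibCat.fp G₁ G₂).p.IsHomLift n t :=
    inferInstanceAs ((FibCat.fp G₁ G₂).p.IsHomLift ((FibCat.fp G₁ G₂).p.map t) t)
  let χ : (⟨⟨r, r, γ⟩, hγ⟩ : (FibCat.fp G₁ G₂).obj) ⟶ ξE :=
    Functor.IsStronglyCartesian.map (FibCat.fp G₁ G₂).p e ι (g := l) (f' := n) hl.symm t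
  refine ⟨{ default := χ, uniq := ?_ }⟩
  intro χ'
  have key : ∀ χ'' : (⟨⟨r, r, γ⟩, hγ⟩ : (FibCat.fp G₁ G₂).obj) ⟶ ξE,
      (FibCat.fp G₁ G₂).p.IsHomLift l χ'' := by
    intro χ''
    have h1 : χ'' ≫ ι = t := ht _
    have h2 : (FibCat.fp G₁ G₂).p.map χ'' ≫ e = n := by
      have := congrArg (fun m => (FibCat.fp G₁ G₂).p.map m) h1
      simp only [Functor.map_comp] at this
      exact this
    have h3 : (FibCat.fp G₁ G₂).p.map χ'' = l := by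
      apply equalizer.hom_ext
      exact h2.trans hl.symm
    exact (H1_isHomLift_iff (FibCat.fp G₁ G₂).p (a := ⟨⟨r, r, γ⟩, hγ⟩) (b := ξE) l χ'').2 h3
  haveI := key χ
  haveI := key χ'
  apply Functor.IsStronglyCartesian.ext (FibCat.fp G₁ G₂).p e ι l
  rw [ht (χ' ≫ ι), ht (χ ≫ ι)]

end Equalizer


section Psi

variable {C : Type u} [Category.{v} C] [HasBinaryProducts C]
  {𝒮 : BasedCategory.{v₂, u₂} C} {U V : C}

/-- composition with a morphism of the base, as a functor over the base -/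
abbrev OMap {X X' : C} (h : X' ⟶ X) : FibCat.overCat X' ⥤ᵇ FibCat.overCat X :=
  ⟨Over.map h, Over.mapForget_eq h⟩

/-- first leg on the product -/
noncomputable abbrev A1 (G' : FibCat.overCat V ⥤ᵇ 𝒮) (_G : FibCat.overCat U ⥤ᵇ 𝒮) :
    FibCat.overCat (V ⨯ U) ⥤ᵇ 𝒮 := BasedFunctor.comp (OMap (prod.fst : V ⨯ U ⟶ V)) G'
/-- second leg on the product -/
noncomputable abbrev A2 (_G' : FibCat.overCat V ⥤ᵇ 𝒮) (G : FibCat.overCat U ⥤ᵇ 𝒮) :
    FibCat.overCat (V ⨯ U) ⥤ᵇ 𝒮 := BasedFunctor.comp (OMap (prod.snd : V ⨯ U ⟶ U)) G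

variable (G' : FibCat.overCat V ⥤ᵇ 𝒮) (G : FibCat.overCat U ⥤ᵇ 𝒮)

/-- comparison on objects -/
noncomputable def psiObj (y : (FibCat.fp (A1 G' G) (A2 G' G)).obj) : (FibCat.fp G' G).obj :=
  ⟨⟨(Over.map (prod.fst : V ⨯ U ⟶ V)).obj y.obj.fst, (Over.map (prod.snd : V ⨯ U ⟶ U)).obj y.obj.snd,
    y.obj.iso⟩, y.property⟩

/-- comparison functor -/
noncomputable def psiFun : (FibCat.fp (A1 G' G) (A2 G' G)).obj ⥤ (FibCat.fp G' G).obj where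
  obj := psiObj G' G
  map {y y'} n := ObjectProperty.homMk
    (⟨(Over.map (prod.fst : V ⨯ U ⟶ V)).map n.hom.fst, (Over.map (prod.snd : V ⨯ U ⟶ U)).map n.hom.snd,
      n.hom.w⟩ : (psiObj G' G y).obj ⟶ (psiObj G' G y').obj)
  map_id y := by
    apply ObjectProperty.hom_ext
    apply CategoricalPullback.hom_ext
    · exact (Over.map (prod.fst : V ⨯ U ⟶ V)).map_id _
    · exact (Over.map (prod.snd : V ⨯ U ⟶ U)).map_id _
  map_comp n n' := by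
    apply ObjectProperty.hom_ext
    apply CategoricalPullback.hom_ext
    · exact (Over.map (prod.fst : V ⨯ U ⟶ V)).map_comp _ _
    · exact (Over.map (prod.snd : V ⨯ U ⟶ U)).map_comp _ _

theorem H1_psiFun_faithful : (psiFun G' G).Faithful := by
  constructor
  intro y y' n n' h
  have h1 : (Over.map (prod.fst : V ⨯ U ⟶ V)).map n.hom.fst = (Over.map (prod.fst : V ⨯ U ⟶ V)).map n'.hom.fst :=
    congrArg (fun k : (psiObj G' G y ⟶ psiObj G' G y') => k.hom.fst) h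
  have h2 : (Over.map (prod.snd : V ⨯ U ⟶ U)).map n.hom.snd = (Over.map (prod.snd : V ⨯ U ⟶ U)).map n'.hom.snd :=
    congrArg (fun k : (psiObj G' G y ⟶ psiObj G' G y') => k.hom.snd) h
  apply ObjectProperty.hom_ext
  apply CategoricalPullback.hom_ext
  · apply Over.OverMorphism.ext
    exact congrArg (fun k => k.left) h1
  · apply Over.OverMorphism.ext
    exact congrArg (fun k => k.left) h2

theorem H1_psiFun_full_diag {b b' : (FibCat.fp (A1 G' G) (A2 G' G)).obj} (hb : b.obj.fst = b.obj.snd)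
    (hb' : b'.obj.fst = b'.obj.snd) (k : (psiFun G' G).obj b ⟶ (psiFun G' G).obj b') :
    ∃ n : b ⟶ b', (psiFun G' G).map n = k := by
  obtain ⟨⟨c, c₂, γ⟩, hγ⟩ := b
  change c = c₂ at hb
  subst hb
  obtain ⟨⟨c', c₂', γ'⟩, hγ'⟩ := b'
  change c' = c₂' at hb'
  subst hb'
  let k₁ : (Over.map (prod.fst : V ⨯ U ⟶ V)).obj c ⟶ (Over.map (prod.fst : V ⨯ U ⟶ V)).obj c' := k.hom.fst
  let k₂ : (Over.map (prod.snd : V ⨯ U ⟶ U)).obj c ⟶ (Over.map (prod.snd : V ⨯ U ⟶ U)).obj c' := k.hom.snd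
  let m : c.left ⟶ c'.left := k₁.left
  have hk₂ : k₂.left = m := by
    have h2 := FibCat.fp_isHomLift_snd G' G k
    exact (H1_isHomLift_iff (Over.forget U) (a := (Over.map (prod.snd : V ⨯ U ⟶ U)).obj c)
      (b := (Over.map (prod.snd : V ⨯ U ⟶ U)).obj c') m k₂).1 h2
  have w1 : m ≫ c'.hom ≫ prod.fst = c.hom ≫ prod.fst := Over.w k₁
  have w2 : m ≫ c'.hom ≫ prod.snd = c.hom ≫ prod.snd := by
    have := Over.w k₂
    rw [hk₂] at this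
    exact this
  have wm : m ≫ c'.hom = c.hom := by
    apply Limits.prod.hom_ext
    · rw [Category.assoc]; exact w1
    · rw [Category.assoc]; exact w2
  let n₁ : c ⟶ c' := Over.homMk m wm
  have e1 : (Over.map (prod.fst : V ⨯ U ⟶ V)).map n₁ = k₁ := by
    apply Over.OverMorphism.ext
    rfl
  have e2 : (Over.map (prod.snd : V ⨯ U ⟶ U)).map n₁ = k₂ := by
    apply Over.OverMorphism.ext
    exact hk₂.symm
  have hw : G'.toFunctor.map k₁ ≫ γ'.hom = γ.hom ≫ G.toFunctor.map k₂ := k.hom.w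
  let n : (⟨⟨c, c, γ⟩, hγ⟩ : (FibCat.fp (A1 G' G) (A2 G' G)).obj) ⟶ ⟨⟨c', c', γ'⟩, hγ'⟩ :=
    ObjectProperty.homMk (⟨n₁, n₁, by
      change G'.toFunctor.map ((Over.map (prod.fst : V ⨯ U ⟶ V)).map n₁) ≫ γ'.hom =
        γ.hom ≫ G.toFunctor.map ((Over.map (prod.snd : V ⨯ U ⟶ U)).map n₁)
      rw [e1, e2]
      exact hw⟩ : (⟨c, c, γ⟩ : CategoricalPullback (A1 G' G).toFunctor (A2 G' G).toFunctor) ⟶ ⟨c', c', γ'⟩)
  refine ⟨n, ?_⟩
  apply ObjectProperty.hom_ext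
  apply CategoricalPullback.hom_ext
  · exact e1
  · exact e2

theorem H1_psiFun_ess (a : (FibCat.fp G' G).obj) :
    ∃ b : (FibCat.fp (A1 G' G) (A2 G' G)).obj, b.obj.fst = b.obj.snd ∧ Nonempty ((psiFun G' G).obj b ≅ a) := by
  obtain ⟨⟨b₀, a₀, γ⟩, hγ⟩ := a
  change 𝒮.p.IsHomLift (𝟙 b₀.left) γ.hom at hγ
  have h : a₀.left = b₀.left :=
    (G.w_obj a₀).symm.trans (IsHomLift.codomain_eq 𝒮.p (𝟙 b₀.left) γ.hom)
  let c : Over (V ⨯ U) := Over.mk (prod.lift b₀.hom (eqToHom h.symm ≫ a₀.hom))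
  let i₁ : (Over.map (prod.fst : V ⨯ U ⟶ V)).obj c ≅ b₀ := Over.isoMk (Iso.refl _) (by
    change 𝟙 _ ≫ b₀.hom = prod.lift b₀.hom (eqToHom h.symm ≫ a₀.hom) ≫ prod.fst
    rw [prod.lift_fst, Category.id_comp])
  let i₂ : (Over.map (prod.snd : V ⨯ U ⟶ U)).obj c ≅ a₀ := Over.isoMk (eqToIso h.symm) (by
    change eqToHom h.symm ≫ a₀.hom = prod.lift b₀.hom (eqToHom h.symm ≫ a₀.hom) ≫ prod.snd
    rw [prod.lift_snd])
  have hi₁ : (FibCat.overCat V).p.IsHomLift (𝟙 b₀.left) i₁.hom := by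
    apply IsHomLift.of_fac (Over.forget V) (𝟙 b₀.left) i₁.hom rfl rfl
    simp [i₁]
  have hi₂ : (FibCat.overCat U).p.IsHomLift (𝟙 b₀.left) i₂.inv := by
    apply IsHomLift.of_fac (Over.forget U) (𝟙 b₀.left) i₂.inv h rfl
    simp [i₂]
  have hG'i : 𝒮.p.IsHomLift (𝟙 b₀.left) (G'.toFunctor.map i₁.hom) :=
    BasedFunctor.preserves_isHomLift G' (𝟙 b₀.left) i₁.hom
  have hGi : 𝒮.p.IsHomLift (𝟙 b₀.left) (G.toFunctor.map i₂.inv) :=
    BasedFunctor.preserves_isHomLift G (𝟙 b₀.left) i₂.inv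
  let γc : G'.toFunctor.obj ((Over.map (prod.fst : V ⨯ U ⟶ V)).obj c) ≅
      G.toFunctor.obj ((Over.map (prod.snd : V ⨯ U ⟶ U)).obj c) :=
    G'.toFunctor.mapIso i₁ ≪≫ γ ≪≫ (G.toFunctor.mapIso i₂).symm
  have hγc : 𝒮.p.IsHomLift (𝟙 b₀.left) γc.hom := by
    change 𝒮.p.IsHomLift (𝟙 b₀.left) (G'.toFunctor.map i₁.hom ≫ γ.hom ≫ G.toFunctor.map i₂.inv)
    infer_instance
  let b : (FibCat.fp (A1 G' G) (A2 G' G)).obj := ⟨⟨c, c, γc⟩, hγc⟩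
  refine ⟨b, rfl, ⟨ObjectProperty.isoMk _ (CategoricalPullback.mkIso i₁ i₂ ?_)⟩⟩
  change G'.toFunctor.map i₁.hom ≫ γ.hom =
    (G'.toFunctor.map i₁.hom ≫ γ.hom ≫ G.toFunctor.map i₂.inv) ≫ G.toFunctor.map i₂.hom
  exact ((Category.assoc _ _ _).trans (congrArg (G'.toFunctor.map i₁.hom ≫ ·) ((Category.assoc _ _ _).trans
    ((congrArg (γ.hom ≫ ·) (G.toFunctor.mapIso i₂).inv_hom_id).trans (Category.comp_id _))))).symm

theorem H1_hasTerm_fp_of_diagTerm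
    (h : ∃ ξ : (FibCat.fp (A1 G' G) (A2 G' G)).obj, ξ.obj.fst = ξ.obj.snd ∧
      ∀ ρ : (FibCat.fp (A1 G' G) (A2 G' G)).obj, ρ.obj.fst = ρ.obj.snd → Nonempty (Unique (ρ ⟶ ξ))) :
    HasTerm (FibCat.fp G' G).obj := by
  haveI := H1_psiFun_faithful G' G
  exact H1_hasTerm_of_relFF (psiFun G' G) (fun y => y.obj.fst = y.obj.snd)
    (fun hb hb' k => H1_psiFun_full_diag G' G hb hb' k) (H1_psiFun_ess G' G) h

end Psi


section Main

theorem H1_UL_id' (C : Type u) [Category.{v} C] : UL (𝟭 C) := by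
  refine H1_UL_mk ?_ ?_
  · intro η U f
    exact ⟨U, f, (H1_isHomLift_iff (𝟭 C) (a := U) (b := η) f f).2 rfl⟩
  · intro a b η φ ψ U f hφ hψ
    have ha : a = U := IsHomLift.domain_eq (𝟭 C) f φ
    have hb : b = U := IsHomLift.domain_eq (𝟭 C) f ψ
    subst ha
    subst hb
    refine ⟨rfl, ?_⟩
    have h1 := IsHomLift.fac' (𝟭 C) f φ
    have h2 := IsHomLift.fac' (𝟭 C) f ψ
    simp only [Functor.id_map, eqToHom_refl, Category.comp_id, Category.id_comp] at h1 h2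
    rw [h1, h2]
    simp

theorem H1_basedFunctor_ext {C : Type u} [Category.{v} C] {𝒳 : BasedCategory.{v₂, u₂} C}
    {𝒴 : BasedCategory.{v₃, u₃} C} {F G : 𝒳 ⥤ᵇ 𝒴} (h : F.toFunctor = G.toFunctor) : F = G := by
  cases F
  cases G
  cases h
  rfl

variable {C : Type u} [Category.{v} C] [HasBinaryProducts C] [HasPullbacks C]
  {𝒮 : BasedCategory.{v, max u v} C}

theorem H1_isRepresentable1_diag_iff (h𝒮 : FibCat.IsFibGrpd 𝒮.p) :
    FibCat.IsRepresentable1 (FibCat.diag (FibCat.toSelf 𝒮)) ↔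
      ∀ (U : C) (G : FibCat.overCat U ⥤ᵇ 𝒮), FibCat.IsRepresentable1 G := by
  have h0 : FibCat.IsFibGrpd (FibCat.selfOver C).p := H1_isFibGrpd_of_UL (H1_UL_id' C)
  have h𝒫 : FibCat.IsFibGrpd (FibCat.fp (FibCat.toSelf 𝒮) (FibCat.toSelf 𝒮)).p :=
    H1_isFibGrpd_fp _ _ h𝒮 h𝒮 h0
  have hO : ∀ X : C, FibCat.IsFibGrpd (FibCat.overCat X).p := fun X => (H1_isFibSet_overForget X).1
  have hOf : ∀ X : C, (FibCat.overCat X).p.Faithful := fun X => inferInstanceAs (Over.forget X).Faithful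
  constructor
  · intro hΔ U G V G'
    have hfp : FibCat.IsFibGrpd (FibCat.fp G' G).p := H1_isFibGrpd_fp _ _ (hO V) (hO U) h𝒮
    rw [H1_isRepresentable_iff_hasTerm _ hfp]
    have hε : BasedFunctor.comp (A1 G' G) (FibCat.toSelf 𝒮) = BasedFunctor.comp (A2 G' G) (FibCat.toSelf 𝒮) := by
      apply H1_basedFunctor_ext
      have e1 : (BasedFunctor.comp (A1 G' G) (FibCat.toSelf 𝒮)).toFunctor = Over.forget (V ⨯ U) :=
        (BasedFunctor.comp (A1 G' G) (FibCat.toSelf 𝒮)).w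
      have e2 : (BasedFunctor.comp (A2 G' G) (FibCat.toSelf 𝒮)).toFunctor = Over.forget (V ⨯ U) :=
        (BasedFunctor.comp (A2 G' G) (FibCat.toSelf 𝒮)).w
      exact e1.trans e2.symm
    let K : FibCat.overCat (V ⨯ U) ⥤ᵇ FibCat.fp (FibCat.toSelf 𝒮) (FibCat.toSelf 𝒮) :=
      FibCat.fpLift (A1 G' G) (A2 G' G) (eqToIso hε)
    have hK := hΔ (V ⨯ U) K
    have hfpK : FibCat.IsFibGrpd (FibCat.fp K (FibCat.diag (FibCat.toSelf 𝒮))).p :=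
      H1_isFibGrpd_fp _ _ (hO _) h𝒮 h𝒫
    rw [H1_isRepresentable_iff_hasTerm _ hfpK] at hK
    have hD := (H1_hasTerm_fp_diag_iff (K := K) (hOf _)).1 hK
    exact H1_hasTerm_fp_of_diagTerm G' G hD
  · intro hall P K
    have hfpK : FibCat.IsFibGrpd (FibCat.fp K (FibCat.diag (FibCat.toSelf 𝒮))).p :=
      H1_isFibGrpd_fp _ _ (hO _) h𝒮 h𝒫
    rw [H1_isRepresentable_iff_hasTerm _ hfpK]
    have h1 := hall P (K2 K) P (K1 K)
    have hfp : FibCat.IsFibGrpd (FibCat.fp (K1 K) (K2 K)).p := H1_isFibGrpd_fp _ _ (hO P) (hO P) h𝒮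
    rw [H1_isRepresentable_iff_hasTerm _ hfp] at h1
    exact (H1_hasTerm_fp_diag_iff (K := K) (hOf _)).2 (H1_diagTerm_of_hasTerm h𝒮 _ _ h1)

end Main

end Groth.Agent.H1.FC
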