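import Mathlib
import Groth.Agent.Lib.helper1.FibCatCart
import Groth.Prelude.Def_AlgSt

set_option autoImplicit false

/-! Stacks and equivalences over the base (helper1). -/

universe v₁ u₁ v₂ u₂ v₃ u₃ v₄ u₄ v₅ u₅

open CategoryTheory

namespace Groth.Agent.H1.FC

variable {C : Type u₁} [Category.{v₁} C]
variable {𝒳 : BasedCategory.{v₂, u₂} C} {𝒴 : BasedCategory.{v₃, u₃} C}

/-- postcomposition with a based functor, universe-polymorphic. -/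
def postF (ℬ : BasedCategory.{v₄, u₄} C) (F : 𝒳 ⥤ᵇ 𝒴) : (ℬ ⥤ᵇ 𝒳) ⥤ (ℬ ⥤ᵇ 𝒴) where
  obj H := BasedFunctor.comp H F
  map α := BasedCategory.whiskerRight α F
  map_id H := by apply BasedNatTrans.homCategory.ext; ext b; simp; rfl
  map_comp α β := by apply BasedNatTrans.homCategory.ext; ext b; simp; rfl

/-- the whiskering isomorphism `H ⋙ K ≅ H` for `K ≅ 𝟭`. -/
def whiskerIso {ℬ : BasedCategory.{v₄, u₄} C} (H : ℬ ⥤ᵇ 𝒳) {K : 𝒳 ⥤ᵇ 𝒳} (ε : K ≅ BasedFunctor.id 𝒳) :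
    BasedFunctor.comp H K ≅ H :=
  BasedNatIso.mkNatIso
    (NatIso.ofComponents (fun b => ((BasedNatTrans.forgetful 𝒳 𝒳).mapIso ε).app (H.obj b))
      (fun {b b'} f => ε.hom.toNatTrans.naturality (H.map f)))
    (fun b => BasedNatTrans.isHomLift ε.hom (H.w_obj b))

theorem H1_postF_isEquivalence (ℬ : BasedCategory.{v₄, u₄} C) (F : 𝒳 ⥤ᵇ 𝒴) (hF : FibCat.IsEquivOver F) :
    (postF ℬ F).IsEquivalence := by
  obtain ⟨G, ⟨ε⟩, ⟨η⟩⟩ := hF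
  let i₁ : postF ℬ F ⋙ postF ℬ G ≅ 𝟭 _ :=
    NatIso.ofComponents (fun H => whiskerIso H ε) (by
      intro H H' α
      apply BasedNatTrans.homCategory.ext
      ext b
      exact ε.hom.toNatTrans.naturality (α.toNatTrans.app b))
  let i₂ : postF ℬ G ⋙ postF ℬ F ≅ 𝟭 _ :=
    NatIso.ofComponents (fun H => whiskerIso H η) (by
      intro H H' α
      apply BasedNatTrans.homCategory.ext
      ext b
      exact η.hom.toNatTrans.naturality (α.toNatTrans.app b))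
  exact (CategoryTheory.Equivalence.mk (postF ℬ F) (postF ℬ G) i₁.symm i₂).isEquivalence_functor

/-- restriction commutes with postcomposition -/
def restrPostIso {𝒜 : BasedCategory.{v₄, u₄} C} {ℬ : BasedCategory.{v₅, u₅} C} (ι : 𝒜 ⥤ᵇ ℬ)
    (F : 𝒳 ⥤ᵇ 𝒴) : Stk.restr ι 𝒳 ⋙ postF 𝒜 F ≅ postF ℬ F ⋙ Stk.restr ι 𝒴 :=
  NatIso.ofComponents (fun H => Iso.refl _) (by
    intro H H' α
    apply BasedNatTrans.homCategory.ext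
    ext b
    simp [postF, Stk.restr]
    rfl)

section Transfer

variable {𝒞₁ : Type*} [Category 𝒞₁] {𝒞₂ : Type*} [Category 𝒞₂] {𝒟₁ : Type*} [Category 𝒟₁]
  {𝒟₂ : Type*} [Category 𝒟₂]

theorem H1_transfer {A : 𝒞₁ ⥤ 𝒞₂} {B : 𝒟₁ ⥤ 𝒟₂} (E₁ : 𝒞₁ ⥤ 𝒟₁) (E₂ : 𝒞₂ ⥤ 𝒟₂) [E₁.IsEquivalence]
    [E₂.IsEquivalence] (i : A ⋙ E₂ ≅ E₁ ⋙ B) :
    (A.Full → B.Full) ∧ (A.Faithful → B.Faithful) ∧ (A.IsEquivalence → B.IsEquivalence) := by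
  have j : E₁.inv ⋙ A ⋙ E₂ ≅ B :=
    Functor.isoWhiskerLeft E₁.inv i ≪≫ (Functor.associator _ _ _).symm ≪≫
      Functor.isoWhiskerRight E₁.asEquivalence.counitIso B ≪≫ Functor.leftUnitor B
  refine ⟨fun h => ?_, fun h => ?_, fun h => ?_⟩
  · exact Functor.Full.of_iso j
  · exact Functor.Faithful.of_iso j
  · exact Functor.isEquivalence_of_iso j

end Transfer

theorem H1_isStackFor_of_isEquivOver (F : 𝒳 ⥤ᵇ 𝒴) (hF : FibCat.IsEquivOver F) {U : C} (R : Sieve U) :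
    (Stk.IsPrestackFor R 𝒳 → Stk.IsPrestackFor R 𝒴) ∧ (Stk.IsStackFor R 𝒳 → Stk.IsStackFor R 𝒴) := by
  have h1 := H1_postF_isEquivalence (FibCat.overCat U) F hF
  have h2 := H1_postF_isEquivalence (Stk.sieveCat R) F hF
  obtain ⟨t1, t2, t3⟩ := H1_transfer (postF (FibCat.overCat U) F) (postF (Stk.sieveCat R) F)
    (restrPostIso (Stk.sieveIncl R) F)
  exact ⟨fun h => ⟨t1 h.1, t2 h.2⟩, t3⟩

theorem H1_exists_lift_of_isEquivOver (F : 𝒳 ⥤ᵇ 𝒴) (hF : FibCat.IsEquivOver F)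
    (h𝒳 : ∀ {x : 𝒳.obj} {V : C} (f : V ⟶ 𝒳.p.obj x), ∃ (y : 𝒳.obj) (φ : y ⟶ x), 𝒳.p.IsHomLift f φ)
    {y : 𝒴.obj} {V : C} (f : V ⟶ 𝒴.p.obj y) : ∃ (y' : 𝒴.obj) (φ : y' ⟶ y), 𝒴.p.IsHomLift f φ := by
  obtain ⟨hfull, hfaith, hess⟩ := H1_isEquivOver_data F hF
  obtain ⟨x, e, he⟩ := hess y
  have hx : 𝒳.p.obj x = 𝒴.p.obj y :=
    (F.w_obj x).symm.trans (IsHomLift.domain_eq 𝒴.p (𝟙 (𝒴.p.obj y)) e.hom)
  obtain ⟨x', φ, hφ'⟩ := h𝒳 (x := x) (f ≫ eqToHom hx.symm)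
  have hφ : 𝒳.p.IsHomLift f φ := (IsHomLift.lift_comp_eqToHom_iff 𝒳.p f φ hx.symm).1 hφ'
  refine ⟨F.toFunctor.obj x', F.toFunctor.map φ ≫ e.hom, ?_⟩
  have : 𝒴.p.IsHomLift (f ≫ 𝟙 _) (F.toFunctor.map φ ≫ e.hom) := inferInstance
  simpa using this

theorem H1_isFibGrpd_of_isEquivOver (F : 𝒳 ⥤ᵇ 𝒴) (hF : FibCat.IsEquivOver F)
    (h𝒳 : FibCat.IsFibGrpd 𝒳.p) : FibCat.IsFibGrpd 𝒴.p := by
  refine ⟨fun f => H1_exists_lift_of_isEquivOver F hF h𝒳.exists_lift f, ?_⟩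
  intro y' y φ
  obtain ⟨G, h1, h2⟩ := hF
  have hG : FibCat.IsEquivOver G := ⟨F, h2, h1⟩
  obtain ⟨hfull, hfaith, hess⟩ := H1_isEquivOver_data G hG
  have hs : 𝒳.p.IsStronglyCartesian (𝒴.p.map φ) (G.toFunctor.map φ) :=
    H1_isStronglyCartesian_of_isFibGrpd h𝒳 _ _
  exact H1_isStronglyCartesian_of_map G (𝒴.p.map φ) φ

theorem H1_isFibSetoid_of_isEquivOver (F : 𝒳 ⥤ᵇ 𝒴) (hF : FibCat.IsEquivOver F)
    (h𝒳 : FibCat.IsFibSetoid 𝒳.p) : FibCat.IsFibSetoid 𝒴.p := by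
  refine ⟨H1_isFibGrpd_of_isEquivOver F hF h𝒳.1, ?_⟩
  obtain ⟨G, h1, h2⟩ := hF
  have hG : FibCat.IsEquivOver G := ⟨F, h2, h1⟩
  obtain ⟨hfull, hfaith, hess⟩ := H1_isEquivOver_data G hG
  intro U a b
  refine ⟨fun φ ψ => ?_⟩
  have := h𝒳.2 U
  have h3 : (FibCat.fiberFunctor G U).map φ = (FibCat.fiberFunctor G U).map ψ := Subsingleton.elim _ _
  have := H1_fiberFunctor_faithful_of_faithful G U
  exact (FibCat.fiberFunctor G U).map_injective h3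

theorem H1_isStack_of_isEquivOver (J : GrothendieckTopology C) (F : 𝒳 ⥤ᵇ 𝒴) (hF : FibCat.IsEquivOver F)
    (h : Stk.IsStack J 𝒳) : Stk.IsStack J 𝒴 :=
  ⟨H1_isFibGrpd_of_isEquivOver F hF h.1, fun _ R hR => (H1_isStackFor_of_isEquivOver F hF R).2 (h.2 R hR)⟩

theorem H1_isPrestack_of_isEquivOver (J : GrothendieckTopology C) (F : 𝒳 ⥤ᵇ 𝒴) (hF : FibCat.IsEquivOver F)
    (h : Stk.IsPrestack J 𝒳) : Stk.IsPrestack J 𝒴 :=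
  ⟨H1_isFibGrpd_of_isEquivOver F hF h.1, fun _ R hR => (H1_isStackFor_of_isEquivOver F hF R).1 (h.2 R hR)⟩

end Groth.Agent.H1.FC
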