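import Mathlib
import Groth.Agent.Lib.helper1.FibCatFp
import Groth.Agent.Lib.helper1.StkEquiv
import Groth.Agent.Lib.helper1.CatPullbackMap

set_option autoImplicit false

/-! The universal property of the 2-fibre product over the base (helper1). -/

universe v₁ u₁ v₂ u₂ v₃ u₃ v₄ u₄ v₅ u₅ v₆ u₆

open CategoryTheory CategoryTheory.Limits

namespace Groth.Agent.H1.FC

variable {C : Type u₁} [Category.{v₁} C]
variable {𝒳 : BasedCategory.{v₂, u₂} C} {𝒴 : BasedCategory.{v₃, u₃} C} {𝒮 : BasedCategory.{v₄, u₄} C}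
variable (F : 𝒳 ⥤ᵇ 𝒮) (G : 𝒴 ⥤ᵇ 𝒮)

section Univ

variable (𝒲 : BasedCategory.{v₅, u₅} C)

/-- the whiskering of the canonical 2-isomorphism of the fibre product -/
def fpWhisk {𝒲 : BasedCategory.{v₅, u₅} C} (H : 𝒲 ⥤ᵇ FibCat.fp F G) :
    BasedFunctor.comp (BasedFunctor.comp H (FibCat.fpFst F G)) F ≅
      BasedFunctor.comp (BasedFunctor.comp H (FibCat.fpSnd F G)) G :=
  BasedNatIso.mkNatIso
    (NatIso.ofComponents (fun w => (H.toFunctor.obj w).obj.iso)
      (fun {w w'} g => (H.toFunctor.map g).hom.w))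
    (fun w => by
      have h1 : 𝒮.p.IsHomLift (𝟙 (𝒳.p.obj (H.toFunctor.obj w).obj.fst)) (H.toFunctor.obj w).obj.iso.hom :=
        (H.toFunctor.obj w).property
      have h2 : 𝒳.p.obj (H.toFunctor.obj w).obj.fst = 𝒲.p.obj w := H.w_obj w
      exact H1_isHomLift_id_of_eq 𝒮.p h2 _ (hφ := h1))

@[simp] theorem fpWhisk_hom_app {𝒲 : BasedCategory.{v₅, u₅} C} (H : 𝒲 ⥤ᵇ FibCat.fp F G) (w : 𝒲.obj) :
    (fpWhisk F G H).hom.toNatTrans.app w = (H.toFunctor.obj w).obj.iso.hom := rfl

/-- the comparison functor of the universal property -/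
def fpUniv : (𝒲 ⥤ᵇ FibCat.fp F G) ⥤ CategoricalPullback (postF 𝒲 F) (postF 𝒲 G) where
  obj H := ⟨BasedFunctor.comp H (FibCat.fpFst F G), BasedFunctor.comp H (FibCat.fpSnd F G), fpWhisk F G H⟩
  map {H H'} α :=
    { fst := BasedCategory.whiskerRight α (FibCat.fpFst F G)
      snd := BasedCategory.whiskerRight α (FibCat.fpSnd F G)
      w := by
        apply BasedNatTrans.homCategory.ext
        ext w
        exact (α.toNatTrans.app w).hom.w }
  map_id H := by
    apply CategoricalPullback.hom_ext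
    · apply BasedNatTrans.homCategory.ext; ext w; rfl
    · apply BasedNatTrans.homCategory.ext; ext w; rfl
  map_comp α β := by
    apply CategoricalPullback.hom_ext
    · apply BasedNatTrans.homCategory.ext; ext w; rfl
    · apply BasedNatTrans.homCategory.ext; ext w; rfl

theorem H1_fpUniv_faithful : (fpUniv F G 𝒲).Faithful := by
  constructor
  intro H H' α β h
  apply BasedNatTrans.homCategory.ext
  ext w
  · have := congrArg (fun m : ((fpUniv F G 𝒲).obj H ⟶ (fpUniv F G 𝒲).obj H') => m.fst.toNatTrans.app w) h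
    exact this
  · have := congrArg (fun m : ((fpUniv F G 𝒲).obj H ⟶ (fpUniv F G 𝒲).obj H') => m.snd.toNatTrans.app w) h
    exact this

theorem H1_fpUniv_full : (fpUniv F G 𝒲).Full := by
  constructor
  intro H H' m
  have hw : ∀ w : 𝒲.obj, F.toFunctor.map (m.fst.toNatTrans.app w) ≫ (H'.toFunctor.obj w).obj.iso.hom =
      (H.toFunctor.obj w).obj.iso.hom ≫ G.toFunctor.map (m.snd.toNatTrans.app w) := by
    intro w
    have := congrArg (fun (t : BasedNatTrans _ _) => t.toNatTrans.app w) m.w
    exact this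
  let αa : ∀ w : 𝒲.obj, H.toFunctor.obj w ⟶ H'.toFunctor.obj w := fun w =>
    ObjectProperty.homMk (⟨m.fst.toNatTrans.app w, m.snd.toNatTrans.app w, hw w⟩ :
      (H.toFunctor.obj w).obj ⟶ (H'.toFunctor.obj w).obj)
  let α : H ⟶ H' :=
    { toNatTrans :=
        { app := αa
          naturality := by
            intro w w' g
            apply ObjectProperty.hom_ext
            apply CategoricalPullback.hom_ext
            · exact m.fst.toNatTrans.naturality g
            · exact m.snd.toNatTrans.naturality g }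
      isHomLift' := by
        intro w
        rw [H1_fp_isHomLift_iff]
        exact m.fst.isHomLift' w }
  refine ⟨α, ?_⟩
  apply CategoricalPullback.hom_ext
  · apply BasedNatTrans.homCategory.ext; ext w; rfl
  · apply BasedNatTrans.homCategory.ext; ext w; rfl

theorem H1_fpUniv_essSurj : (fpUniv F G 𝒲).EssSurj := by
  constructor
  intro z
  refine ⟨FibCat.fpLift z.fst z.snd z.iso, ⟨CategoricalPullback.mkIso ?_ ?_ ?_⟩⟩
  · exact BasedNatIso.mkNatIso (NatIso.ofComponents (fun w => Iso.refl _) (by intro w w' g; exact (Category.comp_id _).trans (Category.id_comp _).symm))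
      (fun w => IsHomLift.id (z.fst.w_obj w))
  · exact BasedNatIso.mkNatIso (NatIso.ofComponents (fun w => Iso.refl _) (by intro w w' g; exact (Category.comp_id _).trans (Category.id_comp _).symm))
      (fun w => IsHomLift.id (z.snd.w_obj w))
  · apply BasedNatTrans.homCategory.ext
    ext w
    show F.toFunctor.map (𝟙 _) ≫ z.iso.hom.toNatTrans.app w =
      z.iso.hom.toNatTrans.app w ≫ G.toFunctor.map (𝟙 _)
    rw [CategoryTheory.Functor.map_id, CategoryTheory.Functor.map_id]
    exact (Category.id_comp _).trans (Category.comp_id _).symm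

theorem H1_fpUniv_isEquivalence : (fpUniv F G 𝒲).IsEquivalence :=
  { faithful := H1_fpUniv_faithful F G 𝒲
    full := H1_fpUniv_full F G 𝒲
    essSurj := H1_fpUniv_essSurj F G 𝒲 }

end Univ

section Restr

variable {𝒜 : BasedCategory.{v₅, u₅} C} {ℬ : BasedCategory.{v₆, u₆} C} (ι : 𝒜 ⥤ᵇ ℬ)

/-- the cospan transform given by restriction along `ι` -/
def restrCospan : CatCospanTransform (postF ℬ F) (postF ℬ G) (postF 𝒜 F) (postF 𝒜 G) where
  left := Stk.restr ι 𝒳
  base := Stk.restr ι 𝒮
  right := Stk.restr ι 𝒴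
  squareLeft := ⟨(restrPostIso ι F).symm⟩
  squareRight := ⟨(restrPostIso ι G).symm⟩

/-- restriction is compatible with the universal property -/
noncomputable def fpUnivRestrIso : Stk.restr ι (FibCat.fp F G) ⋙ fpUniv F G 𝒜 ≅
    fpUniv F G ℬ ⋙ FibCat.categoricalPullbackMap (restrCospan F G ι) :=
  NatIso.ofComponents (fun H => CategoricalPullback.mkIso (Iso.refl _) (Iso.refl _) (by
    show _ ≫ ((FibCat.categoricalPullbackMap (restrCospan F G ι)).obj ((fpUniv F G ℬ).obj H)).iso.hom = _
    rw [Groth.Agent.H1.CPM.map_obj_iso_hom]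
    apply BasedNatTrans.homCategory.ext
    ext a
    show F.toFunctor.map (𝟙 _) ≫ (𝟙 _ ≫ (H.toFunctor.obj (ι.toFunctor.obj a)).obj.iso.hom ≫ 𝟙 _) =
      (H.toFunctor.obj (ι.toFunctor.obj a)).obj.iso.hom ≫ G.toFunctor.map (𝟙 _)
    simp)) (by
    intro H H' α
    apply CategoricalPullback.hom_ext
    · apply BasedNatTrans.homCategory.ext
      ext a
      exact (Category.comp_id _).trans (Category.id_comp _).symm
    · apply BasedNatTrans.homCategory.ext
      ext a
      exact (Category.comp_id _).trans (Category.id_comp _).symm)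

theorem H1_restr_fp_isEquivalence [(Stk.restr ι 𝒳).IsEquivalence] [(Stk.restr ι 𝒴).IsEquivalence]
    [(Stk.restr ι 𝒮).Full] [(Stk.restr ι 𝒮).Faithful] : (Stk.restr ι (FibCat.fp F G)).IsEquivalence := by
  haveI h1 := H1_fpUniv_isEquivalence F G 𝒜
  haveI h2 := H1_fpUniv_isEquivalence F G ℬ
  haveI : (restrCospan F G ι).left.IsEquivalence := ‹(Stk.restr ι 𝒳).IsEquivalence›
  haveI : (restrCospan F G ι).right.IsEquivalence := ‹(Stk.restr ι 𝒴).IsEquivalence›
  haveI : (restrCospan F G ι).base.Full := ‹(Stk.restr ι 𝒮).Full›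
  haveI : (restrCospan F G ι).base.Faithful := ‹(Stk.restr ι 𝒮).Faithful›
  haveI h3 : (FibCat.categoricalPullbackMap (restrCospan F G ι)).IsEquivalence :=
    { faithful := Groth.Agent.H1.CPM.H1_faithful _
      full := Groth.Agent.H1.CPM.H1_full _
      essSurj := Groth.Agent.H1.CPM.H1_essSurj _ }
  haveI h4 : (Stk.restr ι (FibCat.fp F G) ⋙ fpUniv F G 𝒜).IsEquivalence :=
    Functor.isEquivalence_of_iso (fpUnivRestrIso F G ι).symm
  exact Functor.isEquivalence_of_comp_right (Stk.restr ι (FibCat.fp F G)) (fpUniv F G 𝒜)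

end Restr

end Groth.Agent.H1.FC
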