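import Mathlib
import Groth.Agent.Lib.helper1.FibCatCart

set_option autoImplicit false

/-! Inertia of categories over the base (helper1). -/

universe v₁ u₁ v₂ u₂ v₃ u₃

open CategoryTheory

namespace Groth.Agent.H1.FC

variable {C : Type u₁} [Category.{v₁} C]
variable {𝒳 : BasedCategory.{v₂, u₂} C} {𝒴 : BasedCategory.{v₃, u₃} C} (F : 𝒳 ⥤ᵇ 𝒴)

theorem H1_inertia_isHomLift_iff {x y : (FibCat.inertia F).obj} (m : x ⟶ y) {R S : C} (f : R ⟶ S) :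
    (FibCat.inertia F).p.IsHomLift f m ↔ 𝒳.p.IsHomLift f m.hom := by
  constructor
  · intro h
    subst_hom_lift (FibCat.inertia F).p f m
    exact inferInstanceAs (𝒳.p.IsHomLift (𝒳.p.map m.hom) m.hom)
  · intro h
    subst_hom_lift 𝒳.p f m.hom
    exact inferInstanceAs ((FibCat.inertia F).p.IsHomLift ((FibCat.inertia F).p.map m) m)

/-- an automorphism killed by `F` lies over an identity -/
theorem H1_inertia_aut_isHomLift (x : (FibCat.inertia F).obj) :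
    𝒳.p.IsHomLift (𝟙 (𝒳.p.obj x.pt)) x.aut.hom := by
  rw [← BasedFunctor.isHomLift_iff F, x.map_aut]
  infer_instance

theorem H1_inertia_isStronglyCartesian {y x : (FibCat.inertia F).obj} (m : y ⟶ x) {R S : C} (f : R ⟶ S)
    [h1 : 𝒳.p.IsStronglyCartesian f m.hom] : (FibCat.inertia F).p.IsStronglyCartesian f m := by
  have h0 : (FibCat.inertia F).p.IsHomLift f m := (H1_inertia_isHomLift_iff F m f).2 inferInstance
  refine { toIsHomLift := h0, universal_property' := ?_ }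
  intro a g m' hm'
  change 𝒳.p.obj a.pt ⟶ R at g
  have hm'1 : 𝒳.p.IsHomLift (g ≫ f) m'.hom := (H1_inertia_isHomLift_iff F m' (g ≫ f)).1 hm'
  let χ₀ : a.pt ⟶ y.pt := Functor.IsStronglyCartesian.map 𝒳.p f m.hom (g := g) rfl m'.hom
  have hχ₀ : 𝒳.p.IsHomLift g χ₀ := inferInstance
  have hχ₀f : χ₀ ≫ m.hom = m'.hom := Functor.IsStronglyCartesian.fac _ _ _ _ _
  have ha := H1_inertia_aut_isHomLift F a
  have hy := H1_inertia_aut_isHomLift F y
  have hR : 𝒳.p.obj y.pt = R := IsHomLift.domain_eq 𝒳.p f m.hom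
  have hy' : 𝒳.p.IsHomLift (𝟙 R) y.aut.hom := H1_isHomLift_id_of_eq 𝒳.p hR _
  have hcomm : a.aut.hom ≫ χ₀ = χ₀ ≫ y.aut.hom := by
    have l1 : 𝒳.p.IsHomLift g (a.aut.hom ≫ χ₀) := inferInstance
    have l2 : 𝒳.p.IsHomLift g (χ₀ ≫ y.aut.hom) := inferInstance
    apply Functor.IsStronglyCartesian.ext 𝒳.p f m.hom g
    rw [Category.assoc, hχ₀f, m'.comm, Category.assoc, m.comm, ← Category.assoc, hχ₀f]
  let χ : a ⟶ y := ⟨χ₀, hcomm⟩
  refine ⟨χ, ⟨(H1_inertia_isHomLift_iff F χ g).2 hχ₀, ?_⟩, ?_⟩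
  · apply FibCat.InertiaObj.hom_ext
    exact hχ₀f
  · rintro χ' ⟨hχ', hχ'm⟩
    have l1 : 𝒳.p.IsHomLift g χ'.hom := (H1_inertia_isHomLift_iff F χ' g).1 hχ'
    have e1 : χ'.hom ≫ m.hom = m'.hom := by rw [← hχ'm]; rfl
    apply FibCat.InertiaObj.hom_ext
    exact Functor.IsStronglyCartesian.map_uniq 𝒳.p f m.hom rfl m'.hom χ'.hom e1

/-- existence of strongly cartesian lifts in the inertia. -/
theorem H1_inertia_exists_lift (x : (FibCat.inertia F).obj) {V : C} (f : V ⟶ 𝒳.p.obj x.pt)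
    {y₀ : 𝒳.obj} (φ : y₀ ⟶ x.pt) [hφ : 𝒳.p.IsStronglyCartesian f φ]
    [hFφ : 𝒴.p.IsStronglyCartesian f (F.toFunctor.map φ)] :
    ∃ (y : (FibCat.inertia F).obj) (m : y ⟶ x), (FibCat.inertia F).p.IsStronglyCartesian f m := by
  have hx := H1_inertia_aut_isHomLift F x
  have l0 : 𝒳.p.IsHomLift f (φ ≫ x.aut.hom) := inferInstance
  let β : y₀ ⟶ y₀ := Functor.IsStronglyCartesian.map 𝒳.p f φ (g := 𝟙 V) (f' := f) (by simp) (φ ≫ x.aut.hom)
  have hβ : 𝒳.p.IsHomLift (𝟙 V) β := inferInstance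
  have hβf : β ≫ φ = φ ≫ x.aut.hom := Functor.IsStronglyCartesian.fac _ _ _ _ _
  have hs1 : 𝒳.p.IsStronglyCartesian (f ≫ 𝟙 (𝒳.p.obj x.pt)) (φ ≫ x.aut.hom) := inferInstance
  have hs2 : 𝒳.p.IsStronglyCartesian (𝟙 V ≫ f) (β ≫ φ) := by
    rw [hβf, Category.id_comp]
    rw [Category.comp_id] at hs1
    exact hs1
  have hs3 : 𝒳.p.IsStronglyCartesian (𝟙 V) β :=
    Functor.IsStronglyCartesian.of_comp 𝒳.p (f := 𝟙 V) (g := f) (φ := β) (ψ := φ)
  have hiso : IsIso β := Functor.IsStronglyCartesian.isIso_of_base_isIso 𝒳.p (𝟙 V) β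
  have hFβ : F.toFunctor.map β = 𝟙 _ := by
    have l1 : 𝒴.p.IsHomLift (𝟙 V) (F.toFunctor.map β) := inferInstance
    have hV : 𝒳.p.obj y₀ = V := IsHomLift.domain_eq 𝒳.p f φ
    have l2 : 𝒴.p.IsHomLift (𝟙 V) (𝟙 (F.toFunctor.obj y₀)) := IsHomLift.id ((F.w_obj y₀).trans hV)
    apply Functor.IsStronglyCartesian.ext 𝒴.p f (F.toFunctor.map φ) (𝟙 V)
    rw [← F.toFunctor.map_comp, hβf, F.toFunctor.map_comp, x.map_aut, Category.comp_id, Category.id_comp]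
  let y : (FibCat.inertia F).obj := ⟨y₀, asIso β, hFβ⟩
  let m : y ⟶ x := ⟨φ, hβf⟩
  have : 𝒳.p.IsStronglyCartesian f m.hom := hφ
  exact ⟨y, m, H1_inertia_isStronglyCartesian F m f⟩

theorem H1_isFibered_inertia [𝒳.p.IsFibered] (hF : FibCat.PreservesStronglyCartesian F) :
    (FibCat.inertia F).p.IsFibered := by
  rw [H1_isFibered_iff]
  intro x V f
  change V ⟶ 𝒳.p.obj x.pt at f
  obtain ⟨y₀, φ, hφ⟩ := CategoryTheory.IsPreFibered.exists_isCartesian 𝒳.p rfl f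
  have hφs : 𝒳.p.IsStronglyCartesian f φ := inferInstance
  have hFφ : 𝒴.p.IsStronglyCartesian f (F.toFunctor.map φ) := hF f φ hφs
  exact H1_inertia_exists_lift F x f φ

theorem H1_isFibGrpd_inertia (h𝒳 : FibCat.IsFibGrpd 𝒳.p) (h𝒴 : FibCat.IsFibGrpd 𝒴.p) :
    FibCat.IsFibGrpd (FibCat.inertia F).p := by
  refine ⟨?_, ?_⟩
  · intro x V f
    change V ⟶ 𝒳.p.obj x.pt at f
    obtain ⟨y₀, φ, hφ⟩ := h𝒳.exists_lift (x := x.pt) f
    have hφs : 𝒳.p.IsStronglyCartesian f φ := H1_isStronglyCartesian_of_isFibGrpd h𝒳 _ _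
    have hFφ : 𝒴.p.IsStronglyCartesian f (F.toFunctor.map φ) :=
      H1_isStronglyCartesian_of_isFibGrpd h𝒴 _ _
    obtain ⟨y, m, hm⟩ := H1_inertia_exists_lift F x f φ
    exact ⟨y, m, hm.toIsHomLift⟩
  · intro y x m
    have : 𝒳.p.IsStronglyCartesian (𝒳.p.map m.hom) m.hom := h𝒳.isStronglyCartesian _
    exact H1_inertia_isStronglyCartesian F m (𝒳.p.map m.hom)

end Groth.Agent.H1.FC
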