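import Mathlib
import Groth.Agent.Lib.helper1.FibCatInertia
import Groth.Agent.Lib.helper1.FibCatDiag

set_option autoImplicit false

/-! The relative inertia as a 2-fibre product of diagonals (helper1). -/

universe v₁ u₁ v₂ u₂ v₃ u₃

open CategoryTheory CategoryTheory.Limits

namespace Groth.Agent.H1.FC

variable {C : Type u₁} [Category.{v₁} C]
variable {𝒳 : BasedCategory.{v₂, u₂} C} {𝒴 : BasedCategory.{v₃, u₃} C} (F : 𝒳 ⥤ᵇ 𝒴)

/-- the isomorphism `Δx ≅ Δx'` of `𝒳 ×_𝒴 𝒳` attached to a pair of isomorphisms with the same image -/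
def diagIso {x x' : 𝒳.obj} (a b : x ≅ x') (hab : F.toFunctor.map a.hom = F.toFunctor.map b.hom) :
    (FibCat.diag F).toFunctor.obj x ≅ (FibCat.diag F).toFunctor.obj x' :=
  ObjectProperty.isoMk _ (CategoricalPullback.mkIso a b (by
    rw [diag_obj_iso_hom, diag_obj_iso_hom]
    exact (Category.comp_id _).trans (hab.trans (Category.id_comp _).symm)))

@[simp] theorem diagIso_hom_fst {x x' : 𝒳.obj} (a b : x ≅ x') (hab : F.toFunctor.map a.hom = F.toFunctor.map b.hom) :
    (diagIso F a b hab).hom.hom.fst = a.hom := rfl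

@[simp] theorem diagIso_hom_snd {x x' : 𝒳.obj} (a b : x ≅ x') (hab : F.toFunctor.map a.hom = F.toFunctor.map b.hom) :
    (diagIso F a b hab).hom.hom.snd = b.hom := rfl

/-- the comparison functor on objects -/
def inertiaDiagObj (z : (FibCat.inertia F).obj) : (FibCat.fp (FibCat.diag F) (FibCat.diag F)).obj :=
  ⟨⟨z.pt, z.pt, diagIso F z.aut (Iso.refl _) (by rw [z.map_aut]; simp)⟩, by
    show (FibCat.fp F F).p.IsHomLift (𝟙 (𝒳.p.obj z.pt)) _
    rw [H1_fp_isHomLift_iff]
    exact H1_inertia_aut_isHomLift F z⟩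

/-- the comparison functor -/
def inertiaDiagFun : (FibCat.inertia F).obj ⥤ (FibCat.fp (FibCat.diag F) (FibCat.diag F)).obj where
  obj := inertiaDiagObj F
  map {z z'} m := ObjectProperty.homMk
    (⟨m.hom, m.hom, by
      apply ObjectProperty.hom_ext
      apply CategoricalPullback.hom_ext
      · exact m.comm.symm
      · exact (Category.comp_id _).trans (Category.id_comp _).symm⟩ :
      (inertiaDiagObj F z).obj ⟶ (inertiaDiagObj F z').obj)
  map_id z := rfl
  map_comp m m' := rfl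

/-- the comparison functor over the base -/
def inertiaDiag : FibCat.inertia F ⥤ᵇ FibCat.fp (FibCat.diag F) (FibCat.diag F) where
  toFunctor := inertiaDiagFun F
  w := rfl

theorem inertiaDiag_fst : BasedFunctor.comp (inertiaDiag F) (FibCat.fpFst _ _) = FibCat.inertiaToBase F := rfl

theorem inertiaDiag_snd : BasedFunctor.comp (inertiaDiag F) (FibCat.fpSnd _ _) = FibCat.inertiaToBase F := rfl

theorem H1_inertiaDiag_faithful : (inertiaDiag F).toFunctor.Faithful := by
  constructor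
  intro z z' m m' h
  apply FibCat.InertiaObj.hom_ext
  have := congrArg (fun n : (inertiaDiagObj F z ⟶ inertiaDiagObj F z') => n.hom.fst) h
  exact this

theorem H1_inertiaDiag_full : (inertiaDiag F).toFunctor.Full := by
  constructor
  intro z z' n
  have hw := n.hom.w
  have h1 : n.hom.fst ≫ z'.aut.hom = z.aut.hom ≫ n.hom.snd := by
    have := congrArg (fun t : ((FibCat.diag F).toFunctor.obj z.pt ⟶ (FibCat.diag F).toFunctor.obj z'.pt) => t.hom.fst) hw
    exact this
  have h2 : n.hom.fst ≫ 𝟙 _ = 𝟙 _ ≫ n.hom.snd := by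
    have := congrArg (fun t : ((FibCat.diag F).toFunctor.obj z.pt ⟶ (FibCat.diag F).toFunctor.obj z'.pt) => t.hom.snd) hw
    exact this
  have h3 : n.hom.fst = n.hom.snd := by
    rw [Category.comp_id, Category.id_comp] at h2; exact h2
  refine ⟨⟨n.hom.fst, ?_⟩, ?_⟩
  · exact (h1.trans (congrArg (z.aut.hom ≫ ·) h3.symm)).symm
  · apply ObjectProperty.hom_ext
    apply CategoricalPullback.hom_ext
    · rfl
    · exact h3

theorem H1_inertiaDiag_essOver : EssOver (inertiaDiag F) := by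
  intro w
  let θ := w.obj.iso
  let aI : w.obj.fst ≅ w.obj.snd := (FibCat.fpFst F F).toFunctor.mapIso θ
  let bI : w.obj.fst ≅ w.obj.snd := (FibCat.fpSnd F F).toFunctor.mapIso θ
  have hab : F.toFunctor.map aI.hom = F.toFunctor.map bI.hom := by
    have hw := θ.hom.hom.w
    rw [diag_obj_iso_hom, diag_obj_iso_hom] at hw
    exact (Category.comp_id _).symm.trans (hw.trans (Category.id_comp _))
  let α : w.obj.fst ≅ w.obj.fst := aI ≪≫ bI.symm
  have hα : F.toFunctor.map α.hom = 𝟙 _ := by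
    show F.toFunctor.map (aI.hom ≫ bI.inv) = 𝟙 _
    rw [F.toFunctor.map_comp, hab, ← F.toFunctor.map_comp, Iso.hom_inv_id, F.toFunctor.map_id]
  let z₀ : (FibCat.inertia F).obj := ⟨w.obj.fst, α, hα⟩
  let e : ((inertiaDiag F).toFunctor.obj z₀).obj ≅ w.obj :=
    CategoricalPullback.mkIso (Iso.refl _) bI (by
      apply ObjectProperty.hom_ext
      apply CategoricalPullback.hom_ext
      · show 𝟙 _ ≫ aI.hom = (aI.hom ≫ bI.inv) ≫ bI.hom
        simp
      · show 𝟙 _ ≫ bI.hom = 𝟙 _ ≫ bI.hom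
        rfl)
  refine ⟨z₀, ObjectProperty.isoMk _ e, ?_⟩
  rw [H1_fp_isHomLift_iff]
  have : 𝒳.p.IsHomLift (𝟙 (𝒳.p.obj w.obj.fst)) (𝟙 w.obj.fst) := inferInstance
  exact this

theorem H1_isEquivOver_inertiaDiag : FibCat.IsEquivOver (inertiaDiag F) := by
  rw [H1_isEquivOver_iff]
  exact ⟨⟨H1_inertiaDiag_full F, H1_inertiaDiag_faithful F⟩, H1_inertiaDiag_essOver F⟩

end Groth.Agent.H1.FC
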