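import Mathlib
import Groth.Agent.Lib.helper1.FibCatSet
import Groth.Agent.Lib.helper1.FibCatFiber
import Groth.Agent.Lib.helper1.FibCatEquiv

set_option autoImplicit false

/-! The category fibred in sets attached to a category fibred in setoids (helper1). -/

universe v u v₂ u₂ v₃ u₃

open CategoryTheory

namespace Groth.Agent.H1.FC

variable {C : Type u} [Category.{v} C]

theorem H1_hom_eq_of_isFibSetoid' {𝒵 : Type u₂} [Category.{v₂} 𝒵]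
    {p : 𝒵 ⥤ C} (h : FibCat.IsFibSetoid p) {a b : 𝒵} (ψ₁ ψ₂ : a ⟶ b) {R S : C} (f : R ⟶ S)
    [h1 : p.IsHomLift f ψ₁] [h2 : p.IsHomLift f ψ₂] : ψ₁ = ψ₂ := by
  obtain ⟨hg, ht⟩ := h
  have hs : p.IsStronglyCartesian f ψ₂ := H1_isStronglyCartesian_of_isFibGrpd hg _ _
  obtain ⟨χ, ⟨hχ, hχφ⟩, -⟩ := Functor.IsStronglyCartesian.universal_property p f ψ₂
    (𝟙 R) f (by simp) ψ₁
  have ha : p.obj a = R := IsHomLift.domain_eq p f ψ₁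
  let x : p.Fiber R := ⟨a, ha⟩
  let χ' : x ⟶ x := ⟨χ, hχ⟩
  have := ht R
  have hχ' : χ' = 𝟙 x := Subsingleton.elim _ _
  have hχ1 : χ = 𝟙 a := congrArg Subtype.val hχ'
  rw [← hχφ, hχ1, Category.id_comp]

/-- abstract criterion: the target of a full functor over `C`, surjective on objects, identifying
objects isomorphic over identities, from a category fibred in groupoids, is fibred in sets. -/
theorem H1_UL_of_quotient {𝒳 : BasedCategory.{v₂, u₂} C} {𝒴 : BasedCategory.{v₃, u₃} C} (F : 𝒳 ⥤ᵇ 𝒴)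
    (h𝒳 : FibCat.IsFibGrpd 𝒳.p) (hsurj : Function.Surjective F.toFunctor.obj)
    (hfull : ∀ {x y : 𝒳.obj} (g : F.toFunctor.obj x ⟶ F.toFunctor.obj y), ∃ φ : x ⟶ y, F.toFunctor.map φ = g)
    (hid : ∀ {x x' : 𝒳.obj} (χ : x ⟶ x') {U : C}, 𝒳.p.IsHomLift (𝟙 U) χ →
      ∃ e : F.toFunctor.obj x = F.toFunctor.obj x', F.toFunctor.map χ = eqToHom e) : UL 𝒴.p := by
  refine H1_UL_mk ?_ ?_
  · intro η U f
    obtain ⟨y, rfl⟩ := hsurj η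
    obtain ⟨x, φ, hφ⟩ := h𝒳.exists_lift (x := y) (f ≫ eqToHom (F.w_obj y))
    have h1 : 𝒴.p.IsHomLift (f ≫ eqToHom (F.w_obj y)) (F.toFunctor.map φ) :=
      BasedFunctor.preserves_isHomLift F _ φ
    exact ⟨F.toFunctor.obj x, F.toFunctor.map φ,
      (IsHomLift.lift_comp_eqToHom_iff 𝒴.p f (F.toFunctor.map φ) (F.w_obj y)).1 h1⟩
  · intro a b η φ ψ U f hφ hψ
    obtain ⟨y, rfl⟩ := hsurj η
    obtain ⟨x, rfl⟩ := hsurj a
    obtain ⟨x', rfl⟩ := hsurj b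
    obtain ⟨φ₀, rfl⟩ := hfull φ
    obtain ⟨ψ₀, rfl⟩ := hfull ψ
    have l1 : 𝒳.p.IsHomLift (f ≫ eqToHom (F.w_obj y)) φ₀ := by
      rw [← BasedFunctor.isHomLift_iff F]
      exact (IsHomLift.lift_comp_eqToHom_iff 𝒴.p f (F.toFunctor.map φ₀) (F.w_obj y)).2 hφ
    have l2 : 𝒳.p.IsHomLift (f ≫ eqToHom (F.w_obj y)) ψ₀ := by
      rw [← BasedFunctor.isHomLift_iff F]
      exact (IsHomLift.lift_comp_eqToHom_iff 𝒴.p f (F.toFunctor.map ψ₀) (F.w_obj y)).2 hψ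
    have hs : 𝒳.p.IsStronglyCartesian (f ≫ eqToHom (F.w_obj y)) ψ₀ :=
      H1_isStronglyCartesian_of_isFibGrpd h𝒳 _ _
    obtain ⟨χ, ⟨hχ, hχφ⟩, -⟩ := Functor.IsStronglyCartesian.universal_property 𝒳.p
      (f ≫ eqToHom (F.w_obj y)) ψ₀ (𝟙 U) (f ≫ eqToHom (F.w_obj y)) (by simp) φ₀
    obtain ⟨e, he⟩ := hid χ hχ
    refine ⟨e, ?_⟩
    rw [← he, ← F.toFunctor.map_comp, hχφ]

section Quot

variable (𝒳 : BasedCategory.{v₂, u₂} C) (h : FibCat.IsFibGrpd 𝒳.p)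

/-- isomorphic over an identity -/
def isoRel (x y : 𝒳.obj) : Prop := ∃ φ : x ⟶ y, 𝒳.p.IsHomLift (𝟙 (𝒳.p.obj x)) φ

variable {𝒳}

theorem isoRel_base {x y : 𝒳.obj} (r : isoRel 𝒳 x y) : 𝒳.p.obj x = 𝒳.p.obj y := by
  obtain ⟨φ, hφ⟩ := r
  exact (IsHomLift.codomain_eq 𝒳.p (𝟙 _) φ).symm

theorem isoRel_refl (x : 𝒳.obj) : isoRel 𝒳 x x := ⟨𝟙 x, IsHomLift.id rfl⟩

include h in
theorem isoRel_symm {x y : 𝒳.obj} (r : isoRel 𝒳 x y) : isoRel 𝒳 y x := by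
  have hb := isoRel_base r
  obtain ⟨φ, hφ⟩ := r
  have : IsIso (𝒳.p.map φ) := by
    rw [IsHomLift.fac' 𝒳.p (𝟙 (𝒳.p.obj x)) φ]; infer_instance
  have : IsIso φ := H1_isIso_of_isFibGrpd h φ
  have h2 : 𝒳.p.IsHomLift (𝟙 (𝒳.p.obj x)) (inv φ) := inferInstance
  exact ⟨inv φ, H1_isHomLift_id_of_eq 𝒳.p hb (inv φ)⟩

theorem isoRel_trans {x y z : 𝒳.obj} (r : isoRel 𝒳 x y) (r' : isoRel 𝒳 y z) : isoRel 𝒳 x z := by
  have hb := isoRel_base r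
  obtain ⟨φ, hφ⟩ := r
  obtain ⟨ψ, hψ⟩ := r'
  have hψ' : 𝒳.p.IsHomLift (𝟙 (𝒳.p.obj x)) ψ := H1_isHomLift_id_of_eq 𝒳.p hb.symm ψ
  exact ⟨φ ≫ ψ, inferInstance⟩

variable (𝒳)

/-- the setoid of objects up to isomorphism over identities -/
def isoSetoid : Setoid 𝒳.obj :=
  ⟨isoRel 𝒳, ⟨isoRel_refl, isoRel_symm h, isoRel_trans⟩⟩

/-- objects of the quotient -/
def QObj : Type u₂ := Quotient (isoSetoid 𝒳 h)

variable {𝒳}

/-- the class of an object -/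
def qmk (x : 𝒳.obj) : QObj 𝒳 h := Quotient.mk (isoSetoid 𝒳 h) x

theorem qmk_eq_iff {x y : 𝒳.obj} : qmk h x = qmk h y ↔ isoRel 𝒳 x y :=
  ⟨fun e => Quotient.exact e, fun r => Quotient.sound r⟩

theorem qmk_surj (a : QObj 𝒳 h) : ∃ x, qmk h x = a := Quotient.exists_rep a

/-- base object of a class -/
def qBase : QObj 𝒳 h → C :=
  Quotient.lift (s := isoSetoid 𝒳 h) 𝒳.p.obj (fun _ _ r => isoRel_base r)

@[simp] theorem qBase_qmk (x : 𝒳.obj) : qBase h (qmk h x) = 𝒳.p.obj x := rfl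

include h in
theorem H1_lift_of_rel {x y x' y' : 𝒳.obj} {R S : C} (f : R ⟶ S) (φ : x ⟶ y) [hφ : 𝒳.p.IsHomLift f φ]
    (r : isoRel 𝒳 x x') (r' : isoRel 𝒳 y y') : ∃ φ' : x' ⟶ y', 𝒳.p.IsHomLift f φ' := by
  obtain ⟨α, hα⟩ := isoRel_symm h r
  obtain ⟨β, hβ⟩ := r'
  have hx : 𝒳.p.obj x = R := IsHomLift.domain_eq 𝒳.p f φ
  have hy : 𝒳.p.obj y = S := IsHomLift.codomain_eq 𝒳.p f φ
  have hx' : 𝒳.p.obj x' = R := (isoRel_base r).symm.trans hx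
  have hα' : 𝒳.p.IsHomLift (𝟙 R) α := H1_isHomLift_id_of_eq 𝒳.p hx' α
  have hβ' : 𝒳.p.IsHomLift (𝟙 S) β := H1_isHomLift_id_of_eq 𝒳.p hy β
  exact ⟨α ≫ φ ≫ β, inferInstance⟩

/-- morphisms of the quotient: morphisms of the base admitting a lift -/
def QHom (a b : QObj 𝒳 h) : Type v :=
  {f : qBase h a ⟶ qBase h b // ∃ (x y : 𝒳.obj) (φ : x ⟶ y), qmk h x = a ∧ qmk h y = b ∧
    𝒳.p.IsHomLift f φ}

theorem qid_prop (a : QObj 𝒳 h) : ∃ (x y : 𝒳.obj) (φ : x ⟶ y), qmk h x = a ∧ qmk h y = a ∧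
    𝒳.p.IsHomLift (𝟙 (qBase h a)) φ := by
  obtain ⟨x, rfl⟩ := qmk_surj h a
  exact ⟨x, x, 𝟙 x, rfl, rfl, IsHomLift.id rfl⟩

theorem qcomp_prop {a b c : QObj 𝒳 h} (f : QHom h a b) (g : QHom h b c) :
    ∃ (x y : 𝒳.obj) (φ : x ⟶ y), qmk h x = a ∧ qmk h y = c ∧ 𝒳.p.IsHomLift (f.1 ≫ g.1) φ := by
  obtain ⟨f, x, y, φ, rfl, rfl, hφ⟩ := f
  obtain ⟨g, y', z, ψ, hy', rfl, hψ⟩ := g
  obtain ⟨ψ', hψ'⟩ := H1_lift_of_rel h g ψ ((qmk_eq_iff h).1 hy') (isoRel_refl z)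
  exact ⟨x, z, φ ≫ ψ', rfl, rfl, inferInstance⟩

instance qCategory : Category.{v} (QObj 𝒳 h) where
  Hom a b := QHom h a b
  id a := ⟨𝟙 _, qid_prop h a⟩
  comp f g := ⟨f.1 ≫ g.1, qcomp_prop h f g⟩
  id_comp f := Subtype.ext (Category.id_comp _)
  comp_id f := Subtype.ext (Category.comp_id _)
  assoc f g k := Subtype.ext (Category.assoc _ _ _)

/-- the structure functor of the quotient -/
def qP : QObj 𝒳 h ⥤ C where
  obj := qBase h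
  map f := f.1
  map_id _ := rfl
  map_comp _ _ := rfl

/-- the quotient as a category over `C` -/
abbrev qBased : BasedCategory.{v, u₂} C := BasedCategory.ofFunctor (qP h)

/-- the projection to the quotient -/
def qFun : 𝒳.obj ⥤ QObj 𝒳 h where
  obj := qmk h
  map {x y} φ := ⟨𝒳.p.map φ, x, y, φ, rfl, rfl, (inferInstance : 𝒳.p.IsHomLift (𝒳.p.map φ) φ)⟩
  map_id x := Subtype.ext (𝒳.p.map_id x)
  map_comp φ ψ := Subtype.ext (𝒳.p.map_comp φ ψ)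

/-- the projection as a functor over `C` -/
def qProj : 𝒳 ⥤ᵇ qBased h where
  toFunctor := qFun h
  w := rfl

theorem qeqToHom_val {a b : QObj 𝒳 h} (e : a = b) :
    (eqToHom e : a ⟶ b).1 = eqToHom (congrArg (qBase h) e) := by
  subst e; rfl

theorem H1_UL_qBased : UL (qBased h).p := by
  refine H1_UL_of_quotient (qProj h) h ?_ ?_ ?_
  · intro a; exact qmk_surj h a
  · intro x y g
    obtain ⟨f, x₁, y₁, φ₁, e₁, e₂, hφ₁⟩ := g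
    obtain ⟨φ', hφ'⟩ := H1_lift_of_rel h f φ₁ ((qmk_eq_iff h).1 e₁) ((qmk_eq_iff h).1 e₂)
    refine ⟨φ', Subtype.ext ?_⟩
    exact (H1_isHomLift_iff 𝒳.p (a := x) (b := y) f φ').1 hφ'
  · intro x x' χ U hχ
    have hU : U = 𝒳.p.obj x := (IsHomLift.domain_eq 𝒳.p (𝟙 U) χ).symm
    have hχ' : 𝒳.p.IsHomLift (𝟙 (𝒳.p.obj x)) χ := H1_isHomLift_id_of_eq 𝒳.p hU χ
    have e : qmk h x = qmk h x' := (qmk_eq_iff h).2 ⟨χ, hχ'⟩
    refine ⟨e, Subtype.ext ?_⟩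
    refine Eq.trans ?_ (qeqToHom_val h e).symm
    show 𝒳.p.map χ = eqToHom _
    have := IsHomLift.fac' 𝒳.p (𝟙 (𝒳.p.obj x)) χ
    simpa using this

theorem H1_isEquivOver_qProj (hs : FibCat.IsFibSetoid 𝒳.p) : FibCat.IsEquivOver (qProj h) := by
  rw [H1_isEquivOver_iff]
  refine ⟨⟨?_, ?_⟩, ?_⟩
  · constructor
    intro x y g
    obtain ⟨f, x₁, y₁, φ₁, e₁, e₂, hφ₁⟩ := g
    obtain ⟨φ', hφ'⟩ := H1_lift_of_rel h f φ₁ ((qmk_eq_iff h).1 e₁) ((qmk_eq_iff h).1 e₂)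
    refine ⟨φ', Subtype.ext ?_⟩
    exact (H1_isHomLift_iff 𝒳.p (a := x) (b := y) f φ').1 hφ'
  · constructor
    intro x y φ ψ e
    have e' : 𝒳.p.map φ = 𝒳.p.map ψ := congrArg Subtype.val e
    have l1 : 𝒳.p.IsHomLift (𝒳.p.map φ) φ := inferInstance
    have l2 : 𝒳.p.IsHomLift (𝒳.p.map φ) ψ := by rw [e']; infer_instance
    exact H1_hom_eq_of_isFibSetoid' hs φ ψ (𝒳.p.map φ)
  · intro η
    obtain ⟨x, rfl⟩ := qmk_surj h η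
    exact ⟨x, Iso.refl _, IsHomLift.id rfl⟩

end Quot

end Groth.Agent.H1.FC
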