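import Mathlib
import Groth.Prelude.Def_FibClv

set_option autoImplicit false
set_option backward.isDefEq.respectTransparency false
set_option backward.isDefEq.respectTransparency.types false

/-! Cleavages (helper1). -/

universe v₁ v₂ v₃ u₁ u₂ u₃

open CategoryTheory CategoryTheory.Functor

namespace Groth.Agent.H1.Clv

variable {𝒮 : Type u₁} {𝒳 : Type u₂} [Category.{v₁} 𝒮] [Category.{v₂} 𝒳] {p : 𝒳 ⥤ 𝒮} (K : FibCat.Cleavage p)

theorem congr_lift {R S : 𝒮} {f f' : R ⟶ S} (h : f = f') (a : p.Fiber S) :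
    Fiber.fiberInclusion.map ((K.inverseImageCongr h).hom.app a) ≫ K.lift a.2 f' = K.lift a.2 f := by
  subst h
  simp [FibCat.Cleavage.inverseImageCongr]

theorem comp_lift {R S T : 𝒮} (f : T ⟶ S) (g : R ⟶ T) (a : p.Fiber S) :
    Fiber.fiberInclusion.map ((K.comp f g).app a) ≫ K.lift a.2 (g ≫ f) =
      K.lift (K.obj_proj a.2 f) g ≫ K.lift a.2 f := by
  rw [FibCat.Cleavage.comp_app]
  exact IsCartesian.fac p (g ≫ f) (K.lift a.2 (g ≫ f)) _

theorem map_lift {R S : 𝒮} (f : R ⟶ S) {a b : p.Fiber S} (φ : a ⟶ b) :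
    Fiber.fiberInclusion.map ((K.inverseImage f).map φ) ≫ K.lift b.2 f =
      K.lift a.2 f ≫ Fiber.fiberInclusion.map φ := by
  rw [FibCat.Cleavage.inverseImage_map]
  exact IsCartesian.fac p f (K.lift b.2 f) _

instance fiberMap_isHomLift {S : 𝒮} {a b : p.Fiber S} (φ : a ⟶ b) :
    p.IsHomLift (𝟙 S) (Fiber.fiberInclusion.map φ) := φ.2

theorem S6014 (S T : 𝒮) (f : T ⟶ S) (a : p.Fiber S) :
    Functor.Fiber.fiberInclusion.map ((K.comp f (𝟙 T)).app a ≫ (K.inverseImageCongr (Category.id_comp f)).hom.app a) =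
      (K.transport (𝟙 T)).app ((K.inverseImage f).obj a) := by
  rw [FibCat.Cleavage.transport_app]
  apply IsCartesian.ext p f (K.lift a.2 f)
  rw [Functor.map_comp, Category.assoc, congr_lift, comp_lift]

theorem S6015 (S T : 𝒮) (f : T ⟶ S) (a : p.Fiber S) :
    (K.comp (𝟙 S) f).app a ≫ (K.inverseImageCongr (Category.comp_id f)).hom.app a =
      (K.inverseImage f).map (Functor.Fiber.homMk p S (K.lift a.2 (𝟙 S))) := by
  apply Fiber.hom_ext
  apply IsCartesian.ext p f (K.lift a.2 f)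
  rw [Functor.map_comp, Category.assoc, congr_lift, comp_lift, map_lift]
  rfl

theorem S6016 (S T U V : 𝒮) (f : T ⟶ S) (g : U ⟶ T) (h : V ⟶ U) :
    Functor.whiskerLeft (K.inverseImage f) (K.comp g h) ≫ K.comp f (h ≫ g) ≫ (K.inverseImageCongr (Category.assoc h g f)).hom =
      Functor.whiskerRight (K.comp f g) (K.inverseImage h) ≫ K.comp (g ≫ f) h := by
  ext a
  apply IsCartesian.ext p (h ≫ g ≫ f) (K.lift a.2 (h ≫ g ≫ f))
  simp only [NatTrans.comp_app, Functor.whiskerLeft_app, Functor.whiskerRight_app, Functor.map_comp,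
    Category.assoc]
  rw [congr_lift, comp_lift, comp_lift]
  have e1 := comp_lift K f g a
  have e2 := map_lift K h ((K.comp f g).app a)
  have e3 := comp_lift K g h ((K.inverseImage f).obj a)
  rw [← Category.assoc, e3, ← Category.assoc (Fiber.fiberInclusion.map ((K.inverseImage h).map ((K.comp f g).app a))),
    e2, Category.assoc, Category.assoc, e1]

theorem S6018 (C : Type u₃) [Category.{v₃} C] (F G : 𝒳 ⥤ C)
    (u : ∀ S : 𝒮, (Functor.Fiber.fiberInclusion ⋙ F : p.Fiber S ⥤ C) ⟶ Functor.Fiber.fiberInclusion ⋙ G)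
    (hu : ∀ ⦃T S : 𝒮⦄ (f : T ⟶ S) (a : p.Fiber S),
      F.map ((K.transport f).app a) ≫ (u S).app a = (u T).app ((K.inverseImage f).obj a) ≫ G.map ((K.transport f).app a)) :
    ∃! v : F ⟶ G, ∀ (S : 𝒮) (a : p.Fiber S), v.app a.1 = (u S).app a := by
  have hnat : ∀ {x y : 𝒳} (φ : x ⟶ y),
      F.map φ ≫ (u (p.obj y)).app ⟨y, rfl⟩ = (u (p.obj x)).app ⟨x, rfl⟩ ≫ G.map φ := by
    intro x y φ
    let a : p.Fiber (p.obj y) := ⟨y, rfl⟩
    let f := p.map φ
    let χ₀ : x ⟶ K.obj a.2 f := IsCartesian.map p f (K.lift a.2 f) φ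
    have hχ₀ : p.IsHomLift (𝟙 (p.obj x)) χ₀ := inferInstance
    have hfac : χ₀ ≫ K.lift a.2 f = φ := IsCartesian.fac p f (K.lift a.2 f) φ
    let x' : p.Fiber (p.obj x) := ⟨x, rfl⟩
    let χ : x' ⟶ (K.inverseImage f).obj a := ⟨χ₀, hχ₀⟩
    have n1 := (u (p.obj x)).naturality χ
    have n2 := hu f a
    simp only [Functor.comp_map, FibCat.Cleavage.transport_app] at n1 n2
    have e1 : Fiber.fiberInclusion.map χ = χ₀ := rfl
    rw [e1] at n1
    calc F.map φ ≫ (u (p.obj y)).app ⟨y, rfl⟩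
        = F.map χ₀ ≫ (F.map (K.lift a.2 f) ≫ (u (p.obj y)).app a) := by
          rw [← Category.assoc, ← F.map_comp, hfac]
      _ = (F.map χ₀ ≫ (u (p.obj x)).app ((K.inverseImage f).obj a)) ≫ G.map (K.lift a.2 f) := by
          rw [n2, Category.assoc]
      _ = (u (p.obj x)).app ⟨x, rfl⟩ ≫ G.map φ := by
          rw [n1, Category.assoc, ← G.map_comp, hfac]
  let v : F ⟶ G := { app := fun x => (u (p.obj x)).app ⟨x, rfl⟩, naturality := fun x y φ => hnat φ }
  refine ⟨v, ?_, ?_⟩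
  · intro S a
    obtain ⟨x, hx⟩ := a
    subst hx
    rfl
  · intro v' hv'
    ext x
    exact hv' (p.obj x) ⟨x, rfl⟩

theorem isIso_fiber_of_isIso {U : 𝒮} {a b : p.Fiber U} (ψ : a ⟶ b) [IsIso ψ.1] : IsIso ψ := by
  have h1 : p.IsHomLift (𝟙 U) ψ.1 := ψ.2
  have h2 : p.IsHomLift (𝟙 U) (inv ψ.1) := inferInstance
  refine ⟨⟨⟨inv ψ.1, h2⟩, ?_, ?_⟩⟩
  · apply Functor.Fiber.hom_ext
    change ψ.1 ≫ inv ψ.1 = 𝟙 _
    simp
  · apply Functor.Fiber.hom_ext
    change inv ψ.1 ≫ ψ.1 = 𝟙 _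
    simp

theorem S6012_mp [p.IsFibered] (R S T : 𝒮) (f : T ⟶ S) (g : R ⟶ T) : IsIso (K.comp f g) := by
  haveI : ∀ a, IsIso ((K.comp f g).app a) := by
    intro a
    haveI h1 : p.IsCartesian (g ≫ f) (K.lift (K.obj_proj a.2 f) g ≫ K.lift a.2 f) := inferInstance
    let e := IsCartesian.domainUniqueUpToIso p (g ≫ f) (K.lift a.2 (g ≫ f))
      (K.lift (K.obj_proj a.2 f) g ≫ K.lift a.2 f)
    have he : ((K.comp f g).app a).1 = e.hom := rfl
    haveI : IsIso ((K.comp f g).app a).1 := by rw [he]; infer_instance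
    exact isIso_fiber_of_isIso _
  exact NatIso.isIso_of_isIso_app _

theorem S6012_mpr (h : ∀ (R S T : 𝒮) (f : T ⟶ S) (g : R ⟶ T), IsIso (K.comp f g)) : p.IsFibered := by
  apply Functor.IsFibered.of_exists_isStronglyCartesian
  intro a₀ T f
  let a : p.Fiber (p.obj a₀) := ⟨a₀, rfl⟩
  refine ⟨K.obj a.2 f, K.lift a.2 f, ?_⟩
  refine { toIsHomLift := inferInstance, universal_property' := ?_ }
  intro a' g φ' hφ'
  -- here g : p.obj a' ⟶ T
  haveI := h (p.obj a') (p.obj a₀) T f g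
  let c := (K.comp f g).app a
  haveI : IsIso c := inferInstance
  have hc : Fiber.fiberInclusion.map c ≫ K.lift a.2 (g ≫ f) = K.lift (K.obj_proj a.2 f) g ≫ K.lift a.2 f :=
    comp_lift K f g a
  let ci := inv c
  have hci : Fiber.fiberInclusion.map ci ≫ K.lift (K.obj_proj a.2 f) g ≫ K.lift a.2 f = K.lift a.2 (g ≫ f) := by
    rw [← hc, ← Category.assoc, ← Functor.map_comp, IsIso.inv_hom_id, CategoryTheory.Functor.map_id, Category.id_comp]
  let χ₀ : a' ⟶ K.obj a.2 (g ≫ f) := IsCartesian.map p (g ≫ f) (K.lift a.2 (g ≫ f)) φ'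
  have hχ₀ : p.IsHomLift (𝟙 (p.obj a')) χ₀ := inferInstance
  have hχ₀f : χ₀ ≫ K.lift a.2 (g ≫ f) = φ' := IsCartesian.fac p (g ≫ f) (K.lift a.2 (g ≫ f)) φ'
  have hci' : p.IsHomLift (𝟙 (p.obj a')) (Fiber.fiberInclusion.map ci) := inferInstance
  refine ⟨χ₀ ≫ Fiber.fiberInclusion.map ci ≫ K.lift (K.obj_proj a.2 f) g, ⟨?_, ?_⟩, ?_⟩
  · have : p.IsHomLift (𝟙 (p.obj a') ≫ 𝟙 (p.obj a') ≫ g)
        (χ₀ ≫ Fiber.fiberInclusion.map ci ≫ K.lift (K.obj_proj a.2 f) g) := inferInstance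
    simpa using this
  · rw [Category.assoc, Category.assoc, hci, hχ₀f]
  · rintro χ' ⟨hχ', hχ'f⟩
    let χ₁ : a' ⟶ K.obj (K.obj_proj a.2 f) g := IsCartesian.map p g (K.lift (K.obj_proj a.2 f) g) χ'
    have hχ₁ : p.IsHomLift (𝟙 (p.obj a')) χ₁ := inferInstance
    have hχ₁f : χ₁ ≫ K.lift (K.obj_proj a.2 f) g = χ' := IsCartesian.fac p g (K.lift (K.obj_proj a.2 f) g) χ'
    have e1 : χ₁ ≫ Fiber.fiberInclusion.map c = χ₀ := by
      have hl : p.IsHomLift (𝟙 (p.obj a')) (χ₁ ≫ Fiber.fiberInclusion.map c) := inferInstance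
      apply IsCartesian.ext p (g ≫ f) (K.lift a.2 (g ≫ f))
      rw [Category.assoc, hc, ← Category.assoc, hχ₁f, hχ'f, hχ₀f]
    rw [← hχ₁f, ← e1, Category.assoc, ← Category.assoc (Fiber.fiberInclusion.map c), ← Functor.map_comp,
      IsIso.hom_inv_id, CategoryTheory.Functor.map_id, Category.id_comp]

theorem lift_isIso [p.IsFibered] {R S : 𝒮} (f : R ⟶ S) [IsIso f] {a : 𝒳} (ha : p.obj a = S) :
    IsIso (K.lift ha f) := by
  haveI : p.IsStronglyCartesian f (K.lift ha f) := inferInstance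
  exact IsStronglyCartesian.isIso_of_base_isIso p f (K.lift ha f)

theorem S6013 [p.IsFibered] (S T : 𝒮) (f : T ⟶ S) [IsIso f] : (K.inverseImage f).IsEquivalence := by
  haveI hl : ∀ {a : 𝒳} (ha : p.obj a = S), IsIso (K.lift ha f) := fun ha => lift_isIso K f ha
  have hfaith : (K.inverseImage f).Faithful := by
    constructor
    intro a b φ ψ h
    apply Fiber.hom_ext
    have e1 := map_lift K f φ
    have e2 := map_lift K f ψ
    rw [h] at e1
    have := e1.symm.trans e2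
    exact (cancel_epi (K.lift a.2 f)).1 this
  have hfull : (K.inverseImage f).Full := by
    constructor
    intro a b ψ
    have hψ : p.IsHomLift (𝟙 T) (Fiber.fiberInclusion.map ψ) := inferInstance
    have h1 : p.IsHomLift (inv f) (inv (K.lift a.2 f)) := inferInstance
    have h2 : p.IsHomLift (inv f ≫ 𝟙 T ≫ f) (inv (K.lift a.2 f) ≫ Fiber.fiberInclusion.map ψ ≫ K.lift b.2 f) :=
      inferInstance
    have h3 : p.IsHomLift (𝟙 S) (inv (K.lift a.2 f) ≫ Fiber.fiberInclusion.map ψ ≫ K.lift b.2 f) := by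
      simpa using h2
    refine ⟨⟨inv (K.lift a.2 f) ≫ Fiber.fiberInclusion.map ψ ≫ K.lift b.2 f, h3⟩, ?_⟩
    apply Fiber.hom_ext
    apply IsCartesian.ext p f (K.lift b.2 f)
    rw [map_lift]
    show K.lift a.2 f ≫ inv (K.lift a.2 f) ≫ Fiber.fiberInclusion.map ψ ≫ K.lift b.2 f = _
    simp
  have hess : (K.inverseImage f).EssSurj := by
    constructor
    intro b
    haveI : IsIso (K.lift b.2 (inv f)) := lift_isIso K (inv f) b.2
    let a : p.Fiber S := ⟨K.obj b.2 (inv f), K.obj_proj b.2 (inv f)⟩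
    have h2 : p.IsHomLift (f ≫ inv f) (K.lift a.2 f ≫ K.lift b.2 (inv f)) := inferInstance
    have h3 : p.IsHomLift (𝟙 T) (K.lift a.2 f ≫ K.lift b.2 (inv f)) := by simpa using h2
    let ψ : (K.inverseImage f).obj a ⟶ b := ⟨K.lift a.2 f ≫ K.lift b.2 (inv f), h3⟩
    haveI : IsIso ψ.1 := by
      show IsIso (K.lift a.2 f ≫ K.lift b.2 (inv f))
      infer_instance
    haveI : IsIso ψ := isIso_fiber_of_isIso ψ
    exact ⟨a, ⟨asIso ψ⟩⟩
  exact { faithful := hfaith, full := hfull, essSurj := hess }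

end Groth.Agent.H1.Clv
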