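import Mathlib
import Groth.Agent.Lib.helper1.FibCatFiber
import Groth.Agent.Lib.helper1.FibCatGrpd
import Groth.Prelude.Def_W4c2modmodulilectNerve
import Groth.Prelude.Def_AlgSt

set_option autoImplicit false

/-! Restriction of sections of a category fibred in groupoids along a functor with
1-connected comma categories (helper1). -/

universe w t v₁ v₂ v₃ u₁ u₂ u₃

open CategoryTheory W4c2modmodulilect

namespace Groth.Agent.H1.Contr

section Const

variable {B : Type u₁} [Category.{v₁} B]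

theorem const_of_contr {T : Type t} (hB : HasContractibleNerve.{max t w, max t w} B) (k : B → T)
    (hk : ∀ ⦃b b' : B⦄, (b ⟶ b') → k b = k b') : ∃ t₀, ∀ b, k b = t₀ := by
  let K : B ⥤ Discrete (ULift.{w} T) :=
    { obj := fun b => ⟨⟨k b⟩⟩
      map := fun {b b'} f => Discrete.eqToHom (by rw [hk f])
      map_id := fun _ => Subsingleton.elim _ _
      map_comp := fun _ _ => Subsingleton.elim _ _ }
  haveI := hB.2 (Discrete (ULift.{w} T))
  let g := (Functor.const B : Discrete (ULift.{w} T) ⥤ B ⥤ Discrete (ULift.{w} T)).objPreimage K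
  let e : (Functor.const B).obj g ≅ K := Functor.objObjPreimageIso _ K
  refine ⟨g.as.down, fun b => ?_⟩
  have h1 := Discrete.eq_of_hom (e.inv.app b)
  exact congrArg ULift.down h1

@[instance_reducible] noncomputable def asSmallGroupoid (G₀ : Type u₂) [Category.{v₂} G₀] [IsGroupoid G₀] :
    Groupoid (AsSmall.{w} G₀) :=
  Groupoid.ofIsIso (fun {X Y} f => by
    refine ⟨⟨⟨inv f.down⟩, ?_, ?_⟩⟩
    · apply ULift.ext
      change f.down ≫ inv f.down = 𝟙 _
      simp
    · apply ULift.ext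
      change inv f.down ≫ f.down = 𝟙 _
      simp)

theorem essConst_of_contr {G₀ : Type u₂} [Category.{v₂} G₀] [IsGroupoid G₀]
    (hB : HasContractibleNerve.{max w v₂ u₂, max w v₂ u₂} B) (K : B ⥤ G₀) :
    ∃ (g : G₀) (θ : ∀ b, K.obj b ⟶ g), ∀ ⦃b b' : B⦄ (f : b ⟶ b'), K.map f ≫ θ b' = θ b := by
  haveI : (Functor.const B : AsSmall.{w} G₀ ⥤ B ⥤ AsSmall.{w} G₀).IsEquivalence :=
    @And.right _ _ hB (AsSmall.{w} G₀) (asSmallGroupoid G₀)
  let K' : B ⥤ AsSmall.{w} G₀ := K ⋙ AsSmall.up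
  let g := (Functor.const B : AsSmall.{w} G₀ ⥤ B ⥤ AsSmall.{w} G₀).objPreimage K'
  let e : (Functor.const B).obj g ≅ K' := Functor.objObjPreimageIso _ K'
  refine ⟨ULift.down g, fun b => ULift.down (e.inv.app b), fun b b' f => ?_⟩
  have h1 : K'.map f ≫ e.inv.app b' = e.inv.app b := by
    rw [e.inv.naturality f]
    exact Category.comp_id _
  exact congrArg ULift.down h1

end Const


section Main

open Groth.Agent.H1.FC

variable {C : Type u₁} [Category.{v₁} C] {D : Type u₂} [Category.{v₂} D]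
  {F : Type u₃} [Category.{v₃} F] (φ : C ⥤ D) (p : F ⥤ D)

/-- (X,u)-indexed version of `const_of_contr`. -/
theorem const_of_contr' {T : Type t} {Y : D}
    (hB : HasContractibleNerve.{max t w, max t w} (StructuredArrow Y φ))
    (k : ∀ X : C, (Y ⟶ φ.obj X) → T)
    (hk : ∀ ⦃X X' : C⦄ (u : Y ⟶ φ.obj X) (h : X ⟶ X'), k X u = k X' (u ≫ φ.map h)) :
    ∃ t₀, ∀ X u, k X u = t₀ := by
  obtain ⟨t₀, h₀⟩ := const_of_contr.{w} hB (fun b => k b.right b.hom) (by
    intro b b' m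
    have h1 := hk b.hom m.right
    have h2 := StructuredArrow.w m
    rw [h2] at h1
    exact h1)
  exact ⟨t₀, fun X u => h₀ (StructuredArrow.mk u)⟩

theorem exists_of_contr {Y : D} (hB : HasContractibleNerve.{w, w} (StructuredArrow Y φ)) :
    ∃ (X : C), Nonempty (Y ⟶ φ.obj X) := by
  obtain ⟨b⟩ := hB.1
  exact ⟨b.right, ⟨b.hom⟩⟩

variable {φ p}

theorem app_eq_of_whisker_eq (hp : FibCat.IsFibGrpd p) {s t : D ⥤ F}
    (ht : ∀ {Y' Y : D} (v : Y' ⟶ Y), p.IsHomLift v (t.map v))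
    (α β : s ⟶ t) (hα : ∀ Y, p.IsHomLift (𝟙 Y) (α.app Y)) (hβ : ∀ Y, p.IsHomLift (𝟙 Y) (β.app Y))
    (h : ∀ X, α.app (φ.obj X) = β.app (φ.obj X)) {Y : D} {X : C} (u : Y ⟶ φ.obj X) :
    α.app Y = β.app Y := by
  haveI := ht u
  haveI := H1_isStronglyCartesian_of_isFibGrpd hp u (t.map u)
  haveI := hα Y
  haveI := hβ Y
  apply Functor.IsStronglyCartesian.ext p u (t.map u) (𝟙 Y)
  rw [← α.naturality, ← β.naturality, h]

theorem exists_extension (hp : FibCat.IsFibGrpd p)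
    (hφ : ∀ Y : D, HasContractibleNerve.{max v₃ w, max v₃ w} (StructuredArrow Y φ))
    {s t : D ⥤ F}
    (hs : ∀ {Y' Y : D} (v : Y' ⟶ Y), p.IsHomLift v (s.map v))
    (ht : ∀ {Y' Y : D} (v : Y' ⟶ Y), p.IsHomLift v (t.map v))
    (γ : φ ⋙ s ⟶ φ ⋙ t) (hγ : ∀ X, p.IsHomLift (𝟙 (φ.obj X)) (γ.app X)) :
    ∃ α : s ⟶ t, (∀ Y, p.IsHomLift (𝟙 Y) (α.app Y)) ∧ ∀ X, α.app (φ.obj X) = γ.app X := by
  have key : ∀ Y : D, ∃ a : s.obj Y ⟶ t.obj Y, p.IsHomLift (𝟙 Y) a ∧
      ∀ (X : C) (u : Y ⟶ φ.obj X), a ≫ t.map u = s.map u ≫ γ.app X := by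
    intro Y
    have hlift : ∀ (X : C) (u : Y ⟶ φ.obj X), p.IsHomLift u (s.map u ≫ γ.app X) := by
      intro X u
      haveI := hs u
      haveI := hγ X
      exact IsHomLift.comp_lift_id_right p u (s.map u) (γ.app X)
    have hcart : ∀ (X : C) (u : Y ⟶ φ.obj X), p.IsStronglyCartesian u (t.map u) := by
      intro X u
      haveI := ht u
      exact H1_isStronglyCartesian_of_isFibGrpd hp u (t.map u)
    let k : ∀ X : C, (Y ⟶ φ.obj X) → (s.obj Y ⟶ t.obj Y) := fun X u =>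
      haveI := hlift X u
      haveI := hcart X u
      Functor.IsStronglyCartesian.map p u (t.map u) (Category.id_comp u).symm (s.map u ≫ γ.app X)
    have hk1 : ∀ X u, p.IsHomLift (𝟙 Y) (k X u) := by
      intro X u
      haveI := hlift X u
      haveI := hcart X u
      exact Functor.IsStronglyCartesian.map_isHomLift p u (t.map u) (Category.id_comp u).symm
        (s.map u ≫ γ.app X)
    have hk2 : ∀ X u, k X u ≫ t.map u = s.map u ≫ γ.app X := by
      intro X u
      haveI := hlift X u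
      haveI := hcart X u
      exact Functor.IsStronglyCartesian.fac p u (t.map u) (Category.id_comp u).symm
        (s.map u ≫ γ.app X)
    obtain ⟨a, ha⟩ := const_of_contr'.{w} φ (hφ Y) k (by
      intro X X' u h
      haveI := hlift X' (u ≫ φ.map h)
      haveI := hcart X' (u ≫ φ.map h)
      haveI := hk1 X u
      apply Functor.IsStronglyCartesian.map_uniq p (u ≫ φ.map h) (t.map (u ≫ φ.map h))
        (Category.id_comp _).symm (s.map (u ≫ φ.map h) ≫ γ.app X') (k X u)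
      rw [t.map_comp, reassoc_of% (hk2 X u), s.map_comp, Category.assoc]
      congr 1
      exact (γ.naturality h).symm)
    obtain ⟨X₀, ⟨u₀⟩⟩ := exists_of_contr φ (hφ Y)
    refine ⟨a, ?_, fun X u => ?_⟩
    · rw [← ha X₀ u₀]; exact hk1 X₀ u₀
    · rw [← ha X u]; exact hk2 X u
  choose a ha1 ha2 using key
  refine ⟨{ app := a, naturality := ?_ }, ha1, ?_⟩
  · intro Y' Y v
    obtain ⟨X₀, ⟨u₀⟩⟩ := exists_of_contr φ (hφ Y)
    haveI := ht u₀
    haveI := H1_isStronglyCartesian_of_isFibGrpd hp u₀ (t.map u₀)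
    haveI := ha1 Y
    haveI := ha1 Y'
    haveI := hs v
    haveI := ht v
    haveI : p.IsHomLift v (s.map v ≫ a Y) := IsHomLift.comp_lift_id_right p v (s.map v) (a Y)
    haveI : p.IsHomLift v (a Y' ≫ t.map v) := IsHomLift.comp_lift_id_left p v (t.map v) (a Y')
    apply Functor.IsStronglyCartesian.ext p u₀ (t.map u₀) v
    rw [Category.assoc, Category.assoc, ha2 Y X₀ u₀, ← t.map_comp, ha2 Y' X₀ (v ≫ u₀), s.map_comp,
      Category.assoc]
  · intro X
    have := ha2 (φ.obj X) X (𝟙 _)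
    simpa using this


theorem exists_lift' (hp : FibCat.IsFibGrpd p) {x : F} {V S : D} (f : V ⟶ S) (hS : p.obj x = S) :
    ∃ (y : F) (ψ : y ⟶ x), p.IsHomLift f ψ := by
  subst hS
  exact hp.exists_lift f

theorem isIso_of_lift_id (hp : FibCat.IsFibGrpd p) {Y : D} {a b : F} (ψ : a ⟶ b)
    [p.IsHomLift (𝟙 Y) ψ] : IsIso ψ := by
  haveI : IsIso (p.map ψ) := by
    rw [IsHomLift.fac' p (𝟙 Y) ψ]
    infer_instance
  exact H1_isIso_of_isFibGrpd hp ψ

/-- local construction of the extension of a section. -/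
theorem exists_local (hp : FibCat.IsFibGrpd p) {Y : D}
    (hφ : HasContractibleNerve.{max w v₃ u₃, max w v₃ u₃} (StructuredArrow Y φ))
    (σ : C ⥤ F) (hσ : ∀ {X X' : C} (h : X ⟶ X'), p.IsHomLift (φ.map h) (σ.map h)) :
    ∃ (g : F) (ε : ∀ (X : C) (_ : Y ⟶ φ.obj X), g ⟶ σ.obj X),
      (∀ X u, p.IsHomLift u (ε X u)) ∧
      ∀ ⦃X X' : C⦄ (u : Y ⟶ φ.obj X) (h : X ⟶ X'), ε X u ≫ σ.map h = ε X' (u ≫ φ.map h) := by
  have hobj : ∀ X : C, p.obj (σ.obj X) = φ.obj X := by
    intro X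
    haveI := hσ (𝟙 X)
    exact IsHomLift.domain_eq p (φ.map (𝟙 X)) (σ.map (𝟙 X))
  have hex : ∀ b : StructuredArrow Y φ, ∃ (y : F) (ψ : y ⟶ σ.obj b.right), p.IsHomLift b.hom ψ :=
    fun b => exists_lift' hp b.hom (hobj b.right)
  choose P c hc using hex
  have hcart : ∀ b, p.IsStronglyCartesian b.hom (c b) := fun b =>
    haveI := hc b
    H1_isStronglyCartesian_of_isFibGrpd hp b.hom (c b)
  have hlift : ∀ {b b' : StructuredArrow Y φ} (m : b ⟶ b'),
      p.IsHomLift b'.hom (c b ≫ σ.map m.right) := by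
    intro b b' m
    haveI := hc b
    haveI := hσ m.right
    rw [← StructuredArrow.w m]
    infer_instance
  have hK : ∀ (b b' : StructuredArrow Y φ) (m : b ⟶ b'), ∃ χ : P b ⟶ P b',
      p.IsHomLift (𝟙 Y) χ ∧ χ ≫ c b' = c b ≫ σ.map m.right ∧
      ∀ χ' : P b ⟶ P b', p.IsHomLift (𝟙 Y) χ' → χ' ≫ c b' = c b ≫ σ.map m.right → χ' = χ := by
    intro b b' m
    haveI := hlift m
    haveI := hcart b'
    refine ⟨Functor.IsStronglyCartesian.map p b'.hom (c b') (Category.id_comp _).symm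
          (c b ≫ σ.map m.right), Functor.IsStronglyCartesian.map_isHomLift p b'.hom (c b')
            (Category.id_comp _).symm (c b ≫ σ.map m.right),
            Functor.IsStronglyCartesian.fac p b'.hom (c b') (Category.id_comp _).symm
          (c b ≫ σ.map m.right), fun χ' h1 h2 => ?_⟩
    haveI := h1
    exact Functor.IsStronglyCartesian.map_uniq p b'.hom (c b') (Category.id_comp _).symm
          (c b ≫ σ.map m.right) χ' h2
  choose km km1 km2 km3 using hK
  let K : StructuredArrow Y φ ⥤ p.Fiber Y :=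
    { obj := fun b => Functor.Fiber.mk (haveI := hc b; IsHomLift.domain_eq p b.hom (c b))
      map := fun {b b'} m => ⟨km b b' m, km1 b b' m⟩
      map_id := by
        intro b
        apply Functor.Fiber.hom_ext
        haveI : p.IsHomLift (𝟙 Y) (𝟙 (P b)) :=
          IsHomLift.id (haveI := hc b; IsHomLift.domain_eq p b.hom (c b))
        symm
        apply km3 b b (𝟙 b) (𝟙 (P b)) inferInstance
        simp
      map_comp := by
        intro b b' b'' m m'
        apply Functor.Fiber.hom_ext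
        symm
        haveI := km1 b b' m
        haveI := km1 b' b'' m'
        apply km3 b b'' (m ≫ m') (km b b' m ≫ km b' b'' m') inferInstance
        change (km b b' m ≫ km b' b'' m') ≫ c b'' = c b ≫ σ.map (m.right ≫ m'.right)
        rw [Category.assoc, km2, reassoc_of% (km2 b b' m), σ.map_comp] }
  haveI : IsGroupoid (p.Fiber Y) := H1_isGroupoid_fiber_of_isFibGrpd hp Y
  obtain ⟨g, θ, hθ⟩ := essConst_of_contr.{w} hφ K
  obtain ⟨g₀, hg₀⟩ := g
  let τ : ∀ b, P b ⟶ g₀ := fun b => (θ b).1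
  have hτ : ∀ b, p.IsHomLift (𝟙 Y) (τ b) := fun b => (θ b).2
  have hτiso : ∀ b, IsIso (τ b) := fun b =>
    haveI := hτ b
    isIso_of_lift_id hp (Y := Y) (τ b)
  have hτnat : ∀ {b b' : StructuredArrow Y φ} (m : b ⟶ b'), km b b' m ≫ τ b' = τ b :=
    fun m => congrArg Subtype.val (hθ m)
  let E : ∀ b : StructuredArrow Y φ, g₀ ⟶ σ.obj b.right := fun b =>
    haveI := hτiso b
    inv (τ b) ≫ c b
  have hE1 : ∀ b, p.IsHomLift b.hom (E b) := by
    intro b
    haveI := hτiso b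
    haveI := hτ b
    haveI := hc b
    haveI : p.IsHomLift (𝟙 Y) (inv (τ b)) := inferInstance
    exact IsHomLift.comp_lift_id_left p b.hom (c b) (inv (τ b))
  have hE2 : ∀ {b b' : StructuredArrow Y φ} (m : b ⟶ b'), E b ≫ σ.map m.right = E b' := by
    intro b b' m
    haveI := hτiso b
    haveI := hτiso b'
    change (inv (τ b) ≫ c b) ≫ σ.map m.right = inv (τ b') ≫ c b'
    have h3 : km b b' m = τ b ≫ inv (τ b') := by
      rw [IsIso.eq_comp_inv]
      exact hτnat m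
    rw [Category.assoc, IsIso.inv_comp_eq, ← km2 b b' m, h3, Category.assoc]
  refine ⟨g₀, fun X u => E (StructuredArrow.mk u), fun X u => hE1 (StructuredArrow.mk u), ?_⟩
  intro X X' u h
  exact hE2 (StructuredArrow.homMk h rfl : StructuredArrow.mk u ⟶ StructuredArrow.mk (u ≫ φ.map h))


theorem exists_section (hp : FibCat.IsFibGrpd p)
    (hφ : ∀ Y : D, HasContractibleNerve.{max w v₃ u₃, max w v₃ u₃} (StructuredArrow Y φ))
    (σ : C ⥤ F) (hσ : ∀ {X X' : C} (h : X ⟶ X'), p.IsHomLift (φ.map h) (σ.map h)) :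
    ∃ (s : D ⥤ F) (_ : ∀ {Y' Y : D} (v : Y' ⟶ Y), p.IsHomLift v (s.map v)) (ε : φ ⋙ s ⟶ σ),
      ∀ X, p.IsHomLift (𝟙 (φ.obj X)) (ε.app X) := by
  choose S E hE1 hE2 using (fun Y => exists_local.{w} hp (hφ Y) σ hσ)
  have hne : ∀ Y : D, ∃ (X : C), Nonempty (Y ⟶ φ.obj X) := fun Y => exists_of_contr φ (hφ Y)
  have hS : ∀ Y, p.obj (S Y) = Y := by
    intro Y
    obtain ⟨X₀, ⟨u₀⟩⟩ := hne Y
    haveI := hE1 Y X₀ u₀
    exact IsHomLift.domain_eq p u₀ (E Y X₀ u₀)
  have hcart : ∀ Y X (u : Y ⟶ φ.obj X), p.IsStronglyCartesian u (E Y X u) := fun Y X u =>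
    haveI := hE1 Y X u
    H1_isStronglyCartesian_of_isFibGrpd hp u (E Y X u)
  have huniq : ∀ {Y' Y : D} (v : Y' ⟶ Y) (χ χ' : S Y' ⟶ S Y), p.IsHomLift v χ → p.IsHomLift v χ' →
      (∀ X u, χ ≫ E Y X u = χ' ≫ E Y X u) → χ = χ' := by
    intro Y' Y v χ χ' h1 h2 h3
    obtain ⟨X₀, ⟨u₀⟩⟩ := hne Y
    haveI := hcart Y X₀ u₀
    haveI := h1
    haveI := h2
    exact Functor.IsStronglyCartesian.ext p u₀ (E Y X₀ u₀) v (h3 X₀ u₀)
  have hmap : ∀ (Y' Y : D) (v : Y' ⟶ Y), ∃ χ : S Y' ⟶ S Y, p.IsHomLift v χ ∧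
      ∀ X u, χ ≫ E Y X u = E Y' X (v ≫ u) := by
    intro Y' Y v
    let k : ∀ X : C, (Y ⟶ φ.obj X) → (S Y' ⟶ S Y) := fun X u =>
      haveI := hE1 Y' X (v ≫ u)
      haveI := hcart Y X u
      Functor.IsStronglyCartesian.map p u (E Y X u) (rfl : v ≫ u = v ≫ u) (E Y' X (v ≫ u))
    have hk1 : ∀ X u, p.IsHomLift v (k X u) := by
      intro X u
      haveI := hE1 Y' X (v ≫ u)
      haveI := hcart Y X u
      exact Functor.IsStronglyCartesian.map_isHomLift p u (E Y X u) (rfl : v ≫ u = v ≫ u)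
        (E Y' X (v ≫ u))
    have hk2 : ∀ X u, k X u ≫ E Y X u = E Y' X (v ≫ u) := by
      intro X u
      haveI := hE1 Y' X (v ≫ u)
      haveI := hcart Y X u
      exact Functor.IsStronglyCartesian.fac p u (E Y X u) (rfl : v ≫ u = v ≫ u)
        (E Y' X (v ≫ u))
    obtain ⟨a, ha⟩ := const_of_contr'.{max w u₃} φ (hφ Y) k (by
      intro X X' u h
      haveI := hE1 Y' X' (v ≫ u ≫ φ.map h)
      haveI := hcart Y X' (u ≫ φ.map h)
      haveI := hk1 X u
      apply Functor.IsStronglyCartesian.map_uniq p (u ≫ φ.map h) (E Y X' (u ≫ φ.map h))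
        (rfl : v ≫ u ≫ φ.map h = v ≫ u ≫ φ.map h) (E Y' X' (v ≫ u ≫ φ.map h)) (k X u)
      rw [← hE2 Y u h, reassoc_of% (hk2 X u), hE2 Y' (v ≫ u) h, Category.assoc])
    obtain ⟨X₀, ⟨u₀⟩⟩ := hne Y
    refine ⟨a, ?_, fun X u => ?_⟩
    · rw [← ha X₀ u₀]; exact hk1 X₀ u₀
    · rw [← ha X u]; exact hk2 X u
  choose sm hsm1 hsm2 using hmap
  let s : D ⥤ F :=
    { obj := S
      map := fun {Y' Y} v => sm Y' Y v
      map_id := by
        intro Y
        apply huniq (𝟙 Y) _ _ (hsm1 Y Y (𝟙 Y)) (IsHomLift.id (hS Y))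
        intro X u
        rw [hsm2, Category.id_comp, Category.id_comp]
      map_comp := by
        intro Y'' Y' Y v' v
        haveI := hsm1 Y'' Y' v'
        haveI := hsm1 Y' Y v
        apply huniq (v' ≫ v) _ _ (hsm1 Y'' Y (v' ≫ v)) inferInstance
        intro X u
        rw [hsm2, Category.assoc, Category.assoc, hsm2, hsm2] }
  refine ⟨s, fun {Y' Y} v => hsm1 Y' Y v,
    { app := fun X => E (φ.obj X) X (𝟙 _), naturality := ?_ }, fun X => hE1 (φ.obj X) X (𝟙 _)⟩
  intro X X' h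
  change sm _ _ (φ.map h) ≫ E (φ.obj X') X' (𝟙 _) = E (φ.obj X) X (𝟙 _) ≫ σ.map h
  rw [hsm2, hE2, Category.comp_id, Category.id_comp]


theorem based_lift_self {𝒳 : BasedCategory.{v₃, u₃} D} (s : FibCat.selfOver D ⥤ᵇ 𝒳)
    {Y' Y : D} (v : Y' ⟶ Y) : 𝒳.p.IsHomLift v (s.toFunctor.map v) := by
  haveI : (FibCat.selfOver D).p.IsHomLift v v := (inferInstance : (𝟭 D).IsHomLift ((𝟭 D).map v) v)
  exact BasedFunctor.preserves_isHomLift s v v

theorem based_lift_of (σ : BasedCategory.ofFunctor φ ⥤ᵇ BasedCategory.ofFunctor p)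
    {X X' : C} (h : X ⟶ X') : p.IsHomLift (φ.map h) (σ.toFunctor.map h) := by
  haveI : (BasedCategory.ofFunctor φ).p.IsHomLift (φ.map h) h :=
    (inferInstance : φ.IsHomLift (φ.map h) h)
  exact BasedFunctor.preserves_isHomLift σ (φ.map h) h

variable (φ p)

theorem restr_isEquivalence [hp : FibCat.IsFibGrpd p]
    (hφ : ∀ Y : D, HasContractibleNerve.{max u₁ u₂ u₃ v₁ v₂ v₃, max u₁ u₂ u₃ v₁ v₂ v₃}
      (StructuredArrow Y φ)) :
    (Stk.restr (FibCat.toSelf (BasedCategory.ofFunctor φ))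
      (BasedCategory.ofFunctor p)).IsEquivalence := by
  have hne : ∀ Y : D, ∃ (X : C), Nonempty (Y ⟶ φ.obj X) := fun Y => exists_of_contr φ (hφ Y)
  haveI : (Stk.restr (FibCat.toSelf (BasedCategory.ofFunctor φ))
      (BasedCategory.ofFunctor p)).Faithful := by
    refine ⟨fun {s t} α β h => ?_⟩
    apply BasedNatTrans.homCategory.ext
    ext Y
    obtain ⟨X₀, ⟨u₀⟩⟩ := hne Y
    refine app_eq_of_whisker_eq (φ := φ) hp (fun v => based_lift_self t v) α.toNatTrans β.toNatTrans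
      (fun Y => α.isHomLift' Y) (fun Y => β.isHomLift' Y) (fun X => ?_) u₀
    exact congrArg (fun m => m.toNatTrans.app X) h
  haveI : (Stk.restr (FibCat.toSelf (BasedCategory.ofFunctor φ))
      (BasedCategory.ofFunctor p)).Full := by
    refine ⟨fun {s t} γ => ?_⟩
    obtain ⟨α, hα1, hα2⟩ := exists_extension.{max u₁ u₂ u₃ v₁ v₂ v₃} (φ := φ) hp hφ
      (fun v => based_lift_self s v) (fun v => based_lift_self t v) γ.toNatTrans
      (fun X => γ.isHomLift' X)
    refine ⟨{ toNatTrans := α, isHomLift' := hα1 }, ?_⟩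
    apply BasedNatTrans.homCategory.ext
    ext X
    exact hα2 X
  haveI : (Stk.restr (FibCat.toSelf (BasedCategory.ofFunctor φ))
      (BasedCategory.ofFunctor p)).EssSurj := by
    refine ⟨fun σ => ?_⟩
    obtain ⟨s, hs, ε, hε⟩ := exists_section.{max u₁ u₂ u₃ v₁ v₂ v₃} (φ := φ) hp hφ σ.toFunctor
      (fun h => based_lift_of σ h)
    have hsw : s ⋙ p = 𝟭 D := by
      refine CategoryTheory.Functor.ext (fun Y => ?_) (fun Y' Y v => ?_)
      · haveI := hs (𝟙 Y)
        exact IsHomLift.domain_eq p (𝟙 Y) (s.map (𝟙 Y))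
      · haveI := hs v
        simpa using IsHomLift.fac' p v (s.map v)
    let sb : FibCat.selfOver D ⥤ᵇ BasedCategory.ofFunctor p := { toFunctor := s, w := hsw }
    have hiso : ∀ X, IsIso (ε.app X) := fun X =>
      haveI := hε X
      isIso_of_lift_id hp (Y := φ.obj X) (ε.app X)
    refine ⟨sb, ⟨BasedNatIso.mkNatIso (NatIso.ofComponents (fun X => @asIso _ _ _ _ (ε.app X) (hiso X))
      (fun h => ε.naturality h)) (fun X => hε X)⟩⟩
  exact { }

end Main


section Fib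

variable {C : Type u₁} [Category.{v₁} C] {D : Type u₂} [Category.{v₂} D] (f : C ⥤ D) [f.IsFibered]

theorem hasContractibleNerve_structuredArrow (Y : D)
    (hf : HasContractibleNerve.{w, w} (f.Fiber Y)) :
    HasContractibleNerve.{w, w} (StructuredArrow Y f) := by
  have hLm : ∀ {a a' : f.Fiber Y} (ψ : a ⟶ a'),
      (eqToHom a.2.symm : Y ⟶ f.obj a.1) ≫ f.map ψ.1 = eqToHom a'.2.symm := by
    intro a a' ψ
    haveI : f.IsHomLift (𝟙 Y) ψ.1 := ψ.2
    rw [IsHomLift.fac' f (𝟙 Y) ψ.1]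
    simp
  let L : f.Fiber Y ⥤ StructuredArrow Y f :=
    { obj := fun a => StructuredArrow.mk (eqToHom a.2.symm : Y ⟶ f.obj a.1)
      map := fun {a a'} ψ => StructuredArrow.homMk ψ.1 (hLm ψ)
      map_id := fun a => by apply StructuredArrow.hom_ext; rfl
      map_comp := fun ψ ψ' => by apply StructuredArrow.hom_ext; rfl }
  let P : StructuredArrow Y f → C := fun b =>
    Functor.IsPreFibered.pullbackObj (p := f) (rfl : f.obj b.right = f.obj b.right) b.hom
  let c : ∀ b : StructuredArrow Y f, P b ⟶ b.right := fun b =>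
    Functor.IsPreFibered.pullbackMap (p := f) (rfl : f.obj b.right = f.obj b.right) b.hom
  have hcart : ∀ b, f.IsStronglyCartesian b.hom (c b) := fun b => inferInstance
  have hc : ∀ b, f.IsHomLift b.hom (c b) := fun b => inferInstance
  have hP : ∀ b, f.obj (P b) = Y := fun b => IsHomLift.domain_eq f b.hom (c b)
  let Ra : StructuredArrow Y f → f.Fiber Y := fun b => ⟨P b, hP b⟩
  have hcu : ∀ b, (eqToHom (hP b).symm : Y ⟶ f.obj (P b)) ≫ f.map (c b) = b.hom := by
    intro b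
    rw [IsHomLift.fac' f b.hom (c b)]
    simp
  let cu : ∀ b, L.obj (Ra b) ⟶ b := fun b => StructuredArrow.homMk (c b) (hcu b)
  -- constancy of invariant families
  have hconst : ∀ {T : Type w} (k : StructuredArrow Y f → T),
      (∀ ⦃b b' : StructuredArrow Y f⦄, (b ⟶ b') → k b = k b') → ∃ t₀, ∀ b, k b = t₀ := by
    intro T k hk
    obtain ⟨t₀, h₀⟩ := const_of_contr.{w, w} hf (fun a => k (L.obj a)) (fun a a' ψ => hk (L.map ψ))
    exact ⟨t₀, fun b => (hk (cu b)).symm.trans (h₀ (Ra b))⟩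
  obtain ⟨a₀⟩ := hf.1
  refine ⟨⟨L.obj a₀⟩, fun G _ => ?_⟩
  haveI : (Functor.const (StructuredArrow Y f) : G ⥤ StructuredArrow Y f ⥤ G).Faithful := by
    refine ⟨fun {g g'} x x' h => ?_⟩
    exact congrArg (fun m => m.app (L.obj a₀)) h
  haveI : (Functor.const (StructuredArrow Y f) : G ⥤ StructuredArrow Y f ⥤ G).Full := by
    refine ⟨fun {g g'} τ => ?_⟩
    obtain ⟨t₀, h₀⟩ := hconst (T := (g ⟶ g')) (fun b => τ.app b) (by
      intro b b' m
      have := τ.naturality m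
      simpa using this.symm)
    refine ⟨t₀, ?_⟩
    ext b
    exact (h₀ b).symm
  haveI : (Functor.const (StructuredArrow Y f) : G ⥤ StructuredArrow Y f ⥤ G).EssSurj := by
    refine ⟨fun K => ?_⟩
    obtain ⟨g, θ', hθ'⟩ := essConst_of_contr.{w} hf (L ⋙ K)
    have hstar : ∀ {b b' : StructuredArrow Y f} (m : b ⟶ b'), ∃ ψ : Ra b ⟶ Ra b',
        L.map ψ ≫ cu b' = cu b ≫ m := by
      intro b b' m
      haveI := hcart b'
      haveI := hc b
      haveI : f.IsHomLift (b.hom ≫ f.map m.right) (c b ≫ m.right) := inferInstance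
      have e1 : b.hom ≫ f.map m.right = 𝟙 Y ≫ b'.hom := by
        rw [Category.id_comp]; exact StructuredArrow.w m
      refine ⟨⟨Functor.IsStronglyCartesian.map f b'.hom (c b') e1 (c b ≫ m.right),
        Functor.IsStronglyCartesian.map_isHomLift f b'.hom (c b') e1 (c b ≫ m.right)⟩, ?_⟩
      apply StructuredArrow.hom_ext
      exact Functor.IsStronglyCartesian.fac f b'.hom (c b') e1 (c b ≫ m.right)
    let θ : ∀ b, K.obj b ⟶ g := fun b => inv (K.map (cu b)) ≫ θ' (Ra b)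
    refine ⟨g, ⟨(NatIso.ofComponents (fun b => asIso (θ b)) ?_).symm⟩⟩
    intro b b' m
    obtain ⟨ψ, hψ⟩ := hstar m
    have h1 : K.map (L.map ψ) ≫ θ' (Ra b') = θ' (Ra b) := hθ' ψ
    have h2 : K.map (L.map ψ) ≫ K.map (cu b') = K.map (cu b) ≫ K.map m := by
      rw [← K.map_comp, hψ, K.map_comp]
    change K.map m ≫ inv (K.map (cu b')) ≫ θ' (Ra b') = (inv (K.map (cu b)) ≫ θ' (Ra b)) ≫ 𝟙 g
    rw [Category.comp_id, ← h1, IsIso.eq_inv_comp, ← Category.assoc, ← h2, Category.assoc,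
      IsIso.hom_inv_id_assoc]
  exact { }

end Fib

end Groth.Agent.H1.Contr
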