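import Mathlib
import Groth.Prelude.Def_W4stkcategoriessitesFib
import Groth.Agent.Lib.helper1.FibCatBasic
import Groth.Agent.Lib.helper1.FibCatSet
import Groth.Agent.Lib.helper1.FibCatDiagRep

set_option autoImplicit false

/-! Factorisation of a cartesian functor as fully faithful coreflective followed by a fibration (helper1). -/

universe v₁ v₂ v₃ u₁ u₂ u₃

open CategoryTheory CategoryTheory.Functor

namespace Groth.Agent.H1.Fact

open Groth.Agent.H1.FC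

section General

variable {𝒲 : Type u₁} [Category.{v₁} 𝒲] {𝒵 : Type u₂} [Category.{v₂} 𝒵]

theorem sc_mk (q : 𝒵 ⥤ 𝒲) {a b : 𝒵} (ψ : a ⟶ b)
    (h : ∀ (a' : 𝒵) (ψ' : a' ⟶ b) (g : q.obj a' ⟶ q.obj a), q.map ψ' = g ≫ q.map ψ →
      ∃! χ : a' ⟶ a, q.map χ = g ∧ χ ≫ ψ = ψ') : q.IsStronglyCartesian (q.map ψ) ψ := by
  refine { toIsHomLift := inferInstance, universal_property' := ?_ }
  intro a' g ψ' hψ'
  have e : q.map ψ' = g ≫ q.map ψ := (H1_isHomLift_iff q _ ψ').1 hψ'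
  obtain ⟨χ, ⟨h1, h2⟩, h3⟩ := h a' ψ' g e
  refine ⟨χ, ⟨(H1_isHomLift_iff q g χ).2 h1, h2⟩, ?_⟩
  rintro χ' ⟨h1', h2'⟩
  exact h3 χ' ⟨(H1_isHomLift_iff q g χ').1 h1', h2'⟩

theorem sc_elim (q : 𝒵 ⥤ 𝒲) {R S : 𝒲} (f : R ⟶ S) {a b : 𝒵} (ψ : a ⟶ b) [hψ : q.IsStronglyCartesian f ψ]
    (a' : 𝒵) (ψ' : a' ⟶ b) (g : q.obj a' ⟶ q.obj a) (e : q.map ψ' = g ≫ q.map ψ) :
    ∃ χ : a' ⟶ a, q.map χ = g ∧ χ ≫ ψ = ψ' := by
  subst_hom_lift q f ψ
  haveI : q.IsHomLift (g ≫ q.map ψ) ψ' := (H1_isHomLift_iff q _ ψ').2 e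
  refine ⟨IsStronglyCartesian.map q (q.map ψ) ψ (g := g) rfl ψ', ?_, IsStronglyCartesian.fac q _ ψ rfl ψ'⟩
  exact (H1_isHomLift_iff q g _).1 inferInstance

theorem sc_uniq (q : 𝒵 ⥤ 𝒲) {R S : 𝒲} (f : R ⟶ S) {a b a' : 𝒵} (φ : a ⟶ b)
    [q.IsStronglyCartesian f φ] (ψ ψ' : a' ⟶ a)
    (hmap : q.map ψ = q.map ψ') (h : ψ ≫ φ = ψ' ≫ φ) : ψ = ψ' := by
  subst_hom_lift q f φ
  haveI : q.IsHomLift (q.map ψ) ψ' := by rw [hmap]; infer_instance
  exact IsStronglyCartesian.ext q (q.map φ) φ (q.map ψ) h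

theorem sc_of_iso_comp (q : 𝒵 ⥤ 𝒲) {R S : 𝒲} (f : R ⟶ S) {a' a b : 𝒵} (e : a' ⟶ a) [IsIso e]
    (he : q.IsHomLift (𝟙 R) e) (φ : a ⟶ b) (hφ : q.IsStronglyCartesian f φ) :
    q.IsStronglyCartesian f (e ≫ φ) := by
  have h1 : q.IsStronglyCartesian (𝟙 R) e := IsStronglyCartesian.of_isIso q (𝟙 R) e
  have h := IsStronglyCartesian.comp (p := q) (f := 𝟙 R) (g := f) (φ := e) (ψ := φ)
  rwa [Category.id_comp] at h

end General

variable {C : Type u₁} [Category.{v₁} C] {𝒳 : BasedCategory.{v₂, u₂} C} {𝒴 : BasedCategory.{v₃, u₃} C}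

/-- objects of the factorisation category -/
structure Obj (F : 𝒳 ⥤ᵇ 𝒴) where
  x : 𝒳.obj
  y : 𝒴.obj
  φ : y ⟶ F.obj x
  hφ : 𝒴.p.IsHomLift (𝟙 (𝒴.p.obj y)) φ

variable {F : 𝒳 ⥤ᵇ 𝒴}

/-- morphisms of the factorisation category -/
@[ext]
structure Hom (A B : Obj F) where
  a : A.x ⟶ B.x
  b : A.y ⟶ B.y
  w : A.φ ≫ F.map a = b ≫ B.φ

instance : Category (Obj F) where
  Hom A B := Hom A B
  id A := ⟨𝟙 _, 𝟙 _, by simp⟩
  comp f g := ⟨f.a ≫ g.a, f.b ≫ g.b, by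
    rw [F.toFunctor.map_comp, ← Category.assoc, f.w, Category.assoc, g.w, Category.assoc]⟩
  id_comp f := by apply Hom.ext <;> simp
  comp_id f := by apply Hom.ext <;> simp
  assoc f g h := by apply Hom.ext <;> simp

@[ext]
theorem hom_ext {A B : Obj F} (f g : A ⟶ B) (ha : f.a = g.a) (hb : f.b = g.b) : f = g :=
  Hom.ext ha hb

@[simp] theorem id_a (A : Obj F) : Hom.a (𝟙 A) = 𝟙 A.x := rfl
@[simp] theorem id_b (A : Obj F) : Hom.b (𝟙 A) = 𝟙 A.y := rfl
@[simp] theorem comp_a {A B D : Obj F} (f : A ⟶ B) (g : B ⟶ D) : (f ≫ g).a = f.a ≫ g.a := rfl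
@[simp] theorem comp_b {A B D : Obj F} (f : A ⟶ B) (g : B ⟶ D) : (f ≫ g).b = f.b ≫ g.b := rfl

variable (F)

/-- first projection -/
def wF : Obj F ⥤ 𝒳.obj where
  obj A := A.x
  map f := f.a

/-- second projection -/
def vF : Obj F ⥤ 𝒴.obj where
  obj A := A.y
  map f := f.b

/-- the embedding -/
def uF : 𝒳.obj ⥤ Obj F where
  obj x := ⟨x, F.obj x, 𝟙 _, IsHomLift.id rfl⟩
  map a := ⟨a, F.map a, by simp⟩

variable {F}

instance (A : Obj F) : 𝒴.p.IsHomLift (𝟙 (𝒴.p.obj A.y)) A.φ := A.hφ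

theorem Obj.hp (A : Obj F) : 𝒳.p.obj A.x = 𝒴.p.obj A.y :=
  (F.w_obj A.x).symm.trans (IsHomLift.codomain_eq 𝒴.p (𝟙 (𝒴.p.obj A.y)) A.φ)

theorem map_φ (A : Obj F) : 𝒴.p.map A.φ = eqToHom (A.hp.symm.trans (F.w_obj A.x).symm) := by
  haveI := A.hφ
  have := IsHomLift.fac' 𝒴.p (𝟙 (𝒴.p.obj A.y)) A.φ
  rw [this]
  simp

theorem map_F {x x' : 𝒳.obj} (a : x ⟶ x') :
    𝒴.p.map (F.map a) = eqToHom (F.w_obj x) ≫ 𝒳.p.map a ≫ eqToHom (F.w_obj x').symm :=
  Functor.congr_hom F.w a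

theorem map_a {A B : Obj F} (ψ : A ⟶ B) :
    𝒳.p.map ψ.a = eqToHom A.hp ≫ 𝒴.p.map ψ.b ≫ eqToHom B.hp.symm := by
  have h := congrArg (fun t => 𝒴.p.map t) ψ.w
  simp only [Functor.map_comp, map_φ, map_F] at h
  rw [← cancel_epi (eqToHom (A.hp.symm.trans (F.w_obj A.x).symm) ≫ eqToHom (F.w_obj A.x)),
    ← cancel_mono (eqToHom (F.w_obj B.x).symm)]
  simp only [Category.assoc] at h ⊢
  rw [h]
  simp

theorem w_eq : wF F ⋙ 𝒳.p = vF F ⋙ 𝒴.p := by
  refine CategoryTheory.Functor.ext (fun A => A.hp) (fun A B ψ => ?_)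
  exact map_a ψ


theorem map_b {A B : Obj F} (ψ : A ⟶ B) :
    𝒴.p.map ψ.b = eqToHom A.hp.symm ≫ 𝒳.p.map ψ.a ≫ eqToHom B.hp := by
  rw [map_a]
  simp

/-- a morphism whose first component is strongly cartesian is strongly cartesian for the second projection -/
theorem P2 (hF : FibCat.PreservesStronglyCartesian F) {A B : Obj F} (ψ : A ⟶ B)
    (ha : 𝒳.p.IsStronglyCartesian (𝒳.p.map ψ.a) ψ.a) :
    (vF F).IsStronglyCartesian ((vF F).map ψ) ψ := by
  have hFa : 𝒴.p.IsStronglyCartesian (𝒳.p.map ψ.a) (F.map ψ.a) := hF _ _ ha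
  apply sc_mk
  intro A'' ψ'' h e
  change A''.y ⟶ A.y at h
  change ψ''.b = h ≫ ψ.b at e
  have e0 : 𝒳.p.map ψ''.a = (eqToHom A''.hp ≫ 𝒴.p.map h ≫ eqToHom A.hp.symm) ≫ 𝒳.p.map ψ.a := by
    rw [map_a ψ'', map_a ψ, e]
    simp
  obtain ⟨a3, h1, h2⟩ := sc_elim 𝒳.p (𝒳.p.map ψ.a) ψ.a A''.x ψ''.a _ e0
  have compat : A''.φ ≫ F.map a3 = h ≫ A.φ := by
    refine sc_uniq 𝒴.p (𝒳.p.map ψ.a) (F.map ψ.a) _ _ ?_ ?_
    · rw [Functor.map_comp, Functor.map_comp, map_φ, map_φ, map_F, h1]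
      simp
    · rw [Category.assoc, Category.assoc, ← F.toFunctor.map_comp, h2, ψ''.w, ψ.w, e, Category.assoc]
  refine ⟨⟨a3, h, compat⟩, ⟨rfl, ?_⟩, ?_⟩
  · apply hom_ext
    · exact h2
    · exact e.symm
  · rintro χ' ⟨hb, hc⟩
    change χ'.b = h at hb
    apply hom_ext
    · change χ'.a = a3
      refine sc_uniq 𝒳.p (𝒳.p.map ψ.a) ψ.a _ _ ?_ ?_
      · rw [h1, map_a χ', hb]
      · rw [h2, ← hc]
        rfl
    · exact hb

section Lift

variable [𝒳.p.IsFibered] (hF : FibCat.PreservesStronglyCartesian F) (A : Obj F) {y' : 𝒴.obj} (g : y' ⟶ A.y)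

/-- the chosen inverse image of the first component -/
noncomputable def lx : 𝒳.obj := IsPreFibered.pullbackObj A.hp (𝒴.p.map g)

/-- the chosen lift of the first component -/
noncomputable def la : lx A g ⟶ A.x := IsPreFibered.pullbackMap A.hp (𝒴.p.map g)

instance la_sc : 𝒳.p.IsStronglyCartesian (𝒴.p.map g) (la A g) :=
  inferInstanceAs (𝒳.p.IsStronglyCartesian (𝒴.p.map g) (IsPreFibered.pullbackMap A.hp (𝒴.p.map g)))

include hF in
theorem Fla_sc : 𝒴.p.IsStronglyCartesian (𝒴.p.map g) (F.map (la A g)) := hF _ _ (la_sc A g)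

/-- the structure morphism of the lift -/
noncomputable def lφ : y' ⟶ F.obj (lx A g) :=
  haveI := Fla_sc hF A g
  IsStronglyCartesian.map 𝒴.p (𝒴.p.map g) (F.map (la A g)) (g := 𝟙 _) (f' := 𝒴.p.map g)
    (Category.id_comp _).symm (g ≫ A.φ)

theorem lφ_fac : lφ hF A g ≫ F.map (la A g) = g ≫ A.φ :=
  haveI := Fla_sc hF A g
  IsStronglyCartesian.fac 𝒴.p (𝒴.p.map g) (F.map (la A g)) (g := 𝟙 _) (f' := 𝒴.p.map g)
    (Category.id_comp _).symm (g ≫ A.φ)

theorem lφ_lift : 𝒴.p.IsHomLift (𝟙 (𝒴.p.obj y')) (lφ hF A g) :=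
  haveI := Fla_sc hF A g
  IsStronglyCartesian.map_isHomLift 𝒴.p (𝒴.p.map g) (F.map (la A g)) (g := 𝟙 _) (f' := 𝒴.p.map g)
    (Category.id_comp _).symm (g ≫ A.φ)

/-- the lifted object -/
noncomputable def lObj : Obj F := ⟨lx A g, y', lφ hF A g, lφ_lift hF A g⟩

/-- the lifted morphism -/
noncomputable def lHom : lObj hF A g ⟶ A := ⟨la A g, g, lφ_fac hF A g⟩

theorem lHom_sc_v : (vF F).IsStronglyCartesian g (lHom hF A g) := by
  have h : 𝒳.p.IsStronglyCartesian (𝒳.p.map (lHom hF A g).a) (lHom hF A g).a :=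
    ((H1_isStronglyCartesian_iff 𝒳.p (𝒴.p.map g) (la A g)).1 (la_sc A g)).2
  exact P2 hF (lHom hF A g) h

end Lift


variable (F) in
/-- the factorisation category over the base -/
abbrev XB : BasedCategory.{max v₂ v₃, max u₂ u₃ v₃} C := BasedCategory.ofFunctor (vF F ⋙ 𝒴.p)

variable (F) in
/-- the embedding as a based functor -/
def uB : 𝒳 ⥤ᵇ XB F where
  toFunctor := uF F
  w := F.w

variable (F) in
/-- the second projection as a based functor -/
def vB : XB F ⥤ᵇ 𝒴 where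
  toFunctor := vF F
  w := rfl

variable (F) in
/-- the first projection as a based functor -/
def wB : XB F ⥤ᵇ 𝒳 where
  toFunctor := wF F
  w := w_eq

theorem uB_comp_vB : BasedFunctor.comp (uB F) (vB F) = F := H1_basedFunctor_ext rfl

theorem vF_isFibered [𝒳.p.IsFibered] (hF : FibCat.PreservesStronglyCartesian F) : (vF F).IsFibered := by
  rw [H1_isFibered_iff]
  intro A y' g
  exact ⟨lObj hF A g, lHom hF A g, lHom_sc_v hF A g⟩

section Fib

variable [𝒳.p.IsFibered] [𝒴.p.IsFibered] (hF : FibCat.PreservesStronglyCartesian F)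

omit [𝒴.p.IsFibered] in
/-- the standard lift over the base -/
theorem lHom_sc_p (A : Obj F) {y' : 𝒴.obj} (g : y' ⟶ A.y)
    [hg : 𝒴.p.IsStronglyCartesian (𝒴.p.map g) g] :
    (XB F).p.IsStronglyCartesian ((XB F).p.map (lHom hF A g)) (lHom hF A g) := by
  haveI h1 : (vF F).IsStronglyCartesian ((vF F).map (lHom hF A g)) (lHom hF A g) := lHom_sc_v hF A g
  haveI h2 : 𝒴.p.IsStronglyCartesian (𝒴.p.map ((vF F).map (lHom hF A g))) ((vF F).map (lHom hF A g)) := hg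
  exact H1_isStronglyCartesian_comp (vF F) 𝒴.p (lHom hF A g)

include hF in
theorem XB_isFibered : (XB F).p.IsFibered := by
  rw [H1_isFibered_iff]
  intro A R f
  obtain ⟨y', g, hg⟩ := (H1_isFibered_iff 𝒴.p).1 inferInstance A.y R f
  have hg' : 𝒴.p.IsStronglyCartesian (𝒴.p.map g) g := ((H1_isStronglyCartesian_iff 𝒴.p f g).1 hg).2
  refine ⟨lObj hF A g, lHom hF A g, ?_⟩
  rw [H1_isStronglyCartesian_iff]
  refine ⟨?_, lHom_sc_p hF A g⟩
  have h0 : 𝒴.p.IsHomLift f ((vB F).toFunctor.map (lHom hF A g)) := hg.toIsHomLift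
  exact (BasedFunctor.isHomLift_iff (vB F) f (lHom hF A g)).1 h0

include hF in
/-- the components of a strongly cartesian morphism are strongly cartesian -/
theorem components_sc {R S : C} (f : R ⟶ S) {A B : Obj F} (ψ : A ⟶ B)
    (hψ : (XB F).p.IsStronglyCartesian f ψ) :
    𝒳.p.IsStronglyCartesian f ψ.a ∧ 𝒴.p.IsStronglyCartesian f ψ.b := by
  have hS : 𝒴.p.obj B.y = S := IsHomLift.codomain_eq (XB F).p f ψ
  subst hS
  obtain ⟨y', g, hg⟩ := (H1_isFibered_iff 𝒴.p).1 inferInstance B.y R f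
  haveI hg' : 𝒴.p.IsStronglyCartesian (𝒴.p.map g) g := ((H1_isStronglyCartesian_iff 𝒴.p f g).1 hg).2
  have h0 : (XB F).p.IsHomLift f (lHom hF B g) := by
    have h0 : 𝒴.p.IsHomLift f ((vB F).toFunctor.map (lHom hF B g)) := hg.toIsHomLift
    exact (BasedFunctor.isHomLift_iff (vB F) f (lHom hF B g)).1 h0
  haveI hψ₀ : (XB F).p.IsStronglyCartesian f (lHom hF B g) :=
    (H1_isStronglyCartesian_iff _ f _).2 ⟨h0, lHom_sc_p hF B g⟩
  haveI : (XB F).p.IsCartesian f (lHom hF B g) := inferInstance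
  haveI : (XB F).p.IsCartesian f ψ := inferInstance
  let χ : A ≅ lObj hF B g := IsCartesian.domainUniqueUpToIso (XB F).p f (lHom hF B g) ψ
  have hχ : χ.hom ≫ lHom hF B g = ψ := IsCartesian.fac (XB F).p f (lHom hF B g) ψ
  have hχl : (XB F).p.IsHomLift (𝟙 R) χ.hom := inferInstance
  have ha : ψ.a = (wF F).map χ.hom ≫ la B g := by rw [← hχ]; rfl
  have hb : ψ.b = (vF F).map χ.hom ≫ g := by rw [← hχ]; rfl
  constructor
  · rw [ha]
    haveI : IsIso ((wF F).map χ.hom) := inferInstance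
    have h1 : 𝒳.p.IsHomLift (𝟙 R) ((wB F).toFunctor.map χ.hom) := inferInstance
    have h2 : 𝒳.p.IsHomLift f ((wB F).toFunctor.map (lHom hF B g)) := inferInstance
    have h3 : 𝒳.p.IsStronglyCartesian f (la B g) :=
      (H1_isStronglyCartesian_iff _ f _).2 ⟨h2,
        ((H1_isStronglyCartesian_iff 𝒳.p (𝒴.p.map g) (la B g)).1 (la_sc B g)).2⟩
    exact sc_of_iso_comp 𝒳.p f _ h1 _ h3
  · rw [hb]
    haveI : IsIso ((vF F).map χ.hom) := inferInstance
    have h1 : 𝒴.p.IsHomLift (𝟙 R) ((vB F).toFunctor.map χ.hom) := inferInstance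
    exact sc_of_iso_comp 𝒴.p f _ h1 _ hg

end Fib


theorem uB_preserves (hF : FibCat.PreservesStronglyCartesian F) :
    FibCat.PreservesStronglyCartesian (uB F) := by
  intro R S f x' x a ha
  have ha' : 𝒳.p.IsStronglyCartesian (𝒳.p.map a) a := ((H1_isStronglyCartesian_iff 𝒳.p f a).1 ha).2
  have hFa : 𝒴.p.IsStronglyCartesian (𝒴.p.map (F.map a)) (F.map a) :=
    ((H1_isStronglyCartesian_iff 𝒴.p f (F.map a)).1 (hF f a ha)).2
  haveI h1 : (vF F).IsStronglyCartesian ((vF F).map ((uF F).map a)) ((uF F).map a) :=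
    P2 hF ((uF F).map a) ha'
  haveI h2 : 𝒴.p.IsStronglyCartesian (𝒴.p.map ((vF F).map ((uF F).map a))) ((vF F).map ((uF F).map a)) := hFa
  have h3 := H1_isStronglyCartesian_comp (vF F) 𝒴.p ((uF F).map a)
  rw [H1_isStronglyCartesian_iff]
  refine ⟨?_, h3⟩
  haveI := ha.toIsHomLift
  exact inferInstanceAs ((XB F).p.IsHomLift f ((uB F).map a))

variable (F) in
/-- the adjunction between the first projection and the embedding -/
def adj : wF F ⊣ uF F :=
  Adjunction.mkOfHomEquiv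
    { homEquiv := fun A x =>
        { toFun := fun a => ⟨a, A.φ ≫ F.map a, by simp [uF]⟩
          invFun := fun ψ => ψ.a
          left_inv := fun a => rfl
          right_inv := fun ψ => by
            apply hom_ext
            · rfl
            · have := ψ.w
              simp only [uF, Category.comp_id] at this
              exact this }
      homEquiv_naturality_left_symm := fun f g => rfl
      homEquiv_naturality_right := fun f g => by
        apply hom_ext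
        · rfl
        · change _ ≫ F.map (f ≫ g) = (_ ≫ F.map f) ≫ F.map g
          rw [F.toFunctor.map_comp, Category.assoc] }

theorem uF_faithful : (uF F).Faithful where
  map_injective h := congrArg Hom.a h

theorem uF_full : (uF F).Full where
  map_surjective {x x'} ψ := by
    refine ⟨ψ.a, ?_⟩
    apply hom_ext
    · rfl
    · have := ψ.w
      simp only [uF, Category.comp_id, Category.id_comp] at this
      exact this

end Groth.Agent.H1.Fact
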