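import Mathlib
import Groth.Prelude.Def_FibClv

set_option autoImplicit false

/-! Split fibred categories and the Grothendieck construction (helper1). -/

universe v₁ v₂ u₁ u₂

open CategoryTheory CategoryTheory.Functor Opposite

namespace Groth.Agent.H1.Split

variable {𝒮 : Type u₁} [Category.{v₁} 𝒮] {𝒳 : Type u₂} [Category.{v₂} 𝒳]
variable {p : 𝒳 ⥤ 𝒮} (K : FibCat.Cleavage p)

theorem fiber_eqToHom_map {S : 𝒮} {a b : p.Fiber S} (h : a = b) :
    Fiber.fiberInclusion.map (eqToHom h : a ⟶ b) = eqToHom (congrArg Fiber.fiberInclusion.obj h) := by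
  subst h
  rfl

theorem cart_uniq {R S : 𝒮} {a b a' : 𝒳} (f : R ⟶ S) (φ : a ⟶ b) (hφ : p.IsCartesian f φ)
    (ψ ψ' : a' ⟶ a) (h1 : p.IsHomLift (𝟙 R) ψ) (h2 : p.IsHomLift (𝟙 R) ψ') (h : ψ ≫ φ = ψ' ≫ φ) :
    ψ = ψ' :=
  IsCartesian.ext p f φ ψ ψ' h

theorem inverseImage_map_fac {R S : 𝒮} (f : R ⟶ S) {a b : p.Fiber S} (φ : a ⟶ b) :
    Fiber.fiberInclusion.map ((K.inverseImage f).map φ) ≫ K.lift b.2 f =
      K.lift a.2 f ≫ Fiber.fiberInclusion.map φ := by
  rw [FibCat.Cleavage.inverseImage_map]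
  exact IsCartesian.fac p f (K.lift b.2 f) (K.lift a.2 f ≫ Fiber.fiberInclusion.map φ)

theorem fiber_map_conj {S : 𝒮} {a a' b b' : p.Fiber S} (h₁ : a' = a) (ψ : a ⟶ b) (h₂ : b = b') :
    Fiber.fiberInclusion.map (eqToHom h₁ ≫ ψ ≫ eqToHom h₂) =
      eqToHom (congrArg Fiber.fiberInclusion.obj h₁) ≫ Fiber.fiberInclusion.map ψ ≫
        eqToHom (congrArg Fiber.fiberInclusion.obj h₂) := by
  subst h₁ h₂
  simp

omit [Category.{v₁} 𝒮] in
theorem aux_id {x y x' y' : 𝒳} (h₁ : x' = x) (h₂ : y' = y) (l₁ : x' ⟶ x) (l₂ : y' ⟶ y)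
    (hl₁ : l₁ = eqToHom h₁) (hl₂ : l₂ = eqToHom h₂) (φ' : x ⟶ y) :
    (eqToHom h₁ ≫ φ' ≫ eqToHom h₂.symm) ≫ l₂ = l₁ ≫ φ' := by
  subst hl₁ hl₂
  simp

omit [Category.{v₁} 𝒮] in
theorem aux_comp {x y A A' B B' : 𝒳} (hA : A' = A) (hB : B' = B) (lA : A ⟶ x) (mA : A' ⟶ x)
    (lB : B ⟶ y) (mB : B' ⟶ y) (hmA : mA = eqToHom hA ≫ lA) (hmB : mB = eqToHom hB ≫ lB)
    (φ' : x ⟶ y) (Z : A' ⟶ B') (hZ : Z ≫ mB = mA ≫ φ') :
    (eqToHom hA.symm ≫ Z ≫ eqToHom hB) ≫ lB = lA ≫ φ' := by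
  subst hA hB
  simp only [eqToHom_refl, Category.id_comp, Category.comp_id] at hmA hmB ⊢
  subst hmA hmB
  exact hZ

variable {K}

theorem inverseImage_id (hK : K.IsSplitting) (S : 𝒮) : K.inverseImage (𝟙 S) = 𝟭 (p.Fiber S) := by
  have hobj : ∀ a : p.Fiber S, (K.inverseImage (𝟙 S)).obj a = a := fun a =>
    Subtype.ext (hK.1 a.2).1
  refine CategoryTheory.Functor.ext hobj ?_
  intro a b φ
  apply Fiber.hom_ext
  obtain ⟨ha, hla⟩ := hK.1 a.2
  obtain ⟨hb, hlb⟩ := hK.1 b.2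
  refine cart_uniq (p := p) (𝟙 S) (K.lift b.2 (𝟙 S)) inferInstance _ _
    (inferInstanceAs (p.IsHomLift (𝟙 S) (Fiber.fiberInclusion.map ((K.inverseImage (𝟙 S)).map φ))))
    (inferInstanceAs (p.IsHomLift (𝟙 S) (Fiber.fiberInclusion.map
      (eqToHom (hobj a) ≫ (𝟭 (p.Fiber S)).map φ ≫ eqToHom (hobj b).symm)))) ?_
  refine (inverseImage_map_fac K (𝟙 S) φ).trans ?_
  refine Eq.trans ?_ (congrArg (· ≫ K.lift b.2 (𝟙 S)) (fiber_map_conj (hobj a) φ (hobj b).symm)).symm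
  exact (aux_id ha hb (K.lift a.2 (𝟙 S)) (K.lift b.2 (𝟙 S)) hla hlb (Fiber.fiberInclusion.map φ)).symm

theorem inverseImage_comp (hK : K.IsSplitting) {S T U : 𝒮} (f : T ⟶ S) (g : U ⟶ T) :
    K.inverseImage (g ≫ f) = K.inverseImage f ⋙ K.inverseImage g := by
  have hobj : ∀ a : p.Fiber S, (K.inverseImage (g ≫ f)).obj a = (K.inverseImage f ⋙ K.inverseImage g).obj a :=
    fun a => Subtype.ext (hK.2 f g a.2).1.symm
  refine CategoryTheory.Functor.ext hobj ?_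
  intro a b φ
  apply Fiber.hom_ext
  obtain ⟨ha, hla⟩ := hK.2 f g a.2
  obtain ⟨hb, hlb⟩ := hK.2 f g b.2
  refine cart_uniq (p := p) (g ≫ f) (K.lift b.2 (g ≫ f)) inferInstance _ _
    (inferInstanceAs (p.IsHomLift (𝟙 U) (Fiber.fiberInclusion.map ((K.inverseImage (g ≫ f)).map φ))))
    (inferInstanceAs (p.IsHomLift (𝟙 U) (Fiber.fiberInclusion.map
      (eqToHom (hobj a) ≫ (K.inverseImage f ⋙ K.inverseImage g).map φ ≫ eqToHom (hobj b).symm)))) ?_
  have e1 := inverseImage_map_fac K g ((K.inverseImage f).map φ)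
  have e2 := inverseImage_map_fac K f φ
  refine (inverseImage_map_fac K (g ≫ f) φ).trans ?_
  refine Eq.trans ?_ (congrArg (· ≫ K.lift b.2 (g ≫ f)) (fiber_map_conj (hobj a)
    ((K.inverseImage f ⋙ K.inverseImage g).map φ) (hobj b).symm)).symm
  refine (aux_comp ha hb (K.lift a.2 (g ≫ f)) (K.lift (K.obj_proj a.2 f) g ≫ K.lift a.2 f)
    (K.lift b.2 (g ≫ f)) (K.lift (K.obj_proj b.2 f) g ≫ K.lift b.2 f) hla hlb (Fiber.fiberInclusion.map φ)
    (Fiber.fiberInclusion.map ((K.inverseImage g).map ((K.inverseImage f).map φ))) ?_).symm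
  exact (Category.assoc _ _ _).symm.trans <| (congrArg (· ≫ K.lift b.2 f) e1).trans ((Category.assoc _ _ _).trans
    ((congrArg (K.lift (K.obj_proj a.2 f) g ≫ ·) e2).trans (Category.assoc _ _ _).symm))


open Pseudofunctor Pseudofunctor.CoGrothendieck

variable (K) in
/-- the strict functor of fibres of a split cleavage -/
noncomputable def fibFunctor (hK : K.IsSplitting) : 𝒮ᵒᵖ ⥤ Cat.{v₂, u₂} where
  obj S := Cat.of (p.Fiber S.unop)
  map {S T} f := (K.inverseImage f.unop).toCatHom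
  map_id S := by
    change (K.inverseImage (𝟙 S.unop)).toCatHom = _
    rw [inverseImage_id hK]
    rfl
  map_comp {S T U} f g := by
    change (K.inverseImage (g.unop ≫ f.unop)).toCatHom = _
    rw [inverseImage_comp hK]
    rfl

variable (hK : K.IsSplitting)

/-- the total category -/
abbrev Tot : Type (max u₁ u₂) := CoGrothendieck (fibFunctor K hK).toPseudofunctor'

/-- the fibre component of an object -/
abbrev fib (x : Tot hK) : p.Fiber x.base := x.fiber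

/-- the fibre component of a morphism -/
abbrev fibHom {x y : Tot hK} (m : x ⟶ y) : fib hK x ⟶ (K.inverseImage m.base).obj (fib hK y) := m.fiber

omit [Category.{v₁} 𝒮] in
theorem aux_unit {a a' : 𝒳} (h₁ : a = a') (h₂ : a' = a) (l : a' ⟶ a) (hl : l = eqToHom h₂) :
    eqToHom h₁ ≫ l = 𝟙 a := by
  subst hl
  simp

omit [Category.{v₁} 𝒮] in
theorem aux_comp2 {X A1 Y B A2 Z C : 𝒳} (μ : X ⟶ A1) (Lm : A1 ⟶ Y) (ν : Y ⟶ A2) (Ln : A2 ⟶ Z)
    (ν' : A1 ⟶ B) (Lm' : B ⟶ A2) (h : B = C) (Lmn : C ⟶ Z) (hl : Lm' ≫ Ln = eqToHom h ≫ Lmn)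
    (e1 : ν' ≫ Lm' = Lm ≫ ν) :
    (μ ≫ ν' ≫ eqToHom h) ≫ Lmn = (μ ≫ Lm) ≫ (ν ≫ Ln) := by
  subst h
  simp only [eqToHom_refl, Category.id_comp, Category.comp_id] at hl ⊢
  rw [← hl, Category.assoc, Category.assoc, ← Category.assoc ν', e1, Category.assoc]

theorem id_fib (x : Tot hK) :
    Fiber.fiberInclusion.map (fibHom hK (𝟙 x)) ≫ K.lift (fib hK x).2 (𝟙 x.base) = 𝟙 _ := by
  obtain ⟨h, hl⟩ := hK.1 (fib hK x).2
  have e₀ : fib hK x = (K.inverseImage (𝟙 x.base)).obj (fib hK x) := by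
    rw [inverseImage_id hK]
    rfl
  have e : fibHom hK (𝟙 x) = eqToHom e₀ := by
    change ((fibFunctor K hK).toPseudofunctor'.mapId ⟨op x.base⟩).inv.toNatTrans.app x.fiber = _
    rw [Functor.toPseudofunctor'_mapId, eqToIso.inv, Cat.eqToHom_app]
    rfl
  exact (congrArg (· ≫ K.lift (fib hK x).2 (𝟙 x.base))
    ((congrArg (fun t => Fiber.fiberInclusion.map t) e).trans (fiber_eqToHom_map e₀))).trans
    (aux_unit _ h _ hl)

theorem comp_fib {x y z : Tot hK} (m : x ⟶ y) (n : y ⟶ z) :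
    Fiber.fiberInclusion.map (fibHom hK (m ≫ n)) ≫ K.lift (fib hK z).2 ((m ≫ n).base) =
      (Fiber.fiberInclusion.map (fibHom hK m) ≫ K.lift (fib hK y).2 m.base) ≫
        (Fiber.fiberInclusion.map (fibHom hK n) ≫ K.lift (fib hK z).2 n.base) := by
  obtain ⟨h, hl⟩ := hK.2 n.base m.base (fib hK z).2
  have e₀ : (K.inverseImage m.base).obj ((K.inverseImage n.base).obj (fib hK z)) =
      (K.inverseImage (m.base ≫ n.base)).obj (fib hK z) := by
    rw [inverseImage_comp hK]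
    rfl
  have e : fibHom hK (m ≫ n) = fibHom hK m ≫ (K.inverseImage m.base).map (fibHom hK n) ≫ eqToHom e₀ := by
    change m.fiber ≫ ((fibFunctor K hK).toPseudofunctor'.map m.base.op.toLoc).toFunctor.map n.fiber ≫
      ((fibFunctor K hK).toPseudofunctor'.mapComp n.base.op.toLoc m.base.op.toLoc).inv.toNatTrans.app z.fiber = _
    rw [Functor.toPseudofunctor'_mapComp, eqToIso.inv, Cat.eqToHom_app]
    rfl
  have e1 := inverseImage_map_fac K m.base (fibHom hK n)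
  have e2 : Fiber.fiberInclusion.map (fibHom hK (m ≫ n)) =
      Fiber.fiberInclusion.map (fibHom hK m) ≫
        Fiber.fiberInclusion.map ((K.inverseImage m.base).map (fibHom hK n)) ≫ eqToHom h :=
    (congrArg (fun t => Fiber.fiberInclusion.map t) e).trans
      ((Fiber.fiberInclusion.map_comp _ _).trans (congrArg (Fiber.fiberInclusion.map (fibHom hK m) ≫ ·)
        ((Fiber.fiberInclusion.map_comp _ _).trans
          (congrArg (Fiber.fiberInclusion.map ((K.inverseImage m.base).map (fibHom hK n)) ≫ ·)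
            (fiber_eqToHom_map e₀)))))
  exact (congrArg (· ≫ K.lift (fib hK z).2 (m.base ≫ n.base)) e2).trans
    (aux_comp2 _ _ _ _ _ _ h _ hl e1)

/-- the functor from the total category -/
noncomputable def psi : Tot hK ⥤ 𝒳 where
  obj x := (fib hK x).1
  map {x y} m := Fiber.fiberInclusion.map (fibHom hK m) ≫ K.lift (fib hK y).2 m.base
  map_id x := id_fib hK x
  map_comp m n := comp_fib hK m n


theorem aux_conj_refl {D : Type*} [Category D] {A B : D} (f : A ⟶ B) (h₁ : A = A) (h₂ : B = B) :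
    eqToHom h₁ ≫ f ≫ eqToHom h₂ = f := by
  simp

theorem base_eq_of_lifts {R S : 𝒮} {a b : 𝒳} (f f' : R ⟶ S) (φ : a ⟶ b) (h : p.IsHomLift f φ)
    (h' : p.IsHomLift f' φ) : f = f' :=
  (IsHomLift.fac p f φ).trans (IsHomLift.fac p f' φ).symm

theorem isHomLift_comp' {R S : 𝒮} {a b c : 𝒳} (f : R ⟶ S) (φ : a ⟶ b) (ψ : b ⟶ c)
    (h1 : p.IsHomLift (𝟙 R) φ) (h2 : p.IsHomLift f ψ) : p.IsHomLift f (φ ≫ ψ) :=
  IsHomLift.comp_lift_id_left p f ψ φ

theorem psi_isHomLift {x y : Tot hK} (m : x ⟶ y) : p.IsHomLift m.base ((psi hK).map m) := by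
  change p.IsHomLift m.base (Fiber.fiberInclusion.map (fibHom hK m) ≫ K.lift (fib hK y).2 m.base)
  exact isHomLift_comp' m.base _ _ (fibHom hK m).2 (K.isCartesian (fib hK y).2 m.base).toIsHomLift

theorem psi_faithful : (psi hK).Faithful := by
  constructor
  intro x y m n hmn
  have lm := psi_isHomLift hK m
  have ln := psi_isHomLift hK n
  have ln' : p.IsHomLift n.base ((psi hK).map m) := hmn ▸ ln
  have hb : m.base = n.base := base_eq_of_lifts m.base n.base ((psi hK).map m) lm ln'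
  obtain ⟨mb, mf⟩ := m
  obtain ⟨nb, nf⟩ := n
  change mb = nb at hb
  subst hb
  have hmn' : Fiber.fiberInclusion.map mf ≫ K.lift (fib hK y).2 mb =
      Fiber.fiberInclusion.map nf ≫ K.lift (fib hK y).2 mb := hmn
  have hf : Fiber.fiberInclusion.map mf = Fiber.fiberInclusion.map nf :=
    cart_uniq (p := p) mb (K.lift (fib hK y).2 mb) inferInstance _ _
      (inferInstanceAs (p.IsHomLift (𝟙 x.base) (Fiber.fiberInclusion.map mf)))
      (inferInstanceAs (p.IsHomLift (𝟙 x.base) (Fiber.fiberInclusion.map nf))) hmn'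
  have hf' : mf = nf := Fiber.hom_ext hf
  subst hf'
  rfl

/-- the functor to the total category, on objects -/
noncomputable def phiObj (a : 𝒳) : Tot hK := ⟨p.obj a, (⟨a, rfl⟩ : p.Fiber (p.obj a))⟩

/-- the functor to the total category, on morphisms -/
noncomputable def phiMap {a b : 𝒳} (φ : a ⟶ b) : phiObj hK a ⟶ phiObj hK b :=
  ⟨p.map φ, Fiber.homMk p (p.obj a) (IsCartesian.map p (p.map φ) (K.lift rfl (p.map φ)) φ)⟩

theorem psi_phiMap {a b : 𝒳} (φ : a ⟶ b) : (psi hK).map (phiMap hK φ) = φ :=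
  IsCartesian.fac p (p.map φ) (K.lift rfl (p.map φ)) φ

/-- the functor to the total category -/
noncomputable def phi : 𝒳 ⥤ Tot hK where
  obj := phiObj hK
  map φ := phiMap hK φ
  map_id a := (psi_faithful hK).map_injective
    ((psi_phiMap hK (𝟙 a)).trans ((psi hK).map_id (phiObj hK a)).symm)
  map_comp {a b c} φ ψ := (psi_faithful hK).map_injective
    ((psi_phiMap hK (φ ≫ ψ)).trans (((psi hK).map_comp (phiMap hK φ) (phiMap hK ψ)).trans
      (congrArg₂ (· ≫ ·) (psi_phiMap hK φ) (psi_phiMap hK ψ))).symm)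

theorem phi_comp_psi : phi hK ⋙ psi hK = 𝟭 𝒳 := by
  refine CategoryTheory.Functor.ext (fun a => rfl) (fun a b φ => ?_)
  exact (psi_phiMap hK φ).trans (aux_conj_refl φ _ _).symm

theorem phi_comp_forget : phi hK ⋙ CoGrothendieck.forget (fibFunctor K hK).toPseudofunctor' = p := by
  refine CategoryTheory.Functor.ext (fun a => rfl) (fun a b φ => ?_)
  exact (aux_conj_refl (p.map φ) _ _).symm

theorem phiObj_eq (S : 𝒮) (a : 𝒳) (ha : p.obj a = S) :
    phiObj hK a = (⟨S, (⟨a, ha⟩ : p.Fiber S)⟩ : Tot hK) := by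
  subst ha
  rfl

theorem phiObj_psi (x : Tot hK) : phiObj hK ((psi hK).obj x) = x :=
  phiObj_eq hK x.base (fib hK x).1 (fib hK x).2

theorem psi_comp_phi : psi hK ⋙ phi hK = 𝟭 (Tot hK) := by
  refine CategoryTheory.Functor.ext (fun x => phiObj_psi hK x) (fun x y m => ?_)
  apply (psi_faithful hK).map_injective
  refine (psi_phiMap hK ((psi hK).map m)).trans ?_
  rw [Functor.map_comp, Functor.map_comp, eqToHom_map, eqToHom_map]
  exact (aux_conj_refl ((psi hK).map m) _ _).symm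

theorem H1_split (hK : K.IsSplitting) :
    ∃ (F : 𝒮ᵒᵖ ⥤ Cat.{v₂, u₂})
      (Φ : 𝒳 ⥤ Pseudofunctor.CoGrothendieck F.toPseudofunctor')
      (Ψ : Pseudofunctor.CoGrothendieck F.toPseudofunctor' ⥤ 𝒳),
      Φ ⋙ Ψ = 𝟭 𝒳 ∧ Ψ ⋙ Φ = 𝟭 _ ∧ Φ ⋙ Pseudofunctor.CoGrothendieck.forget F.toPseudofunctor' = p :=
  ⟨fibFunctor K hK, phi hK, psi hK, phi_comp_psi hK, psi_comp_phi hK, phi_comp_forget hK⟩

end Groth.Agent.H1.Split
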