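import Mathlib
import Groth.Prelude.Def_FibClv
import Groth.Agent.Lib.helper1.FibSplit

set_option autoImplicit false

/-! A fibred category is equivalent to a split one (helper1). -/

universe v₁ v₂ u₁ u₂

open CategoryTheory CategoryTheory.Functor Opposite

namespace Groth.Agent.H1.SplitCover

variable {𝒮 : Type u₁} [Category.{v₁} 𝒮] {𝒳 : Type u₂} [Category.{v₂} 𝒳]

/-- formal inverse images -/
structure SObj (p : 𝒳 ⥤ 𝒮) where
  pt : 𝒳
  dom : 𝒮
  arr : dom ⟶ p.obj pt

theorem strong_ext {p : 𝒳 ⥤ 𝒮} {R S : 𝒮} {a b a' : 𝒳} (f : R ⟶ S) (φ : a ⟶ b)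
    [p.IsStronglyCartesian f φ] (ψ ψ' : a' ⟶ a)
    (hmap : p.map ψ = p.map ψ') (h : ψ ≫ φ = ψ' ≫ φ) : ψ = ψ' := by
  subst_hom_lift p f φ
  haveI : p.IsHomLift (p.map ψ) ψ' := by rw [hmap]; infer_instance
  exact IsStronglyCartesian.ext p (p.map φ) φ (p.map ψ) h

theorem SObj_ext' {p : 𝒳 ⥤ 𝒮} (x : 𝒳) {U U' : 𝒮} (e : U' = U) (a : U ⟶ p.obj x) (a' : U' ⟶ p.obj x)
    (h : a' = eqToHom e ≫ a) : (⟨x, U', a'⟩ : SObj p) = ⟨x, U, a⟩ := by
  subst e
  simp only [eqToHom_refl, Category.id_comp] at h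
  subst h
  rfl

variable {p : 𝒳 ⥤ 𝒮} [p.IsFibered]

noncomputable def pull (s : SObj p) : 𝒳 := IsPreFibered.pullbackObj rfl s.arr

noncomputable def pullLift (s : SObj p) : pull s ⟶ s.pt := IsPreFibered.pullbackMap rfl s.arr

instance pullLift_cart (s : SObj p) : p.IsStronglyCartesian s.arr (pullLift s) :=
  inferInstanceAs (p.IsStronglyCartesian s.arr (IsPreFibered.pullbackMap rfl s.arr))

theorem pull_proj (s : SObj p) : p.obj (pull s) = s.dom := IsPreFibered.pullbackObj_proj rfl s.arr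

theorem map_pullLift (s : SObj p) : p.map (pullLift s) = eqToHom (pull_proj s) ≫ s.arr := by
  simpa using IsHomLift.fac' p s.arr (pullLift s)

theorem pullLift_eq {s s' : SObj p} (h : s' = s) (hpt : s'.pt = s.pt) :
    eqToHom (congrArg pull h) ≫ pullLift s = pullLift s' ≫ eqToHom hpt := by
  subst h
  simp

/-- the inverse image of a formal inverse image -/
abbrev covObj {R S : 𝒮} (s : SObj p) (ha : p.obj (pull s) = S) (g : R ⟶ S) : SObj p :=
  ⟨s.pt, R, (g ≫ eqToHom (ha.symm.trans (pull_proj s))) ≫ s.arr⟩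

/-- the transport morphism -/
noncomputable def covLift {R S : 𝒮} (s : SObj p) (ha : p.obj (pull s) = S) (g : R ⟶ S) :
    pull (covObj s ha g) ⟶ pull s :=
  haveI : p.IsHomLift (R := R) (S := p.obj s.pt) (b := s.pt) ((g ≫ eqToHom (ha.symm.trans (pull_proj s))) ≫ s.arr)
    (pullLift (covObj s ha g)) := (pullLift_cart (covObj s ha g)).toIsHomLift
  IsStronglyCartesian.map p s.arr (pullLift s) (g := g ≫ eqToHom (ha.symm.trans (pull_proj s)))
    (f' := (covObj s ha g).arr) rfl (pullLift (covObj s ha g))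

theorem covLift_fac {R S : 𝒮} (s : SObj p) (ha : p.obj (pull s) = S) (g : R ⟶ S) :
    covLift s ha g ≫ pullLift s = pullLift (covObj s ha g) := by
  haveI : p.IsHomLift (R := R) (S := p.obj s.pt) (b := s.pt) ((g ≫ eqToHom (ha.symm.trans (pull_proj s))) ≫ s.arr)
    (pullLift (covObj s ha g)) := (pullLift_cart (covObj s ha g)).toIsHomLift
  exact IsStronglyCartesian.fac p s.arr (pullLift s) (g := g ≫ eqToHom (ha.symm.trans (pull_proj s))) rfl
    (pullLift (covObj s ha g))

instance covLift_isHomLift' {R S : 𝒮} (s : SObj p) (ha : p.obj (pull s) = S) (g : R ⟶ S) :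
    p.IsHomLift (g ≫ eqToHom (ha.symm.trans (pull_proj s))) (covLift s ha g) := by
  haveI : p.IsHomLift (R := R) (S := p.obj s.pt) (b := s.pt) ((g ≫ eqToHom (ha.symm.trans (pull_proj s))) ≫ s.arr)
    (pullLift (covObj s ha g)) := (pullLift_cart (covObj s ha g)).toIsHomLift
  exact IsStronglyCartesian.map_isHomLift p s.arr (pullLift s) (g := g ≫ eqToHom (ha.symm.trans (pull_proj s))) rfl
    (pullLift (covObj s ha g))

theorem map_covLift {R S : 𝒮} (s : SObj p) (ha : p.obj (pull s) = S) (g : R ⟶ S) :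
    p.map (covLift s ha g) = eqToHom (pull_proj (covObj s ha g)) ≫ g ≫ eqToHom ha.symm := by
  have := IsHomLift.fac' p (g ≫ eqToHom (ha.symm.trans (pull_proj s))) (covLift s ha g)
  rw [this]
  simp

instance covLift_strong {R S : 𝒮} (s : SObj p) (ha : p.obj (pull s) = S) (g : R ⟶ S) :
    p.IsStronglyCartesian (g ≫ eqToHom (ha.symm.trans (pull_proj s))) (covLift s ha g) := by
  haveI : p.IsStronglyCartesian ((g ≫ eqToHom (ha.symm.trans (pull_proj s))) ≫ s.arr)
      (covLift s ha g ≫ pullLift s) := by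
    rw [covLift_fac]
    exact pullLift_cart (covObj s ha g)
  exact IsStronglyCartesian.of_comp p (g := s.arr) (ψ := pullLift s)

theorem covLift_cart {R S : 𝒮} (s : SObj p) (ha : p.obj (pull s) = S) (g : R ⟶ S) :
    p.IsCartesian g (covLift s ha g) := by
  haveI : p.IsCartesian (g ≫ eqToHom (ha.symm.trans (pull_proj s))) (covLift s ha g) := inferInstance
  exact FibCat.Cleavage.isCartesian_of_comp_eqToHom (p := p) g (ha.symm.trans (pull_proj s)) _


/-- transfer of cartesian morphisms along a fully faithful functor -/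
theorem isCartesian_of_ff {𝒴 : Type*} [Category 𝒴] (F : 𝒴 ⥤ 𝒳) [F.Full] [F.Faithful] (q : 𝒳 ⥤ 𝒮)
    {R S : 𝒮} (f : R ⟶ S) {a b : 𝒴} (φ : a ⟶ b) (h : q.IsCartesian f (F.map φ)) :
    (F ⋙ q).IsCartesian f φ := by
  have h0 : (F ⋙ q).IsHomLift f φ :=
    IsHomLift.of_fac' _ _ _ (IsHomLift.domain_eq q f (F.map φ)) (IsHomLift.codomain_eq q f (F.map φ))
      (IsHomLift.fac' q f (F.map φ))
  refine { toIsHomLift := h0, universal_property := ?_ }
  intro a' φ' hφ'
  have h1 : q.IsHomLift f (F.map φ') :=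
    IsHomLift.of_fac' _ _ _ (IsHomLift.domain_eq (F ⋙ q) f φ') (IsHomLift.codomain_eq (F ⋙ q) f φ')
      (IsHomLift.fac' (F ⋙ q) f φ')
  obtain ⟨χ, ⟨hχ1, hχ2⟩, huniq⟩ := h.universal_property (F.map φ')
  refine ⟨F.preimage χ, ⟨?_, ?_⟩, ?_⟩
  · refine IsHomLift.of_fac' _ _ _ (IsHomLift.domain_eq q (𝟙 R) χ) (IsHomLift.codomain_eq q (𝟙 R) χ) ?_
    have := IsHomLift.fac' q (𝟙 R) χ
    simpa using this
  · apply F.map_injective
    simpa using hχ2
  · rintro ψ ⟨hψ1, hψ2⟩
    apply F.map_injective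
    rw [F.map_preimage]
    apply huniq
    refine ⟨?_, ?_⟩
    · exact IsHomLift.of_fac' _ _ _ (IsHomLift.domain_eq (F ⋙ q) (𝟙 R) ψ)
        (IsHomLift.codomain_eq (F ⋙ q) (𝟙 R) ψ) (IsHomLift.fac' (F ⋙ q) (𝟙 R) ψ)
    · rw [← hψ2, F.map_comp]

/-- the split cover of a fibred category -/
noncomputable abbrev Cov (p : 𝒳 ⥤ 𝒮) [p.IsFibered] : Type _ := InducedCategory 𝒳 (pull (p := p))

/-- its projection -/
noncomputable abbrev covP (p : 𝒳 ⥤ 𝒮) [p.IsFibered] : Cov p ⥤ 𝒮 := inducedFunctor (pull (p := p)) ⋙ p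

theorem eqToHom_hom {s t : Cov p} (h : s = t) :
    (eqToHom h : s ⟶ t).hom = eqToHom (congrArg (pull (p := p)) h) := by
  subst h
  rfl

variable (p) in
/-- the splitting cleavage of the cover -/
noncomputable def covK : FibCat.Cleavage (covP p) where
  obj {R S s} ha g := covObj s ha g
  lift {R S s} ha g := InducedCategory.homMk (covLift s ha g)
  isCartesian {R S s} ha g :=
    isCartesian_of_ff (inducedFunctor (pull (p := p))) p g (InducedCategory.homMk (covLift s ha g))
      (covLift_cart s ha g)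


theorem covK_normalised : (covK p).IsNormalised := by
  intro S s ha
  have h : covObj s ha (𝟙 S) = s :=
    SObj_ext' s.pt (ha.symm.trans (pull_proj s)) s.arr _ (by simp)
  refine ⟨h, ?_⟩
  apply InducedCategory.hom_ext
  refine Eq.trans ?_ (eqToHom_hom (p := p) (s := covObj s ha (𝟙 S)) (t := s) h).symm
  change covLift s ha (𝟙 S) = eqToHom (congrArg pull h)
  refine strong_ext (p := p) s.arr (pullLift s) _ _ ?_ ?_
  · rw [map_covLift, eqToHom_map]
    simp
  · rw [covLift_fac]
    have := pullLift_eq (p := p) h rfl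
    simpa using this.symm

theorem covK_splitting : (covK p).IsSplitting := by
  refine ⟨covK_normalised, ?_⟩
  intro S T U f g s ha
  have hT : p.obj (pull (covObj s ha f)) = T := pull_proj _
  have h : covObj (covObj s ha f) hT g = covObj s ha (g ≫ f) := by
    unfold covObj
    simp
  refine ⟨h, ?_⟩
  apply InducedCategory.hom_ext
  rw [InducedCategory.comp_hom, InducedCategory.comp_hom]
  refine Eq.trans ?_ (congrArg (· ≫ covLift s ha (g ≫ f))
    (eqToHom_hom (p := p) (s := covObj (covObj s ha f) hT g) (t := covObj s ha (g ≫ f)) h)).symm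
  change covLift (covObj s ha f) hT g ≫ covLift s ha f = eqToHom (congrArg pull h) ≫ covLift s ha (g ≫ f)
  refine strong_ext (p := p) s.arr (pullLift s) _ _ ?_ ?_
  · rw [p.map_comp, p.map_comp, map_covLift, map_covLift, map_covLift, eqToHom_map]
    simp
  · rw [Category.assoc, Category.assoc, covLift_fac, covLift_fac, covLift_fac]
    have := pullLift_eq (p := p) h rfl
    simpa using this.symm

end Groth.Agent.H1.SplitCover
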