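import Mathlib
import Groth.Prelude.Def_FibClv
import Groth.Prelude.Def_FibCat2
import Groth.Agent.Lib.helper1.FibSplit
import Groth.Agent.Lib.helper1.FibSplitCover
import Groth.Agent.Lib.helper1.FibCatEquiv2
import Groth.Agent.Lib.helper1.FibCatGrpd

set_option autoImplicit false

/-! A fibred category is equivalent over the base to a split one: the equivalence (helper1). -/

universe v u

open CategoryTheory CategoryTheory.Functor Opposite FibCat

namespace Groth.Agent.H1.SplitCover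

open Groth.Agent.H1.Split Groth.Agent.H1.FC

variable {C : Type u} [Category.{v} C] (𝒳 : BasedCategory.{v, max u v} C) [𝒳.p.IsFibered]

/-- the split cover as a based category -/
noncomputable abbrev covB : BasedCategory.{v, max u v} C := BasedCategory.ofFunctor (covP 𝒳.p)

/-- the comparison functor -/
noncomputable def covJ : covB 𝒳 ⥤ᵇ 𝒳 where
  toFunctor := inducedFunctor (pull (p := 𝒳.p))
  w := rfl

theorem covJ_isEquivOver : FibCat.IsEquivOver (covJ 𝒳) := by
  rw [H1_isEquivOver_iff]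
  refine ⟨⟨InducedCategory.full _, InducedCategory.faithful _⟩, ?_⟩
  intro η
  let ξ : SObj 𝒳.p := ⟨η, 𝒳.p.obj η, 𝟙 _⟩
  haveI hc : 𝒳.p.IsStronglyCartesian (𝟙 (𝒳.p.obj η)) (pullLift ξ) := pullLift_cart ξ
  have hiso : IsIso (pullLift ξ) := IsStronglyCartesian.isIso_of_base_isIso 𝒳.p (𝟙 (𝒳.p.obj η)) (pullLift ξ)
  refine ⟨ξ, @asIso _ _ (pull ξ) η (pullLift ξ) hiso, ?_⟩
  exact (pullLift_cart ξ).toIsHomLift

theorem ff_of_inverse {A B : Type*} [Category A] [Category B] (F : A ⥤ B) (G : B ⥤ A)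
    (h1 : F ⋙ G = 𝟭 A) (h2 : G ⋙ F = 𝟭 B) : F.Full ∧ F.Faithful := by
  have : F.IsEquivalence := Functor.IsEquivalence.mk' G (eqToIso h1.symm) (eqToIso h2)
  exact ⟨inferInstance, inferInstance⟩

/-- the isomorphism with the Grothendieck construction as a based functor -/
noncomputable def covPhi (hK : (covK 𝒳.p).IsSplitting) :
    covB 𝒳 ⥤ᵇ BasedCategory.ofFunctor
      (Pseudofunctor.CoGrothendieck.forget (fibFunctor (covK 𝒳.p) hK).toPseudofunctor') where
  toFunctor := phi hK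
  w := phi_comp_forget hK

theorem H1_exists_split :
    ∃ (hK : (covK 𝒳.p).IsSplitting) (E : 𝒳 ⥤ᵇ BasedCategory.ofFunctor
      (Pseudofunctor.CoGrothendieck.forget (fibFunctor (covK 𝒳.p) hK).toPseudofunctor')),
      FibCat.IsEquivOver E := by
  have hK : (covK 𝒳.p).IsSplitting := covK_splitting
  obtain ⟨G, hG⟩ := H1_isEquivOver_symm (covJ 𝒳) (covJ_isEquivOver 𝒳)
  refine ⟨hK, BasedFunctor.comp G (covPhi 𝒳 hK), ?_⟩
  obtain ⟨hfull, hfaith, hess⟩ := H1_isEquivOver_data G hG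
  obtain ⟨hfull', hfaith'⟩ := ff_of_inverse (phi hK) (psi hK) (phi_comp_psi hK) (psi_comp_phi hK)
  rw [H1_isEquivOver_iff]
  refine ⟨⟨?_, ?_⟩, ?_⟩
  · exact @Functor.Full.comp _ _ _ _ _ _ G.toFunctor (phi hK) hfull hfull'
  · exact @Functor.Faithful.comp _ _ _ _ _ _ G.toFunctor (phi hK) hfaith hfaith'
  · intro η
    obtain ⟨ξ, e₁, he₁⟩ := hess ((psi hK).obj η)
    have hη : (phi hK).obj ((psi hK).obj η) = η := phiObj_psi hK η
    refine ⟨ξ, (phi hK).mapIso e₁ ≪≫ eqToIso hη, ?_⟩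
    have hb : (covB 𝒳).p.obj ((psi hK).obj η) = η.base := (fib hK η).2
    have h1 : (BasedCategory.ofFunctor
      (Pseudofunctor.CoGrothendieck.forget (fibFunctor (covK 𝒳.p) hK).toPseudofunctor')).p.IsHomLift
        (𝟙 ((covB 𝒳).p.obj ((psi hK).obj η))) ((covPhi 𝒳 hK).toFunctor.map e₁.hom) := inferInstance
    have h2 := H1_isHomLift_id_of_eq _ hb ((covPhi 𝒳 hK).toFunctor.map e₁.hom) (hφ := h1)
    change (Pseudofunctor.CoGrothendieck.forget (fibFunctor (covK 𝒳.p) hK).toPseudofunctor').IsHomLift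
      (𝟙 η.base) ((phi hK).map e₁.hom ≫ eqToHom hη)
    rw [IsHomLift.eqToHom_comp_lift_iff]
    exact h2

end Groth.Agent.H1.SplitCover
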