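import Mathlib
import Groth.Prelude.Def_FilD
import Groth.Agent.Lib.helper1.ARSysML

/-! Finite filtered objects: exactness of graded pieces implies levelwise exactness and strictness
(S1085) (helper1). -/

set_option autoImplicit false
universe v u
open CategoryTheory CategoryTheory.Limits Opposite

namespace Groth.Agent.H1.FilDStrict

open FilD Groth.Agent.H1.ARSysML

variable {A : Type u} [Category.{v} A] [Abelian A]

/-- transition map `F q ⟶ F p` for `p ≤ q` -/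
noncomputable abbrev tm (X : ℤᵒᵖ ⥤ A) {p q : ℤ} (h : p ≤ q) : X.obj (op q) ⟶ X.obj (op p) :=
  X.map (homOfLE h).op

/-- the step map `F (p+1) ⟶ F p` -/
noncomputable abbrev st (X : ℤᵒᵖ ⥤ A) (p : ℤ) : X.obj (op (p + 1)) ⟶ X.obj (op p) := X.map (stepHom p)

lemma tm_tm (X : ℤᵒᵖ ⥤ A) {p q r : ℤ} (h₁ : p ≤ q) (h₂ : q ≤ r) :
    tm X h₂ ≫ tm X h₁ = tm X (h₁.trans h₂) := by
  change X.map _ ≫ X.map _ = X.map _
  rw [← X.map_comp]
  exact congrArg X.map (Subsingleton.elim _ _)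

lemma tm_refl (X : ℤᵒᵖ ⥤ A) (p : ℤ) (h : p ≤ p) : tm X h = 𝟙 _ := by
  have : (homOfLE h).op = 𝟙 (op p) := Subsingleton.elim _ _
  change X.map _ = _
  rw [this, X.map_id]

lemma tm_st (X : ℤᵒᵖ ⥤ A) {p q : ℤ} (h : p + 1 ≤ q) :
    tm X h ≫ st X p = tm X ((Int.le_add_one le_rfl).trans h) := by
  change X.map _ ≫ X.map _ = X.map _
  rw [← X.map_comp]
  exact congrArg X.map (Subsingleton.elim _ _)

lemma tm_nat {X Y : ℤᵒᵖ ⥤ A} (f : X ⟶ Y) {p q : ℤ} (h : p ≤ q) :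
    tm X h ≫ f.app (op p) = f.app (op q) ≫ tm Y h := f.naturality _

lemma st_nat {X Y : ℤᵒᵖ ⥤ A} (f : X ⟶ Y) (p : ℤ) :
    st X p ≫ f.app (op p) = f.app (op (p + 1)) ≫ st Y p := f.naturality _

/-- the projection to the graded piece -/
noncomputable abbrev grπ (X : ℤᵒᵖ ⥤ A) (p : ℤ) : X.obj (op p) ⟶ (gr A p).obj X :=
  cokernel.π (X.map (stepHom p))

lemma grπ_map {X Y : ℤᵒᵖ ⥤ A} (f : X ⟶ Y) (p : ℤ) :
    grπ X p ≫ (gr A p).map f = f.app (op p) ≫ grπ Y p := by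
  exact cokernel.π_desc _ _ _

instance (X : ℤᵒᵖ ⥤ A) (p : ℤ) : Epi (grπ X p) :=
  (inferInstance : Epi (cokernel.π (X.map (stepHom p))))

lemma st_grπ (X : ℤᵒᵖ ⥤ A) (p : ℤ) : st X p ≫ grπ X p = 0 := cokernel.condition _

/-- "elements" of `F p` whose class in `gr p` vanishes come from `F (p+1)` -/
lemma exists_lift_of_grπ_zero (X : ℤᵒᵖ ⥤ A) (p : ℤ) {T : A} (y : T ⟶ X.obj (op p))
    (hy : y ≫ grπ X p = 0) :
    ∃ (T' : A) (π : T' ⟶ T) (_ : Epi π) (y' : T' ⟶ X.obj (op (p + 1))), π ≫ y = y' ≫ st X p := by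
  have hex : (ShortComplex.mk (st X p) (grπ X p) (st_grπ X p)).Exact :=
    ShortComplex.exact_cokernel _
  exact (ShortComplex.exact_iff_exact_up_to_refinements _).1 hex y hy

section Main

variable {X Y Z : ℤᵒᵖ ⥤ A} (f : X ⟶ Y) (g : Y ⟶ Z) (w : f ≫ g = 0)
  (hgr : ∀ p : ℤ, (ShortComplex.mk ((gr A p).map f) ((gr A p).map g)
    (by rw [← Functor.map_comp, w, Functor.map_zero])).Exact)

include w in
lemma fg_app (p : ℤ) : f.app (op p) ≫ g.app (op p) = 0 := by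
  rw [← NatTrans.comp_app, w]; rfl

/-- levelwise exactness in refinement form -/
def LevelExact (p : ℤ) : Prop :=
  ∀ (T : A) (y : T ⟶ Y.obj (op p)), y ≫ g.app (op p) = 0 →
    ∃ (T' : A) (π : T' ⟶ T) (_ : Epi π) (x : T' ⟶ X.obj (op p)), π ≫ y = x ≫ f.app (op p)

include w hgr in
/-- the common first step: modify `y` by an element of `f(F p X)` to land in `F (p+1) Y` -/
lemma exists_modify (p : ℤ) {T : A} (y : T ⟶ Y.obj (op p))
    (hy : (y ≫ g.app (op p)) ≫ grπ Z p = 0) :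
    ∃ (T' : A) (π : T' ⟶ T) (_ : Epi π) (x : T' ⟶ X.obj (op p)) (y' : T' ⟶ Y.obj (op (p + 1))),
      π ≫ y = x ≫ f.app (op p) + y' ≫ st Y p := by
  have h1 : (y ≫ grπ Y p) ≫ (gr A p).map g = 0 := by
    rw [Category.assoc, grπ_map, ← Category.assoc, hy]
  obtain ⟨T₁, π₁, hπ₁, ξ, hξ⟩ :=
    (ShortComplex.exact_iff_exact_up_to_refinements _).1 (hgr p) (y ≫ grπ Y p) h1
  have hξ' : π₁ ≫ y ≫ grπ Y p = ξ ≫ (gr A p).map f := hξ
  obtain ⟨T₂, π₂, hπ₂, x, hx⟩ := surjective_up_to_refinements_of_epi (grπ X p) ξ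
  have h2 : (π₂ ≫ π₁ ≫ y - x ≫ f.app (op p)) ≫ grπ Y p = 0 := by
    rw [Preadditive.sub_comp]
    simp only [Category.assoc]
    rw [hξ', ← Category.assoc π₂, hx, Category.assoc, grπ_map, sub_self]
  obtain ⟨T₃, π₃, hπ₃, y', hy'⟩ := exists_lift_of_grπ_zero Y p _ h2
  refine ⟨T₃, π₃ ≫ π₂ ≫ π₁, inferInstance, π₃ ≫ x, y', ?_⟩
  rw [← hy', Preadditive.comp_sub]
  simp only [Category.assoc]
  abel

include w hgr in
lemma levelExact_step (hZ : ∀ p : ℤ, Mono (st Z p)) (p : ℤ)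
    (h : LevelExact f g (p + 1)) : LevelExact f g p := by
  intro T y hy
  obtain ⟨T₁, π₁, hπ₁, x, y', hxy⟩ := exists_modify f g w hgr p y (by rw [hy, zero_comp])
  haveI := hZ p
  have h1 : y' ≫ g.app (op (p + 1)) = 0 := by
    rw [← cancel_mono (st Z p), zero_comp, Category.assoc, ← st_nat, ← Category.assoc]
    have : y' ≫ st Y p = π₁ ≫ y - x ≫ f.app (op p) := by rw [hxy]; abel
    rw [this, Preadditive.sub_comp, Category.assoc, hy, comp_zero, Category.assoc,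
      fg_app f g w, comp_zero, sub_zero]
  obtain ⟨T₂, π₂, hπ₂, x', hx'⟩ := h T₁ y' h1
  refine ⟨T₂, π₂ ≫ π₁, inferInstance, π₂ ≫ x + x' ≫ st X p, ?_⟩
  rw [Category.assoc, hxy, Preadditive.comp_add, Preadditive.add_comp, ← Category.assoc π₂ y',
    hx']
  simp only [Category.assoc]
  rw [st_nat]

include w hgr in
theorem levelExact (hZ : ∀ p : ℤ, Mono (st Z p)) (b : ℤ)
    (hb : ∀ p : ℤ, b ≤ p → IsZero (Y.obj (op p))) (p : ℤ) : LevelExact f g p := by
  have key : ∀ (k : ℕ) (p : ℤ), b ≤ p + k → LevelExact f g p := by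
    intro k
    induction k with
    | zero =>
      intro p hp T y _
      refine ⟨T, 𝟙 T, inferInstance, 0, ?_⟩
      rw [zero_comp, Category.id_comp]
      exact (hb p (by simpa using hp)).eq_of_tgt _ _
    | succ k ih =>
      intro p hp
      apply levelExact_step f g w hgr hZ p
      apply ih
      push_cast at hp
      omega
  exact key (b - p).toNat p (by omega)

end Main

section Strict

variable {X Y Z : ℤᵒᵖ ⥤ A} (f : X ⟶ Y) (g : Y ⟶ Z) (w : f ≫ g = 0)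
  (hgr : ∀ p : ℤ, (ShortComplex.mk ((gr A p).map f) ((gr A p).map g)
    (by rw [← Functor.map_comp, w, Functor.map_zero])).Exact)

lemma exists_of_mk_factors {P Q T : A} (m : P ⟶ Q) (hm : Mono m) (t : T ⟶ Q)
    (h : (@Subobject.mk _ _ _ _ m hm).Factors t) : ∃ u : T ⟶ P, u ≫ m = t := by
  obtain ⟨u, hu⟩ := h
  exact ⟨u, hu⟩

lemma image_comp_le_inf {P Q R P' : A} (a : P ⟶ Q) (m : Q ⟶ R) (hm : Mono m) (b : P' ⟶ R)
    (c : P ⟶ P') (hc : a ≫ m = c ≫ b) :
    imageSubobject (a ≫ m) ≤ imageSubobject b ⊓ @Subobject.mk _ _ _ _ m hm := by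
  apply le_inf
  · rw [hc]; exact imageSubobject_comp_le _ _
  · haveI := hm
    calc imageSubobject (a ≫ m) ≤ imageSubobject m := imageSubobject_comp_le _ _
      _ = Subobject.mk m := imageSubobject_mono m

include w in
theorem strict_f (hex : ∀ p : ℤ, LevelExact f g p)
    (hZ : ∀ {p q : ℤ} (h : p ≤ q), Mono (tm Z h)) (p q : ℤ) (h : p ≤ q) (hm : Mono (tm Y h)) :
    imageSubobject (f.app (op q) ≫ tm Y h) =
      imageSubobject (f.app (op p)) ⊓ @Subobject.mk _ _ _ _ (tm Y h) hm := by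
  apply le_antisymm
  · exact image_comp_le_inf _ _ hm _ (tm X h) (tm_nat f h).symm
  · set B := imageSubobject (f.app (op p)) ⊓ @Subobject.mk _ _ _ _ (tm Y h) hm with hB
    have hfac : B.Factors B.arrow := Subobject.factors_self B
    rw [hB, Subobject.inf_factors] at hfac
    obtain ⟨h1, h2⟩ := hfac
    obtain ⟨T₁, π₁, hπ₁, x, hx⟩ := (imageSubobject_factors_iff _ _).1 h1
    obtain ⟨y', hy'⟩ := exists_of_mk_factors _ hm _ h2
    have h3 : B.arrow ≫ g.app (op p) = 0 := by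
      rw [← cancel_epi π₁, comp_zero, ← Category.assoc, hx, Category.assoc, fg_app f g w,
        comp_zero]
    have h4 : y' ≫ g.app (op q) = 0 := by
      haveI := hZ h
      rw [← cancel_mono (tm Z h), zero_comp, Category.assoc, ← tm_nat, ← Category.assoc, hy', h3]
    obtain ⟨T₂, π₂, hπ₂, x', hx'⟩ := hex q _ y' h4
    have hfin : (imageSubobject (f.app (op q) ≫ tm Y h)).Factors B.arrow := by
      rw [imageSubobject_factors_iff]
      refine ⟨T₂, π₂, hπ₂, x', ?_⟩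
      rw [← hy', ← Category.assoc, hx', Category.assoc]
    exact Subobject.le_of_comm (Subobject.factorThru _ _ hfin) (Subobject.factorThru_arrow _ _ hfin)

include w hgr in
/-- key induction for the strictness of `g` -/
lemma lift_g (hZ : ∀ p : ℤ, Mono (st Z p)) (k : ℕ) :
    ∀ (p q : ℤ) (h : p ≤ q), q - p ≤ k → ∀ (T : A) (y : T ⟶ Y.obj (op p)) (z' : T ⟶ Z.obj (op q)),
      y ≫ g.app (op p) = z' ≫ tm Z h →
      ∃ (T' : A) (π : T' ⟶ T) (_ : Epi π) (y'' : T' ⟶ Y.obj (op q)),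
        π ≫ z' = y'' ≫ g.app (op q) := by
  induction k with
  | zero =>
    intro p q h hk T y z' hyz
    obtain rfl : q = p := by
      have : q - p ≤ 0 := by simpa using hk
      omega
    refine ⟨T, 𝟙 T, inferInstance, y, ?_⟩
    rw [Category.id_comp, hyz, tm_refl, Category.comp_id]
  | succ k ih =>
    intro p q h hk T y z' hyz
    rcases h.eq_or_lt with rfl | hlt
    · refine ⟨T, 𝟙 T, inferInstance, y, ?_⟩
      rw [Category.id_comp, hyz, tm_refl, Category.comp_id]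
    · have h' : p + 1 ≤ q := hlt
      have htm : tm Z h = tm Z h' ≫ st Z p := (tm_st Z h').symm
      have h0 : (y ≫ g.app (op p)) ≫ grπ Z p = 0 := by
        rw [hyz, htm, Category.assoc, Category.assoc, st_grπ, comp_zero, comp_zero]
      obtain ⟨T₁, π₁, hπ₁, x, y₁, hxy⟩ := exists_modify f g w hgr p y h0
      haveI := hZ p
      have h1 : y₁ ≫ g.app (op (p + 1)) = (π₁ ≫ z') ≫ tm Z h' := by
        rw [← cancel_mono (st Z p), Category.assoc, ← st_nat, ← Category.assoc]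
        have : y₁ ≫ st Y p = π₁ ≫ y - x ≫ f.app (op p) := by rw [hxy]; abel
        rw [this, Preadditive.sub_comp, Category.assoc, hyz, Category.assoc (x), fg_app f g w,
          comp_zero, sub_zero, htm]
        simp only [Category.assoc]
      obtain ⟨T₂, π₂, hπ₂, y'', hy''⟩ := ih (p + 1) q h' (by push_cast at hk; omega) T₁ y₁
        (π₁ ≫ z') h1
      refine ⟨T₂, π₂ ≫ π₁, inferInstance, y'', ?_⟩
      rw [Category.assoc, hy'']

include w hgr in
theorem strict_g (hZ : ∀ p : ℤ, Mono (st Z p)) (p q : ℤ) (h : p ≤ q) (hm : Mono (tm Z h)) :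
    imageSubobject (g.app (op q) ≫ tm Z h) =
      imageSubobject (g.app (op p)) ⊓ @Subobject.mk _ _ _ _ (tm Z h) hm := by
  apply le_antisymm
  · exact image_comp_le_inf _ _ hm _ (tm Y h) (tm_nat g h).symm
  · set B := imageSubobject (g.app (op p)) ⊓ @Subobject.mk _ _ _ _ (tm Z h) hm with hB
    have hfac : B.Factors B.arrow := Subobject.factors_self B
    rw [hB, Subobject.inf_factors] at hfac
    obtain ⟨h1, h2⟩ := hfac
    obtain ⟨T₁, π₁, hπ₁, y, hy⟩ := (imageSubobject_factors_iff _ _).1 h1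
    obtain ⟨z', hz'⟩ := exists_of_mk_factors _ hm _ h2
    have h3 : y ≫ g.app (op p) = (π₁ ≫ z') ≫ tm Z h := by
      rw [← hy, Category.assoc, hz']
    obtain ⟨T₂, π₂, hπ₂, y'', hy''⟩ :=
      lift_g f g w hgr hZ (q - p).toNat p q h (by omega) T₁ y (π₁ ≫ z') h3
    have hfin : (imageSubobject (g.app (op q) ≫ tm Z h)).Factors B.arrow := by
      rw [imageSubobject_factors_iff]
      refine ⟨T₂, π₂ ≫ π₁, inferInstance, y'', ?_⟩
      rw [← hz', ← Category.assoc, ← Category.assoc, Category.assoc π₂, hy'', Category.assoc]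
    exact Subobject.le_of_comm (Subobject.factorThru _ _ hfin) (Subobject.factorThru_arrow _ _ hfin)

end Strict

theorem main (S : ShortComplex (FilF A)) (hS : ∀ p : ℤ, (S.map (grF A p)).Exact) :
    (∀ p : ℤ, (S.map ((IsFinFil A).ι ⋙ (evaluation ℤᵒᵖ A).obj (op p))).Exact) ∧
      IsStrict S.f ∧ IsStrict S.g := by
  have w : S.f.hom ≫ S.g.hom = 0 := congrArg (fun t => t.hom) S.zero
  have hgr : ∀ p : ℤ, (ShortComplex.mk ((gr A p).map S.f.hom) ((gr A p).map S.g.hom)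
      (by rw [← Functor.map_comp, w, Functor.map_zero])).Exact := fun p => hS p
  have hZst : ∀ p : ℤ, Mono (st S.X₃.obj p) := fun p => S.X₃.property.1 _
  have hZtm : ∀ {p q : ℤ} (h : p ≤ q), Mono (tm S.X₃.obj h) := fun h => S.X₃.property.1 _
  obtain ⟨b, hb⟩ := S.X₂.property.2.1
  have hex : ∀ p : ℤ, LevelExact S.f.hom S.g.hom p :=
    levelExact S.f.hom S.g.hom w hgr hZst b hb
  refine ⟨fun p => ?_, ?_, ?_⟩
  · rw [ShortComplex.exact_iff_exact_up_to_refinements]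
    intro T y hy
    exact hex p T y hy
  · intro p q h
    exact strict_f S.f.hom S.g.hom w hex hZtm p q h (S.X₂.property.1 _)
  · intro p q h
    exact strict_g S.f.hom S.g.hom w hgr hZst p q h (S.X₃.property.1 _)

lemma st_eq_tm (X : ℤᵒᵖ ⥤ A) (p : ℤ) (h : p ≤ p + 1) : st X p = tm X h := rfl

theorem gr_exact_of_strict {X Y : FilF A} (φ : X ⟶ Y) (hφ : IsStrict φ) (p : ℤ) :
    ((ShortComplex.mk (kernel.ι φ.hom) φ.hom (kernel.condition φ.hom)).map (gr A p)).Exact := by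
  rw [ShortComplex.exact_iff_exact_up_to_refinements]
  intro T ξ₀ hξ₀
  let ξ : T ⟶ (gr A p).obj X.obj := ξ₀
  have hξ : ξ ≫ (gr A p).map φ.hom = 0 := hξ₀
  obtain ⟨T₁, π₁, hπ₁, x, hx⟩ := surjective_up_to_refinements_of_epi (grπ X.obj p) ξ
  have h1 : (x ≫ φ.hom.app (op p)) ≫ grπ Y.obj p = 0 := by
    rw [Category.assoc, ← grπ_map, ← Category.assoc, ← hx, Category.assoc, hξ, comp_zero]
  obtain ⟨T₂, π₂, hπ₂, y', hy'⟩ := exists_lift_of_grπ_zero Y.obj p _ h1
  have hle : p ≤ p + 1 := Int.le_add_one le_rfl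
  have hm : Mono (tm Y.obj hle) := Y.property.1 _
  have hstrict := hφ p (p + 1) hle
  have hfac : (imageSubobject (φ.hom.app (op (p + 1)) ≫ tm Y.obj hle)).Factors
      (π₂ ≫ x ≫ φ.hom.app (op p)) := by
    have e : imageSubobject (φ.hom.app (op (p + 1)) ≫ tm Y.obj hle) =
        imageSubobject (φ.hom.app (op p)) ⊓ @Subobject.mk _ _ _ _ (tm Y.obj hle) hm := hstrict
    rw [e, Subobject.inf_factors]
    constructor
    · rw [← Category.assoc]
      exact imageSubobject_factors_comp_self _ _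
    · rw [hy']
      exact ⟨y', rfl⟩
  obtain ⟨T₃, π₃, hπ₃, x', hx'⟩ := (imageSubobject_factors_iff _ _).1 hfac
  have hx'' : π₃ ≫ π₂ ≫ x ≫ φ.hom.app (op p) = (x' ≫ st X.obj p) ≫ φ.hom.app (op p) := by
    rw [hx', Category.assoc, st_nat]
    rfl
  have h2 : (π₃ ≫ π₂ ≫ x - x' ≫ st X.obj p) ≫ φ.hom.app (op p) = 0 := by
    rw [Preadditive.sub_comp, ← hx'']
    simp only [Category.assoc]
    rw [sub_self]
  have hexk := (ShortComplex.exact_kernel φ.hom).map ((evaluation ℤᵒᵖ A).obj (op p))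
  obtain ⟨T₄, π₄, hπ₄, k₀, hk₀⟩ :=
    (ShortComplex.exact_iff_exact_up_to_refinements _).1 hexk _ h2
  let k : T₄ ⟶ (kernel φ.hom).obj (op p) := k₀
  have hk : π₄ ≫ (π₃ ≫ π₂ ≫ x - x' ≫ st X.obj p) = k ≫ (kernel.ι φ.hom).app (op p) := hk₀
  refine ⟨T₄, π₄ ≫ π₃ ≫ π₂ ≫ π₁, inferInstance, k ≫ grπ (kernel φ.hom) p, ?_⟩
  change (π₄ ≫ π₃ ≫ π₂ ≫ π₁) ≫ ξ = (k ≫ grπ (kernel φ.hom) p) ≫ (gr A p).map (kernel.ι φ.hom)
  calc (π₄ ≫ π₃ ≫ π₂ ≫ π₁) ≫ ξ = π₄ ≫ π₃ ≫ π₂ ≫ x ≫ grπ X.obj p := by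
        simp only [Category.assoc]; rw [hx]
    _ = (π₄ ≫ (π₃ ≫ π₂ ≫ x - x' ≫ st X.obj p)) ≫ grπ X.obj p := by
        rw [Category.assoc, Preadditive.sub_comp, Category.assoc x', st_grπ, comp_zero, sub_zero]
        simp only [Category.assoc]
    _ = k ≫ (kernel.ι φ.hom).app (op p) ≫ grπ X.obj p := by rw [hk, Category.assoc]
    _ = (k ≫ grπ (kernel φ.hom) p) ≫ (gr A p).map (kernel.ι φ.hom) := by
        rw [Category.assoc, grπ_map]

theorem strict_iff {X Y : FilF A} (φ : X ⟶ Y) :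
    IsStrict φ ↔ ∀ p : ℤ,
      ((ShortComplex.mk (kernel.ι φ.hom) φ.hom (kernel.condition φ.hom)).map (gr A p)).Exact := by
  constructor
  · intro hφ p
    exact gr_exact_of_strict φ hφ p
  · intro h p q hpq
    have hYst : ∀ p : ℤ, Mono (st Y.obj p) := fun p => Y.property.1 _
    exact strict_g (kernel.ι φ.hom) φ.hom (kernel.condition φ.hom) (fun p => h p) hYst p q hpq
      (Y.property.1 _)

end Groth.Agent.H1.FilDStrict
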