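import Mathlib
import Groth.Prelude.Def_FilD
import Groth.Agent.Lib.helper1.FilDStrict

/-! Extension of morphisms into filtered injective objects along strict monomorphisms
(S6605, S1080) (helper1). -/

set_option autoImplicit false
universe v u
open CategoryTheory CategoryTheory.Limits Opposite

namespace Groth.Agent.H1.FilDInj

open FilD Groth.Agent.H1.ARSysML Groth.Agent.H1.FilDStrict

variable {A : Type u} [Category.{v} A] [Abelian A]

/-! ### Levelwise monomorphisms -/

lemma kernel_isFinFil {X Y : FilF A} (u : X ⟶ Y) : IsFinFil A (kernel u.hom) := by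
  have hιmono : ∀ j : ℤᵒᵖ, Mono ((kernel.ι u.hom).app j) :=
    fun j => (NatTrans.mono_iff_mono_app (kernel.ι u.hom)).1 inferInstance j
  have hKmono : ∀ ⦃p q : ℤᵒᵖ⦄ (f : p ⟶ q), Mono ((kernel u.hom).map f) := by
    intro p q f
    haveI := hιmono p
    haveI : Mono (X.obj.map f) := X.property.1 f
    haveI : Mono ((kernel u.hom).map f ≫ (kernel.ι u.hom).app q) := by
      rw [(kernel.ι u.hom).naturality f]
      exact mono_comp _ _
    exact mono_of_mono _ ((kernel.ι u.hom).app q)
  refine ⟨hKmono, ?_, ?_⟩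
  · obtain ⟨b, hb⟩ := X.property.2.1
    refine ⟨b, fun p hp => ?_⟩
    haveI := hιmono (op p)
    exact IsZero.of_mono ((kernel.ι u.hom).app (op p)) (hb p hp)
  · obtain ⟨a₁, ha₁⟩ := X.property.2.2
    obtain ⟨a₂, ha₂⟩ := Y.property.2.2
    refine ⟨min a₁ a₂, fun p q f hp => ?_⟩
    haveI := hKmono f
    haveI : IsIso (X.obj.map f) := ha₁ f (hp.trans (min_le_left _ _))
    haveI : Mono (Y.obj.map f) := Y.property.1 f
    haveI := hιmono q
    haveI : Epi ((kernel u.hom).map f) := by
      rw [epi_iff_surjective_up_to_refinements]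
      intro T z
      have h1 : (z ≫ (kernel.ι u.hom).app q ≫ inv (X.obj.map f)) ≫ u.hom.app p = 0 := by
        rw [← cancel_mono (Y.obj.map f), zero_comp, Category.assoc, Category.assoc,
          Category.assoc, ← u.hom.naturality f, IsIso.inv_hom_id_assoc, ← NatTrans.comp_app,
          kernel.condition]
        simp
      have hexk := (ShortComplex.exact_kernel u.hom).map ((evaluation ℤᵒᵖ A).obj p)
      obtain ⟨T', π, hπ, k₀, hk₀⟩ :=
        (ShortComplex.exact_iff_exact_up_to_refinements _).1 hexk _ h1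
      let k : T' ⟶ (kernel u.hom).obj p := k₀
      have hk : π ≫ z ≫ (kernel.ι u.hom).app q ≫ inv (X.obj.map f) =
          k ≫ (kernel.ι u.hom).app p := hk₀
      refine ⟨T', π, hπ, k, ?_⟩
      rw [← cancel_mono ((kernel.ι u.hom).app q), Category.assoc, Category.assoc,
        (kernel.ι u.hom).naturality f, ← Category.assoc k, ← hk]
      simp
    exact isIso_of_mono_of_epi _

lemma mono_app_of_mono {X Y : FilF A} (u : X ⟶ Y) [Mono u] (p : ℤ) :
    Mono (u.hom.app (op p)) := by
  let K : FilF A := ⟨kernel u.hom, kernel_isFinFil u⟩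
  let ιK : K ⟶ X := ObjectProperty.homMk (kernel.ι u.hom)
  have h1 : ιK ≫ u = 0 ≫ u := by
    rw [zero_comp]
    ext1
    exact kernel.condition u.hom
  have h2 : ιK = 0 := (cancel_mono u).1 h1
  have h3 : kernel.ι u.hom = 0 := congrArg (fun t => t.hom) h2
  haveI : Mono u.hom := Abelian.mono_of_kernel_ι_eq_zero _ h3
  exact (NatTrans.mono_iff_mono_app u.hom).1 inferInstance _

/-! ### Levels of a filtered injective object are injective -/

lemma injective_level (I : FilF A) (hI : IsFilteredInjective I) (p : ℤ) :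
    Injective (I.obj.obj (op p)) := by
  obtain ⟨b, hb⟩ := I.property.2.1
  have key : ∀ (k : ℕ) (p : ℤ), b ≤ p + k → Injective (I.obj.obj (op p)) := by
    intro k
    induction k with
    | zero =>
      intro p hp
      exact (hb p (by simpa using hp)).injective
    | succ k ih =>
      intro p hp
      haveI : Injective (I.obj.obj (op (p + 1))) := ih (p + 1) (by push_cast at hp; omega)
      haveI : Injective (cokernel (I.obj.map (stepHom p))) := hI p
      haveI : Mono (st I.obj p) := I.property.1 _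
      let S : ShortComplex A := ShortComplex.mk (st I.obj p) (grπ I.obj p) (st_grπ I.obj p)
      have hS : S.Exact := ShortComplex.exact_cokernel _
      let r : I.obj.obj (op p) ⟶ I.obj.obj (op (p + 1)) :=
        Injective.factorThru (𝟙 _) (st I.obj p)
      have hr : st I.obj p ≫ r = 𝟙 _ := Injective.comp_factorThru _ _
      have spl : S.Splitting :=
        ShortComplex.Splitting.ofExactOfRetraction S hS r hr (inferInstance : Epi (grπ I.obj p))
      have e : I.obj.obj (op p) ≅ I.obj.obj (op (p + 1)) ⊞ cokernel (I.obj.map (stepHom p)) :=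
        spl.isoBinaryBiproduct
      exact Injective.of_iso e.symm inferInstance
  exact key (b - p).toNat p (by omega)

/-! ### The inductive step -/

/-- The compatibility needed to glue: an abstract diagram chase. -/
lemma glue_zero {Y1 X0 Y0 X1 I1 I0 : A} (sY : Y1 ⟶ Y0) (hsY : Mono sY) (u0 : X0 ⟶ Y0) [Mono u0]
    (u1 : X1 ⟶ Y1) (sX : X1 ⟶ X0) (hnat : sX ≫ u0 = u1 ≫ sY)
    (hstrict : imageSubobject (u1 ≫ sY) = imageSubobject u0 ⊓ @Subobject.mk _ _ _ _ sY hsY)
    (g' : Y1 ⟶ I1) (sI : I1 ⟶ I0) (f0 : X0 ⟶ I0) (f1 : X1 ⟶ I1) (hg' : u1 ≫ g' = f1)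
    (hf : sX ≫ f0 = f1 ≫ sI) {T : A} (y : T ⟶ Y1) (x : T ⟶ X0)
    (h0 : y ≫ sY + x ≫ u0 = 0) : y ≫ g' ≫ sI + x ≫ f0 = 0 := by
  haveI := hsY
  have hxu : x ≫ u0 = (-y) ≫ sY := by
    rw [Preadditive.neg_comp, eq_neg_iff_add_eq_zero, add_comm]; exact h0
  have hfac : (imageSubobject (u1 ≫ sY)).Factors (x ≫ u0) := by
    rw [hstrict, Subobject.inf_factors]
    constructor
    · exact imageSubobject_factors_comp_self _ _
    · rw [hxu]
      exact ⟨-y, rfl⟩
  obtain ⟨T', π, hπ, x', hx'⟩ := (imageSubobject_factors_iff _ _).1 hfac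
  have hx : π ≫ x = x' ≫ sX := by
    rw [← cancel_mono u0, Category.assoc, hx', Category.assoc, hnat]
  have hy : π ≫ y = -(x' ≫ u1) := by
    rw [← cancel_mono sY, Preadditive.neg_comp, Category.assoc, Category.assoc, ← hx',
      eq_neg_iff_add_eq_zero, ← Preadditive.comp_add, h0, comp_zero]
  rw [← cancel_epi π, comp_zero, Preadditive.comp_add, ← Category.assoc π y, hy,
    ← Category.assoc π x, hx, Preadditive.neg_comp, Category.assoc, Category.assoc,
    ← Category.assoc u1, hg', hf, neg_add_cancel]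

theorem step {X Y I : FilF A} (u : X ⟶ Y) [Mono u] (hu : IsStrict u)
    (hI : IsFilteredInjective I) (f : X ⟶ I) (p : ℤ)
    (g' : Y.obj.obj (op (p + 1)) ⟶ I.obj.obj (op (p + 1)))
    (hg' : u.hom.app (op (p + 1)) ≫ g' = f.hom.app (op (p + 1))) :
    ∃ g : Y.obj.obj (op p) ⟶ I.obj.obj (op p),
      u.hom.app (op p) ≫ g = f.hom.app (op p) ∧ st Y.obj p ≫ g = g' ≫ st I.obj p := by
  haveI hup : Mono (u.hom.app (op p)) := mono_app_of_mono u p
  have hstY : Mono (st Y.obj p) := Y.property.1 _
  haveI : Injective (I.obj.obj (op p)) := injective_level I hI p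
  obtain ⟨h, hh⟩ : ∃ h : Y.obj.obj (op (p + 1)) ⊞ X.obj.obj (op p) ⟶ Y.obj.obj (op p),
      h = biprod.fst ≫ st Y.obj p + biprod.snd ≫ u.hom.app (op p) := ⟨_, rfl⟩
  obtain ⟨m, hm⟩ : ∃ m : Y.obj.obj (op (p + 1)) ⊞ X.obj.obj (op p) ⟶ I.obj.obj (op p),
      m = biprod.fst ≫ (g' ≫ st I.obj p) + biprod.snd ≫ f.hom.app (op p) := ⟨_, rfl⟩
  have hκ : kernel.ι h ≫ m = 0 := by
    have hc : kernel.ι h ≫ (biprod.fst ≫ st Y.obj p + biprod.snd ≫ u.hom.app (op p)) = 0 := by
      rw [← hh]; exact kernel.condition h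
    have hc' : (kernel.ι h ≫ biprod.fst) ≫ st Y.obj p +
        (kernel.ι h ≫ biprod.snd) ≫ u.hom.app (op p) = 0 := by
      rw [Preadditive.comp_add] at hc
      simpa only [Category.assoc] using hc
    have key := glue_zero (st Y.obj p) hstY (u.hom.app (op p)) (u.hom.app (op (p + 1)))
      (st X.obj p) (st_nat u.hom p) (hu p (p + 1) (Int.le_add_one le_rfl)) g' (st I.obj p)
      (f.hom.app (op p)) (f.hom.app (op (p + 1))) hg' (st_nat f.hom p)
      (kernel.ι h ≫ biprod.fst) (kernel.ι h ≫ biprod.snd) hc'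
    rw [hm, Preadditive.comp_add]
    simpa only [Category.assoc] using key
  let d : Abelian.coimage h ⟶ I.obj.obj (op p) := cokernel.desc (kernel.ι h) m hκ
  have hd : Abelian.coimage.π h ≫ d = m := cokernel.π_desc _ _ _
  let g : Y.obj.obj (op p) ⟶ I.obj.obj (op p) :=
    Injective.factorThru d (Abelian.factorThruCoimage h)
  have hg : Abelian.factorThruCoimage h ≫ g = d := Injective.comp_factorThru _ _
  have hhg : h ≫ g = m := by
    rw [← Abelian.coimage.fac h, Category.assoc, hg, hd]
  refine ⟨g, ?_, ?_⟩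
  · have := congrArg (fun t => biprod.inr ≫ t) hhg
    simpa [hh, hm] using this
  · have := congrArg (fun t => biprod.inl ≫ t) hhg
    simpa [hh, hm] using this

/-! ### Assembling the extension -/

section Assemble

variable {X Y I : FilF A} (u : X ⟶ Y) (f : X ⟶ I)

/-- goodness of a family of levelwise maps at level `q` -/
def Good (g : ∀ q : ℤ, Y.obj.obj (op q) ⟶ I.obj.obj (op q)) (q : ℤ) : Prop :=
  u.hom.app (op q) ≫ g q = f.hom.app (op q) ∧ st Y.obj q ≫ g q = g (q + 1) ≫ st I.obj q

variable [Mono u] (hu : IsStrict u) (hI : IsFilteredInjective I)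

include hu hI in
lemma exists_next (b : ℤ) (n : ℕ) (g : ∀ q : ℤ, Y.obj.obj (op q) ⟶ I.obj.obj (op q))
    (hg : ∀ q : ℤ, b - n ≤ q → Good u f g q) :
    ∃ g' : ∀ q : ℤ, Y.obj.obj (op q) ⟶ I.obj.obj (op q),
      (∀ q : ℤ, b - n - 1 ≤ q → Good u f g' q) ∧ ∀ q : ℤ, b - n ≤ q → g' q = g q := by
  classical
  have h1 : u.hom.app (op (b - n - 1 + 1)) ≫ g (b - n - 1 + 1) = f.hom.app (op (b - n - 1 + 1)) :=
    (hg _ (by omega)).1
  obtain ⟨gp, hgp1, hgp2⟩ := step u hu hI f (b - n - 1) (g (b - n - 1 + 1)) h1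
  refine ⟨Function.update g (b - n - 1) gp, fun q hq => ?_, fun q hq => ?_⟩
  · by_cases hqp : q = b - n - 1
    · subst hqp
      have hne : b - n - 1 + 1 ≠ b - n - 1 := by omega
      refine ⟨?_, ?_⟩
      · rw [Function.update_self]; exact hgp1
      · rw [Function.update_self, Function.update_of_ne hne]; exact hgp2
    · have hne : q + 1 ≠ b - n - 1 := by omega
      have hG := hg q (by omega)
      refine ⟨?_, ?_⟩
      · rw [Function.update_of_ne hqp]; exact hG.1
      · rw [Function.update_of_ne hqp, Function.update_of_ne hne]; exact hG.2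
  · have hne : q ≠ b - n - 1 := by omega
    rw [Function.update_of_ne hne]

include hu hI in
theorem exists_ext : ∃ g : Y ⟶ I, u ≫ g = f := by
  classical
  obtain ⟨b, hb⟩ := I.property.2.1
  -- the sequence of partial solutions
  let F : ℕ → (∀ q : ℤ, Y.obj.obj (op q) ⟶ I.obj.obj (op q)) := fun n =>
    Nat.rec (motive := fun _ => ∀ q : ℤ, Y.obj.obj (op q) ⟶ I.obj.obj (op q)) (fun _ => 0)
      (fun n g => if hg : ∀ q : ℤ, b - n ≤ q → Good u f g q
        then Classical.choose (exists_next u f hu hI b n g hg) else g) n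
  have hF0 : F 0 = fun _ => 0 := rfl
  have hFs : ∀ n : ℕ, F (n + 1) = if hg : ∀ q : ℤ, b - n ≤ q → Good u f (F n) q
        then Classical.choose (exists_next u f hu hI b n (F n) hg) else F n := fun n => rfl
  have hgood : ∀ n : ℕ, ∀ q : ℤ, b - n ≤ q → Good u f (F n) q := by
    intro n
    induction n with
    | zero =>
      intro q hq
      have hz : IsZero (I.obj.obj (op q)) := hb q (by simpa using hq)
      exact ⟨hz.eq_of_tgt _ _, hz.eq_of_tgt _ _⟩
    | succ n ih =>
      intro q hq
      rw [hFs n, dif_pos ih]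
      exact (Classical.choose_spec (exists_next u f hu hI b n (F n) ih)).1 q
        (by push_cast at hq; omega)
  have hstab1 : ∀ (n : ℕ) (q : ℤ), b - n ≤ q → F (n + 1) q = F n q := by
    intro n q hq
    rw [hFs n, dif_pos (hgood n)]
    exact (Classical.choose_spec (exists_next u f hu hI b n (F n) (hgood n))).2 q hq
  have hstab : ∀ (n m : ℕ) (q : ℤ), b - n ≤ q → n ≤ m → F m q = F n q := by
    intro n m q hq hnm
    induction m, hnm using Nat.le_induction with
    | base => rfl
    | succ m hm ih =>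
      rw [hstab1 m q (by omega), ih]
  let gi : ∀ q : ℤ, Y.obj.obj (op q) ⟶ I.obj.obj (op q) := fun q => F (b - q).toNat q
  have hgi : ∀ (q : ℤ) (n : ℕ), b - n ≤ q → gi q = F n q := by
    intro q n hq
    exact (hstab (b - q).toNat n q (by omega) (by omega)).symm
  have hG : ∀ q : ℤ, Good u f gi q := by
    intro q
    have h1 := hgood (b - q).toNat q (by omega)
    refine ⟨h1.1, ?_⟩
    have h2 : gi (q + 1) = F (b - q).toNat (q + 1) := hgi (q + 1) _ (by omega)
    rw [h2]
    exact h1.2
  -- naturality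
  have hnat : ∀ (d : ℕ) (p q : ℤ) (h : p ≤ q), q - p = d →
      tm Y.obj h ≫ gi p = gi q ≫ tm I.obj h := by
    intro d
    induction d with
    | zero =>
      intro p q h hd
      obtain rfl : q = p := by omega
      rw [tm_refl, tm_refl, Category.id_comp, Category.comp_id]
    | succ d ih =>
      intro p q h hd
      have h' : p + 1 ≤ q := by push_cast at hd; omega
      rw [← tm_st Y.obj h', ← tm_st I.obj h', Category.assoc, (hG p).2, ← Category.assoc,
        ih (p + 1) q h' (by push_cast at hd; omega), Category.assoc]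
  let η : Y.obj ⟶ I.obj :=
    { app := fun j => gi j.unop
      naturality := by
        intro j k φ
        have hle : k.unop ≤ j.unop := leOfHom φ.unop
        have e1 : Y.obj.map φ = tm Y.obj hle := congrArg Y.obj.map (Subsingleton.elim _ _)
        have e2 : I.obj.map φ = tm I.obj hle := congrArg I.obj.map (Subsingleton.elim _ _)
        rw [e1, e2]
        exact hnat (j.unop - k.unop).toNat k.unop j.unop hle (by omega) }
  refine ⟨ObjectProperty.homMk η, ?_⟩
  ext1
  ext j
  exact (hG j.unop).1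

end Assemble

theorem exists_retraction {I X : FilF A} (u : I ⟶ X) [Mono u] (hu : IsStrict u)
    (hI : IsFilteredInjective I) : ∃ r : X ⟶ I, u ≫ r = 𝟙 I :=
  exists_ext u (𝟙 I) hu hI

end Groth.Agent.H1.FilDInj
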