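import Mathlib
import Groth.Prelude.Def_FilD
import Groth.Agent.Lib.helper1.FilDInj

/-! Morphisms from filtered acyclic complexes to bounded below complexes of filtered injectives
are null-homotopic (S1083) (helper1). -/

set_option autoImplicit false
universe v u
open CategoryTheory CategoryTheory.Limits Opposite

namespace Groth.Agent.H1.FilDHtpy

open FilD Groth.Agent.H1.ARSysML Groth.Agent.H1.FilDStrict Groth.Agent.H1.FilDInj

variable {A : Type u} [Category.{v} A] [Abelian A]

lemma image_isFinFil {Q R : FilF A} (d : Q ⟶ R) : IsFinFil A (Abelian.image d.hom) := by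
  let j := Abelian.image.ι d.hom
  let e := Abelian.factorThruImage d.hom
  have hjmono : ∀ k : ℤᵒᵖ, Mono (j.app k) :=
    fun k => (NatTrans.mono_iff_mono_app j).1 inferInstance k
  have hepi : ∀ k : ℤᵒᵖ, Epi (e.app k) :=
    fun k => (NatTrans.epi_iff_epi_app e).1 inferInstance k
  have hmono : ∀ ⦃p q : ℤᵒᵖ⦄ (φ : p ⟶ q), Mono ((Abelian.image d.hom).map φ) := by
    intro p q φ
    haveI := hjmono p
    haveI : Mono (R.obj.map φ) := R.property.1 φ
    haveI : Mono ((Abelian.image d.hom).map φ ≫ j.app q) := by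
      rw [j.naturality φ]
      exact mono_comp _ _
    exact mono_of_mono _ (j.app q)
  refine ⟨hmono, ?_, ?_⟩
  · obtain ⟨b, hb⟩ := Q.property.2.1
    refine ⟨b, fun p hp => ?_⟩
    haveI := hepi (op p)
    exact IsZero.of_epi (e.app (op p)) (hb p hp)
  · obtain ⟨a, ha⟩ := Q.property.2.2
    refine ⟨a, fun p q φ hp => ?_⟩
    haveI := hmono φ
    haveI : IsIso (Q.obj.map φ) := ha φ hp
    haveI := hepi q
    haveI := hepi p
    haveI : Epi (e.app p ≫ (Abelian.image d.hom).map φ) := by
      rw [← e.naturality φ]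
      exact epi_comp _ _
    haveI : Epi ((Abelian.image d.hom).map φ) := epi_of_epi (e.app p) _
    exact isIso_of_mono_of_epi _

theorem ext_of_gr_exact {P Q R I : FilF A} (d' : P ⟶ Q) (d : Q ⟶ R) (w : d' ≫ d = 0)
    (hgr : ∀ p : ℤ, ((ShortComplex.mk d' d w).map (grF A p)).Exact)
    (hI : IsFilteredInjective I) (ψ : Q ⟶ I) (hψ : d' ≫ ψ = 0) : ∃ h : R ⟶ I, d ≫ h = ψ := by
  obtain ⟨hlev, -, hstrict⟩ := Groth.Agent.H1.FilDStrict.main (ShortComplex.mk d' d w) hgr
  let j := Abelian.image.ι d.hom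
  let e := Abelian.factorThruImage d.hom
  have hej : e ≫ j = d.hom := Abelian.image.fac d.hom
  have hepi : ∀ k : ℤᵒᵖ, Epi (e.app k) :=
    fun k => (NatTrans.epi_iff_epi_app e).1 inferInstance k
  have hejp : ∀ k : ℤᵒᵖ, e.app k ≫ j.app k = d.hom.app k := fun k => by
    rw [← NatTrans.comp_app, hej]
  let Qb : FilF A := ⟨Abelian.image d.hom, image_isFinFil d⟩
  let jF : Qb ⟶ R := ObjectProperty.homMk j
  let eF : Q ⟶ Qb := ObjectProperty.homMk e
  haveI : Mono jF := by
    haveI : Mono ((IsFinFil A).ι.map jF) := (inferInstance : Mono j)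
    exact Functor.mono_of_mono_map (IsFinFil A).ι inferInstance
  have hjstrict : IsStrict jF := by
    intro p q h
    have h1 := hstrict p q h
    haveI := hepi (op q)
    haveI := hepi (op p)
    have e1 : imageSubobject (d.hom.app (op q) ≫ R.obj.map (homOfLE h).op) =
        imageSubobject (j.app (op q) ≫ R.obj.map (homOfLE h).op) := by
      rw [← hejp, Category.assoc, imageSubobject_epi_comp]
    have e2 : imageSubobject (d.hom.app (op p)) = imageSubobject (j.app (op p)) := by
      rw [← hejp, imageSubobject_epi_comp]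
    change imageSubobject (j.app (op q) ≫ R.obj.map (homOfLE h).op) =
      imageSubobject (j.app (op p)) ⊓ _
    rw [← e1, ← e2]
    exact h1
  -- descend `ψ` to the image
  have hker : kernel.ι e ≫ ψ.hom = 0 := by
    ext k
    obtain ⟨p⟩ := k
    have hκ : (kernel.ι e).app (op p) ≫ d.hom.app (op p) = 0 := by
      rw [← hejp, ← Category.assoc, ← NatTrans.comp_app, kernel.condition]
      simp
    obtain ⟨T, π, hπ, x₀, hx⟩ :=
      (ShortComplex.exact_iff_exact_up_to_refinements _).1 (hlev p) _ hκ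
    let x : T ⟶ P.obj.obj (op p) := x₀
    have hx' : π ≫ (kernel.ι e).app (op p) = x ≫ d'.hom.app (op p) := hx
    have hψp : d'.hom.app (op p) ≫ ψ.hom.app (op p) = 0 := by
      have := congrArg (fun t => t.hom.app (op p)) hψ
      exact this
    change (kernel.ι e).app (op p) ≫ ψ.hom.app (op p) = 0
    rw [← cancel_epi π, comp_zero, ← Category.assoc, hx', Category.assoc, hψp, comp_zero]
  have hexe : (ShortComplex.mk (kernel.ι e) e (kernel.condition e)).Exact :=
    ShortComplex.exact_kernel e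
  haveI : Epi (ShortComplex.mk (kernel.ι e) e (kernel.condition e)).g := (inferInstance : Epi e)
  let ψb : Qb ⟶ I := ObjectProperty.homMk (hexe.desc ψ.hom hker)
  have hψb : e ≫ ψb.hom = ψ.hom := hexe.g_desc ψ.hom hker
  obtain ⟨h, hh⟩ := exists_ext jF ψb hjstrict hI
  refine ⟨h, ?_⟩
  have hd : d = eF ≫ jF := by
    ext1
    exact hej.symm
  rw [hd, Category.assoc, hh]
  ext1
  exact hψb

section Homotopy

variable (K I : CochainComplex (FilF A) ℤ) (φ : K ⟶ I)

/-- the homotopy equation at degree `n` for a family of maps, with flexible index names -/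
def HEq (H : ∀ i j : ℤ, K.X i ⟶ I.X j) (n : ℤ) : Prop :=
  ∀ (n' n'' : ℤ), n + 1 = n' → n'' + 1 = n →
    φ.f n = K.d n n' ≫ H n' n + H n n'' ≫ I.d n'' n

variable (hK : IsFilteredAcyclic K) (hI : ∀ n, IsFilteredInjective (I.X n))

include hK hI in
lemma exists_step (N : ℤ) (H : ∀ i j : ℤ, K.X i ⟶ I.X j) (hH : HEq K I φ H (N - 1)) :
    ∃ h : K.X (N + 1) ⟶ I.X N,
      φ.f N = K.d N (N + 1) ≫ h + H N (N - 1) ≫ I.d (N - 1) N := by
  have hgr : ∀ p : ℤ, ((ShortComplex.mk (K.d (N - 1) N) (K.d N (N + 1))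
      (K.d_comp_d _ _ _)).map (grF A p)).Exact := by
    intro p
    exact (HomologicalComplex.exactAt_iff' _ (N - 1) N (N + 1) (by simp) (by simp)).1 (hK p N)
  have h1 := hH N (N - 1 - 1) (by ring) (by ring)
  have hψ : K.d (N - 1) N ≫ (φ.f N - H N (N - 1) ≫ I.d (N - 1) N) = 0 := by
    rw [Preadditive.comp_sub, ← φ.comm, h1, Preadditive.add_comp, Category.assoc, Category.assoc,
      I.d_comp_d, comp_zero, add_zero, sub_self]
  obtain ⟨h, hh⟩ := ext_of_gr_exact (K.d (N - 1) N) (K.d N (N + 1)) (K.d_comp_d _ _ _) hgr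
    (hI N) (φ.f N - H N (N - 1) ≫ I.d (N - 1) N) hψ
  exact ⟨h, by rw [hh]; abel⟩

/-- update a family at one pair of indices -/
noncomputable def upd (H : ∀ i j : ℤ, K.X i ⟶ I.X j) (i₀ j₀ : ℤ) (h : K.X i₀ ⟶ I.X j₀) :
    ∀ i j : ℤ, K.X i ⟶ I.X j :=
  Function.update H i₀ (Function.update (H i₀) j₀ h)

lemma upd_self (H : ∀ i j : ℤ, K.X i ⟶ I.X j) (i₀ j₀ : ℤ) (h : K.X i₀ ⟶ I.X j₀) :
    upd K I H i₀ j₀ h i₀ j₀ = h := by
  unfold upd
  rw [Function.update_self, Function.update_self]

lemma upd_of_ne (H : ∀ i j : ℤ, K.X i ⟶ I.X j) (i₀ j₀ : ℤ) (h : K.X i₀ ⟶ I.X j₀) (i j : ℤ)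
    (hne : j ≠ j₀) : upd K I H i₀ j₀ h i j = H i j := by
  unfold upd
  by_cases hi : i = i₀
  · subst hi
    rw [Function.update_self, Function.update_of_ne hne]
  · rw [Function.update_of_ne hi]

include hK hI in
theorem nullhomotopic (a : ℤ) [I.IsStrictlyGE a] : Nonempty (Homotopy φ 0) := by
  classical
  let F : ℕ → (∀ i j : ℤ, K.X i ⟶ I.X j) := fun k =>
    Nat.rec (motive := fun _ => ∀ i j : ℤ, K.X i ⟶ I.X j) (fun _ _ => 0)
      (fun k H => if hH : HEq K I φ H (a + k - 1)
        then upd K I H (a + k + 1) (a + k) (Classical.choose (exists_step K I φ hK hI (a + k) H hH))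
        else H) k
  have hFs : ∀ k : ℕ, F (k + 1) = if hH : HEq K I φ (F k) (a + k - 1)
        then upd K I (F k) (a + k + 1) (a + k)
          (Classical.choose (exists_step K I φ hK hI (a + k) (F k) hH))
        else F k := fun k => rfl
  have hinv : ∀ k : ℕ, ∀ n : ℤ, n < a + k → HEq K I φ (F k) n := by
    intro k
    induction k with
    | zero =>
      intro n hn n' n'' _ _
      exact (I.isZero_of_isStrictlyGE a n (by simpa using hn)).eq_of_tgt _ _
    | succ k ih =>
      intro n hn n' n'' hn' hn''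
      have hH := ih (a + k - 1) (by omega)
      rw [hFs k, dif_pos hH]
      subst hn'
      obtain rfl : n'' = n - 1 := by omega
      by_cases hnk : n = a + k
      · subst hnk
        rw [upd_self, upd_of_ne _ _ _ _ _ _ _ _ (by omega)]
        exact Classical.choose_spec (exists_step K I φ hK hI (a + k) (F k) hH)
      · rw [upd_of_ne _ _ _ _ _ _ _ _ hnk, upd_of_ne _ _ _ _ _ _ _ _ (by omega)]
        exact ih n (by push_cast at hn; omega) (n + 1) (n - 1) rfl (by ring)
  have hstab1 : ∀ (k : ℕ) (i j : ℤ), j < a + k → F (k + 1) i j = F k i j := by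
    intro k i j hj
    rw [hFs k, dif_pos (hinv k (a + k - 1) (by omega))]
    exact upd_of_ne _ _ _ _ _ _ _ _ (by omega)
  have hstab : ∀ (k m : ℕ), k ≤ m → ∀ (i j : ℤ), j < a + k → F m i j = F k i j := by
    intro k m hkm i j hj
    induction m, hkm using Nat.le_induction with
    | base => rfl
    | succ m hm ih => rw [hstab1 m i j (by omega), ih]
  let Hfin : ∀ i j : ℤ, K.X i ⟶ I.X j := fun i j => F (j - a + 1).toNat i j
  have hHfin : ∀ (k : ℕ) (i j : ℤ), j < a + k → Hfin i j = F k i j := by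
    intro k i j hj
    exact (hstab (j - a + 1).toNat k (by omega) i j (by omega)).symm
  have hfin : ∀ n : ℤ, φ.f n = K.d n (n + 1) ≫ Hfin (n + 1) n + Hfin n (n - 1) ≫ I.d (n - 1) n := by
    intro n
    have h1 := hinv (n - a + 1).toNat n (by omega) (n + 1) (n - 1) rfl (by ring)
    rw [hHfin (n - a + 1).toNat (n + 1) n (by omega), hHfin (n - a + 1).toNat n (n - 1) (by omega)]
    exact h1
  refine ⟨{ hom := fun i j => if j + 1 = i then Hfin i j else 0
            zero := fun i j hij => if_neg (fun h => hij h)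
            comm := fun n => ?_ }⟩
  have r1 : (ComplexShape.up ℤ).Rel n (n + 1) := rfl
  have r2 : (ComplexShape.up ℤ).Rel (n - 1) n := by simp
  rw [dNext_eq _ r1, prevD_eq _ r2, if_pos rfl, if_pos (by ring)]
  simpa using hfin n

end Homotopy

end Groth.Agent.H1.FilDHtpy
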