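import Mathlib
import Groth.Prelude.Def_FilD
import Groth.Agent.Lib.helper1.FilDHtpy

/-! Binary biproducts in `FilF A`, cones of filtered quasi-isomorphisms are filtered acyclic,
and homotopy classes of maps into bounded below filtered injective complexes invert filtered
quasi-isomorphisms (S1084) (helper1). -/

set_option autoImplicit false
universe v u
open CategoryTheory CategoryTheory.Limits Opposite

namespace Groth.Agent.H1.FilDCone

open FilD Groth.Agent.H1.FilDHtpy

variable {A : Type u} [Category.{v} A] [Abelian A]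

lemma biprod_isFinFil (X Y : FilF A) : IsFinFil A (X.obj ⊞ Y.obj) := by
  have tot : ∀ p : ℤᵒᵖ, (biprod.fst : X.obj ⊞ Y.obj ⟶ X.obj).app p ≫
      (biprod.inl : X.obj ⟶ X.obj ⊞ Y.obj).app p +
      (biprod.snd : X.obj ⊞ Y.obj ⟶ Y.obj).app p ≫
      (biprod.inr : Y.obj ⟶ X.obj ⊞ Y.obj).app p = 𝟙 _ := by
    intro p
    have h := congr_app (biprod.total :
      biprod.fst ≫ biprod.inl + biprod.snd ≫ biprod.inr = 𝟙 (X.obj ⊞ Y.obj)) p
    rw [NatTrans.app_add, NatTrans.comp_app, NatTrans.comp_app, NatTrans.id_app] at h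
    exact h
  have hmono : ∀ ⦃p q : ℤᵒᵖ⦄ (f : p ⟶ q), Mono (X.obj.map f) → Mono (Y.obj.map f) →
      Mono ((X.obj ⊞ Y.obj).map f) := by
    intro p q f hX hY
    rw [Preadditive.mono_iff_cancel_zero]
    intro T t ht
    have h1 : t ≫ (biprod.fst : X.obj ⊞ Y.obj ⟶ X.obj).app p = 0 := by
      rw [← cancel_mono (X.obj.map f), zero_comp, Category.assoc,
        ← (biprod.fst : X.obj ⊞ Y.obj ⟶ X.obj).naturality f, reassoc_of% ht, zero_comp]
    have h2 : t ≫ (biprod.snd : X.obj ⊞ Y.obj ⟶ Y.obj).app p = 0 := by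
      rw [← cancel_mono (Y.obj.map f), zero_comp, Category.assoc,
        ← (biprod.snd : X.obj ⊞ Y.obj ⟶ Y.obj).naturality f, reassoc_of% ht, zero_comp]
    calc t = t ≫ 𝟙 _ := (Category.comp_id _).symm
      _ = 0 := by
        rw [← tot p, Preadditive.comp_add, reassoc_of% h1, reassoc_of% h2, zero_comp, zero_comp,
          add_zero]
  have hepi : ∀ ⦃p q : ℤᵒᵖ⦄ (f : p ⟶ q), Epi (X.obj.map f) → Epi (Y.obj.map f) →
      Epi ((X.obj ⊞ Y.obj).map f) := by
    intro p q f hX hY
    rw [Preadditive.epi_iff_cancel_zero]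
    intro T t ht
    have h1 : (biprod.inl : X.obj ⟶ X.obj ⊞ Y.obj).app q ≫ t = 0 := by
      rw [← cancel_epi (X.obj.map f), comp_zero,
        (biprod.inl : X.obj ⟶ X.obj ⊞ Y.obj).naturality_assoc f, ht, comp_zero]
    have h2 : (biprod.inr : Y.obj ⟶ X.obj ⊞ Y.obj).app q ≫ t = 0 := by
      rw [← cancel_epi (Y.obj.map f), comp_zero,
        (biprod.inr : Y.obj ⟶ X.obj ⊞ Y.obj).naturality_assoc f, ht, comp_zero]
    calc t = 𝟙 _ ≫ t := (Category.id_comp _).symm
      _ = 0 := by
        rw [← tot q, Preadditive.add_comp, Category.assoc, Category.assoc, h1, h2, comp_zero,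
          comp_zero, add_zero]
  obtain ⟨hX1, ⟨bX, hbX⟩, ⟨aX, haX⟩⟩ := X.property
  obtain ⟨hY1, ⟨bY, hbY⟩, ⟨aY, haY⟩⟩ := Y.property
  refine ⟨fun p q f => hmono f (hX1 f) (hY1 f), ⟨max bX bY, fun p hp => ?_⟩,
    ⟨min aX aY, fun p q f hp => ?_⟩⟩
  · rw [IsZero.iff_id_eq_zero, ← tot (op p)]
    have e1 : (biprod.fst : X.obj ⊞ Y.obj ⟶ X.obj).app (op p) = 0 :=
      (hbX p (le_trans (le_max_left _ _) hp)).eq_of_tgt _ _
    have e2 : (biprod.snd : X.obj ⊞ Y.obj ⟶ Y.obj).app (op p) = 0 :=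
      (hbY p (le_trans (le_max_right _ _) hp)).eq_of_tgt _ _
    rw [e1, e2, zero_comp, zero_comp, add_zero]
  · haveI := haX f (le_trans hp (min_le_left _ _))
    haveI := haY f (le_trans hp (min_le_right _ _))
    haveI := hmono f inferInstance inferInstance
    haveI := hepi f inferInstance inferInstance
    exact isIso_of_mono_of_epi _

/-- The binary bicone in `FilF A`. -/
noncomputable def bicone (X Y : FilF A) : BinaryBicone X Y where
  pt := ⟨X.obj ⊞ Y.obj, biprod_isFinFil X Y⟩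
  fst := ObjectProperty.homMk biprod.fst
  snd := ObjectProperty.homMk biprod.snd
  inl := ObjectProperty.homMk biprod.inl
  inr := ObjectProperty.homMk biprod.inr
  inl_fst := by ext1; exact biprod.inl_fst
  inl_snd := by ext1; exact biprod.inl_snd
  inr_fst := by ext1; exact biprod.inr_fst
  inr_snd := by ext1; exact biprod.inr_snd

instance : HasBinaryBiproducts (FilF A) :=
  ⟨fun X Y => ⟨⟨⟨bicone X Y, isBinaryBilimitOfTotal _ (by ext1; exact biprod.total)⟩⟩⟩⟩

lemma cone_acyclic {K L : CochainComplex (FilF A) ℤ} (α : K ⟶ L) (hα : IsFilteredQuasiIso α) :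
    IsFilteredAcyclic (CochainComplex.mappingCone α) := by
  intro p n
  have e := CochainComplex.mappingCone.mapHomologicalComplexIso α (grF A p)
  have h1 : QuasiIso ((grCx p).map α) := hα p
  have h2 : ∀ n, (CochainComplex.mappingCone ((grCx p).map α)).ExactAt n := by
    rw [← HomotopyCategory.quotient_obj_mem_subcategoryAcyclic_iff_exactAt]
    have := (HomotopyCategory.subcategoryAcyclic A).trW_iff_of_distinguished _
      (HomotopyCategory.mappingCone_triangleh_distinguished ((grCx p).map α))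
    refine this.1 ?_
    rw [← HomotopyCategory.quasiIso_eq_trW_subcategoryAcyclic]
    exact (HomotopyCategory.quotient_map_mem_quasiIso_iff _).2 h1
  rw [HomologicalComplex.exactAt_iff_isZero_homology]
  exact IsZero.of_iso ((HomologicalComplex.exactAt_iff_isZero_homology _ _).1 (h2 n))
    ((HomologicalComplex.homologyFunctor _ _ n).mapIso e)

section Main

open CategoryTheory.Pretriangulated


lemma hom_cone_eq_zero (I : CochainComplex (FilF A) ℤ) (a : ℤ) [I.IsStrictlyGE a]
    (hI : ∀ n, IsFilteredInjective (I.X n))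
    {K L : CochainComplex (FilF A) ℤ} (α : K ⟶ L) (hα : IsFilteredQuasiIso α)
    (f : (HomotopyCategory.quotient (FilF A) (ComplexShape.up ℤ)).obj
        (CochainComplex.mappingCone α) ⟶
      (HomotopyCategory.quotient (FilF A) (ComplexShape.up ℤ)).obj I) : f = 0 := by
  obtain ⟨f', rfl⟩ := (HomotopyCategory.quotient _ _).map_surjective f
  obtain ⟨h⟩ := nullhomotopic _ I f' (cone_acyclic α hα) hI a
  rw [HomotopyCategory.eq_of_homotopy _ _ h, Functor.map_zero]

lemma hom_cone_shift_eq_zero (I : CochainComplex (FilF A) ℤ) (a : ℤ) [I.IsStrictlyGE a]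
    (hI : ∀ n, IsFilteredInjective (I.X n))
    {K L : CochainComplex (FilF A) ℤ} (α : K ⟶ L) (hα : IsFilteredQuasiIso α)
    (f : (HomotopyCategory.quotient (FilF A) (ComplexShape.up ℤ)).obj
        (CochainComplex.mappingCone α) ⟶
      ((HomotopyCategory.quotient (FilF A) (ComplexShape.up ℤ)).obj I)⟦(1 : ℤ)⟧) : f = 0 := by
  haveI : (I⟦(1 : ℤ)⟧).IsStrictlyGE (a - 1) := I.isStrictlyGE_shift a 1 (a - 1) (by omega)
  have hI' : ∀ n, IsFilteredInjective ((I⟦(1 : ℤ)⟧).X n) := fun n => hI (n + 1)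
  have := hom_cone_eq_zero (I⟦(1 : ℤ)⟧) (a - 1) hI' α hα
    (f ≫ ((HomotopyCategory.quotient (FilF A) (ComplexShape.up ℤ)).commShiftIso (1 : ℤ)).inv.app I)
  rw [← cancel_mono
    (((HomotopyCategory.quotient (FilF A) (ComplexShape.up ℤ)).commShiftIso (1 : ℤ)).inv.app I),
    this, zero_comp]

theorem bijective (I : CochainComplex (FilF A) ℤ) (a : ℤ) [I.IsStrictlyGE a]
    (hI : ∀ n, IsFilteredInjective (I.X n))
    {K L : CochainComplex (FilF A) ℤ} (α : K ⟶ L) (hα : IsFilteredQuasiIso α) :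
    Function.Bijective (fun β : (HomotopyCategory.quotient (FilF A) (ComplexShape.up ℤ)).obj L ⟶
        (HomotopyCategory.quotient (FilF A) (ComplexShape.up ℤ)).obj I =>
      (HomotopyCategory.quotient (FilF A) (ComplexShape.up ℤ)).map α ≫ β) := by
  have hT := HomotopyCategory.mappingCone_triangleh_distinguished α
  constructor
  · intro β₁ β₂ h
    dsimp only at h
    have h0 : (CochainComplex.mappingCone.triangleh α).mor₁ ≫ (β₁ - β₂) = 0 := by
      show (HomotopyCategory.quotient (FilF A) (ComplexShape.up ℤ)).map α ≫ (β₁ - β₂) = 0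
      rw [Preadditive.comp_sub, h, sub_self]
    obtain ⟨g, hg⟩ := Pretriangulated.Triangle.yoneda_exact₂ _ hT (β₁ - β₂) h0
    have g0 : g = 0 := hom_cone_eq_zero I a hI α hα g
    subst g0
    have h1 : β₁ - β₂ = 0 := hg.trans comp_zero
    exact sub_eq_zero.1 h1
  · intro γ
    have h0 : (CochainComplex.mappingCone.triangleh α).rotate.mor₂ ≫ γ⟦(1 : ℤ)⟧' = 0 :=
      hom_cone_shift_eq_zero I a hI α hα _
    obtain ⟨g, hg⟩ := Pretriangulated.Triangle.yoneda_exact₃ _
      (Pretriangulated.rot_of_distTriang _ hT) (γ⟦(1 : ℤ)⟧') h0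
    have key : ∃ β : (HomotopyCategory.quotient (FilF A) (ComplexShape.up ℤ)).obj L ⟶
        (HomotopyCategory.quotient (FilF A) (ComplexShape.up ℤ)).obj I,
        γ⟦(1 : ℤ)⟧' = (-(((HomotopyCategory.quotient (FilF A) (ComplexShape.up ℤ)).map α)⟦(1 : ℤ)⟧')) ≫
          β⟦(1 : ℤ)⟧' := by
      obtain ⟨β, hβ⟩ := (shiftFunctor (HomotopyCategory (FilF A) (ComplexShape.up ℤ))
        (1 : ℤ)).map_surjective
        (X := (HomotopyCategory.quotient (FilF A) (ComplexShape.up ℤ)).obj L)
        (Y := (HomotopyCategory.quotient (FilF A) (ComplexShape.up ℤ)).obj I) g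
      refine ⟨β, ?_⟩
      rw [hβ]
      exact hg
    obtain ⟨β, hβ⟩ := key
    refine ⟨-β, ?_⟩
    apply (shiftFunctor (HomotopyCategory (FilF A) (ComplexShape.up ℤ)) (1 : ℤ)).map_injective
    dsimp only
    rw [hβ]
    simp

end Main

end Groth.Agent.H1.FilDCone
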