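import Mathlib
import Groth.Prelude.Def_FilD
import Groth.Agent.Lib.helper1.FilDStrict

/-! Every finite filtered object embeds by a strict mono into a filtered injective (S1081)
(helper1). -/

set_option autoImplicit false
universe v u
open CategoryTheory CategoryTheory.Limits Opposite

namespace Groth.Agent.H1.FilDEmb

open FilD Groth.Agent.H1.FilDStrict

variable {A : Type u} [Category.{v} A] [Abelian A]

attribute [local instance] Abelian.hasFiniteBiproducts

/-- index set: `a ≤ p < b`, `q ≤ p`. -/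
def S (a b q : ℤ) : Type := {p : ℤ // a ≤ p ∧ p < b ∧ q ≤ p}

instance (a b q : ℤ) : Finite (S a b q) :=
  Finite.of_injective (fun s : S a b q => (⟨s.1, Finset.mem_Ico.2 ⟨s.2.1, s.2.2.1⟩⟩ : Finset.Ico a b))
    (fun s t h => Subtype.ext (congrArg (fun x : Finset.Ico a b => x.1) h))

/-- inclusion of index sets -/
def S.incl {a b q q' : ℤ} (h : q' ≤ q) (s : S a b q) : S a b q' :=
  ⟨s.1, s.2.1, s.2.2.1, le_trans h s.2.2.2⟩

lemma injective_biproduct {β : Type} [Finite β] (J : A) [Injective J] :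
    Injective (⨁ (fun _ : β => J)) where
  factors g f mono := by
    refine ⟨biproduct.lift fun b => Injective.factorThru (g ≫ biproduct.π _ b) f, ?_⟩
    apply biproduct.hom_ext
    intro b
    simp only [Category.assoc, biproduct.lift_π, Injective.comp_factorThru]

lemma injective_cokernel_of_split {M N : A} (t : N ⟶ M) (r : M ⟶ N) (h : t ≫ r = 𝟙 N)
    [Injective M] : Injective (cokernel t) where
  factors {X Y} g f mono := by
    let s : cokernel t ⟶ M := cokernel.desc t (𝟙 M - r ≫ t) (by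
      rw [Preadditive.comp_sub, Category.comp_id, reassoc_of% h, sub_self])
    have hs : s ≫ cokernel.π t = 𝟙 _ := by
      apply coequalizer.hom_ext
      rw [cokernel.π_desc_assoc, Preadditive.sub_comp, Category.id_comp, Category.assoc,
        cokernel.condition, comp_zero, sub_zero, Category.comp_id]
    refine ⟨Injective.factorThru (g ≫ s) f ≫ cokernel.π t, ?_⟩
    rw [Injective.comp_factorThru_assoc, Category.assoc, hs, Category.comp_id]

section Iobj

variable (a b : ℤ) (J : A)

/-- the transition map of the filtered object `I`. -/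
noncomputable def trans {q q' : ℤ} (h : q' ≤ q) :
    (⨁ (fun _ : S a b q => J)) ⟶ (⨁ (fun _ : S a b q' => J)) :=
  biproduct.desc (fun s => biproduct.ι (fun _ : S a b q' => J) (s.incl h))

@[reassoc (attr := simp)]
lemma ι_trans {q q' : ℤ} (h : q' ≤ q) (s : S a b q) :
    biproduct.ι (fun _ : S a b q => J) s ≫ trans a b J h =
      biproduct.ι (fun _ : S a b q' => J) (s.incl h) := by
  simp [trans]

/-- the retraction of the transition map. -/
noncomputable def retr {q q' : ℤ} (_ : q' ≤ q) :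
    (⨁ (fun _ : S a b q' => J)) ⟶ (⨁ (fun _ : S a b q => J)) :=
  biproduct.desc (fun s' => if h' : q ≤ s'.1 then
    biproduct.ι (fun _ : S a b q => J) ⟨s'.1, s'.2.1, s'.2.2.1, h'⟩ else 0)

lemma trans_retr {q q' : ℤ} (h : q' ≤ q) : trans a b J h ≫ retr a b J h = 𝟙 _ := by
  apply biproduct.hom_ext'
  intro s
  rw [ι_trans_assoc, Category.comp_id, retr, biproduct.ι_desc]
  have : q ≤ (s.incl h).1 := s.2.2.2
  rw [dif_pos this]
  rfl

lemma retr_trans {q q' : ℤ} (h : q' ≤ q) (hq : q ≤ a) : retr a b J h ≫ trans a b J h = 𝟙 _ := by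
  apply biproduct.hom_ext'
  intro s'
  rw [retr, biproduct.ι_desc_assoc, Category.comp_id]
  have : q ≤ s'.1 := le_trans hq s'.2.1
  rw [dif_pos this, ι_trans]
  rfl

lemma trans_π_of_le {q q' : ℤ} (h : q' ≤ q) (s' : S a b q') (h' : q ≤ s'.1) :
    trans a b J h ≫ biproduct.π (fun _ : S a b q' => J) s' =
      biproduct.π (fun _ : S a b q => J) ⟨s'.1, s'.2.1, s'.2.2.1, h'⟩ := by
  classical
  apply biproduct.hom_ext'
  intro s
  rw [ι_trans_assoc, biproduct.ι_π, biproduct.ι_π]
  by_cases hs : s.1 = s'.1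
  · have e1 : s.incl h = s' := Subtype.ext hs
    have e2 : s = ⟨s'.1, s'.2.1, s'.2.2.1, h'⟩ := Subtype.ext hs
    rw [dif_pos e1, dif_pos e2]
  · have e1 : ¬ s.incl h = s' := fun e => hs (congrArg Subtype.val e)
    have e2 : ¬ s = ⟨s'.1, s'.2.1, s'.2.2.1, h'⟩ := fun e => hs (congrArg Subtype.val e)
    rw [dif_neg e1, dif_neg e2]

lemma trans_π_of_not_le {q q' : ℤ} (h : q' ≤ q) (s' : S a b q') (h' : ¬ q ≤ s'.1) :
    trans a b J h ≫ biproduct.π (fun _ : S a b q' => J) s' = 0 := by
  apply biproduct.hom_ext'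
  intro s
  rw [ι_trans_assoc, comp_zero]
  apply biproduct.ι_π_ne
  intro e
  apply h'
  have : (s.incl h).1 = s'.1 := congrArg Subtype.val e
  rw [← this]
  exact s.2.2.2

lemma trans_trans {q q' q'' : ℤ} (h : q' ≤ q) (h' : q'' ≤ q') :
    trans a b J h ≫ trans a b J h' = trans a b J (h'.trans h) := by
  apply biproduct.hom_ext'
  intro s
  rw [ι_trans_assoc, ι_trans, ι_trans]
  rfl

lemma trans_refl (q : ℤ) (h : q ≤ q) : trans a b J h = 𝟙 _ := by
  apply biproduct.hom_ext'
  intro s
  rw [ι_trans, Category.comp_id]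
  rfl

/-- the filtered object `I` -/
noncomputable def Iobj : ℤᵒᵖ ⥤ A where
  obj q := ⨁ (fun _ : S a b q.unop => J)
  map {q q'} f := trans a b J (leOfHom f.unop)
  map_id q := trans_refl a b J _ _
  map_comp f g := (trans_trans a b J _ _).symm

lemma Iobj_isFinFil : IsFinFil A (Iobj a b J) := by
  refine ⟨fun q q' f => ?_, ⟨b, fun p hp => ?_⟩, ⟨a, fun q q' f hq => ?_⟩⟩
  · exact (SplitMono.mk (retr a b J (leOfHom f.unop)) (trans_retr a b J _)).mono
  · rw [IsZero.iff_id_eq_zero]
    apply biproduct.hom_ext'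
    intro s
    exfalso
    have h1 := s.2.2.1
    have h2 := s.2.2.2
    change p ≤ s.1 at h2
    omega
  · exact ⟨⟨retr a b J (leOfHom f.unop), trans_retr a b J _, retr_trans a b J _ hq⟩⟩

lemma Iobj_filteredInjective [Injective J] :
    IsFilteredInjective (⟨Iobj a b J, Iobj_isFinFil a b J⟩ : FilF A) := by
  intro p
  haveI : Injective (⨁ (fun _ : S a b p => J)) := injective_biproduct J
  exact injective_cokernel_of_split (trans a b J (Int.le_add_one le_rfl : p ≤ p + 1))
    (retr a b J _) (trans_retr a b J _)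

end Iobj

/-- index type for the graded pieces -/
def T (a b : ℤ) : Type := {p : ℤ // a ≤ p ∧ p < b}

instance (a b : ℤ) : Finite (T a b) :=
  Finite.of_injective (fun s : T a b => (⟨s.1, Finset.mem_Ico.2 ⟨s.2.1, s.2.2⟩⟩ : Finset.Ico a b))
    (fun s t h => Subtype.ext (congrArg (fun x : Finset.Ico a b => x.1) h))

section Emb

variable [EnoughInjectives A] (X : FilF A) (a b : ℤ)
  (ha : ∀ ⦃p q : ℤᵒᵖ⦄ (f : p ⟶ q), p.unop ≤ a → IsIso (X.obj.map f))

/-- the big injective -/
noncomputable def J₀ : A := Injective.under (⨁ (fun s : T a b => (gr A s.1).obj X.obj))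

instance : Injective (J₀ X a b) := by
  unfold J₀
  infer_instance

/-- the embeddings of the graded pieces -/
noncomputable def ι' (p : ℤ) : (gr A p).obj X.obj ⟶ J₀ X a b :=
  if h : a ≤ p ∧ p < b then
    biproduct.ι (fun s : T a b => (gr A s.1).obj X.obj) ⟨p, h⟩ ≫ Injective.ι _
  else 0

lemma ι'_mono (p : ℤ) (h : a ≤ p ∧ p < b) : Mono (ι' X a b p) := by
  rw [ι', dif_pos h]
  apply (config := {allowSynthFailures := true}) mono_comp
  exact Injective.ι_mono _

/-- inclusion into the whole object `X a`. -/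
noncomputable def jm (q : ℤ) : X.obj.obj (op q) ⟶ X.obj.obj (op a) :=
  haveI : IsIso (tm X.obj (min_le_left a q)) := ha _ (le_refl a)
  tm X.obj (min_le_right a q) ≫ inv (tm X.obj (min_le_left a q))

lemma jm_nat {q q' : ℤ} (h : q' ≤ q) : tm X.obj h ≫ jm X a ha q' = jm X a ha q := by
  haveI : IsIso (tm X.obj (min_le_left a q)) := ha _ (le_refl a)
  haveI : IsIso (tm X.obj (min_le_left a q')) := ha _ (le_refl a)
  have hm : min a q' ≤ min a q := min_le_min_left a h
  unfold jm
  rw [← cancel_mono (tm X.obj (min_le_left a q'))]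
  simp only [Category.assoc, IsIso.inv_hom_id, Category.comp_id]
  rw [tm_tm, ← tm_tm X.obj hm (min_le_left a q), IsIso.inv_hom_id_assoc, tm_tm]

instance jm_mono (q : ℤ) : Mono (jm X a ha q) := by
  haveI : IsIso (tm X.obj (min_le_left a q)) := ha _ (le_refl a)
  haveI : Mono (tm X.obj (min_le_right a q)) := X.property.1 _
  unfold jm
  infer_instance

/-- extension of the graded embedding to the whole object -/
noncomputable def ε (p : ℤ) : X.obj.obj (op a) ⟶ J₀ X a b :=
  Injective.factorThru (grπ X.obj p ≫ ι' X a b p) (jm X a ha p)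

lemma jm_ε (p : ℤ) : jm X a ha p ≫ ε X a b ha p = grπ X.obj p ≫ ι' X a b p :=
  Injective.comp_factorThru _ _

lemma jm_ε_zero {p q : ℤ} (h : p + 1 ≤ q) : jm X a ha q ≫ ε X a b ha p = 0 := by
  rw [← jm_nat X a ha (show p ≤ q by omega), Category.assoc, jm_ε, ← tm_st X.obj h,
    Category.assoc, reassoc_of% (st_grπ X.obj p), zero_comp, comp_zero]

/-- components of the embedding -/
noncomputable def uapp (q : ℤ) : X.obj.obj (op q) ⟶ ⨁ (fun _ : S a b q => J₀ X a b) :=
  biproduct.lift (fun s => jm X a ha q ≫ ε X a b ha s.1)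

lemma uapp_nat {q q' : ℤ} (h : q' ≤ q) :
    tm X.obj h ≫ uapp X a b ha q' = uapp X a b ha q ≫ trans a b (J₀ X a b) h := by
  apply biproduct.hom_ext
  intro s'
  rw [Category.assoc, Category.assoc, uapp, biproduct.lift_π, reassoc_of% (jm_nat X a ha h)]
  by_cases h' : q ≤ s'.1
  · rw [trans_π_of_le a b _ h s' h', uapp, biproduct.lift_π]
  · rw [trans_π_of_not_le a b _ h s' h', comp_zero]
    exact jm_ε_zero X a b ha (by omega)

/-- the embedding as a natural transformation -/
noncomputable def uhom : X.obj ⟶ Iobj a b (J₀ X a b) where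
  app q := uapp X a b ha q.unop
  naturality q q' f := by
    have hf : f = (homOfLE (leOfHom f.unop)).op := Quiver.Hom.unop_inj (Subsingleton.elim _ _)
    have := uapp_nat X a b ha (leOfHom f.unop)
    rw [hf]
    exact this

lemma gr_uhom_mono (hb : ∀ p : ℤ, b ≤ p → IsZero (X.obj.obj (op p))) (p : ℤ) :
    Mono ((gr A p).map (uhom X a b ha)) := by
  by_cases h : a ≤ p ∧ p < b
  · let sp : S a b p := ⟨p, h.1, h.2, le_refl p⟩
    let ρ : (gr A p).obj (Iobj a b (J₀ X a b)) ⟶ J₀ X a b :=
      cokernel.desc _ (biproduct.π (fun _ : S a b p => J₀ X a b) sp)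
        (trans_π_of_not_le a b _ _ sp (by simp [sp]))
    have hρ : (gr A p).map (uhom X a b ha) ≫ ρ = ι' X a b p := by
      rw [← cancel_epi (grπ X.obj p), ← Category.assoc, grπ_map, Category.assoc]
      have h1 : grπ (Iobj a b (J₀ X a b)) p ≫ ρ =
          biproduct.π (fun _ : S a b p => J₀ X a b) sp := cokernel.π_desc _ _ _
      rw [h1]
      have h2 : (uhom X a b ha).app (op p) ≫ biproduct.π (fun _ : S a b p => J₀ X a b) sp =
          jm X a ha p ≫ ε X a b ha p := by
        show uapp X a b ha p ≫ _ = _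
        rw [uapp, biproduct.lift_π]
      rw [h2, jm_ε]
    haveI := ι'_mono X a b p h
    exact mono_of_mono_fac hρ
  · have hz : IsZero ((gr A p).obj X.obj) := by
      rw [IsZero.iff_id_eq_zero, ← cancel_epi (grπ X.obj p), comp_zero, Category.comp_id]
      by_cases hp : b ≤ p
      · exact (hb p hp).eq_of_src _ _
      · have hpa : p + 1 ≤ a := by
          by_contra hh
          exact h ⟨by omega, by omega⟩
        haveI : IsIso (st X.obj p) := ha _ hpa
        rw [← cancel_epi (st X.obj p), st_grπ, comp_zero]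
    exact ⟨fun f g _ => hz.eq_of_tgt _ _⟩

end Emb

theorem exists_embedding [EnoughInjectives A] (X : FilF A) :
    ∃ (I : FilF A) (u : X ⟶ I), IsFilteredInjective I ∧ Mono u ∧ IsStrict u := by
  obtain ⟨-, ⟨b, hb⟩, ⟨a, ha⟩⟩ := X.property
  let I : FilF A := ⟨Iobj a b (J₀ X a b), Iobj_isFinFil a b _⟩
  let u : X ⟶ I := ObjectProperty.homMk (uhom X a b ha)
  refine ⟨I, u, Iobj_filteredInjective a b _, ?_⟩
  let S₀ : ShortComplex (FilF A) := ShortComplex.mk (0 : X ⟶ X) u zero_comp
  have hS : ∀ p : ℤ, (S₀.map (grF A p)).Exact := by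
    intro p
    have hm : Mono ((S₀.map (grF A p)).g) := gr_uhom_mono X a b ha hb p
    exact (ShortComplex.exact_iff_mono _
      (show (grF A p).map (0 : X ⟶ X) = 0 from Functor.map_zero _ _ _)).2 hm
  obtain ⟨h1, -, h3⟩ := Groth.Agent.H1.FilDStrict.main S₀ hS
  refine ⟨?_, h3⟩
  have hmono : ∀ q : ℤᵒᵖ, Mono (u.hom.app q) := by
    intro q
    have := (ShortComplex.exact_iff_mono _ rfl).1 (h1 q.unop)
    exact this
  haveI : Mono u.hom := NatTrans.mono_of_mono_app _
  refine ⟨fun f g h => ?_⟩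
  apply ObjectProperty.hom_ext
  rw [← cancel_mono u.hom]
  exact congrArg (fun t => t.hom) h

end Groth.Agent.H1.FilDEmb
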