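import Mathlib
import Groth.Prelude.Def_FilD
import Groth.Agent.Lib.helper1.FilDCone

/-! Filtered canonical truncation `τ_{≤ b}` (S1088) (helper1). -/

set_option autoImplicit false
universe v u v' u'
open CategoryTheory CategoryTheory.Limits Opposite

namespace Groth.Agent.H1.FilDTrunc

section Gen

variable {C : Type u'} [Category.{v'} C] [Abelian C]

/-- A map of short complexes which is an iso on `X₁`, with `S₁.g = 0` and `τ₂` a kernel of `S₂.g`,
is a quasi-isomorphism. -/
lemma quasiIso_of_kernel {S₁ S₂ : ShortComplex C} (φ : S₁ ⟶ S₂) [IsIso φ.τ₁] (hg : S₁.g = 0)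
    [Mono φ.τ₂] (w : φ.τ₂ ≫ S₂.g = 0)
    (hex : (ShortComplex.mk φ.τ₂ S₂.g w).Exact) : ShortComplex.QuasiIso φ := by
  have hk : IsLimit (KernelFork.ofι φ.τ₂ w) := hex.fIsKernel
  let h₁ : S₁.LeftHomologyData := ShortComplex.LeftHomologyData.ofIsColimitCokernelCofork S₁ hg
    (CokernelCofork.ofπ (cokernel.π S₁.f) (cokernel.condition _)) (cokernelIsCokernel _)
  let f' : S₂.X₁ ⟶ S₁.X₂ := hk.lift (KernelFork.ofι S₂.f S₂.zero)
  have hf' : f' ≫ φ.τ₂ = S₂.f := Fork.IsLimit.lift_ι hk
  let h₂ : S₂.LeftHomologyData :=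
    { K := S₁.X₂
      H := cokernel f'
      i := φ.τ₂
      π := cokernel.π f'
      wi := w
      hi := hk
      wπ := cokernel.condition f'
      hπ := cokernelIsCokernel f' }
  have hff : S₁.f = φ.τ₁ ≫ f' := by
    rw [← cancel_mono φ.τ₂, Category.assoc, hf', φ.comm₁₂]
  let γ : ShortComplex.LeftHomologyMapData φ h₁ h₂ :=
    { φK := 𝟙 _
      φH := cokernel.desc S₁.f (cokernel.π f') (by rw [hff, Category.assoc, cokernel.condition,
        comp_zero])
      commi := by
        show 𝟙 _ ≫ φ.τ₂ = 𝟙 _ ≫ φ.τ₂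
        rfl
      commf' := by
        show S₁.f ≫ 𝟙 _ = φ.τ₁ ≫ f'
        rw [Category.comp_id, hff]
      commπ := by
        show cokernel.π S₁.f ≫ cokernel.desc S₁.f (cokernel.π f') _ = 𝟙 _ ≫ cokernel.π f'
        rw [cokernel.π_desc, Category.id_comp] }
  rw [γ.quasiIso_iff]
  have hinv : f' ≫ cokernel.π S₁.f = 0 := by
    have : f' = inv φ.τ₁ ≫ S₁.f := by rw [hff, IsIso.inv_hom_id_assoc]
    rw [this, Category.assoc, cokernel.condition, comp_zero]
  refine ⟨⟨cokernel.desc f' (cokernel.π S₁.f) hinv, ?_, ?_⟩⟩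
  · apply coequalizer.hom_ext
    show cokernel.π S₁.f ≫ cokernel.desc S₁.f (cokernel.π f') _ ≫ _ = _
    rw [cokernel.π_desc_assoc, cokernel.π_desc]
    exact (Category.comp_id _).symm
  · apply coequalizer.hom_ext
    show cokernel.π f' ≫ cokernel.desc f' (cokernel.π S₁.f) hinv ≫
      cokernel.desc S₁.f (cokernel.π f') _ = _
    rw [cokernel.π_desc_assoc, cokernel.π_desc]
    exact (Category.comp_id _).symm

/-- A chain map which looks like the inclusion of the canonical truncation `τ_{≤ b}` into a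
complex with no cohomology above `b` is a quasi-isomorphism. -/
lemma quasiIso_of_trunc {M K : CochainComplex C ℤ} (ψ : M ⟶ K) (b : ℤ)
    (h1 : ∀ n, n < b → IsIso (ψ.f n))
    (h2 : Mono (ψ.f b))
    (w : ψ.f b ≫ K.d b (b + 1) = 0)
    (h2' : (ShortComplex.mk (ψ.f b) (K.d b (b + 1)) w).Exact)
    (h3 : ∀ n, b < n → IsZero (M.X n))
    (h4 : ∀ n, b < n → K.ExactAt n) : QuasiIso ψ := by
  rw [quasiIso_iff]
  intro n
  rcases lt_trichotomy n b with hn | hn | hn
  · rw [quasiIsoAt_iff' ψ (n - 1) n (n + 1) (by simp) (by simp)]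
    haveI : IsIso (((HomologicalComplex.shortComplexFunctor' C (ComplexShape.up ℤ)
        (n - 1) n (n + 1)).map ψ).τ₁) := h1 (n - 1) (by omega)
    haveI : IsIso (((HomologicalComplex.shortComplexFunctor' C (ComplexShape.up ℤ)
        (n - 1) n (n + 1)).map ψ).τ₂) := h1 n hn
    haveI : Mono (((HomologicalComplex.shortComplexFunctor' C (ComplexShape.up ℤ)
        (n - 1) n (n + 1)).map ψ).τ₃) := by
      show Mono (ψ.f (n + 1))
      by_cases hb : n + 1 = b
      · rw [hb]
        exact h2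
      · haveI := h1 (n + 1) (by omega)
        infer_instance
    exact ShortComplex.quasiIso_of_epi_of_isIso_of_mono _
  · subst hn
    rw [quasiIsoAt_iff' ψ (n - 1) n (n + 1) (by simp) (by simp)]
    haveI : IsIso (((HomologicalComplex.shortComplexFunctor' C (ComplexShape.up ℤ)
        (n - 1) n (n + 1)).map ψ).τ₁) := h1 (n - 1) (by omega)
    haveI : Mono (((HomologicalComplex.shortComplexFunctor' C (ComplexShape.up ℤ)
        (n - 1) n (n + 1)).map ψ).τ₂) := h2
    refine quasiIso_of_kernel _ ?_ w h2'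
    exact (h3 (n + 1) (by omega)).eq_of_tgt _ _
  · rw [quasiIsoAt_iff_exactAt ψ n (ShortComplex.exact_of_isZero_X₂ _ (h3 n hn))]
    exact h4 n hn

end Gen

section Constr

variable {B : Type u'} [Category.{v'} B] [Abelian B] (K : CochainComplex B ℤ) (b : ℤ)

/-- the map whose kernel is the truncation -/
noncomputable def θ (n : ℤ) : K.X n ⟶ K.X n ⊞ K.X (n + 1) :=
  biprod.lift (if b < n then 𝟙 _ else 0) (if b ≤ n then K.d n (n + 1) else 0)

lemma θ_of_lt (n : ℤ) (hn : n < b) : θ K b n = 0 := by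
  unfold θ
  rw [if_neg (by omega), if_neg (by omega)]
  apply biprod.hom_ext <;> simp

lemma θ_snd_of_le (n : ℤ) (hn : b ≤ n) : θ K b n ≫ biprod.snd = K.d n (n + 1) := by
  unfold θ
  rw [biprod.lift_snd, if_pos hn]

lemma θ_fst_of_lt (n : ℤ) (hn : b < n) : θ K b n ≫ biprod.fst = 𝟙 _ := by
  unfold θ
  rw [biprod.lift_fst, if_pos hn]

lemma ι_d_of_le (n : ℤ) (hn : b ≤ n) : kernel.ι (θ K b n) ≫ K.d n (n + 1) = 0 := by
  rw [← θ_snd_of_le K b n hn, kernel.condition_assoc, zero_comp]

lemma ι_d_θ (n : ℤ) : (kernel.ι (θ K b n) ≫ K.d n (n + 1)) ≫ θ K b (n + 1) = 0 := by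
  apply biprod.hom_ext
  · rw [zero_comp, Category.assoc, Category.assoc]
    unfold θ
    rw [biprod.lift_fst]
    by_cases h : b < n + 1
    · rw [if_pos h, Category.comp_id]
      exact ι_d_of_le K b n (by omega)
    · rw [if_neg h, comp_zero, comp_zero]
  · rw [zero_comp, Category.assoc, Category.assoc]
    unfold θ
    rw [biprod.lift_snd]
    by_cases h : b ≤ n + 1
    · rw [if_pos h, K.d_comp_d, comp_zero]
    · rw [if_neg h, comp_zero, comp_zero]

/-- the objects of the truncation -/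
noncomputable abbrev MX (n : ℤ) : B := kernel (θ K b n)

/-- the differential of the truncation -/
noncomputable def Md (n : ℤ) : MX K b n ⟶ MX K b (n + 1) :=
  kernel.lift _ (kernel.ι (θ K b n) ≫ K.d n (n + 1)) (ι_d_θ K b n)

lemma Md_ι (n : ℤ) : Md K b n ≫ kernel.ι (θ K b (n + 1)) = kernel.ι (θ K b n) ≫ K.d n (n + 1) :=
  kernel.lift_ι _ _ _

lemma Md_Md (n : ℤ) : Md K b n ≫ Md K b (n + 1) = 0 := by
  rw [← cancel_mono (kernel.ι (θ K b (n + 1 + 1))), zero_comp, Category.assoc, Md_ι,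
    ← Category.assoc, Md_ι, Category.assoc, K.d_comp_d, comp_zero]

/-- the truncation `τ_{≤ b} K` -/
noncomputable def M : CochainComplex B ℤ := CochainComplex.of (MX K b) (Md K b) (Md_Md K b)

/-- the inclusion `τ_{≤ b} K ⟶ K` -/
noncomputable def φ : M K b ⟶ K where
  f n := kernel.ι (θ K b n)
  comm' i j hij := by
    have : i + 1 = j := hij
    subst this
    have hd : (M K b).d i (i + 1) = Md K b i := CochainComplex.of_d _ _ _
    rw [hd]
    exact (Md_ι K b i).symm

lemma isZero_MX (n : ℤ) (hn : b < n) : IsZero (MX K b n) := by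
  haveI : Mono (θ K b n) := mono_of_mono_fac (θ_fst_of_lt K b n hn)
  exact isZero_kernel_of_mono _

lemma isIso_φ_f (n : ℤ) (hn : n < b) : IsIso ((φ K b).f n) := by
  have key : ∀ {X Y : B} (f : X ⟶ Y), f = 0 → IsIso (kernel.ι f) := by
    intro X Y f hf
    subst hf
    infer_instance
  exact key _ (θ_of_lt K b n hn)

/-- comparison with the kernel of `d` at `b` -/
noncomputable def toKer : kernel (K.d b (b + 1)) ⟶ MX K b b :=
  kernel.lift _ (kernel.ι (K.d b (b + 1))) (by
    apply biprod.hom_ext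
    · unfold θ
      rw [zero_comp, Category.assoc, biprod.lift_fst, if_neg (lt_irrefl b), comp_zero]
    · rw [zero_comp, Category.assoc, θ_snd_of_le K b b le_rfl, kernel.condition])

lemma toKer_ι : toKer K b ≫ (φ K b).f b = kernel.ι (K.d b (b + 1)) := kernel.lift_ι _ _ _

end Constr

section Fil

open FilD Groth.Agent.H1.FilDStrict Groth.Agent.H1.FilDInj Groth.Agent.H1.FilDCone

variable {A : Type u} [Category.{v} A] [Abelian A]

/-- `gr` of a kernel inclusion is a monomorphism when the target has a mono step map. -/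
lemma gr_kernel_ι_mono {X Y : ℤᵒᵖ ⥤ A} (u : X ⟶ Y) (p : ℤ) (hY : Mono (st Y p)) :
    Mono ((gr A p).map (kernel.ι u)) := by
  rw [Preadditive.mono_iff_cancel_zero]
  intro T y hy
  obtain ⟨T₁, π₁, hπ₁, y₁, hy₁⟩ := surjective_up_to_refinements_of_epi (grπ (kernel u) p) y
  have h0 : (y₁ ≫ (kernel.ι u).app (op p)) ≫ grπ X p = 0 := by
    rw [Category.assoc, ← grπ_map, ← Category.assoc, ← hy₁, Category.assoc, hy, comp_zero]
  obtain ⟨T₂, π₂, hπ₂, x', hx'⟩ := exists_lift_of_grπ_zero X p _ h0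
  have hx'u : x' ≫ u.app (op (p + 1)) = 0 := by
    rw [← cancel_mono (st Y p), zero_comp, Category.assoc, ← st_nat u p, ← Category.assoc,
      ← hx', Category.assoc, Category.assoc, ← NatTrans.comp_app, kernel.condition]
    simp
  have hexk := (ShortComplex.exact_kernel u).map ((evaluation ℤᵒᵖ A).obj (op (p + 1)))
  obtain ⟨T₃, π₃, hπ₃, k₀, hk₀⟩ :=
    (ShortComplex.exact_iff_exact_up_to_refinements _).1 hexk _ hx'u
  let k : T₃ ⟶ (kernel u).obj (op (p + 1)) := k₀
  have hk : π₃ ≫ x' = k ≫ (kernel.ι u).app (op (p + 1)) := hk₀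
  haveI : Mono ((kernel.ι u).app (op p)) :=
    (NatTrans.mono_iff_mono_app (kernel.ι u)).1 inferInstance _
  have h1 : k ≫ st (kernel u) p = π₃ ≫ π₂ ≫ y₁ := by
    rw [← cancel_mono ((kernel.ι u).app (op p)), Category.assoc, st_nat (kernel.ι u) p,
      ← Category.assoc, ← hk, Category.assoc, ← hx']
    simp
  have h2 : (π₃ ≫ π₂ ≫ π₁) ≫ y = 0 := by
    calc (π₃ ≫ π₂ ≫ π₁) ≫ y = π₃ ≫ π₂ ≫ (π₁ ≫ y) := by simp only [Category.assoc]
      _ = (π₃ ≫ π₂ ≫ y₁) ≫ grπ (kernel u) p := by
          rw [hy₁]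
          simp only [Category.assoc]
      _ = 0 := by rw [← h1, Category.assoc, st_grπ, comp_zero]
  haveI : Epi (π₃ ≫ π₂ ≫ π₁) := epi_comp' hπ₃ (epi_comp' hπ₂ hπ₁)
  exact (cancel_epi (π₃ ≫ π₂ ≫ π₁)).1 (h2.trans comp_zero.symm)

variable (K : CochainComplex (FilF A) ℤ) (b : ℤ)

/-- the underlying complex in the functor category -/
noncomputable abbrev KB : CochainComplex (ℤᵒᵖ ⥤ A) ℤ :=
  ((IsFinFil A).ι.mapHomologicalComplex _).obj K

lemma MX_isFinFil (n : ℤ) : IsFinFil A ((M (KB K) b).X n) := by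
  let Y : FilF A := ⟨(K.X n).obj ⊞ (K.X (n + 1)).obj, biprod_isFinFil _ _⟩
  let u : K.X n ⟶ Y := ObjectProperty.homMk (θ (KB K) b n)
  exact kernel_isFinFil u

/-- the truncation as a complex of finite filtered objects -/
noncomputable def MF : CochainComplex (FilF A) ℤ where
  X n := ⟨(M (KB K) b).X n, MX_isFinFil K b n⟩
  d i j := ObjectProperty.homMk ((M (KB K) b).d i j)
  shape i j h := by
    ext1
    exact (M (KB K) b).shape i j h
  d_comp_d' i j k _ _ := by
    ext1
    exact (M (KB K) b).d_comp_d i j k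

/-- the inclusion of the truncation -/
noncomputable def φF : MF K b ⟶ K where
  f n := ObjectProperty.homMk ((φ (KB K) b).f n)
  comm' i j hij := by
    ext1
    exact (φ (KB K) b).comm' i j hij

theorem exists_trunc (hK : ∀ (p n : ℤ), b < n → IsZero (((grCx p).obj K).homology n)) :
    ∃ (M : CochainComplex (FilF A) ℤ) (φ : M ⟶ K), M.IsStrictlyLE b ∧ IsFilteredQuasiIso φ := by
  refine ⟨MF K b, φF K b, ?_, ?_⟩
  · rw [CochainComplex.isStrictlyLE_iff]
    intro n hn
    have hz : IsZero ((M (KB K) b).X n) := isZero_MX (KB K) b n hn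
    rw [IsZero.iff_id_eq_zero]
    ext1
    exact hz.eq_of_src _ _
  · intro p
    let S : ShortComplex (FilF A) :=
      ShortComplex.mk (K.d b (b + 1)) (K.d (b + 1) (b + 1 + 1)) (K.d_comp_d _ _ _)
    have hS : ∀ q : ℤ, (S.map (grF A q)).Exact := by
      intro q
      have h := hK q (b + 1) (by omega)
      rw [← HomologicalComplex.exactAt_iff_isZero_homology] at h
      exact (HomologicalComplex.exactAt_iff' _ b (b + 1) (b + 1 + 1) (by simp) (by simp)).1 h
    obtain ⟨-, hstrict, -⟩ := Groth.Agent.H1.FilDStrict.main S hS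
    have hex := gr_exact_of_strict (K.d b (b + 1)) hstrict p
    have hw : (φ (KB K) b).f b ≫ (K.d b (b + 1)).hom = 0 := ι_d_of_le (KB K) b b le_rfl
    refine quasiIso_of_trunc ((grCx p).map (φF K b)) b ?_ ?_ ?_ ?_ ?_ ?_
    · intro n hn
      haveI := isIso_φ_f (KB K) b n hn
      show IsIso ((gr A p).map ((φ (KB K) b).f n))
      infer_instance
    · show Mono ((gr A p).map (kernel.ι (θ (KB K) b b)))
      exact gr_kernel_ι_mono _ p ((biprod_isFinFil (K.X b) (K.X (b + 1))).1 (stepHom p))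
    · show (gr A p).map ((φ (KB K) b).f b) ≫ (gr A p).map (K.d b (b + 1)).hom = 0
      rw [← Functor.map_comp, hw, Functor.map_zero]
    · rw [ShortComplex.exact_iff_exact_up_to_refinements]
      intro T x hx
      obtain ⟨T', π, hπ, y, hy⟩ := (ShortComplex.exact_iff_exact_up_to_refinements _).1 hex x hx
      refine ⟨T', π, hπ, y ≫ (gr A p).map (toKer (KB K) b), hy.trans ?_⟩
      have e : (gr A p).map (toKer (KB K) b) ≫ (gr A p).map ((φ (KB K) b).f b) =
          (gr A p).map (kernel.ι (K.d b (b + 1)).hom) := by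
        rw [← Functor.map_comp]
        exact congrArg _ (toKer_ι (KB K) b)
      exact (congrArg (fun t => y ≫ t) e.symm).trans (Category.assoc _ _ _).symm
    · intro n hn
      show IsZero ((gr A p).obj (MX (KB K) b n))
      exact Functor.map_isZero _ (isZero_MX (KB K) b n hn)
    · intro n hn
      rw [HomologicalComplex.exactAt_iff_isZero_homology]
      exact hK p n hn

end Fil

end Groth.Agent.H1.FilDTrunc
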