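import Mathlib
import Groth.Prelude.Def_FilD
import Groth.Agent.Lib.helper1.FilDTrunc

/-! Filtered canonical truncation `τ_{≥ a}` (S1087) (helper1). -/

set_option autoImplicit false
universe v u v' u'
open CategoryTheory CategoryTheory.Limits Opposite

namespace Groth.Agent.H1.FilDTruncGE

open Groth.Agent.H1.FilDTrunc

section Gen

variable {C : Type u'} [Category.{v'} C] [Abelian C]

lemma quasiIso_of_cokernel {S₁ S₂ : ShortComplex C} (φ : S₁ ⟶ S₂) [IsIso φ.τ₃] (hf : S₂.f = 0)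
    [Epi φ.τ₂] (w : S₁.f ≫ φ.τ₂ = 0)
    (hex : (ShortComplex.mk S₁.f φ.τ₂ w).Exact) : ShortComplex.QuasiIso φ := by
  rw [← ShortComplex.quasiIso_opMap_iff]
  haveI : IsIso (ShortComplex.opMap φ).τ₁ := (inferInstance : IsIso φ.τ₃.op)
  haveI : Mono (ShortComplex.opMap φ).τ₂ := (inferInstance : Mono φ.τ₂.op)
  have hg : S₂.op.g = 0 := by
    show S₂.f.op = 0
    rw [hf]
    rfl
  have w' : (ShortComplex.opMap φ).τ₂ ≫ S₁.op.g = 0 := by
    show φ.τ₂.op ≫ S₁.f.op = 0
    rw [← op_comp, w]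
    rfl
  exact quasiIso_of_kernel (ShortComplex.opMap φ) hg w' hex.op

lemma quasiIso_of_truncGE {K L : CochainComplex C ℤ} (ψ : K ⟶ L) (a : ℤ)
    (h1 : ∀ n, a < n → IsIso (ψ.f n))
    (h2 : Epi (ψ.f a))
    (w : K.d (a - 1) a ≫ ψ.f a = 0)
    (h2' : (ShortComplex.mk (K.d (a - 1) a) (ψ.f a) w).Exact)
    (h3 : ∀ n, n < a → IsZero (L.X n))
    (h4 : ∀ n, n < a → K.ExactAt n) : QuasiIso ψ := by
  rw [quasiIso_iff]
  intro n
  rcases lt_trichotomy n a with hn | hn | hn
  · rw [quasiIsoAt_iff_exactAt' ψ n (ShortComplex.exact_of_isZero_X₂ _ (h3 n hn))]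
    exact h4 n hn
  · subst hn
    rw [quasiIsoAt_iff' ψ (n - 1) n (n + 1) (by simp) (by simp)]
    haveI : IsIso (((HomologicalComplex.shortComplexFunctor' C (ComplexShape.up ℤ)
        (n - 1) n (n + 1)).map ψ).τ₃) := h1 (n + 1) (by omega)
    haveI : Epi (((HomologicalComplex.shortComplexFunctor' C (ComplexShape.up ℤ)
        (n - 1) n (n + 1)).map ψ).τ₂) := h2
    refine quasiIso_of_cokernel _ ?_ w h2'
    exact (h3 (n - 1) (by omega)).eq_of_src _ _
  · rw [quasiIsoAt_iff' ψ (n - 1) n (n + 1) (by simp) (by simp)]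
    haveI : IsIso (((HomologicalComplex.shortComplexFunctor' C (ComplexShape.up ℤ)
        (n - 1) n (n + 1)).map ψ).τ₃) := h1 (n + 1) (by omega)
    haveI : IsIso (((HomologicalComplex.shortComplexFunctor' C (ComplexShape.up ℤ)
        (n - 1) n (n + 1)).map ψ).τ₂) := h1 n hn
    haveI : Epi (((HomologicalComplex.shortComplexFunctor' C (ComplexShape.up ℤ)
        (n - 1) n (n + 1)).map ψ).τ₁) := by
      show Epi (ψ.f (n - 1))
      by_cases hb : n - 1 = a
      · rw [hb]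
        exact h2
      · haveI := h1 (n - 1) (by omega)
        infer_instance
    exact ShortComplex.quasiIso_of_epi_of_isIso_of_mono _

end Gen

section Constr

variable {B : Type u'} [Category.{v'} B] [Abelian B] (K : CochainComplex B ℤ) (a : ℤ)

/-- the map whose cokernel is the truncation -/
noncomputable def θ' (m n : ℤ) : K.X m ⊞ K.X n ⟶ K.X n :=
  biprod.desc (if n ≤ a then K.d m n else 0) (if n < a then 𝟙 _ else 0)

lemma θ'_of_lt (m n : ℤ) (hn : a < n) : θ' K a m n = 0 := by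
  unfold θ'
  rw [if_neg (by omega), if_neg (by omega)]
  apply biprod.hom_ext' <;> simp

lemma inl_θ'_of_le (m n : ℤ) (hn : n ≤ a) : biprod.inl ≫ θ' K a m n = K.d m n := by
  unfold θ'
  rw [biprod.inl_desc, if_pos hn]

lemma inr_θ'_of_lt (m n : ℤ) (hn : n < a) : biprod.inr ≫ θ' K a m n = 𝟙 _ := by
  unfold θ'
  rw [biprod.inr_desc, if_pos hn]

lemma d_π (m n : ℤ) (hn : n ≤ a) : K.d m n ≫ cokernel.π (θ' K a (n - 1) n) = 0 := by
  by_cases h : m + 1 = n
  · obtain rfl : m = n - 1 := by omega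
    rw [← inl_θ'_of_le K a (n - 1) n hn, Category.assoc, cokernel.condition, comp_zero]
  · rw [K.shape m n h, zero_comp]

lemma θ'_d_π (n : ℤ) :
    θ' K a (n - 1) n ≫ K.d n (n + 1) ≫ cokernel.π (θ' K a (n + 1 - 1) (n + 1)) = 0 := by
  apply biprod.hom_ext'
  · rw [comp_zero, ← Category.assoc]
    unfold θ'
    rw [biprod.inl_desc]
    by_cases h : n ≤ a
    · rw [if_pos h, K.d_comp_d_assoc, zero_comp]
    · rw [if_neg h, zero_comp]
  · rw [comp_zero, ← Category.assoc]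
    by_cases h : n < a
    · rw [inr_θ'_of_lt K a _ n h, Category.id_comp]
      exact d_π K a n (n + 1) (by omega)
    · unfold θ'
      rw [biprod.inr_desc, if_neg h, zero_comp]

/-- the objects of the truncation -/
noncomputable abbrev LX (n : ℤ) : B := cokernel (θ' K a (n - 1) n)

/-- the differential of the truncation -/
noncomputable def Ld (n : ℤ) : LX K a n ⟶ LX K a (n + 1) :=
  cokernel.desc _ (K.d n (n + 1) ≫ cokernel.π (θ' K a (n + 1 - 1) (n + 1))) (θ'_d_π K a n)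

lemma π_Ld (n : ℤ) : cokernel.π (θ' K a (n - 1) n) ≫ Ld K a n =
    K.d n (n + 1) ≫ cokernel.π (θ' K a (n + 1 - 1) (n + 1)) :=
  cokernel.π_desc _ _ _

lemma Ld_Ld (n : ℤ) : Ld K a n ≫ Ld K a (n + 1) = 0 := by
  rw [← cancel_epi (cokernel.π (θ' K a (n - 1) n)), comp_zero, ← Category.assoc, π_Ld,
    Category.assoc, π_Ld, ← Category.assoc, K.d_comp_d, zero_comp]

/-- the truncation `τ_{≥ a} K` -/
noncomputable def L : CochainComplex B ℤ := CochainComplex.of (LX K a) (Ld K a) (Ld_Ld K a)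

/-- the projection `K ⟶ τ_{≥ a} K` -/
noncomputable def ψ : K ⟶ L K a where
  f n := cokernel.π (θ' K a (n - 1) n)
  comm' i j hij := by
    have : i + 1 = j := hij
    subst this
    have hd : (L K a).d i (i + 1) = Ld K a i := CochainComplex.of_d _ _ _
    rw [hd]
    exact (π_Ld K a i)

lemma isZero_LX (n : ℤ) (hn : n < a) : IsZero (LX K a n) := by
  haveI : Epi (θ' K a (n - 1) n) := epi_of_epi_fac (inr_θ'_of_lt K a (n - 1) n hn)
  exact isZero_cokernel_of_epi _

lemma isIso_ψ_f (n : ℤ) (hn : a < n) : IsIso ((ψ K a).f n) := by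
  have key : ∀ {X Y : B} (f : X ⟶ Y), f = 0 → IsIso (cokernel.π f) := by
    intro X Y f hf
    subst hf
    infer_instance
  exact key _ (θ'_of_lt K a (n - 1) n hn)

/-- comparison with the cokernel of `d` at `a` -/
noncomputable def fromCoker : LX K a a ⟶ cokernel (K.d (a - 1) a) :=
  cokernel.desc _ (cokernel.π (K.d (a - 1) a)) (by
    apply biprod.hom_ext'
    · rw [comp_zero, ← Category.assoc, inl_θ'_of_le K a (a - 1) a le_rfl, cokernel.condition]
    · unfold θ'
      rw [comp_zero, ← Category.assoc, biprod.inr_desc, if_neg (lt_irrefl a), zero_comp])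

lemma ψ_fromCoker : (ψ K a).f a ≫ fromCoker K a = cokernel.π (K.d (a - 1) a) :=
  cokernel.π_desc _ _ _

end Constr

section Fil

open FilD Groth.Agent.H1.FilDStrict Groth.Agent.H1.FilDInj Groth.Agent.H1.FilDCone
  Groth.Agent.H1.ARSysML

variable {A : Type u} [Category.{v} A] [Abelian A]

/-- elementwise strictness -/
def EStrict {X Y : ℤᵒᵖ ⥤ A} (u : X ⟶ Y) : Prop :=
  ∀ (p q : ℤ) (h : p ≤ q) (T : A) (y : T ⟶ Y.obj (op q)) (x : T ⟶ X.obj (op p)),
    y ≫ tm Y h = x ≫ u.app (op p) →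
    ∃ (T' : A) (π : T' ⟶ T) (_ : Epi π) (x' : T' ⟶ X.obj (op q)), π ≫ y = x' ≫ u.app (op q)

lemma eStrict_of_isStrict {X Y : FilF A} (u : X ⟶ Y) (hu : IsStrict u) : EStrict u.hom := by
  intro p q h T y x hyx
  haveI : Mono (tm Y.obj h) := Y.property.1 _
  have e := hu p q h
  have f1 : (imageSubobject (u.hom.app (op p))).Factors (y ≫ tm Y.obj h) := by
    rw [imageSubobject_factors_iff]
    exact ⟨T, 𝟙 T, inferInstance, x, by rw [Category.id_comp, hyx]⟩
  have f2 : (Subobject.mk (tm Y.obj h)).Factors (y ≫ tm Y.obj h) :=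
    Subobject.factors_of_factors_right y (Subobject.mk_factors_self (tm Y.obj h))
  have f3 : (imageSubobject (u.hom.app (op q) ≫ tm Y.obj h)).Factors (y ≫ tm Y.obj h) := by
    rw [e]
    exact (Subobject.inf_factors _).2 ⟨f1, f2⟩
  obtain ⟨T', π, hπ, x', hx'⟩ := (imageSubobject_factors_iff _ _).1 f3
  refine ⟨T', π, hπ, x', ?_⟩
  rw [← cancel_mono (tm Y.obj h), Category.assoc, Category.assoc, hx']

lemma eStrict_desc_id {X Y : ℤᵒᵖ ⥤ A} (f : X ⟶ Y) : EStrict (biprod.desc f (𝟙 Y)) := by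
  intro p q h T y x _
  refine ⟨T, 𝟙 T, inferInstance, y ≫ (biprod.inr : Y ⟶ X ⊞ Y).app (op q), ?_⟩
  rw [Category.id_comp, Category.assoc, ← NatTrans.comp_app, biprod.inr_desc, NatTrans.id_app,
    Category.comp_id]

lemma eStrict_zero {X Y : ℤᵒᵖ ⥤ A} (hY : ∀ (p q : ℤ) (h : p ≤ q), Mono (tm Y h)) :
    EStrict (0 : X ⟶ Y) := by
  intro p q h T y x hyx
  haveI := hY p q h
  have hy : y = 0 := by
    rw [← cancel_mono (tm Y h), hyx, zero_comp]
    simp
  refine ⟨T, 𝟙 T, inferInstance, 0, ?_⟩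
  rw [hy, comp_zero, zero_comp]

lemma eStrict_desc_zero {X Y Z : ℤᵒᵖ ⥤ A} (f : X ⟶ Y) (hf : EStrict f) :
    EStrict (biprod.desc f (0 : Z ⟶ Y)) := by
  have hd : biprod.desc f (0 : Z ⟶ Y) = biprod.fst ≫ f := by
    apply biprod.hom_ext' <;> simp
  intro p q h T y x hyx
  rw [hd, NatTrans.comp_app, ← Category.assoc] at hyx
  obtain ⟨T', π, hπ, x', hx'⟩ := hf p q h T y _ hyx
  refine ⟨T', π, hπ, x' ≫ (biprod.inl : X ⟶ X ⊞ Z).app (op q), ?_⟩
  rw [hx', hd, Category.assoc, ← NatTrans.comp_app, biprod.inl_fst_assoc]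

lemma cokernel_isFinFil {X Y : FilF A} (u : X ⟶ Y) (hu : EStrict u.hom) :
    IsFinFil A (cokernel u.hom) := by
  let c := cokernel.π u.hom
  have hcepi : ∀ j : ℤᵒᵖ, Epi (c.app j) := fun j => (NatTrans.epi_iff_epi_app c).1 inferInstance j
  have hmono : ∀ ⦃q' p' : ℤᵒᵖ⦄ (f : q' ⟶ p'), Mono ((cokernel u.hom).map f) := by
    intro q' p' f
    induction q' using Opposite.rec with | _ q => ?_
    induction p' using Opposite.rec with | _ p => ?_
    have h : p ≤ q := leOfHom f.unop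
    have hf : f = (homOfLE h).op := Quiver.Hom.unop_inj (Subsingleton.elim _ _)
    subst hf
    rw [Preadditive.mono_iff_cancel_zero]
    intro T z hz
    haveI := hcepi (op q)
    obtain ⟨T₁, π₁, hπ₁, y, hy⟩ := surjective_up_to_refinements_of_epi (c.app (op q)) z
    have h0 : (y ≫ tm Y.obj h) ≫ c.app (op p) = 0 := by
      rw [Category.assoc, tm_nat c h, ← Category.assoc, ← hy, Category.assoc]
      exact (congrArg (fun t => π₁ ≫ t) hz).trans comp_zero
    have hexc := (ShortComplex.exact_cokernel u.hom).map ((evaluation ℤᵒᵖ A).obj (op p))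
    obtain ⟨T₂, π₂, hπ₂, x₀, hx₀⟩ :=
      (ShortComplex.exact_iff_exact_up_to_refinements _).1 hexc _ h0
    let x : T₂ ⟶ X.obj.obj (op p) := x₀
    have hx : π₂ ≫ y ≫ tm Y.obj h = x ≫ u.hom.app (op p) := hx₀
    obtain ⟨T₃, π₃, hπ₃, x', hx'⟩ := hu p q h T₂ (π₂ ≫ y) x (by rw [Category.assoc]; exact hx)
    have h2 : (π₃ ≫ π₂ ≫ π₁) ≫ z = 0 := by
      calc (π₃ ≫ π₂ ≫ π₁) ≫ z = π₃ ≫ π₂ ≫ (π₁ ≫ z) := by simp only [Category.assoc]
        _ = (π₃ ≫ π₂ ≫ y) ≫ c.app (op q) := by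
            rw [hy]
            simp only [Category.assoc]
        _ = 0 := by
            rw [hx', Category.assoc, ← NatTrans.comp_app, cokernel.condition]
            simp
    haveI : Epi (π₃ ≫ π₂ ≫ π₁) := epi_comp' hπ₃ (epi_comp' hπ₂ hπ₁)
    exact (cancel_epi (π₃ ≫ π₂ ≫ π₁)).1 (h2.trans comp_zero.symm)
  refine ⟨hmono, ?_, ?_⟩
  · obtain ⟨b, hb⟩ := Y.property.2.1
    refine ⟨b, fun p hp => ?_⟩
    haveI := hcepi (op p)
    rw [IsZero.iff_id_eq_zero, ← cancel_epi (c.app (op p)), comp_zero]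
    exact (hb p hp).eq_of_src _ _
  · obtain ⟨a₂, ha₂⟩ := Y.property.2.2
    refine ⟨a₂, fun p q f hp => ?_⟩
    haveI := hmono f
    haveI : IsIso (Y.obj.map f) := ha₂ f hp
    haveI := hcepi q
    haveI := hcepi p
    haveI : Epi ((cokernel u.hom).map f) := by
      have hn : c.app p ≫ (cokernel u.hom).map f = Y.obj.map f ≫ c.app q := (c.naturality f).symm
      haveI : Epi (c.app p ≫ (cokernel u.hom).map f) := by
        rw [hn]
        exact epi_comp _ _
      exact epi_of_epi (c.app p) _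
    exact isIso_of_mono_of_epi _

lemma gr_cokernel_π_epi {X Y : ℤᵒᵖ ⥤ A} (u : X ⟶ Y) (p : ℤ) :
    Epi ((gr A p).map (cokernel.π u)) := by
  haveI : Epi ((cokernel.π u).app (op p)) := (NatTrans.epi_iff_epi_app _).1 inferInstance _
  have h : grπ Y p ≫ (gr A p).map (cokernel.π u) =
      (cokernel.π u).app (op p) ≫ grπ (cokernel u) p := grπ_map _ p
  haveI : Epi (grπ Y p ≫ (gr A p).map (cokernel.π u)) := by
    rw [h]
    exact epi_comp _ _
  exact epi_of_epi (grπ Y p) _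

lemma gr_cokernel_exact {X Y : ℤᵒᵖ ⥤ A} (u : X ⟶ Y) (p : ℤ) :
    (ShortComplex.mk ((gr A p).map u) ((gr A p).map (cokernel.π u))
      (by rw [← Functor.map_comp, cokernel.condition, Functor.map_zero])).Exact := by
  rw [ShortComplex.exact_iff_exact_up_to_refinements]
  intro T y hy
  have hy' : y ≫ (gr A p).map (cokernel.π u) = 0 := hy
  let c := cokernel.π u
  obtain ⟨T₁, π₁, hπ₁, y₁, hy₁⟩ := surjective_up_to_refinements_of_epi (grπ Y p) y
  have h0 : (y₁ ≫ c.app (op p)) ≫ grπ (cokernel u) p = 0 := by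
    rw [Category.assoc, ← grπ_map, ← Category.assoc, ← hy₁, Category.assoc]
    exact (congrArg (fun t => π₁ ≫ t) hy').trans comp_zero
  obtain ⟨T₂, π₂, hπ₂, z, hz⟩ := exists_lift_of_grπ_zero (cokernel u) p _ h0
  haveI : Epi (c.app (op (p + 1))) := (NatTrans.epi_iff_epi_app c).1 inferInstance _
  obtain ⟨T₃, π₃, hπ₃, y₂, hy₂⟩ := surjective_up_to_refinements_of_epi (c.app (op (p + 1))) z
  have h1 : (π₃ ≫ π₂ ≫ y₁ - y₂ ≫ st Y p) ≫ c.app (op p) = 0 := by
    rw [Preadditive.sub_comp, Category.assoc, Category.assoc, hz, Category.assoc, st_nat c p,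
      ← Category.assoc y₂, ← hy₂, Category.assoc, sub_self]
  have hexc := (ShortComplex.exact_cokernel u).map ((evaluation ℤᵒᵖ A).obj (op p))
  obtain ⟨T₄, π₄, hπ₄, x₀, hx₀⟩ :=
    (ShortComplex.exact_iff_exact_up_to_refinements _).1 hexc _ h1
  let x : T₄ ⟶ X.obj (op p) := x₀
  have hx : π₄ ≫ (π₃ ≫ π₂ ≫ y₁ - y₂ ≫ st Y p) = x ≫ u.app (op p) := hx₀
  refine ⟨T₄, π₄ ≫ π₃ ≫ π₂ ≫ π₁, epi_comp' hπ₄ (epi_comp' hπ₃ (epi_comp' hπ₂ hπ₁)),
    x ≫ grπ X p, ?_⟩
  show (π₄ ≫ π₃ ≫ π₂ ≫ π₁) ≫ y = (x ≫ grπ X p) ≫ (gr A p).map u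
  calc (π₄ ≫ π₃ ≫ π₂ ≫ π₁) ≫ y = π₄ ≫ π₃ ≫ π₂ ≫ (π₁ ≫ y) := by simp only [Category.assoc]
    _ = (π₄ ≫ (π₃ ≫ π₂ ≫ y₁ - y₂ ≫ st Y p)) ≫ grπ Y p := by
        rw [hy₁, Preadditive.comp_sub, Preadditive.sub_comp]
        simp only [Category.assoc, st_grπ, comp_zero, sub_zero]
    _ = (x ≫ grπ X p) ≫ (gr A p).map u := by
        rw [hx, Category.assoc, Category.assoc, grπ_map]

variable (K : CochainComplex (FilF A) ℤ) (a : ℤ)

lemma eStrict_θ' (hs : IsStrict (K.d (a - 1) a)) (n : ℤ) :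
    EStrict (θ' (KB K) a (n - 1) n) := by
  rcases lt_trichotomy n a with hn | hn | hn
  · have : θ' (KB K) a (n - 1) n = biprod.desc ((KB K).d (n - 1) n) (𝟙 _) := by
      unfold θ'
      rw [if_pos (le_of_lt hn), if_pos hn]
    rw [this]
    exact eStrict_desc_id _
  · subst hn
    have : θ' (KB K) n (n - 1) n = biprod.desc ((KB K).d (n - 1) n) 0 := by
      unfold θ'
      rw [if_pos le_rfl, if_neg (lt_irrefl n)]
    rw [this]
    exact eStrict_desc_zero _ (eStrict_of_isStrict _ hs)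
  · rw [θ'_of_lt (KB K) a (n - 1) n hn]
    exact eStrict_zero (fun p q h => (K.X n).property.1 _)

lemma LX_isFinFil (hs : IsStrict (K.d (a - 1) a)) (n : ℤ) :
    IsFinFil A ((L (KB K) a).X n) := by
  let X₀ : FilF A := ⟨(K.X (n - 1)).obj ⊞ (K.X n).obj, biprod_isFinFil _ _⟩
  let u : X₀ ⟶ K.X n := ObjectProperty.homMk (θ' (KB K) a (n - 1) n)
  exact cokernel_isFinFil u (eStrict_θ' K a hs n)

/-- the truncation as a complex of finite filtered objects -/
noncomputable def LF (hs : IsStrict (K.d (a - 1) a)) : CochainComplex (FilF A) ℤ where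
  X n := ⟨(L (KB K) a).X n, LX_isFinFil K a hs n⟩
  d i j := ObjectProperty.homMk ((L (KB K) a).d i j)
  shape i j h := by
    ext1
    exact (L (KB K) a).shape i j h
  d_comp_d' i j k _ _ := by
    ext1
    exact (L (KB K) a).d_comp_d i j k

/-- the projection to the truncation -/
noncomputable def ψF (hs : IsStrict (K.d (a - 1) a)) : K ⟶ LF K a hs where
  f n := ObjectProperty.homMk ((ψ (KB K) a).f n)
  comm' i j hij := by
    ext1
    exact (ψ (KB K) a).comm' i j hij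

theorem exists_truncGE (hK : ∀ (p n : ℤ), n < a → IsZero (((grCx p).obj K).homology n)) :
    ∃ (L : CochainComplex (FilF A) ℤ) (φ : K ⟶ L), L.IsStrictlyGE a ∧ IsFilteredQuasiIso φ := by
  let S : ShortComplex (FilF A) :=
    ShortComplex.mk (K.d (a - 1 - 1) (a - 1)) (K.d (a - 1) a) (K.d_comp_d _ _ _)
  have hS : ∀ q : ℤ, (S.map (grF A q)).Exact := by
    intro q
    have h := hK q (a - 1) (by omega)
    rw [← HomologicalComplex.exactAt_iff_isZero_homology] at h
    exact (HomologicalComplex.exactAt_iff' _ (a - 1 - 1) (a - 1) a (by simp) (by simp)).1 h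
  obtain ⟨-, -, hs⟩ := Groth.Agent.H1.FilDStrict.main S hS
  have hs' : IsStrict (K.d (a - 1) a) := hs
  refine ⟨LF K a hs', ψF K a hs', ?_, ?_⟩
  · rw [CochainComplex.isStrictlyGE_iff]
    intro n hn
    have hz : IsZero ((L (KB K) a).X n) := isZero_LX (KB K) a n hn
    rw [IsZero.iff_id_eq_zero]
    ext1
    exact hz.eq_of_src _ _
  · intro p
    have hw : (K.d (a - 1) a).hom ≫ (ψ (KB K) a).f a = 0 := d_π (KB K) a (a - 1) a le_rfl
    refine quasiIso_of_truncGE ((grCx p).map (ψF K a hs')) a ?_ ?_ ?_ ?_ ?_ ?_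
    · intro n hn
      haveI := isIso_ψ_f (KB K) a n hn
      show IsIso ((gr A p).map ((ψ (KB K) a).f n))
      infer_instance
    · show Epi ((gr A p).map (cokernel.π (θ' (KB K) a (a - 1) a)))
      exact gr_cokernel_π_epi _ p
    · show (gr A p).map (K.d (a - 1) a).hom ≫ (gr A p).map ((ψ (KB K) a).f a) = 0
      rw [← Functor.map_comp, hw, Functor.map_zero]
    · rw [ShortComplex.exact_iff_exact_up_to_refinements]
      intro T x hx
      have hx0 : x ≫ (gr A p).map ((ψ (KB K) a).f a) = 0 := hx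
      have e : (gr A p).map ((ψ (KB K) a).f a) ≫ (gr A p).map (fromCoker (KB K) a) =
          (gr A p).map (cokernel.π (K.d (a - 1) a).hom) := by
        rw [← Functor.map_comp]
        exact congrArg _ (ψ_fromCoker (KB K) a)
      have hx' : x ≫ (gr A p).map (cokernel.π (K.d (a - 1) a).hom) = 0 := by
        rw [← e]
        exact ((Category.assoc _ _ _).symm.trans
          (congrArg (fun t => t ≫ (gr A p).map (fromCoker (KB K) a)) hx0)).trans zero_comp
      exact (ShortComplex.exact_iff_exact_up_to_refinements _).1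
        (gr_cokernel_exact (K.d (a - 1) a).hom p) x hx'
    · intro n hn
      show IsZero ((gr A p).obj (LX (KB K) a n))
      exact Functor.map_isZero _ (isZero_LX (KB K) a n hn)
    · intro n hn
      rw [HomologicalComplex.exactAt_iff_isZero_homology]
      exact hK p n hn

end Fil

end Groth.Agent.H1.FilDTruncGE
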