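import Mathlib
import Groth.Prelude.Def_FilD
import Groth.Agent.Lib.helper1.FilDEmb
import Groth.Agent.Lib.helper1.FilDTruncGE

/-! Filtered injective resolutions of a single finite filtered object (S1089) (helper1). -/

set_option autoImplicit false
universe v u v' u'
open CategoryTheory CategoryTheory.Limits Opposite

namespace Groth.Agent.H1.FilDRes

section Ext

open ZeroObject

variable {V : Type u'} [Category.{v'} V] [HasZeroMorphisms V] [HasZeroObject V]

/-- objects of the extension by zero of an `ℕ`-indexed sequence -/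
noncomputable def IX (J : ℕ → V) : ℤ → V
  | Int.ofNat k => J k
  | Int.negSucc _ => 0

/-- differentials of the extension by zero -/
noncomputable def IXd (J : ℕ → V) (d : ∀ k, J k ⟶ J (k + 1)) : ∀ n : ℤ, IX J n ⟶ IX J (n + 1)
  | Int.ofNat k => d k
  | Int.negSucc _ => 0

lemma IXd_sq (J : ℕ → V) (d : ∀ k, J k ⟶ J (k + 1)) (hd : ∀ k, d k ≫ d (k + 1) = 0) :
    ∀ n : ℤ, IXd J d n ≫ IXd J d (n + 1) = 0
  | Int.ofNat k => hd k
  | Int.negSucc _ => zero_comp

/-- the `ℤ`-indexed cochain complex extending an `ℕ`-indexed one by zero -/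
noncomputable def IC (J : ℕ → V) (d : ∀ k, J k ⟶ J (k + 1)) (hd : ∀ k, d k ≫ d (k + 1) = 0) :
    CochainComplex V ℤ :=
  CochainComplex.of (IX J) (IXd J d) (IXd_sq J d hd)

lemma IC_d (J : ℕ → V) (d : ∀ k, J k ⟶ J (k + 1)) (hd : ∀ k, d k ≫ d (k + 1) = 0) (k : ℕ) :
    (IC J d hd).d (k : ℤ) ((k : ℤ) + 1) = d k := CochainComplex.of_d (IX J) (IXd J d) (k : ℤ)

end Ext

section Res

open FilD Groth.Agent.H1.FilDStrict Groth.Agent.H1.FilDInj Groth.Agent.H1.FilDEmb
  Groth.Agent.H1.FilDTruncGE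

variable {A : Type u} [Category.{v} A] [Abelian A]

lemma gr_mono_of_strict_mono {X Y : FilF A} (u : X ⟶ Y) [Mono u] (hu : IsStrict u) (p : ℤ) :
    Mono ((gr A p).map u.hom) := by
  have hmono : ∀ q : ℤᵒᵖ, Mono (u.hom.app q) := by
    intro q
    induction q using Opposite.rec with | _ q => ?_
    exact mono_app_of_mono u q
  haveI : Mono u.hom := NatTrans.mono_of_mono_app _
  have hex := gr_exact_of_strict u hu p
  have h0 : kernel.ι u.hom = 0 := kernel.ι_of_mono _
  exact (ShortComplex.exact_iff_mono _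
    (show (gr A p).map (kernel.ι u.hom) = 0 by rw [h0, Functor.map_zero])).1 hex

variable [EnoughInjectives A]

/-- a chosen filtered injective containing `Y` -/
noncomputable def emb (Y : FilF A) : FilF A := (exists_embedding Y).choose

/-- the chosen strict mono -/
noncomputable def embMap (Y : FilF A) : Y ⟶ emb Y := (exists_embedding Y).choose_spec.choose

lemma emb_spec (Y : FilF A) :
    IsFilteredInjective (emb Y) ∧ Mono (embMap Y) ∧ IsStrict (embMap Y) :=
  (exists_embedding Y).choose_spec.choose_spec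

/-- the cokernel of the chosen embedding -/
noncomputable def cokerObj (Y : FilF A) : FilF A :=
  ⟨cokernel (embMap Y).hom, cokernel_isFinFil _ (eStrict_of_isStrict _ (emb_spec Y).2.2)⟩

/-- the projection to the cokernel -/
noncomputable def cokerπ (Y : FilF A) : emb Y ⟶ cokerObj Y :=
  ObjectProperty.homMk (cokernel.π (embMap Y).hom)

lemma embMap_cokerπ (Y : FilF A) : embMap Y ≫ cokerπ Y = 0 := by
  ext1
  exact cokernel.condition _

variable (X : FilF A)

/-- the successive cokernels -/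
noncomputable def Xs : ℕ → FilF A
  | 0 => X
  | k + 1 => cokerObj (Xs k)

/-- the filtered injectives -/
noncomputable def Js (k : ℕ) : FilF A := emb (Xs X k)

/-- the embeddings -/
noncomputable def us (k : ℕ) : Xs X k ⟶ Js X k := embMap (Xs X k)

/-- the projections -/
noncomputable def cs (k : ℕ) : Js X k ⟶ Xs X (k + 1) := cokerπ (Xs X k)

/-- the differentials -/
noncomputable def ds (k : ℕ) : Js X k ⟶ Js X (k + 1) := cs X k ≫ us X (k + 1)

lemma us_cs (k : ℕ) : us X k ≫ cs X k = 0 := embMap_cokerπ _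

lemma us_ds (k : ℕ) : us X k ≫ ds X k = 0 := by
  unfold ds
  rw [← Category.assoc, us_cs, zero_comp]

lemma ds_ds (k : ℕ) : ds X k ≫ ds X (k + 1) = 0 := by
  unfold ds
  rw [Category.assoc, ← Category.assoc (us X (k + 1)), us_cs, zero_comp, comp_zero]

instance us_mono (k : ℕ) : Mono (us X k) := (emb_spec _).2.1

lemma gr_us_mono (k : ℕ) (p : ℤ) : Mono ((gr A p).map (us X k).hom) := by
  haveI : Mono (embMap (Xs X k)) := (emb_spec _).2.1
  exact gr_mono_of_strict_mono (embMap (Xs X k)) (emb_spec _).2.2 p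

lemma gr_cs_epi (k : ℕ) (p : ℤ) : Epi ((gr A p).map (cs X k).hom) :=
  gr_cokernel_π_epi _ p

lemma E0 (k : ℕ) (p : ℤ) {T : A} (x : T ⟶ (gr A p).obj (Js X k).obj)
    (hx : x ≫ (gr A p).map (cs X k).hom = 0) :
    ∃ (T' : A) (π : T' ⟶ T) (_ : Epi π) (y : T' ⟶ (gr A p).obj (Xs X k).obj),
      π ≫ x = y ≫ (gr A p).map (us X k).hom :=
  (ShortComplex.exact_iff_exact_up_to_refinements _).1
    (gr_cokernel_exact (embMap (Xs X k)).hom p) x hx

lemma E1 (k : ℕ) (p : ℤ) {T : A} (x : T ⟶ (gr A p).obj (Js X k).obj)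
    (hx : x ≫ (gr A p).map (ds X k).hom = 0) :
    ∃ (T' : A) (π : T' ⟶ T) (_ : Epi π) (y : T' ⟶ (gr A p).obj (Xs X k).obj),
      π ≫ x = y ≫ (gr A p).map (us X k).hom := by
  apply E0
  haveI := gr_us_mono X (k + 1) p
  rw [← cancel_mono ((gr A p).map (us X (k + 1)).hom), zero_comp, Category.assoc,
    ← Functor.map_comp]
  exact hx

lemma E2 (k : ℕ) (p : ℤ) {T : A} (x : T ⟶ (gr A p).obj (Js X (k + 1)).obj)
    (hx : x ≫ (gr A p).map (ds X (k + 1)).hom = 0) :
    ∃ (T' : A) (π : T' ⟶ T) (_ : Epi π) (z : T' ⟶ (gr A p).obj (Js X k).obj),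
      π ≫ x = z ≫ (gr A p).map (ds X k).hom := by
  obtain ⟨T₁, π₁, hπ₁, y, hy⟩ := E1 X (k + 1) p x hx
  haveI := gr_cs_epi X k p
  obtain ⟨T₂, π₂, hπ₂, z, hz⟩ :=
    surjective_up_to_refinements_of_epi ((gr A p).map (cs X k).hom) y
  refine ⟨T₂, π₂ ≫ π₁, epi_comp' hπ₂ hπ₁, z, ?_⟩
  have hd : (gr A p).map (ds X k).hom =
      (gr A p).map (cs X k).hom ≫ (gr A p).map (us X (k + 1)).hom := by
    rw [← Functor.map_comp]
    rfl
  rw [Category.assoc, hy, ← Category.assoc, hz, Category.assoc, hd]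

/-- the resolution complex -/
noncomputable def I : CochainComplex (FilF A) ℤ := IC (Js X) (ds X) (ds_ds X)

lemma I_d (k : ℕ) : (I X).d (k : ℤ) ((k : ℤ) + 1) = ds X k := IC_d _ _ _ k

/-- the augmentation -/
noncomputable def aug : (CochainComplex.singleFunctor (FilF A) 0).obj X ⟶ I X :=
  HomologicalComplex.mkHomFromSingle (us X 0) (by
    intro k hk
    have : (0 : ℤ) + 1 = k := hk
    subst this
    have h := I_d X 0
    have h' : (I X).d 0 (0 + 1) = ds X 0 := h
    rw [h']
    exact us_ds X 0)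

open ZeroObject in
lemma isFilteredInjective_zero : IsFilteredInjective (0 : FilF A) := by
  intro p
  have hz : IsZero ((grF A p).obj (0 : FilF A)) := Functor.map_isZero _ (isZero_zero _)
  exact ⟨fun g f => ⟨0, hz.eq_of_tgt _ _⟩⟩

lemma I_isStrictlyGE : (I X).IsStrictlyGE 0 := by
  rw [CochainComplex.isStrictlyGE_iff]
  intro i hi
  rcases i with k | m
  · exfalso
    have h0 : (0 : ℤ) ≤ Int.ofNat k := Int.natCast_nonneg k
    exact absurd hi (not_lt.2 h0)
  · exact isZero_zero _

lemma I_filteredInjective (n : ℤ) : IsFilteredInjective ((I X).X n) := by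
  rcases n with k | m
  · exact (emb_spec (Xs X k)).1
  · exact isFilteredInjective_zero

lemma aug_f_zero : (aug X).f 0 =
    (HomologicalComplex.singleObjXSelf (ComplexShape.up ℤ) 0 X).hom ≫ us X 0 :=
  HomologicalComplex.mkHomFromSingle_f _ _

theorem aug_quasiIso : IsFilteredQuasiIso (aug X) := by
  intro p
  rw [quasiIso_iff]
  intro n
  have hsrc : ∀ m : ℤ, m ≠ 0 →
      IsZero (((grCx p).obj ((CochainComplex.singleFunctor (FilF A) 0).obj X)).X m) := by
    intro m hm
    exact Functor.map_isZero (grF A p)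
      (HomologicalComplex.isZero_single_obj_X (ComplexShape.up ℤ) 0 X m hm)
  have exactAt_of_isZero : ∀ (K : CochainComplex A ℤ) (i : ℤ), IsZero (K.X i) → K.ExactAt i :=
    fun K i h => ShortComplex.exact_of_isZero_X₂ (K.sc i) h
  rcases n with k | m
  · rcases k with _ | k
    · -- degree 0
      show QuasiIsoAt ((grCx p).map (aug X)) (0 : ℤ)
      rw [quasiIsoAt_iff' _ (-1) 0 1 (by simp) (by simp)]
      have hz1 : IsZero (((grCx p).obj (I X)).X (-1)) :=
        Functor.map_isZero (grF A p) (isZero_zero _)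
      haveI : IsIso (((HomologicalComplex.shortComplexFunctor' A (ComplexShape.up ℤ)
          (-1) 0 1).map ((grCx p).map (aug X))).τ₁) :=
        ⟨⟨0, (hsrc (-1) (by omega)).eq_of_src _ _, hz1.eq_of_src _ _⟩⟩
      obtain ⟨e, he⟩ : ∃ e, e = (gr A p).map
          (HomologicalComplex.singleObjXSelf (ComplexShape.up ℤ) 0 X).hom.hom := ⟨_, rfl⟩
      haveI : IsIso e := by
        rw [he]
        exact (inferInstance : IsIso ((grF A p).map
          (HomologicalComplex.singleObjXSelf (ComplexShape.up ℤ) 0 X).hom))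
      let u0 : X ⟶ Js X 0 := us X 0
      have hτ₂ : ((HomologicalComplex.shortComplexFunctor' A (ComplexShape.up ℤ)
          (-1) 0 1).map ((grCx p).map (aug X))).τ₂ = e ≫ (gr A p).map u0.hom := by
        show (gr A p).map ((aug X).f 0).hom = _
        rw [aug_f_zero, he, ← Functor.map_comp]
        rfl
      haveI hu0 : Mono ((gr A p).map u0.hom) := gr_us_mono X 0 p
      haveI : Mono (((HomologicalComplex.shortComplexFunctor' A (ComplexShape.up ℤ)
          (-1) 0 1).map ((grCx p).map (aug X))).τ₂) := by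
        rw [hτ₂]
        exact @mono_comp A _ _ _ _ e (IsIso.mono_of_iso e) _ hu0
      have hd : ((grCx p).obj (I X)).d 0 1 = (gr A p).map (ds X 0).hom := by
        show (grF A p).map ((I X).d 0 (0 + 1)) = _
        rw [show (I X).d 0 (0 + 1) = ds X 0 from I_d X 0]
        rfl
      refine FilDTrunc.quasiIso_of_kernel _ ((hsrc 1 (by omega)).eq_of_tgt _ _) ?_ ?_
      · show ((grCx p).map (aug X)).f 0 ≫ ((grCx p).obj (I X)).d 0 1 = 0
        rw [HomologicalComplex.Hom.comm, (hsrc 1 (by omega)).eq_of_tgt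
          (((grCx p).obj ((CochainComplex.singleFunctor (FilF A) 0).obj X)).d 0 1) 0, zero_comp]
      · rw [ShortComplex.exact_iff_exact_up_to_refinements]
        intro T x hx
        have hx' : x ≫ (gr A p).map (ds X 0).hom = 0 :=
          (congrArg (fun t => x ≫ t) hd).symm.trans hx
        obtain ⟨T', π, hπ, y₀, hy₀⟩ := E1 X 0 p x hx'
        let y : T' ⟶ (gr A p).obj X.obj := y₀
        have hy : π ≫ x = y ≫ (gr A p).map u0.hom := hy₀
        haveI : Epi e := inferInstance
        obtain ⟨T'', π', hπ', y', hy'⟩ := surjective_up_to_refinements_of_epi e y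
        refine ⟨T'', π' ≫ π, epi_comp' hπ' hπ, y', ?_⟩
        have h1 : π' ≫ (π ≫ x) = (y' ≫ e) ≫ (gr A p).map u0.hom :=
          (congrArg (fun t => π' ≫ t) hy).trans ((Category.assoc π' y _).symm.trans
            (congrArg (fun t => t ≫ (gr A p).map u0.hom) hy'))
        have h2 : (π' ≫ π) ≫ x = y' ≫ (e ≫ (gr A p).map u0.hom) :=
          (Category.assoc π' π x).trans (h1.trans (Category.assoc y' e _))
        exact h2.trans (congrArg (fun t => y' ≫ t) hτ₂.symm)
    · -- positive degree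
      have hsrc' := hsrc (Int.ofNat (k + 1)) (by
        intro h
        have h2 : Int.ofNat (k + 1) = Int.ofNat 0 := h
        exact absurd (Int.ofNat.inj h2) (Nat.succ_ne_zero k))
      rw [quasiIsoAt_iff_exactAt _ _ (exactAt_of_isZero _ _ hsrc')]
      refine (HomologicalComplex.exactAt_iff' ((grCx p).obj (I X)) (k : ℤ) ((k : ℤ) + 1)
        ((k : ℤ) + 1 + 1) (by simp) (by simp)).2 ?_
      have hd1 : ((grCx p).obj (I X)).d (k : ℤ) ((k : ℤ) + 1) = (gr A p).map (ds X k).hom := by
        show (grF A p).map ((I X).d (k : ℤ) ((k : ℤ) + 1)) = _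
        rw [I_d X k]
        rfl
      have hd2 : ((grCx p).obj (I X)).d ((k : ℤ) + 1) ((k : ℤ) + 1 + 1) =
          (gr A p).map (ds X (k + 1)).hom := by
        show (grF A p).map ((I X).d ((k : ℤ) + 1) ((k : ℤ) + 1 + 1)) = _
        rw [show (I X).d ((k : ℤ) + 1) ((k : ℤ) + 1 + 1) = ds X (k + 1) from I_d X (k + 1)]
        rfl
      rw [ShortComplex.exact_iff_exact_up_to_refinements]
      intro T x hx
      have hx' : x ≫ (gr A p).map (ds X (k + 1)).hom = 0 :=
        (congrArg (fun t => x ≫ t) hd2).symm.trans hx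
      obtain ⟨T', π, hπ, z, hz⟩ := E2 X k p x hx'
      refine ⟨T', π, hπ, z, hz.trans ?_⟩
      exact congrArg (fun t => z ≫ t) hd1.symm
  · -- negative degree
    have hsrc' := hsrc (Int.negSucc m) (Int.negSucc_ne_zero m)
    rw [quasiIsoAt_iff_exactAt _ _ (exactAt_of_isZero _ _ hsrc')]
    have hz1 : IsZero (((grCx p).obj (I X)).X (Int.negSucc m)) :=
      Functor.map_isZero (grF A p) (isZero_zero _)
    exact exactAt_of_isZero _ _ hz1

theorem exists_resolution :
    ∃ (I : CochainComplex (FilF A) ℤ) (φ : (CochainComplex.singleFunctor (FilF A) 0).obj X ⟶ I),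
      I.IsStrictlyGE 0 ∧ (∀ n, IsFilteredInjective (I.X n)) ∧ IsFilteredQuasiIso φ :=
  ⟨I X, aug X, I_isStrictlyGE X, I_filteredInjective X, aug_quasiIso X⟩

end Res

end Groth.Agent.H1.FilDRes
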