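import Mathlib
import Groth.Prelude.Def_FilD
import Groth.Agent.Lib.helper1.FilDCone
import Groth.Agent.Lib.helper1.FilDRes

/-! Horseshoe lemma for filtered injective resolutions (S1091) (helper1). -/

set_option autoImplicit false
universe v u v' u'
open CategoryTheory CategoryTheory.Limits Opposite

namespace Groth.Agent.H1.FilDHorse

section Twist

variable {V : Type u'} [Category.{v'} V] [Preadditive V] [HasBinaryBiproducts V]
  (I J : CochainComplex V ℤ) (θ : ∀ n : ℤ, J.X n ⟶ I.X (n + 1))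
  (hθ : ∀ n : ℤ, θ n ≫ I.d (n + 1) (n + 1 + 1) + J.d n (n + 1) ≫ θ (n + 1) = 0)

/-- the twisted differential -/
noncomputable def Md (n : ℤ) : I.X n ⊞ J.X n ⟶ I.X (n + 1) ⊞ J.X (n + 1) :=
  biprod.desc (I.d n (n + 1) ≫ biprod.inl) (θ n ≫ biprod.inl + J.d n (n + 1) ≫ biprod.inr)

include hθ in
lemma Md_Md (n : ℤ) : Md I J θ n ≫ Md I J θ (n + 1) = 0 := by
  unfold Md
  apply biprod.hom_ext'
  · simp
  · rw [biprod.inr_desc_assoc, comp_zero, Preadditive.add_comp, Category.assoc, Category.assoc,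
      biprod.inl_desc, biprod.inr_desc, Preadditive.comp_add, ← Category.assoc (θ n),
      ← Category.assoc (J.d n (n + 1)), ← Category.assoc (J.d n (n + 1)), J.d_comp_d, zero_comp,
      add_zero, ← Preadditive.add_comp, hθ n, zero_comp]

lemma Md_fst (n : ℤ) :
    Md I J θ n ≫ biprod.fst = biprod.fst ≫ I.d n (n + 1) + biprod.snd ≫ θ n := by
  unfold Md
  apply biprod.hom_ext'
  · simp
  · simp

lemma Md_snd' (n : ℤ) : Md I J θ n ≫ biprod.snd = biprod.snd ≫ J.d n (n + 1) := by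
  unfold Md
  apply biprod.hom_ext'
  · simp
  · simp

/-- the twisted direct sum complex -/
noncomputable def M : CochainComplex V ℤ :=
  CochainComplex.of (fun n => I.X n ⊞ J.X n) (Md I J θ) (Md_Md I J θ hθ)

lemma M_d (n : ℤ) : (M I J θ hθ).d n (n + 1) = Md I J θ n :=
  CochainComplex.of_d (fun n => I.X n ⊞ J.X n) (Md I J θ) n

lemma inl_Md (n : ℤ) : biprod.inl ≫ Md I J θ n = I.d n (n + 1) ≫ biprod.inl := by
  unfold Md
  rw [biprod.inl_desc]

lemma inr_Md (n : ℤ) :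
    biprod.inr ≫ Md I J θ n = θ n ≫ biprod.inl + J.d n (n + 1) ≫ biprod.inr := by
  unfold Md
  rw [biprod.inr_desc]

lemma Md_snd (n : ℤ) : Md I J θ n ≫ biprod.snd = biprod.snd ≫ J.d n (n + 1) := by
  apply biprod.hom_ext'
  · rw [← Category.assoc, inl_Md, Category.assoc, biprod.inl_snd, comp_zero,
      biprod.inl_snd_assoc, zero_comp]
  · rw [← Category.assoc, inr_Md, Preadditive.add_comp, Category.assoc, Category.assoc,
      biprod.inl_snd, comp_zero, zero_add, biprod.inr_snd, Category.comp_id,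
      biprod.inr_snd_assoc]

/-- the inclusion -/
noncomputable def α : I ⟶ M I J θ hθ where
  f n := biprod.inl
  comm' i j hij := by
    have : i + 1 = j := hij
    subst this
    rw [M_d]
    exact inl_Md I J θ i

/-- the projection -/
noncomputable def β : M I J θ hθ ⟶ J where
  f n := biprod.snd
  comm' i j hij := by
    have : i + 1 = j := hij
    subst this
    rw [M_d]
    exact (Md_snd I J θ i).symm

end Twist

section Horse

open FilD Groth.Agent.H1.FilDStrict Groth.Agent.H1.FilDInj Groth.Agent.H1.FilDCone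

variable {A : Type u} [Category.{v} A] [Abelian A]

lemma shift_d (I : CochainComplex (FilF A) ℤ) (i j : ℤ) :
    (I⟦(1 : ℤ)⟧).d i j = - I.d (i + 1) (j + 1) := by
  rw [CochainComplex.shiftFunctor_obj_d', Int.negOnePow_one]
  simp

variable (S : ShortComplex (FilF A))
  (hS : ∀ p : ℤ, (S.map ((IsFinFil A).ι ⋙ (evaluation ℤᵒᵖ A).obj (op p))).ShortExact)

include hS in
lemma f_app_mono (q : ℤᵒᵖ) : Mono (S.f.hom.app q) := by
  induction q using Opposite.rec with | _ q => ?_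
  exact (hS q).mono_f

include hS in
lemma g_app_epi (q : ℤᵒᵖ) : Epi (S.g.hom.app q) := by
  induction q using Opposite.rec with | _ q => ?_
  exact (hS q).epi_g

include hS in
lemma mono_f : Mono S.f := by
  haveI := f_app_mono S hS
  haveI : Mono S.f.hom := NatTrans.mono_of_mono_app _
  refine ⟨fun u v h => ?_⟩
  apply ObjectProperty.hom_ext
  rw [← cancel_mono S.f.hom]
  exact congrArg (fun t => t.hom) h

include hS in
lemma epi_g : Epi S.g := by
  haveI := g_app_epi S hS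
  haveI : Epi S.g.hom := NatTrans.epi_of_epi_app _
  refine ⟨fun u v h => ?_⟩
  apply ObjectProperty.hom_ext
  rw [← cancel_epi S.g.hom]
  exact congrArg (fun t => t.hom) h

include hS in
lemma strict_f : IsStrict S.f := by
  intro p q h
  have w : S.f.hom ≫ S.g.hom = 0 := congrArg (fun t => t.hom) S.zero
  exact FilDStrict.strict_f S.f.hom S.g.hom w
    (fun p T y hy => (ShortComplex.exact_iff_exact_up_to_refinements _).1 (hS p).exact y hy)
    (fun h => S.X₃.property.1 _) p q h (S.X₂.property.1 _)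

include hS in
/-- descent along `g` -/
lemma exists_desc {W : FilF A} (k : S.X₂ ⟶ W) (hk : S.f ≫ k = 0) :
    ∃ l : S.X₃ ⟶ W, S.g ≫ l = k := by
  have hk' : ∀ q : ℤᵒᵖ, S.f.hom.app q ≫ k.hom.app q = 0 := by
    intro q
    have := congrArg (fun t => t.hom.app q) hk
    exact this
  haveI := g_app_epi S hS
  have hex : ∀ q : ℤᵒᵖ, (S.map ((IsFinFil A).ι ⋙ (evaluation ℤᵒᵖ A).obj q)).Exact := by
    intro q
    induction q using Opposite.rec with | _ q => ?_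
    exact (hS q).exact
  haveI hepi : ∀ q : ℤᵒᵖ, Epi (S.map ((IsFinFil A).ι ⋙ (evaluation ℤᵒᵖ A).obj q)).g :=
    fun q => g_app_epi S hS q
  let lapp : ∀ q : ℤᵒᵖ, S.X₃.obj.obj q ⟶ W.obj.obj q := fun q =>
    (hex q).desc (k.hom.app q) (hk' q)
  have hl : ∀ q : ℤᵒᵖ, S.g.hom.app q ≫ lapp q = k.hom.app q := fun q =>
    (hex q).g_desc (k.hom.app q) (hk' q)
  let l : S.X₃.obj ⟶ W.obj :=
    { app := lapp
      naturality := by
        intro q q' t
        rw [← cancel_epi (S.g.hom.app q), ← Category.assoc, ← S.g.hom.naturality t,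
          Category.assoc, hl, ← Category.assoc, hl, k.hom.naturality t] }
  refine ⟨ObjectProperty.homMk l, ?_⟩
  apply ObjectProperty.hom_ext
  ext q
  exact hl q

include hS in
theorem horse_core (I J : CochainComplex (FilF A) ℤ) [I.IsStrictlyGE 0]
    (hI : ∀ n, IsFilteredInjective (I.X n))
    (a0 : S.X₁ ⟶ I.X 0) (ha0 : a0 ≫ I.d 0 (0 + 1) = 0)
    (c : (CochainComplex.singleFunctor (FilF A) 0).obj S.X₃ ⟶ J) (hc : IsFilteredQuasiIso c)
    (c0 : S.X₃ ⟶ J.X 0)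
    (hc0 : c.f 0 = (HomologicalComplex.singleObjXSelf (ComplexShape.up ℤ) 0 S.X₃).hom ≫ c0) :
    ∃ (θ : ∀ n : ℤ, J.X n ⟶ I.X (n + 1))
      (_ : ∀ n : ℤ, θ n ≫ I.d (n + 1) (n + 1 + 1) + J.d n (n + 1) ≫ θ (n + 1) = 0)
      (e' : S.X₂ ⟶ I.X 0),
      S.f ≫ e' = a0 ∧ e' ≫ I.d 0 (0 + 1) + S.g ≫ c0 ≫ θ 0 = 0 := by
  haveI := mono_f S hS
  haveI := epi_g S hS
  obtain ⟨e, he⟩ := exists_ext S.f a0 (strict_f S hS) (hI 0)
  have hk : S.f ≫ (e ≫ I.d 0 (0 + 1)) = 0 := by rw [← Category.assoc, he, ha0]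
  obtain ⟨lam, hlam⟩ := exists_desc S hS (e ≫ I.d 0 (0 + 1)) hk
  have hlamd : lam ≫ I.d (0 + 1) (0 + 1 + 1) = 0 := by
    rw [← cancel_epi S.g, ← Category.assoc, hlam, Category.assoc, I.d_comp_d, comp_zero,
      comp_zero]
  have hplain : lam ≫ (-(I.d (0 + 1) (0 + 1 + 1))) = 0 := by
    rw [Preadditive.comp_neg, hlamd, neg_zero]
  let Λ : (CochainComplex.singleFunctor (FilF A) 0).obj S.X₃ ⟶ I⟦(1 : ℤ)⟧ :=
    HomologicalComplex.mkHomFromSingle (K := I⟦(1 : ℤ)⟧) (j := 0) lam (by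
      intro k hk
      have : (0 : ℤ) + 1 = k := hk
      subst this
      exact (congrArg (fun t => lam ≫ t) (shift_d I 0 (0 + 1))).trans hplain)
  haveI : (I⟦(1 : ℤ)⟧).IsStrictlyGE (-1) := I.isStrictlyGE_shift 0 1 (-1) (by omega)
  have hI' : ∀ n, IsFilteredInjective ((I⟦(1 : ℤ)⟧).X n) := fun n => hI (n + 1)
  obtain ⟨θq, hθq⟩ := (bijective (I⟦(1 : ℤ)⟧) (-1) hI' c hc).2
    ((HomotopyCategory.quotient _ _).map (-Λ))
  obtain ⟨θ', rfl⟩ := (HomotopyCategory.quotient _ _).map_surjective θq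
  dsimp only at hθq
  rw [← Functor.map_comp] at hθq
  have H := HomotopyCategory.homotopyOfEq _ _ hθq
  obtain ⟨θ, hθdef⟩ : ∃ θ : ∀ n : ℤ, J.X n ⟶ I.X (n + 1), θ = fun n => θ'.f n := ⟨_, rfl⟩
  have hθc : ∀ n : ℤ, θ n ≫ (-(I.d (n + 1) (n + 1 + 1))) = J.d n (n + 1) ≫ θ (n + 1) := by
    intro n
    have h := θ'.comm n (n + 1)
    rw [shift_d] at h
    rw [hθdef]
    exact h
  obtain ⟨Hm, hHm⟩ : ∃ Hm : ((CochainComplex.singleFunctor (FilF A) 0).obj S.X₃).X 0 ⟶ I.X 0,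
    Hm = H.hom 0 (-1) := ⟨_, rfl⟩
  obtain ⟨cf, hcfdef⟩ : ∃ cf : ((CochainComplex.singleFunctor (FilF A) 0).obj S.X₃).X 0 ⟶ J.X 0,
    cf = c.f 0 := ⟨_, rfl⟩
  obtain ⟨Λf, hΛfdef⟩ :
    ∃ Λf : ((CochainComplex.singleFunctor (FilF A) 0).obj S.X₃).X 0 ⟶ I.X (0 + 1),
    Λf = Λ.f 0 := ⟨_, rfl⟩
  obtain ⟨sX', hsX⟩ : ∃ s : ((CochainComplex.singleFunctor (FilF A) 0).obj S.X₃).X 0 ≅ S.X₃,
    s = HomologicalComplex.singleObjXSelf (ComplexShape.up ℤ) 0 S.X₃ := ⟨_, rfl⟩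
  have hH : cf ≫ θ 0 = Hm ≫ (-(I.d 0 (0 + 1))) + -Λf := by
    have hcomm := H.comm 0
    have e1 : dNext 0 H.hom = 0 := by
      rw [dNext_eq H.hom (show (ComplexShape.up ℤ).Rel 0 1 by simp)]
      have : ((CochainComplex.singleFunctor (FilF A) 0).obj S.X₃).d 0 1 = 0 := rfl
      rw [this, zero_comp]
    have e2 : prevD 0 H.hom = H.hom 0 (-1) ≫ (I⟦(1 : ℤ)⟧).d (-1) 0 :=
      prevD_eq H.hom (show (ComplexShape.up ℤ).Rel (-1) 0 by simp)
    rw [e1, e2, zero_add, shift_d] at hcomm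
    rw [hcfdef, hHm, hΛfdef, hθdef]
    exact hcomm
  have hcf : cf = sX'.hom ≫ c0 := by
    rw [hcfdef, hsX]
    exact hc0
  have hΛf : Λf = sX'.hom ≫ lam := by
    rw [hΛfdef, hsX]
    exact HomologicalComplex.mkHomFromSingle_f _ _
  have key : c0 ≫ θ 0 = -((sX'.inv ≫ Hm) ≫ I.d 0 (0 + 1)) - lam := by
    have h3 : sX'.inv ≫ (cf ≫ θ 0) = sX'.inv ≫ (Hm ≫ (-(I.d 0 (0 + 1))) + -Λf) :=
      congrArg (fun t => sX'.inv ≫ t) hH
    rw [hcf, hΛf, Category.assoc, Iso.inv_hom_id_assoc, Preadditive.comp_add,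
      Preadditive.comp_neg, Preadditive.comp_neg, Preadditive.comp_neg, Iso.inv_hom_id_assoc,
      ← Category.assoc] at h3
    rw [h3, sub_eq_add_neg]
  refine ⟨θ, ?_, e + S.g ≫ (sX'.inv ≫ Hm), ?_, ?_⟩
  · intro n
    rw [← hθc n, Preadditive.comp_neg, add_neg_cancel]
  · rw [Preadditive.comp_add, he, ← Category.assoc, S.zero, zero_comp, add_zero]
  · rw [key, Preadditive.add_comp, Preadditive.comp_sub, Preadditive.comp_neg, hlam,
      Category.assoc]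
    abel

include hS in
theorem horse (I : CochainComplex (FilF A) ℤ) [I.IsStrictlyGE 0]
    (hI : ∀ n, IsFilteredInjective (I.X n))
    (a : (CochainComplex.singleFunctor (FilF A) 0).obj S.X₁ ⟶ I)
    (J : CochainComplex (FilF A) ℤ)
    (c : (CochainComplex.singleFunctor (FilF A) 0).obj S.X₃ ⟶ J) (hc : IsFilteredQuasiIso c) :
    ∃ (M : CochainComplex (FilF A) ℤ) (α : I ⟶ M) (β : M ⟶ J)
      (b : (CochainComplex.singleFunctor (FilF A) 0).obj S.X₂ ⟶ M),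
      (∀ n, ∃ (r : M.X n ⟶ I.X n) (s : J.X n ⟶ M.X n), α.f n ≫ r = 𝟙 _ ∧ s ≫ β.f n = 𝟙 _ ∧
        α.f n ≫ β.f n = 0 ∧ r ≫ α.f n + β.f n ≫ s = 𝟙 _) ∧
      a ≫ α = (CochainComplex.singleFunctor (FilF A) 0).map S.f ≫ b ∧
      b ≫ β = (CochainComplex.singleFunctor (FilF A) 0).map S.g ≫ c := by
  obtain ⟨s₁, hs₁⟩ : ∃ s : ((CochainComplex.singleFunctor (FilF A) 0).obj S.X₁).X 0 ≅ S.X₁,
    s = HomologicalComplex.singleObjXSelf (ComplexShape.up ℤ) 0 S.X₁ := ⟨_, rfl⟩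
  obtain ⟨s₂, hs₂⟩ : ∃ s : ((CochainComplex.singleFunctor (FilF A) 0).obj S.X₂).X 0 ≅ S.X₂,
    s = HomologicalComplex.singleObjXSelf (ComplexShape.up ℤ) 0 S.X₂ := ⟨_, rfl⟩
  obtain ⟨s₃, hs₃⟩ : ∃ s : ((CochainComplex.singleFunctor (FilF A) 0).obj S.X₃).X 0 ≅ S.X₃,
    s = HomologicalComplex.singleObjXSelf (ComplexShape.up ℤ) 0 S.X₃ := ⟨_, rfl⟩
  obtain ⟨af, haf⟩ : ∃ af : ((CochainComplex.singleFunctor (FilF A) 0).obj S.X₁).X 0 ⟶ I.X 0,
    af = a.f 0 := ⟨_, rfl⟩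
  obtain ⟨cf, hcf⟩ : ∃ cf : ((CochainComplex.singleFunctor (FilF A) 0).obj S.X₃).X 0 ⟶ J.X 0,
    cf = c.f 0 := ⟨_, rfl⟩
  have hafd : af ≫ I.d 0 (0 + 1) = 0 := by
    rw [haf, a.comm 0 (0 + 1)]
    have : ((CochainComplex.singleFunctor (FilF A) 0).obj S.X₁).d 0 (0 + 1) = 0 := rfl
    rw [this, zero_comp]
  have hcfd : cf ≫ J.d 0 (0 + 1) = 0 := by
    rw [hcf, c.comm 0 (0 + 1)]
    have : ((CochainComplex.singleFunctor (FilF A) 0).obj S.X₃).d 0 (0 + 1) = 0 := rfl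
    rw [this, zero_comp]
  have ha0 : (s₁.inv ≫ af) ≫ I.d 0 (0 + 1) = 0 := by rw [Category.assoc, hafd, comp_zero]
  have hc0 : c.f 0 = (HomologicalComplex.singleObjXSelf (ComplexShape.up ℤ) 0 S.X₃).hom ≫
      (s₃.inv ≫ cf) := by
    rw [hs₃, hcf]
    exact (Iso.hom_inv_id_assoc _ _).symm
  obtain ⟨θ, hθ, e', h1, h2⟩ := horse_core S hS I J hI (s₁.inv ≫ af) ha0 c hc (s₃.inv ≫ cf) hc0
  have hc0d : (s₃.inv ≫ cf) ≫ J.d 0 (0 + 1) = 0 := by rw [Category.assoc, hcfd, comp_zero]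
  obtain ⟨b0, hb0def⟩ : ∃ b0 : S.X₂ ⟶ I.X 0 ⊞ J.X 0,
    b0 = biprod.lift e' (S.g ≫ (s₃.inv ≫ cf)) := ⟨_, rfl⟩
  have hb0fst : b0 ≫ biprod.fst = e' := by rw [hb0def, biprod.lift_fst]
  have hb0snd : b0 ≫ biprod.snd = S.g ≫ (s₃.inv ≫ cf) := by rw [hb0def, biprod.lift_snd]
  have hb0 : b0 ≫ Md I J θ 0 = 0 := by
    apply biprod.hom_ext
    · rw [Category.assoc, Md_fst, Preadditive.comp_add, ← Category.assoc, hb0fst,
        ← Category.assoc, hb0snd, zero_comp, Category.assoc]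
      exact h2
    · rw [Category.assoc, Md_snd', ← Category.assoc, hb0snd, Category.assoc, hc0d, comp_zero,
        zero_comp]
  have hfb0 : S.f ≫ b0 = (s₁.inv ≫ af) ≫ biprod.inl := by
    apply biprod.hom_ext
    · rw [Category.assoc, hb0fst, h1, Category.assoc, biprod.inl_fst, Category.comp_id]
    · rw [Category.assoc, hb0snd, ← Category.assoc, S.zero, zero_comp, Category.assoc,
        biprod.inl_snd, comp_zero]
  let b : (CochainComplex.singleFunctor (FilF A) 0).obj S.X₂ ⟶ M I J θ hθ :=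
    HomologicalComplex.mkHomFromSingle (K := M I J θ hθ) (j := 0) b0 (by
      intro k hk
      have : (0 : ℤ) + 1 = k := hk
      subst this
      rw [M_d]
      exact hb0)
  have hbf : b.f 0 = s₂.hom ≫ b0 := by
    rw [hs₂]
    exact HomologicalComplex.mkHomFromSingle_f _ _
  refine ⟨M I J θ hθ, α I J θ hθ, β I J θ hθ, b, ?_, ?_, ?_⟩
  · intro n
    exact ⟨biprod.fst, biprod.inr, biprod.inl_fst, biprod.inr_snd, biprod.inl_snd, biprod.total⟩
  · apply HomologicalComplex.from_single_hom_ext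
    have e1 : ((CochainComplex.singleFunctor (FilF A) 0).map S.f).f 0 =
        s₁.hom ≫ S.f ≫ s₂.inv := by
      rw [hs₁, hs₂]
      exact HomologicalComplex.single_map_f_self _ _ S.f
    have t1 : (s₁.hom ≫ S.f ≫ s₂.inv) ≫ (s₂.hom ≫ b0) = af ≫ biprod.inl := by
      rw [Category.assoc, Category.assoc, Iso.inv_hom_id_assoc, hfb0, Category.assoc,
        Iso.hom_inv_id_assoc]
    have t2 : ((CochainComplex.singleFunctor (FilF A) 0).map S.f).f 0 ≫ b.f 0 =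
        (s₁.hom ≫ S.f ≫ s₂.inv) ≫ (s₂.hom ≫ b0) :=
      (congrArg (fun t => t ≫ b.f 0) e1).trans
        (congrArg (fun t => (s₁.hom ≫ S.f ≫ s₂.inv) ≫ t) hbf)
    exact ((congrArg (fun t => t ≫ (biprod.inl : I.X 0 ⟶ I.X 0 ⊞ J.X 0)) haf.symm).trans
      t1.symm).trans t2.symm
  · apply HomologicalComplex.from_single_hom_ext
    have e1 : ((CochainComplex.singleFunctor (FilF A) 0).map S.g).f 0 =
        s₂.hom ≫ S.g ≫ s₃.inv := by
      rw [hs₂, hs₃]
      exact HomologicalComplex.single_map_f_self _ _ S.g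
    have t1 : (s₂.hom ≫ b0) ≫ biprod.snd = (s₂.hom ≫ S.g ≫ s₃.inv) ≫ cf := by
      rw [Category.assoc, hb0snd, Category.assoc, Category.assoc]
    have t2 : b.f 0 ≫ (biprod.snd : I.X 0 ⊞ J.X 0 ⟶ J.X 0) = (s₂.hom ≫ b0) ≫ biprod.snd :=
      congrArg (fun t => t ≫ (biprod.snd : I.X 0 ⊞ J.X 0 ⟶ J.X 0)) hbf
    have t3 : ((CochainComplex.singleFunctor (FilF A) 0).map S.g).f 0 ≫ c.f 0 =
        (s₂.hom ≫ S.g ≫ s₃.inv) ≫ cf :=
      (congrArg (fun t => t ≫ c.f 0) e1).trans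
        (congrArg (fun t => (s₂.hom ≫ S.g ≫ s₃.inv) ≫ t) hcf.symm)
    exact (t2.trans t1).trans t3.symm

end Horse

end Groth.Agent.H1.FilDHorse
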