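import Mathlib
import Groth.Prelude.Def_SpSeq
import Groth.Agent.Lib.helper1.ARSysML

/-! Pullbacks in `SpSeq.FilObj` and base change of strict morphisms (S6804) (helper1). -/

set_option autoImplicit false
universe v u
open CategoryTheory CategoryTheory.Limits Opposite

namespace Groth.Agent.H1.FilObjPb

open SpSeq Groth.Agent.H1.ARSysML

variable {A : Type u} [Category.{v} A] [Abelian A]

lemma pb_factors_iff {X Y : A} (h : X ⟶ Y) (y : Subobject Y) {T : A} (t : T ⟶ X) :
    ((Subobject.pullback h).obj y).Factors t ↔ y.Factors (t ≫ h) := by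
  have hp := Subobject.isPullback h y
  constructor
  · intro ht
    have e : t ≫ h = ((Subobject.factorThru _ t ht) ≫ Subobject.pullbackπ h y) ≫ y.arrow := by
      rw [Category.assoc, hp.w, ← Category.assoc, Subobject.factorThru_arrow]
    rw [e]
    exact Subobject.factors_comp_arrow _
  · intro ht
    have w : Subobject.factorThru y (t ≫ h) ht ≫ y.arrow = t ≫ h := Subobject.factorThru_arrow _ _ _
    have e : t = hp.lift (Subobject.factorThru y (t ≫ h) ht) t w ≫
        ((Subobject.pullback h).obj y).arrow := (hp.lift_snd _ _ _).symm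
    rw [e]
    exact Subobject.factors_comp_arrow _

lemma factors_arrow_of_le {X : A} {S T : Subobject X} (h : S ≤ T) : T.Factors S.arrow := by
  have : S.Factors S.arrow := by
    have := Subobject.factors_comp_arrow (P := S) (𝟙 (S : A))
    rwa [Category.id_comp] at this
  exact Subobject.factors_of_le _ h this

lemma le_of_factors_arrow {X : A} {S T : Subobject X} (h : T.Factors S.arrow) : S ≤ T :=
  Subobject.le_of_comm (Subobject.factorThru T S.arrow h) (Subobject.factorThru_arrow _ _ _)

/-- filtered maps send `F p` into `F p`. -/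
lemma compat_factors {K L : FilObj A} (f : K ⟶ L) (p : ℤ) {T : A} (t : T ⟶ K.obj)
    (ht : (K.fil p).Factors t) : (L.fil p).Factors (t ≫ f.hom) := by
  rw [← pb_factors_iff]
  exact Subobject.factors_of_le _ (f.compat p) ht

variable {K L M : FilObj A} (f : L ⟶ K) (g : M ⟶ K)

/-- the explicit pullback -/
noncomputable def P₀ : FilObj A where
  obj := pullback f.hom g.hom
  fil p := (Subobject.pullback (pullback.fst f.hom g.hom)).obj (L.fil p) ⊓
    (Subobject.pullback (pullback.snd f.hom g.hom)).obj (M.fil p)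
  anti := by
    intro p q h
    exact inf_le_inf ((Subobject.pullback _).monotone (L.anti h))
      ((Subobject.pullback _).monotone (M.anti h))

lemma P₀_factors_iff (p : ℤ) {T : A} (t : T ⟶ pullback f.hom g.hom) :
    ((P₀ f g).fil p).Factors t ↔
      (L.fil p).Factors (t ≫ pullback.fst f.hom g.hom) ∧
      (M.fil p).Factors (t ≫ pullback.snd f.hom g.hom) := by
  show (_ ⊓ _ : Subobject _).Factors t ↔ _
  rw [Subobject.inf_factors, pb_factors_iff, pb_factors_iff]

/-- first projection -/
noncomputable def fst₀ : P₀ f g ⟶ L := ⟨pullback.fst f.hom g.hom, fun _ => inf_le_left⟩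

/-- second projection -/
noncomputable def snd₀ : P₀ f g ⟶ M := ⟨pullback.snd f.hom g.hom, fun _ => inf_le_right⟩

lemma w₀ : fst₀ f g ≫ f = snd₀ f g ≫ g := FilObj.Hom.ext pullback.condition

/-- the lift -/
noncomputable def lift₀ {W : FilObj A} (a : W ⟶ L) (b : W ⟶ M) (w : a ≫ f = b ≫ g) :
    W ⟶ P₀ f g where
  hom := pullback.lift a.hom b.hom (congrArg FilObj.Hom.hom w)
  compat p := by
    apply le_of_factors_arrow
    rw [pb_factors_iff]
    have h1 : ((W.fil p).arrow ≫ pullback.lift a.hom b.hom (congrArg FilObj.Hom.hom w)) ≫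
        pullback.fst f.hom g.hom = (W.fil p).arrow ≫ a.hom := by
      rw [Category.assoc, pullback.lift_fst]
    have h2 : ((W.fil p).arrow ≫ pullback.lift a.hom b.hom (congrArg FilObj.Hom.hom w)) ≫
        pullback.snd f.hom g.hom = (W.fil p).arrow ≫ b.hom := by
      rw [Category.assoc, pullback.lift_snd]
    refine (P₀_factors_iff f g p _).2 ⟨?_, ?_⟩
    · have := compat_factors a p _ (factors_arrow_of_le (le_refl (W.fil p)))
      rw [← h1] at this
      exact this
    · have := compat_factors b p _ (factors_arrow_of_le (le_refl (W.fil p)))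
      rw [← h2] at this
      exact this

lemma lift₀_fst {W : FilObj A} (a : W ⟶ L) (b : W ⟶ M) (w : a ≫ f = b ≫ g) :
    lift₀ f g a b w ≫ fst₀ f g = a := FilObj.Hom.ext (pullback.lift_fst _ _ _)

lemma lift₀_snd {W : FilObj A} (a : W ⟶ L) (b : W ⟶ M) (w : a ≫ f = b ≫ g) :
    lift₀ f g a b w ≫ snd₀ f g = b := FilObj.Hom.ext (pullback.lift_snd _ _ _)

lemma hom_ext₀ {W : FilObj A} (u v : W ⟶ P₀ f g) (h1 : u ≫ fst₀ f g = v ≫ fst₀ f g)
    (h2 : u ≫ snd₀ f g = v ≫ snd₀ f g) : u = v := by
  apply FilObj.Hom.ext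
  apply pullback.hom_ext
  · exact congrArg FilObj.Hom.hom h1
  · exact congrArg FilObj.Hom.hom h2

lemma isPullback₀ : IsPullback (fst₀ f g) (snd₀ f g) f g :=
  ⟨⟨w₀ f g⟩, ⟨PullbackCone.IsLimit.mk _ (fun s => lift₀ f g s.fst s.snd s.condition)
    (fun s => lift₀_fst f g _ _ _) (fun s => lift₀_snd f g _ _ _)
    (fun s m h1 h2 => hom_ext₀ f g _ _ (h1.trans (lift₀_fst f g _ _ _).symm)
      (h2.trans (lift₀_snd f g _ _ _).symm))⟩⟩

lemma isStrict_snd₀ (hf : FilObj.IsStrict f) : FilObj.IsStrict (snd₀ f g) := by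
  intro p
  apply le_antisymm
  · apply le_inf (imageSubobject_comp_le _ _)
    apply imageSubobject_le _ (Subobject.factorThru (M.fil p)
      (((P₀ f g).fil p).arrow ≫ pullback.snd f.hom g.hom)
      (((P₀_factors_iff f g p _).1 (factors_arrow_of_le le_rfl)).2))
    exact Subobject.factorThru_arrow _ _ _
  · apply le_of_factors_arrow
    obtain ⟨t, ht⟩ : ∃ t, t = (imageSubobject (snd₀ f g).hom ⊓ M.fil p).arrow := ⟨_, rfl⟩
    rw [← ht]
    have ht1 : (imageSubobject (pullback.snd f.hom g.hom)).Factors t := by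
      rw [ht]
      exact factors_arrow_of_le inf_le_left
    have ht2 : (M.fil p).Factors t := by
      rw [ht]
      exact factors_arrow_of_le inf_le_right
    obtain ⟨T', π, hπ, x, hx⟩ := (imageSubobject_factors_iff _ _).1 ht1
    -- the image in `K`
    have h3 : (K.fil p).Factors ((π ≫ t) ≫ g.hom) := by
      apply compat_factors g p
      exact Subobject.factors_of_factors_right π ht2
    have hxf : (x ≫ pullback.fst f.hom g.hom) ≫ f.hom = (π ≫ t) ≫ g.hom := by
      rw [Category.assoc, pullback.condition, ← Category.assoc, ← hx]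
    have h4 : (imageSubobject ((L.fil p).arrow ≫ f.hom)).Factors
        ((x ≫ pullback.fst f.hom g.hom) ≫ f.hom) := by
      rw [hf p, Subobject.inf_factors]
      refine ⟨imageSubobject_factors_comp_self _ _, ?_⟩
      rw [hxf]
      exact h3
    obtain ⟨T'', π', hπ', l', hl'⟩ := (imageSubobject_factors_iff _ _).1 h4
    have hw : (l' ≫ (L.fil p).arrow) ≫ f.hom = (π' ≫ π ≫ t) ≫ g.hom := by
      rw [Category.assoc, ← hl', hxf]
      simp only [Category.assoc]
    obtain ⟨x', hx'⟩ : ∃ x' : T'' ⟶ pullback f.hom g.hom,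
        x' = pullback.lift (l' ≫ (L.fil p).arrow) (π' ≫ π ≫ t) hw := ⟨_, rfl⟩
    have hx'1 : x' ≫ pullback.fst f.hom g.hom = l' ≫ (L.fil p).arrow := by
      rw [hx', pullback.lift_fst]
    have hx'2 : x' ≫ pullback.snd f.hom g.hom = π' ≫ π ≫ t := by
      rw [hx', pullback.lift_snd]
    have hx'F : ((P₀ f g).fil p).Factors x' := by
      rw [P₀_factors_iff, hx'1, hx'2]
      refine ⟨Subobject.factors_comp_arrow _, ?_⟩
      exact Subobject.factors_of_factors_right π' (Subobject.factors_of_factors_right π ht2)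
    rw [imageSubobject_factors_iff]
    refine ⟨T'', π' ≫ π, epi_comp' hπ' hπ, Subobject.factorThru _ x' hx'F, ?_⟩
    have e1 : Subobject.factorThru _ x' hx'F ≫ ((P₀ f g).fil p).arrow = x' :=
      Subobject.factorThru_arrow _ _ _
    have e2 : Subobject.factorThru _ x' hx'F ≫ ((P₀ f g).fil p).arrow ≫
        pullback.snd f.hom g.hom = (π' ≫ π) ≫ t :=
      (Category.assoc _ _ _).symm.trans ((congrArg (fun z => z ≫ pullback.snd f.hom g.hom) e1).trans
        (hx'2.trans (Category.assoc _ _ _).symm))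
    exact e2.symm

/-- transport of strictness along mutually inverse comparison maps -/
lemma isStrict_of_comparison {P P' : FilObj A} (h : P ⟶ M) (h' : P' ⟶ M) (e : P ⟶ P')
    (e' : P' ⟶ P) (he : e ≫ h' = h) (he' : e' ≫ h = h') (hee : e' ≫ e = 𝟙 P')
    (hs : FilObj.IsStrict h') : FilObj.IsStrict h := by
  intro p
  have hepi : Epi e.hom := by
    have : e'.hom ≫ e.hom = 𝟙 _ := congrArg FilObj.Hom.hom hee
    exact (IsSplitEpi.mk' ⟨e'.hom, this⟩).epi
  have hh : h.hom = e.hom ≫ h'.hom := (congrArg FilObj.Hom.hom he).symm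
  have hh' : h'.hom = e'.hom ≫ h.hom := (congrArg FilObj.Hom.hom he').symm
  have e1 : imageSubobject h.hom = imageSubobject h'.hom := by
    rw [hh]
    exact imageSubobject_epi_comp e.hom h'.hom
  have e2 : imageSubobject ((P.fil p).arrow ≫ h.hom) =
      imageSubobject ((P'.fil p).arrow ≫ h'.hom) := by
    apply le_antisymm
    · rw [imageSubobject_le_iff]
      have hF : (P'.fil p).Factors ((P.fil p).arrow ≫ e.hom) :=
        compat_factors e p _ (factors_arrow_of_le le_rfl)
      refine ⟨_, 𝟙 _, inferInstance, Subobject.factorThru _ _ hF, ?_⟩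
      rw [Category.id_comp, ← Category.assoc, Subobject.factorThru_arrow, Category.assoc, ← hh]
    · rw [imageSubobject_le_iff]
      have hF : (P.fil p).Factors ((P'.fil p).arrow ≫ e'.hom) :=
        compat_factors e' p _ (factors_arrow_of_le le_rfl)
      refine ⟨_, 𝟙 _, inferInstance, Subobject.factorThru _ _ hF, ?_⟩
      rw [Category.id_comp, ← Category.assoc, Subobject.factorThru_arrow, Category.assoc, ← hh']
  rw [e1, e2]
  exact hs p

theorem main : HasPullback f g ∧ ∀ (P : FilObj A) (g' : P ⟶ L) (f' : P ⟶ M),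
    IsPullback g' f' f g → FilObj.IsStrict f → FilObj.IsStrict f' := by
  refine ⟨(isPullback₀ f g).hasPullback, ?_⟩
  intro P g' f' hP hf
  have h₀ := isPullback₀ f g
  let e : P ⟶ P₀ f g := h₀.lift g' f' hP.w
  let e' : P₀ f g ⟶ P := hP.lift (fst₀ f g) (snd₀ f g) h₀.w
  have he : e ≫ snd₀ f g = f' := h₀.lift_snd _ _ _
  have he' : e' ≫ f' = snd₀ f g := hP.lift_snd _ _ _
  have hee : e' ≫ e = 𝟙 _ := by
    apply h₀.hom_ext
    · rw [Category.assoc, h₀.lift_fst, hP.lift_fst, Category.id_comp]
    · rw [Category.assoc, h₀.lift_snd, hP.lift_snd, Category.id_comp]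
  exact isStrict_of_comparison f' (snd₀ f g) e e' he he' hee (isStrict_snd₀ f g hf)

end Groth.Agent.H1.FilObjPb
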