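import Mathlib
import Groth.Prelude.Def_SpSeq
import Groth.Agent.Lib.helper1.FilObjPb

/-! Pushouts in `SpSeq.FilObj` and cobase change of strict morphisms (S6803) (helper1). -/

set_option autoImplicit false
universe v u
open CategoryTheory CategoryTheory.Limits Opposite

namespace Groth.Agent.H1.FilObjPo

open SpSeq Groth.Agent.H1.ARSysML Groth.Agent.H1.FilObjPb

variable {A : Type u} [Category.{v} A] [Abelian A]

variable {K L M : FilObj A} (f : K ⟶ L) (g : K ⟶ M)

/-- the map from `F^p L ⊞ F^p M` to the pushout -/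
noncomputable def σ (p : ℤ) : (L.fil p : A) ⊞ (M.fil p : A) ⟶ pushout f.hom g.hom :=
  biprod.desc ((L.fil p).arrow ≫ pushout.inl f.hom g.hom) ((M.fil p).arrow ≫ pushout.inr f.hom g.hom)

/-- the explicit pushout -/
noncomputable def Q₀ : FilObj A where
  obj := pushout f.hom g.hom
  fil p := imageSubobject (σ f g p)
  anti := by
    intro p q h
    show imageSubobject (σ f g q) ≤ imageSubobject (σ f g p)
    rw [imageSubobject_le_iff]
    refine ⟨_, 𝟙 _, inferInstance,
      biprod.map ((L.fil q).ofLE (L.fil p) (L.anti h)) ((M.fil q).ofLE (M.fil p) (M.anti h)), ?_⟩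
    rw [Category.id_comp]
    unfold σ
    apply biprod.hom_ext'
    · simp
    · simp

lemma Q₀_factors_iff (p : ℤ) {T : A} (t : T ⟶ pushout f.hom g.hom) :
    ((Q₀ f g).fil p).Factors t ↔
      ∃ (T' : A) (π : T' ⟶ T) (_ : Epi π) (l : T' ⟶ (L.fil p : A)) (m : T' ⟶ (M.fil p : A)),
        π ≫ t = l ≫ (L.fil p).arrow ≫ pushout.inl f.hom g.hom +
          m ≫ (M.fil p).arrow ≫ pushout.inr f.hom g.hom := by
  show (imageSubobject (σ f g p)).Factors t ↔ _
  rw [imageSubobject_factors_iff]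
  constructor
  · rintro ⟨T', π, hπ, z, hz⟩
    refine ⟨T', π, hπ, z ≫ biprod.fst, z ≫ biprod.snd, ?_⟩
    rw [hz]
    unfold σ
    have hz' : z = biprod.lift (z ≫ biprod.fst) (z ≫ biprod.snd) := by
      apply biprod.hom_ext <;> simp
    conv_lhs => rw [hz']
    rw [biprod.lift_desc]
  · rintro ⟨T', π, hπ, l, m, h⟩
    refine ⟨T', π, hπ, biprod.lift l m, ?_⟩
    rw [h]
    unfold σ
    rw [biprod.lift_desc]

/-- first inclusion -/
noncomputable def inl₀ : L ⟶ Q₀ f g where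
  hom := pushout.inl f.hom g.hom
  compat p := by
    apply le_of_factors_arrow
    rw [pb_factors_iff]
    refine (Q₀_factors_iff f g p _).2 ⟨_, 𝟙 _, inferInstance, 𝟙 _, 0, ?_⟩
    rw [Category.id_comp, Category.id_comp, zero_comp, add_zero]
    rfl

/-- second inclusion -/
noncomputable def inr₀ : M ⟶ Q₀ f g where
  hom := pushout.inr f.hom g.hom
  compat p := by
    apply le_of_factors_arrow
    rw [pb_factors_iff]
    refine (Q₀_factors_iff f g p _).2 ⟨_, 𝟙 _, inferInstance, 0, 𝟙 _, ?_⟩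
    rw [Category.id_comp, Category.id_comp, zero_comp, zero_add]
    rfl

lemma w₀ : f ≫ inl₀ f g = g ≫ inr₀ f g := FilObj.Hom.ext pushout.condition

/-- the descent -/
noncomputable def desc₀ {W : FilObj A} (a : L ⟶ W) (b : M ⟶ W) (w : f ≫ a = g ≫ b) :
    Q₀ f g ⟶ W where
  hom := pushout.desc a.hom b.hom (congrArg FilObj.Hom.hom w)
  compat p := by
    apply le_of_factors_arrow
    rw [pb_factors_iff]
    obtain ⟨T', π, hπ, l, m, h⟩ := (Q₀_factors_iff f g p _).1
      (factors_arrow_of_le (le_refl ((Q₀ f g).fil p)))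
    apply Groth.Agent.H1.SubobjMod.factors_of_epi_comp _ π
    have e0 : (l ≫ (L.fil p).arrow ≫ pushout.inl f.hom g.hom +
        m ≫ (M.fil p).arrow ≫ pushout.inr f.hom g.hom) ≫
        pushout.desc a.hom b.hom (congrArg FilObj.Hom.hom w) =
        (l ≫ (L.fil p).arrow) ≫ a.hom + (m ≫ (M.fil p).arrow) ≫ b.hom := by
      rw [Preadditive.add_comp]
      simp only [Category.assoc, pushout.inl_desc, pushout.inr_desc]
    have e : π ≫ ((Q₀ f g).fil p).arrow ≫ pushout.desc a.hom b.hom (congrArg FilObj.Hom.hom w) =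
        (l ≫ (L.fil p).arrow) ≫ a.hom + (m ≫ (M.fil p).arrow) ≫ b.hom :=
      (Category.assoc _ _ _).symm.trans ((congrArg
        (fun z => z ≫ pushout.desc a.hom b.hom (congrArg FilObj.Hom.hom w)) h).trans e0)
    rw [e]
    apply Subobject.factors_add
    · exact compat_factors a p _ (Subobject.factors_comp_arrow _)
    · exact compat_factors b p _ (Subobject.factors_comp_arrow _)

lemma inl₀_desc {W : FilObj A} (a : L ⟶ W) (b : M ⟶ W) (w : f ≫ a = g ≫ b) :
    inl₀ f g ≫ desc₀ f g a b w = a := FilObj.Hom.ext (pushout.inl_desc _ _ _)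

lemma inr₀_desc {W : FilObj A} (a : L ⟶ W) (b : M ⟶ W) (w : f ≫ a = g ≫ b) :
    inr₀ f g ≫ desc₀ f g a b w = b := FilObj.Hom.ext (pushout.inr_desc _ _ _)

lemma hom_ext₀ {W : FilObj A} (u v : Q₀ f g ⟶ W) (h1 : inl₀ f g ≫ u = inl₀ f g ≫ v)
    (h2 : inr₀ f g ≫ u = inr₀ f g ≫ v) : u = v := by
  apply FilObj.Hom.ext
  apply pushout.hom_ext
  · exact congrArg FilObj.Hom.hom h1
  · exact congrArg FilObj.Hom.hom h2

lemma isPushout₀ : IsPushout f g (inl₀ f g) (inr₀ f g) :=
  ⟨⟨w₀ f g⟩, ⟨PushoutCocone.IsColimit.mk _ (fun s => desc₀ f g s.inl s.inr s.condition)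
    (fun s => inl₀_desc f g _ _ _) (fun s => inr₀_desc f g _ _ _)
    (fun s m h1 h2 => hom_ext₀ f g _ _ (h1.trans (inl₀_desc f g _ _ _).symm)
      (h2.trans (inr₀_desc f g _ _ _).symm))⟩⟩

lemma isStrict_inr₀ (hf : FilObj.IsStrict f) : FilObj.IsStrict (inr₀ f g) := by
  intro p
  apply le_antisymm
  · apply le_inf (imageSubobject_comp_le _ _)
    show imageSubobject ((M.fil p).arrow ≫ pushout.inr f.hom g.hom) ≤ imageSubobject (σ f g p)
    rw [imageSubobject_le_iff]
    refine ⟨_, 𝟙 _, inferInstance, biprod.inr, ?_⟩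
    rw [Category.id_comp]
    unfold σ
    rw [biprod.inr_desc]
  · apply le_of_factors_arrow
    obtain ⟨t, ht⟩ : ∃ t : ((imageSubobject (inr₀ f g).hom ⊓ (Q₀ f g).fil p :
        Subobject (Q₀ f g).obj) : A) ⟶ pushout f.hom g.hom,
        t = (imageSubobject (inr₀ f g).hom ⊓ (Q₀ f g).fil p).arrow := ⟨_, rfl⟩
    rw [← ht]
    have ht1 : (imageSubobject (pushout.inr f.hom g.hom)).Factors t := by
      rw [ht]
      exact factors_arrow_of_le inf_le_left
    have ht2 : ((Q₀ f g).fil p).Factors t := by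
      rw [ht]
      exact factors_arrow_of_le inf_le_right
    obtain ⟨T₁, π₁, hπ₁, m₀, hm₀⟩ := (imageSubobject_factors_iff _ _).1 ht1
    obtain ⟨T₂, π₂, hπ₂, l, m, hlm⟩ :=
      (Q₀_factors_iff f g p _).1 (Subobject.factors_of_factors_right π₁ ht2)
    have hsq : IsPushout f.hom g.hom (pushout.inl f.hom g.hom) (pushout.inr f.hom g.hom) :=
      IsPushout.of_hasPushout _ _
    have hex := hsq.exact_shortComplex
    obtain ⟨z, hzdef⟩ : ∃ z : T₂ ⟶ L.obj ⊞ M.obj,
        z = biprod.lift (l ≫ (L.fil p).arrow) (m ≫ (M.fil p).arrow - π₂ ≫ m₀) := ⟨_, rfl⟩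
    have hz : z ≫ biprod.desc (pushout.inl f.hom g.hom) (pushout.inr f.hom g.hom) = 0 := by
      rw [hzdef, biprod.lift_desc, Preadditive.sub_comp, Category.assoc, Category.assoc,
        Category.assoc, ← hm₀, ← add_sub_assoc, ← hlm]
      exact sub_self _
    obtain ⟨T₃, π₃, hπ₃, k₀, hk₀⟩ :=
      (ShortComplex.exact_iff_exact_up_to_refinements _).1 hex z hz
    obtain ⟨k, hkdef⟩ : ∃ k : T₃ ⟶ K.obj, k = k₀ := ⟨_, rfl⟩
    have hk : π₃ ≫ z = k ≫ biprod.lift f.hom (-g.hom) := by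
      rw [hkdef]
      exact hk₀
    have hk1 : π₃ ≫ l ≫ (L.fil p).arrow = k ≫ f.hom := by
      have := congrArg (fun y => y ≫ (biprod.fst : L.obj ⊞ M.obj ⟶ L.obj)) hk
      simp only [Category.assoc, biprod.lift_fst, hzdef] at this
      exact this
    have hk2 : π₃ ≫ (m ≫ (M.fil p).arrow - π₂ ≫ m₀) = -(k ≫ g.hom) := by
      have := congrArg (fun y => y ≫ (biprod.snd : L.obj ⊞ M.obj ⟶ M.obj)) hk
      simp only [Category.assoc, biprod.lift_snd, hzdef, Preadditive.comp_neg] at this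
      exact this
    have h4 : (imageSubobject ((K.fil p).arrow ≫ f.hom)).Factors (k ≫ f.hom) := by
      rw [hf p, Subobject.inf_factors]
      refine ⟨imageSubobject_factors_comp_self _ _, ?_⟩
      rw [← hk1, ← Category.assoc]
      exact Subobject.factors_comp_arrow _
    obtain ⟨T₄, π₄, hπ₄, k', hk'⟩ := (imageSubobject_factors_iff _ _).1 h4
    have hγF : (M.fil p).Factors ((K.fil p).arrow ≫ g.hom) :=
      compat_factors g p _ (factors_arrow_of_le (le_refl (K.fil p)))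
    obtain ⟨γ, hγ⟩ : ∃ γ : (K.fil p : A) ⟶ (M.fil p : A),
        γ ≫ (M.fil p).arrow = (K.fil p).arrow ≫ g.hom :=
      ⟨Subobject.factorThru _ _ hγF, Subobject.factorThru_arrow _ _ _⟩
    rw [imageSubobject_factors_iff]
    refine ⟨T₄, π₄ ≫ π₃ ≫ π₂ ≫ π₁, epi_comp' hπ₄ (epi_comp' hπ₃ (epi_comp' hπ₂ hπ₁)),
      π₄ ≫ π₃ ≫ m + k' ≫ γ, ?_⟩
    -- the computation
    have c1 : π₃ ≫ π₂ ≫ m₀ = π₃ ≫ m ≫ (M.fil p).arrow + k ≫ g.hom := by
      have h' := hk2
      rw [Preadditive.comp_sub, sub_eq_iff_eq_add] at h'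
      rw [h']
      abel
    have c2 : (π₄ ≫ k ≫ g.hom) ≫ pushout.inr f.hom g.hom =
        (k' ≫ γ) ≫ (M.fil p).arrow ≫ pushout.inr f.hom g.hom := by
      have e1 : g.hom ≫ pushout.inr f.hom g.hom = f.hom ≫ pushout.inl f.hom g.hom :=
        pushout.condition.symm
      calc (π₄ ≫ k ≫ g.hom) ≫ pushout.inr f.hom g.hom
          = (π₄ ≫ k ≫ f.hom) ≫ pushout.inl f.hom g.hom := by
            simp only [Category.assoc, e1]
        _ = (k' ≫ (K.fil p).arrow ≫ f.hom) ≫ pushout.inl f.hom g.hom := by rw [hk']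
        _ = k' ≫ ((K.fil p).arrow ≫ g.hom) ≫ pushout.inr f.hom g.hom := by
            simp only [Category.assoc, e1]
        _ = (k' ≫ γ) ≫ (M.fil p).arrow ≫ pushout.inr f.hom g.hom := by
            rw [← hγ]
            simp only [Category.assoc]
    calc (π₄ ≫ π₃ ≫ π₂ ≫ π₁) ≫ t = π₄ ≫ (π₃ ≫ π₂ ≫ (π₁ ≫ t)) := by simp only [Category.assoc]
      _ = π₄ ≫ ((π₃ ≫ π₂ ≫ m₀) ≫ pushout.inr f.hom g.hom) := by
          rw [hm₀]
          simp only [Category.assoc]
      _ = (π₄ ≫ π₃ ≫ m) ≫ (M.fil p).arrow ≫ pushout.inr f.hom g.hom +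
            (π₄ ≫ k ≫ g.hom) ≫ pushout.inr f.hom g.hom := by
          rw [c1, Preadditive.add_comp, Preadditive.comp_add]
          simp only [Category.assoc]
      _ = (π₄ ≫ π₃ ≫ m + k' ≫ γ) ≫ (M.fil p).arrow ≫ pushout.inr f.hom g.hom := by
          rw [c2, Preadditive.add_comp]

/-- transport of strictness along mutually inverse comparison maps -/
lemma isStrict_of_comparison {P P' : FilObj A} (h : M ⟶ P) (h' : M ⟶ P') (e : P' ⟶ P)
    (e' : P ⟶ P') (he : h' ≫ e = h) (he' : h ≫ e' = h') (hee : e' ≫ e = 𝟙 P)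
    (hs : FilObj.IsStrict h') : FilObj.IsStrict h := by
  intro p
  have hh : h.hom = h'.hom ≫ e.hom := (congrArg FilObj.Hom.hom he).symm
  have hh' : h'.hom = h.hom ≫ e'.hom := (congrArg FilObj.Hom.hom he').symm
  have hid : e'.hom ≫ e.hom = 𝟙 _ := congrArg FilObj.Hom.hom hee
  apply le_antisymm
  · apply le_inf (imageSubobject_comp_le _ _)
    apply imageSubobject_le _ (Subobject.factorThru (P.fil p) ((M.fil p).arrow ≫ h.hom)
      (compat_factors h p _ (factors_arrow_of_le (le_refl (M.fil p)))))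
    exact Subobject.factorThru_arrow _ _ _
  · apply le_of_factors_arrow
    obtain ⟨t, ht⟩ : ∃ t, t = (imageSubobject h.hom ⊓ P.fil p).arrow := ⟨_, rfl⟩
    rw [← ht]
    have ht1 : (imageSubobject h.hom).Factors t := by
      rw [ht]
      exact factors_arrow_of_le inf_le_left
    have ht2 : (P.fil p).Factors t := by
      rw [ht]
      exact factors_arrow_of_le inf_le_right
    obtain ⟨T₁, π₁, hπ₁, m₀, hm₀⟩ := (imageSubobject_factors_iff _ _).1 ht1
    have h1 : (imageSubobject h'.hom).Factors ((π₁ ≫ t) ≫ e'.hom) := by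
      rw [hm₀, Category.assoc, ← hh']
      exact imageSubobject_factors_comp_self _ _
    have h2 : (P'.fil p).Factors ((π₁ ≫ t) ≫ e'.hom) :=
      compat_factors e' p _ (Subobject.factors_of_factors_right π₁ ht2)
    have h3 : (imageSubobject ((M.fil p).arrow ≫ h'.hom)).Factors ((π₁ ≫ t) ≫ e'.hom) := by
      rw [hs p, Subobject.inf_factors]
      exact ⟨h1, h2⟩
    obtain ⟨T₂, π₂, hπ₂, y, hy⟩ := (imageSubobject_factors_iff _ _).1 h3
    rw [imageSubobject_factors_iff]
    refine ⟨T₂, π₂ ≫ π₁, epi_comp' hπ₂ hπ₁, y, ?_⟩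
    have := congrArg (fun z => z ≫ e.hom) hy
    simp only [Category.assoc, hid, Category.comp_id] at this
    rw [Category.assoc, this, hh]

theorem main : HasPushout f g ∧ ∀ (P : FilObj A) (g' : L ⟶ P) (f' : M ⟶ P),
    IsPushout f g g' f' → FilObj.IsStrict f → FilObj.IsStrict f' := by
  refine ⟨(isPushout₀ f g).hasPushout, ?_⟩
  intro P g' f' hP hf
  have h₀ := isPushout₀ f g
  let e : Q₀ f g ⟶ P := h₀.desc g' f' hP.w
  let e' : P ⟶ Q₀ f g := hP.desc (inl₀ f g) (inr₀ f g) h₀.w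
  have he : inr₀ f g ≫ e = f' := h₀.inr_desc _ _ _
  have he' : f' ≫ e' = inr₀ f g := hP.inr_desc _ _ _
  have hee : e' ≫ e = 𝟙 _ := by
    apply hP.hom_ext
    · rw [← Category.assoc, hP.inl_desc, h₀.inl_desc, Category.comp_id]
    · rw [← Category.assoc, hP.inr_desc, h₀.inr_desc, Category.comp_id]
  exact isStrict_of_comparison f' (inr₀ f g) e e' he he' hee (isStrict_inr₀ f g hf)

end Groth.Agent.H1.FilObjPo
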