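import Groth.Agent.Lib.helper1.SubobjMod
import Mathlib.CategoryTheory.Abelian.Exact

/-! Induction principle for finite length objects of an abelian category (helper1). -/

set_option autoImplicit false
universe u v

namespace Groth.Agent.H1.FinLenInd

open CategoryTheory CategoryTheory.Limits

variable {A : Type u} [Category.{v} A] [Abelian A]

theorem finiteLength_induction (P : A → Prop)
    (hiso : ∀ X Y : A, (X ≅ Y) → P X → P Y)
    (h0 : ∀ X : A, IsZero X → P X)
    (hsimple : ∀ X : A, Simple X → P X)
    (hext : ∀ S : ShortComplex A, S.ShortExact → P S.X₁ → P S.X₃ → P S.X₂)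
    (X : A) [IsArtinianObject X] [IsNoetherianObject X] : P X := by
  obtain ⟨n, F, hF, hF0, hFn, hFs⟩ :=
    Groth.Agent.H1.SubobjMod.exists_filtration_of_artinian_noetherian X
  have key : ∀ k : Fin (n + 1), P (F k : A) := by
    intro k
    induction k using Fin.induction with
    | zero =>
      apply h0
      rw [hF0]
      exact IsZero.of_iso (isZero_zero A) Subobject.botCoeIsoZero
    | succ i ih =>
      have hle : F (Fin.castSucc i) ≤ F (Fin.succ i) := hF (Fin.castSucc_lt_succ (i := i)).le
      let f := Subobject.ofLE (F (Fin.castSucc i)) (F (Fin.succ i)) hle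
      have hse : (ShortComplex.mk f (cokernel.π f) (cokernel.condition f)).ShortExact :=
        { exact := ShortComplex.exact_cokernel f
          mono_f := by dsimp; infer_instance
          epi_g := by dsimp; infer_instance }
      exact hext _ hse ih (hsimple _ (hFs i))
  have h1 := key (Fin.last n)
  rw [hFn] at h1
  exact hiso _ _ (asIso (⊤ : Subobject X).arrow) h1

end Groth.Agent.H1.FinLenInd
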