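import Mathlib

/-!
Descent of flatness: if `B → D` is faithfully flat and factors through `C`, and `A → C` is flat, then
`A → B` is flat.
-/

namespace Groth.Agent.H1

open TensorProduct

theorem H1_flat_of_factor (A B C D : Type*) [CommRing A] [CommRing B] [CommRing C] [CommRing D]
    [Algebra A B] [Algebra B C] [Algebra C D] [Algebra A C] [Algebra B D] [Algebra A D]
    [IsScalarTower A B C] [IsScalarTower B C D] [IsScalarTower A B D] [IsScalarTower A C D]
    [Module.Flat A C] [Module.FaithfullyFlat B D] : Module.Flat A B := by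
  rw [Module.Flat.iff_lTensor_preserves_injective_linearMap]
  intro M N _ _ _ _ f hf
  have hC : Function.Injective (f.lTensor C) :=
    Module.Flat.lTensor_preserves_injective_linearMap f hf
  let β : B →ₗ[A] C := (IsScalarTower.toAlgHom A B C).toLinearMap
  let γ : C →ₗ[A] D := (IsScalarTower.toAlgHom A C D).toLinearMap
  let δ : B →ₗ[A] D := (IsScalarTower.toAlgHom A B D).toLinearMap
  have hδ : γ ∘ₗ β = δ := by
    ext b
    simp only [β, γ, δ, LinearMap.comp_apply, AlgHom.toLinearMap_apply,
      IsScalarTower.coe_toAlgHom']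
    rw [← IsScalarTower.algebraMap_apply B C D]
  have hδinj : Function.Injective (δ.rTensor M) := by
    have h1 : Function.Injective (TensorProduct.mk B D (B ⊗[A] M) 1) :=
      Module.FaithfullyFlat.tensorProduct_mk_injective (A := B) (B := D) (B ⊗[A] M)
    have h2 : ∀ x : B ⊗[A] M, δ.rTensor M x =
        (TensorProduct.AlgebraTensorModule.cancelBaseChange A B B D M)
          (TensorProduct.mk B D (B ⊗[A] M) 1 x) := by
      intro x
      induction x using TensorProduct.induction_on with
      | zero => simp
      | tmul b m =>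
        simp [δ, Algebra.smul_def]
      | add x y hx hy => simp only [map_add, hx, hy]
    intro x y hxy
    rw [h2, h2] at hxy
    exact h1 ((TensorProduct.AlgebraTensorModule.cancelBaseChange A B B D M).injective hxy)
  rw [injective_iff_map_eq_zero]
  intro k hk
  have e1 : (f.lTensor C) (β.rTensor M k) = β.rTensor N (f.lTensor B k) := by
    rw [← LinearMap.comp_apply, ← LinearMap.comp_apply, LinearMap.lTensor_comp_rTensor,
      LinearMap.rTensor_comp_lTensor]
  rw [hk, map_zero] at e1
  have e2 : β.rTensor M k = 0 := hC (by rw [e1, map_zero])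
  apply hδinj
  rw [map_zero, ← hδ, LinearMap.rTensor_comp, LinearMap.comp_apply, e2, map_zero]

theorem H1_ringHom_flat_of_factor {A B C D : Type*} [CommRing A] [CommRing B] [CommRing C]
    [CommRing D] [IsLocalRing B] [IsLocalRing D]
    (φ : A →+* B) (ψ : B →+* C) (χ : C →+* D) [IsLocalHom (χ.comp ψ)]
    (h1 : (ψ.comp φ).Flat) (h2 : (χ.comp ψ).Flat) : φ.Flat := by
  algebraize [φ, ψ, χ, ψ.comp φ, χ.comp ψ, χ.comp (ψ.comp φ)]
  haveI : IsScalarTower A B D := IsScalarTower.of_algebraMap_eq' rfl
  haveI : IsLocalHom (algebraMap B D) := ‹IsLocalHom (χ.comp ψ)›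
  haveI : Module.FaithfullyFlat B D := Module.FaithfullyFlat.of_flat_of_isLocalHom
  exact H1_flat_of_factor A B C D

end Groth.Agent.H1
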