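import Mathlib
import Groth.Prelude.Def_Pi1X

set_option autoImplicit false

/-! Functoriality of fundamental groups of Galois categories (helper1). -/

universe u v w

open CategoryTheory CategoryTheory.Limits PreGaloisCategory

namespace Groth.Agent.H1.GalFun

section Single

variable {C : Type u} [Category.{v} C] [GaloisCategory C] (F : C ⥤ FintypeCat.{w}) [FiberFunctor F]

/-- equivariant maps between fibres come from morphisms. -/
theorem exists_hom_of_equivariant {X Y : C} (φ : F.obj X → F.obj Y)
    (hφ : ∀ (σ : Aut F) (x : F.obj X), φ (σ • x) = σ • φ x) :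
    ∃ f : X ⟶ Y, ∀ x, F.map f x = φ x := by
  let m : (functorToAction F).obj X ⟶ (functorToAction F).obj Y :=
    { hom := FintypeCat.homMk φ
      comm := fun σ => by
        apply FintypeCat.hom_ext
        intro x
        exact hφ σ x }
  obtain ⟨f, hf⟩ := (functorToAction F).map_surjective m
  refine ⟨f, fun x => ?_⟩
  have := congrArg (fun t => t.hom x) hf
  exact this

/-- the fibre of the terminal object is a singleton. -/
theorem fiber_terminal_subsingleton : Subsingleton (F.obj (⊤_ C)) := by
  have h : IsTerminal (F.obj (⊤_ C)) := IsTerminal.isTerminalObj F _ terminalIsTerminal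
  have h2 : IsTerminal ((FintypeCat.incl.{w}).obj (F.obj (⊤_ C))) :=
    IsTerminal.isTerminalObj FintypeCat.incl.{w} _ h
  have := Types.isTerminalEquivUnique _ h2
  exact ⟨fun a b => (this.uniq a).trans (this.uniq b).symm⟩

theorem fiber_terminal_nonempty : Nonempty (F.obj (⊤_ C)) := by
  have h : IsTerminal (F.obj (⊤_ C)) := IsTerminal.isTerminalObj F _ terminalIsTerminal
  have h2 : IsTerminal ((FintypeCat.incl.{w}).obj (F.obj (⊤_ C))) :=
    IsTerminal.isTerminalObj FintypeCat.incl.{w} _ h
  have := Types.isTerminalEquivUnique _ h2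
  exact ⟨this.default⟩

/-- a connected object all of whose points are fixed ... is terminal. -/
theorem isIso_terminal_from_of_fixed {X : C} [IsConnected X] (a : F.obj X)
    (h : ∀ σ : Aut F, σ • a = a) : IsIso (terminal.from X) := by
  have hsub : ∀ x : F.obj X, x = a := by
    intro x
    obtain ⟨σ, hσ⟩ := MulAction.exists_smul_eq (Aut F) a x
    rw [← hσ, h σ]
  have := fiber_terminal_subsingleton F
  have hbij : Function.Bijective (F.map (terminal.from X)) := by
    constructor
    · intro x y _
      rw [hsub x, hsub y]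
    · intro t
      exact ⟨a, Subsingleton.elim _ _⟩
  have : IsIso (F.map (terminal.from X)) := by
    rw [ConcreteCategory.isIso_iff_bijective]
    exact hbij
  exact isIso_of_reflects_iso (terminal.from X) F

end Single


section Single2

variable {C : Type u} [Category.{v} C] [GaloisCategory C] (F : C ⥤ FintypeCat.{w}) [FiberFunctor F]

theorem map_injective_of_mono {X Y : C} (i : X ⟶ Y) [Mono i] : Function.Injective (F.map i) := by
  have : Mono (F.map i) := inferInstance
  exact (ConcreteCategory.mono_iff_injective_of_preservesPullback (F.map i)).1 this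

theorem map_inv_apply {X Y : C} (f : X ⟶ Y) [IsIso f] (x : F.obj X) :
    F.map (inv f) (F.map f x) = x := by
  have : F.map f ≫ F.map (inv f) = 𝟙 _ := by rw [← F.map_comp, IsIso.hom_inv_id, F.map_id]
  have h := congrArg (fun t => t x) this
  exact h

/-- a point fixed by the whole fundamental group comes from a section. -/
theorem exists_section_of_fixed {X : C} (a : F.obj X) (h : ∀ σ : Aut F, σ • a = a) :
    ∃ s : ⊤_ C ⟶ X, ∀ t : F.obj (⊤_ C), F.map s t = a := by
  obtain ⟨Y, i, y, hy, hc, hm⟩ := fiber_in_connected_component F X a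
  have hfix : ∀ σ : Aut F, σ • y = y := by
    intro σ
    apply map_injective_of_mono F i
    rw [← mulAction_naturality, hy, h σ]
  have hiso := isIso_terminal_from_of_fixed F y hfix
  refine ⟨inv (terminal.from Y) ≫ i, fun t => ?_⟩
  have := fiber_terminal_subsingleton F
  have ht : t = F.map (terminal.from Y) y := Subsingleton.elim _ _
  rw [F.map_comp, ht]
  change F.map i (F.map (inv (terminal.from Y)) (F.map (terminal.from Y) y)) = a
  rw [map_inv_apply, hy]

theorem fixed_of_section {X : C} (a : F.obj X) (s : ⊤_ C ⟶ X)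
    (hs : ∀ t : F.obj (⊤_ C), F.map s t = a) (σ : Aut F) : σ • a = a := by
  obtain ⟨t⟩ := fiber_terminal_nonempty F
  rw [← hs t, mulAction_naturality, hs, hs]

end Single2

section Pair

variable {C C' : Type u} [Category.{v} C] [Category.{v} C'] [GaloisCategory C] [GaloisCategory C']
  (H : C ⥤ C') [PreservesFiniteLimits H] [PreservesFiniteColimits H]
  (F' : C' ⥤ FintypeCat.{w}) [FiberFunctor F'] [FiberFunctor (H ⋙ F')]

omit [GaloisCategory C] [GaloisCategory C'] [PreservesFiniteLimits H] [PreservesFiniteColimits H]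
  [FiberFunctor F'] [FiberFunctor (H ⋙ F')] in
theorem autWhisker_smul (σ : Aut F') (X : C) (x : (H ⋙ F').obj X) :
    (Pi1X.autWhisker H F' σ) • x = (σ • (show F'.obj (H.obj X) from x) : F'.obj (H.obj X)) := rfl

theorem range_le_stabilizer_iff (X : C) (a : (H ⋙ F').obj X) :
    (Pi1X.autWhisker H F').range ≤ MulAction.stabilizer (Aut (H ⋙ F')) a ↔
      ∀ σ : Aut F', (σ • (show F'.obj (H.obj X) from a) : F'.obj (H.obj X)) = a := by
  constructor
  · intro h σ
    have := h ⟨σ, rfl⟩
    rw [MulAction.mem_stabilizer_iff, autWhisker_smul] at this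
    exact this
  · rintro h _ ⟨σ, rfl⟩
    rw [MulAction.mem_stabilizer_iff, autWhisker_smul]
    exact h σ

end Pair


section Triv

variable {C : Type u} [Category.{v} C] [GaloisCategory C] (F : C ⥤ FintypeCat.{w}) [FiberFunctor F]

/-- every point of the fibre of a finite coproduct lies in a summand. -/
theorem exists_sigma_ι_eq {n : ℕ} (f : Fin n → C) (x : F.obj (∐ f)) :
    ∃ (j : Fin n) (y : F.obj (f j)), F.map (Sigma.ι f j) y = x := by
  have hc : IsColimit (F.mapCocone (colimit.cocone (Discrete.functor f))) :=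
    isColimitOfPreserves F (colimit.isColimit _)
  obtain ⟨⟨j⟩, y, hy⟩ := Limits.FintypeCat.jointly_surjective _ _ hc x
  exact ⟨j, y, hy⟩

theorem forall_fixed_of_iso_coprod_terminal {Y : C} {n : ℕ}
    (e : Y ≅ ∐ fun _ : Fin n => ⊤_ C) (y : F.obj Y) (σ : Aut F) : σ • y = y := by
  obtain ⟨j, t, ht⟩ := exists_sigma_ι_eq F (fun _ : Fin n => ⊤_ C) (F.map e.hom y)
  have hy : y = F.map (Sigma.ι (fun _ : Fin n => ⊤_ C) j ≫ e.inv) t := by
    rw [F.map_comp]
    change y = F.map e.inv (F.map (Sigma.ι (fun _ : Fin n => ⊤_ C) j) t)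
    rw [ht]
    have : F.map e.hom ≫ F.map e.inv = 𝟙 _ := by rw [← F.map_comp, e.hom_inv_id, F.map_id]
    exact (congrArg (fun m => m y) this).symm
  have := fiber_terminal_subsingleton F
  refine fixed_of_section F y (Sigma.ι (fun _ : Fin n => ⊤_ C) j ≫ e.inv) (fun t' => ?_) σ
  rw [hy, Subsingleton.elim t' t]

theorem exists_iso_coprod_terminal_of_forall_fixed (Y : C)
    (h : ∀ (y : F.obj Y) (σ : Aut F), σ • y = y) :
    ∃ n : ℕ, Nonempty (Y ≅ ∐ fun _ : Fin n => ⊤_ C) := by
  obtain ⟨ι, hfin, f, t, hc⟩ := has_decomp_connected_components' Y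
  have hiso : ∀ i, IsIso (terminal.from (f i)) := by
    intro i
    have := hc i
    obtain ⟨y⟩ := nonempty_fiber_of_isConnected F (f i)
    apply isIso_terminal_from_of_fixed F y
    intro σ
    have hm : Mono (Sigma.ι f i ≫ t.hom) := inferInstance
    apply map_injective_of_mono F (Sigma.ι f i ≫ t.hom)
    rw [← mulAction_naturality, h]
  have := Fintype.ofFinite ι
  let eι : ι ≃ Fin (Fintype.card ι) := Fintype.equivFin ι
  refine ⟨Fintype.card ι, ⟨t.symm ≪≫ Sigma.whiskerEquiv eι (fun i => ?_)⟩⟩
  exact (@asIso _ _ _ _ (terminal.from (f i)) (hiso i)).symm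

end Triv

section Pair2

variable {C C' : Type u} [Category.{v} C] [Category.{v} C'] [GaloisCategory C] [GaloisCategory C']
  (H : C ⥤ C') [PreservesFiniteLimits H] [PreservesFiniteColimits H]
  (F' : C' ⥤ FintypeCat.{w}) [FiberFunctor F'] [FiberFunctor (H ⋙ F')]

theorem normalClosure_range_le_stabilizer_iff (X : C) [IsConnected X] (a : (H ⋙ F').obj X) :
    Subgroup.normalClosure ((Pi1X.autWhisker H F').range : Set (Aut (H ⋙ F'))) ≤
        MulAction.stabilizer (Aut (H ⋙ F')) a ↔
      ∃ n : ℕ, Nonempty (H.obj X ≅ ∐ fun _ : Fin n => ⊤_ C') := by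
  constructor
  · intro h
    apply exists_iso_coprod_terminal_of_forall_fixed F'
    intro y σ
    obtain ⟨τ, hτ⟩ := MulAction.exists_smul_eq (Aut (H ⋙ F')) a (show (H ⋙ F').obj X from y)
    have hmem : τ⁻¹ * Pi1X.autWhisker H F' σ * τ ∈
        Subgroup.normalClosure ((Pi1X.autWhisker H F').range : Set (Aut (H ⋙ F'))) := by
      have h1 : Pi1X.autWhisker H F' σ ∈
          Subgroup.normalClosure ((Pi1X.autWhisker H F').range : Set (Aut (H ⋙ F'))) :=
        Subgroup.subset_normalClosure ⟨σ, rfl⟩
      have := (Subgroup.normalClosure_normal (s :=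
        ((Pi1X.autWhisker H F').range : Set (Aut (H ⋙ F'))))).conj_mem _ h1 τ⁻¹
      simpa using this
    have h2 := h hmem
    rw [MulAction.mem_stabilizer_iff, mul_smul, mul_smul, hτ] at h2
    have h3 : Pi1X.autWhisker H F' σ • (show (H ⋙ F').obj X from y) = y := by
      have := congrArg (fun z => τ • z) h2
      simp only [smul_inv_smul] at this
      rw [this, hτ]
    exact h3
  · rintro ⟨n, ⟨e⟩⟩
    let K : Subgroup (Aut (H ⋙ F')) := (MulAction.toPermHom (Aut (H ⋙ F')) ((H ⋙ F').obj X)).ker
    have hK : K ≤ MulAction.stabilizer (Aut (H ⋙ F')) a := by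
      intro τ hτ
      rw [MulAction.mem_stabilizer_iff]
      have : MulAction.toPermHom (Aut (H ⋙ F')) ((H ⋙ F').obj X) τ = 1 := hτ
      have h2 := congrArg (fun p => p a) this
      exact h2
    refine le_trans (Subgroup.normalClosure_le_normal ?_) hK
    rintro _ ⟨σ, rfl⟩
    change MulAction.toPermHom (Aut (H ⋙ F')) ((H ⋙ F').obj X) (Pi1X.autWhisker H F' σ) = 1
    ext x
    change Pi1X.autWhisker H F' σ • x = x
    rw [autWhisker_smul]
    exact forall_fixed_of_iso_coprod_terminal F' e _ σ

end Pair2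


section Pair3

variable {C C' : Type u} [Category.{v} C] [Category.{v} C'] [GaloisCategory C] [GaloisCategory C']
  (H : C ⥤ C') [PreservesFiniteLimits H] [PreservesFiniteColimits H]
  (F' : C' ⥤ FintypeCat.{w}) [FiberFunctor F'] [FiberFunctor (H ⋙ F')]

/-- if `H` preserves connected objects then the induced map of fundamental groups is surjective. -/
theorem surjective_autWhisker_of_preservesConnected
    (hconn : ∀ X : C, IsConnected X → IsConnected (H.obj X)) :
    Function.Surjective (Pi1X.autWhisker H F') := by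
  letI inst : ∀ X : C, MulAction (Aut F') ((H ⋙ F').obj X) := fun X =>
    inferInstanceAs (MulAction (Aut F') (F'.obj (H.obj X)))
  haveI hnat : IsNaturalSMul (H ⋙ F') (Aut F') :=
    ⟨fun g X Y f x => (mulAction_naturality F' g (H.map f) x).symm⟩
  haveI hcont : ∀ X : C, ContinuousSMul (Aut F') ((H ⋙ F').obj X) := fun X =>
    continuousSMul_aut_fiber F' (H.obj X)
  have hsurj : Function.Surjective (toAut (H ⋙ F') (Aut F')) := by
    apply toAut_surjective_of_isPretransitive
    intro X hX
    haveI : IsConnected (H.obj X) := hconn X inferInstance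
    exact FiberFunctor.isPretransitive_of_isConnected F' (H.obj X)
  intro τ
  obtain ⟨σ, hσ⟩ := hsurj τ
  refine ⟨σ, ?_⟩
  rw [← hσ]
  ext X x
  rfl

/-- if the induced map of fundamental groups is surjective then `H` is fully faithful. -/
theorem full_of_surjective_autWhisker (hsurj : Function.Surjective (Pi1X.autWhisker H F')) :
    H.Full := by
  refine ⟨fun {X Y} g => ?_⟩
  obtain ⟨f, hf⟩ := exists_hom_of_equivariant (H ⋙ F') (X := X) (Y := Y)
    (fun x => F'.map g x) (by
      intro τ x
      obtain ⟨σ, rfl⟩ := hsurj τ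
      rw [autWhisker_smul, autWhisker_smul]
      exact (mulAction_naturality F' σ g x).symm)
  refine ⟨f, ?_⟩
  apply F'.map_injective
  apply FintypeCat.hom_ext
  intro x
  exact hf x

include F' in
omit [PreservesFiniteLimits H] [PreservesFiniteColimits H] [FiberFunctor F'] in
theorem faithful_of_fiberFunctor_comp : H.Faithful :=
  Functor.Faithful.of_comp H F'

end Pair3


section Conn

variable {C : Type u} [Category.{v} C] [GaloisCategory C] (F : C ⥤ FintypeCat.{w}) [FiberFunctor F]

/-- an object with nonempty fibre on which the fundamental group acts transitively is connected. -/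
theorem isConnected_of_transitive (Y : C) [hne : Nonempty (F.obj Y)]
    (htrans : ∀ x y : F.obj Y, ∃ σ : Aut F, σ • x = y) : IsConnected Y := by
  refine ⟨fun hI => ?_, ?_⟩
  · obtain ⟨y⟩ := hne
    exact not_initial_of_inhabited F y hI
  · intro Z i hi hZ
    have hZne : Nonempty (F.obj Z) := (not_initial_iff_fiber_nonempty F Z).1 hZ
    obtain ⟨z⟩ := hZne
    have hinj := map_injective_of_mono F i
    have hsurj : Function.Surjective (F.map i) := by
      intro y
      obtain ⟨σ, hσ⟩ := htrans (F.map i z) y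
      refine ⟨σ • z, ?_⟩
      rw [← mulAction_naturality, hσ]
    have : IsIso (F.map i) := by
      rw [ConcreteCategory.isIso_iff_bijective]
      exact ⟨hinj, hsurj⟩
    exact isIso_of_reflects_iso i F

/-- every point of the fibre of a binary coproduct lies in a summand. -/
theorem exists_coprod_inl_or_inr (A B : C) (x : F.obj (A ⨿ B)) :
    (∃ a : F.obj A, F.map (coprod.inl : A ⟶ A ⨿ B) a = x) ∨
      (∃ b : F.obj B, F.map (coprod.inr : B ⟶ A ⨿ B) b = x) := by
  have hc : IsColimit (F.mapCocone (BinaryCofan.mk (coprod.inl : A ⟶ A ⨿ B) coprod.inr)) :=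
    isColimitOfPreserves F (coprodIsCoprod A B)
  obtain ⟨⟨j⟩, y, hy⟩ := Limits.FintypeCat.jointly_surjective _ _ hc x
  cases j
  · exact Or.inl ⟨y, hy⟩
  · exact Or.inr ⟨y, hy⟩

/-- the two-point object with trivial action. -/
theorem exists_two_fixed_points :
    ∃ (T : C) (p₀ p₁ : F.obj T), p₀ ≠ p₁ ∧ ∀ (σ : Aut F) (p : F.obj T), σ • p = p := by
  obtain ⟨t⟩ := fiber_terminal_nonempty F
  have hsub := fiber_terminal_subsingleton F
  refine ⟨(⊤_ C) ⨿ (⊤_ C), F.map coprod.inl t, F.map coprod.inr t, ?_, ?_⟩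
  · intro heq
    have hcard : Nat.card (F.obj ((⊤_ C) ⨿ (⊤_ C))) = 2 := by
      rw [card_fiber_coprod_eq_sum]
      have : Nat.card (F.obj (⊤_ C)) = 1 := by
        have : Unique (F.obj (⊤_ C)) := ⟨⟨t⟩, fun a => Subsingleton.elim _ _⟩
        exact Nat.card_unique
      rw [this]
    have hall : ∀ x : F.obj ((⊤_ C) ⨿ (⊤_ C)), x = F.map coprod.inl t := by
      intro x
      rcases exists_coprod_inl_or_inr F _ _ x with ⟨a, ha⟩ | ⟨b, hb⟩
      · rw [← ha, Subsingleton.elim a t]
      · rw [← hb, Subsingleton.elim b t, heq]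
    have : Subsingleton (F.obj ((⊤_ C) ⨿ (⊤_ C))) := ⟨fun a b => (hall a).trans (hall b).symm⟩
    have h1 : Nat.card (F.obj ((⊤_ C) ⨿ (⊤_ C))) ≤ 1 := Finite.card_le_one_iff_subsingleton.2 this
    omega
  · intro σ p
    rcases exists_coprod_inl_or_inr F _ _ p with ⟨a, ha⟩ | ⟨b, hb⟩
    · refine fixed_of_section F p coprod.inl (fun t' => ?_) σ
      rw [← ha, Subsingleton.elim t' a]
    · refine fixed_of_section F p coprod.inr (fun t' => ?_) σ
      rw [← hb, Subsingleton.elim t' b]

end Conn

section Pair4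

variable {C C' : Type u} [Category.{v} C] [Category.{v} C'] [GaloisCategory C] [GaloisCategory C']
  (H : C ⥤ C') [PreservesFiniteLimits H] [PreservesFiniteColimits H]
  (F' : C' ⥤ FintypeCat.{w}) [FiberFunctor F'] [FiberFunctor (H ⋙ F')]

include F' in
/-- a fully faithful exact functor of Galois categories preserves connected objects. -/
theorem preservesConnected_of_full [H.Full] (X : C) [IsConnected X] : IsConnected (H.obj X) := by
  classical
  obtain ⟨T, p₀, p₁, hne, hfix⟩ := exists_two_fixed_points (H ⋙ F')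
  have hneX : Nonempty (F'.obj (H.obj X)) := nonempty_fiber_of_isConnected (H ⋙ F') X
  apply isConnected_of_transitive F' (H.obj X)
  intro x y
  by_contra hcon
  push_neg at hcon
  -- the indicator of the orbit of `x`
  let χ : F'.obj (H.obj X) → F'.obj (H.obj T) := fun z =>
    if ∃ σ : Aut F', σ • x = z then p₀ else p₁
  have hfix' : ∀ (σ : Aut F') (p : F'.obj (H.obj T)), σ • p = p := by
    intro σ p
    have := hfix (Pi1X.autWhisker H F' σ) p
    rw [autWhisker_smul] at this
    exact this
  have hχ : ∀ (σ : Aut F') (z : F'.obj (H.obj X)), χ (σ • z) = σ • χ z := by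
    intro σ z
    rw [hfix']
    have hiff : (∃ τ : Aut F', τ • x = σ • z) ↔ ∃ τ : Aut F', τ • x = z := by
      constructor
      · rintro ⟨τ, hτ⟩
        refine ⟨σ⁻¹ * τ, ?_⟩
        rw [mul_smul, hτ, inv_smul_smul]
      · rintro ⟨τ, hτ⟩
        exact ⟨σ * τ, by rw [mul_smul, hτ]⟩
    simp only [χ, hiff]
  obtain ⟨e, he⟩ := exists_hom_of_equivariant F' (X := H.obj X) (Y := H.obj T) χ hχ
  obtain ⟨ε, rfl⟩ := H.map_surjective e
  -- `F ε` is constant
  obtain ⟨τ, hτ⟩ := MulAction.exists_smul_eq (Aut (H ⋙ F')) (show (H ⋙ F').obj X from x)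
    (show (H ⋙ F').obj X from y)
  have h1 : (H ⋙ F').map ε (τ • (show (H ⋙ F').obj X from x)) =
      τ • (H ⋙ F').map ε (show (H ⋙ F').obj X from x) :=
    (mulAction_naturality (H ⋙ F') τ ε _).symm
  rw [hfix, hτ] at h1
  have h2 : χ y = χ x := by
    rw [← he, ← he]; exact h1
  have hx : χ x = p₀ := by
    simp only [χ]
    rw [if_pos ⟨1, one_smul _ _⟩]
  have hy : χ y = p₁ := by
    simp only [χ]
    rw [if_neg]
    rintro ⟨σ, hσ⟩
    exact hcon σ hσ
  rw [hx, hy] at h2
  exact hne h2.symm

end Pair4

end Groth.Agent.H1.GalFun
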