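import Mathlib
import Groth.Agent.Lib.helper1.GalFun

set_option autoImplicit false

/-! Every open subgroup of the fundamental group is a stabilizer on a connected object (helper1). -/

universe u v w

open CategoryTheory CategoryTheory.Limits PreGaloisCategory

namespace Groth.Agent.H1.GalOS

open Groth.Agent.H1.GalFun
open scoped FintypeCatDiscrete

section Single

variable {C : Type u} [Category.{v} C] [GaloisCategory C] (F : C ⥤ FintypeCat.{w}) [FiberFunctor F]

/-- every finite set with a continuous action of the fundamental group is a fibre. -/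
theorem exists_fiber_equiv (T : Type w) [Finite T] [MulAction (Aut F) T]
    (hcont : ∀ t : T, IsOpen (MulAction.stabilizer (Aut F) t : Set (Aut F))) :
    ∃ (X : C) (φ : F.obj X ≃ T), ∀ (σ : Aut F) (x : F.obj X), φ (σ • x) = σ • φ x := by
  let T' : FintypeCat.{w} := FintypeCat.of T
  let Y : Action FintypeCat (Aut F) := Action.FintypeCat.ofMulAction (Aut F) T'
  have hY : Y.IsContinuous := by
    letI : TopologicalSpace T := ⊥
    haveI : DiscreteTopology T := ⟨rfl⟩
    have : ContinuousSMul (Aut F) T := by
      rw [continuousSMul_iff_stabilizer_isOpen]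
      exact hcont
    exact this
  let i : (functorToContAction F).obj ((functorToContAction F).objPreimage ⟨Y, hY⟩) ≅ ⟨Y, hY⟩ :=
    (functorToContAction F).objObjPreimageIso ⟨Y, hY⟩
  let X : C := (functorToContAction F).objPreimage ⟨Y, hY⟩
  let j : (functorToAction F).obj X ≅ Y := (ObjectProperty.ι _).mapIso i
  have hcomm : ∀ (σ : Aut F) (x : F.obj X), j.hom.hom (σ • x) = σ • (j.hom.hom x : T) := by
    intro σ x
    exact ConcreteCategory.congr_hom (j.hom.comm σ) x
  have h1 : ∀ x : F.obj X, j.inv.hom (j.hom.hom x) = x := by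
    intro x
    have := congrArg (fun m => m.hom) j.hom_inv_id
    exact ConcreteCategory.congr_hom this x
  have h2 : ∀ t : T, j.hom.hom (j.inv.hom t) = t := by
    intro t
    have := congrArg (fun m => m.hom) j.inv_hom_id
    exact ConcreteCategory.congr_hom this t
  exact ⟨X, ⟨fun x => j.hom.hom x, fun t => j.inv.hom t, h1, h2⟩, hcomm⟩

/-- every open subgroup of the fundamental group is the stabilizer of a point of a connected
object. -/
theorem exists_connected_stabilizer_eq (V : Subgroup (Aut F)) (hV : IsOpen (V : Set (Aut F))) :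
    ∃ (X : C) (a : F.obj X), IsConnected X ∧ MulAction.stabilizer (Aut F) a = V := by
  classical
  haveI : Finite (Aut F ⧸ V) := V.quotient_finite_of_isOpen hV
  haveI : DiscreteTopology (Aut F ⧸ V) := QuotientGroup.discreteTopology hV
  let n := Nat.card (Aut F ⧸ V)
  let e : (Aut F ⧸ V) ≃ ULift.{w} (Fin n) := (Finite.equivFin _).trans Equiv.ulift.symm
  letI : MulAction (Aut F) (ULift.{w} (Fin n)) := e.symm.mulAction (Aut F)
  have hsmul : ∀ (σ : Aut F) (t : ULift.{w} (Fin n)), σ • t = e (σ • e.symm t) := fun σ t => rfl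
  have hcont : ∀ t : ULift.{w} (Fin n),
      IsOpen (MulAction.stabilizer (Aut F) t : Set (Aut F)) := by
    intro t
    have h := stabilizer_isOpen (Aut F) (e.symm t)
    convert h using 1
    ext σ
    simp only [SetLike.mem_coe, MulAction.mem_stabilizer_iff, hsmul]
    constructor
    · intro h
      have := congrArg e.symm h
      simpa using this
    · intro h
      rw [h]
      simp
  obtain ⟨X, φ, hφ⟩ := exists_fiber_equiv F (ULift.{w} (Fin n)) hcont
  let a : F.obj X := φ.symm (e (QuotientGroup.mk 1))
  have hne : Nonempty (F.obj X) := ⟨a⟩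
  refine ⟨X, a, ?_, ?_⟩
  · apply isConnected_of_transitive F X
    intro x y
    obtain ⟨σ, hσ⟩ := MulAction.exists_smul_eq (Aut F) (e.symm (φ x)) (e.symm (φ y))
    refine ⟨σ, φ.injective ?_⟩
    rw [hφ, hsmul, hσ]
    simp
  · ext σ
    rw [MulAction.mem_stabilizer_iff]
    constructor
    · intro h
      have h1 := congrArg φ h
      rw [hφ] at h1
      simp only [a, Equiv.apply_symm_apply, hsmul, Equiv.symm_apply_apply] at h1
      have h2 := e.injective h1
      rw [MulAction.Quotient.smul_mk, QuotientGroup.eq] at h2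
      simpa using h2
    · intro h
      apply φ.injective
      rw [hφ]
      simp only [a, Equiv.apply_symm_apply, hsmul, Equiv.symm_apply_apply]
      congr 1
      rw [MulAction.Quotient.smul_mk, QuotientGroup.eq]
      simpa using h

/-- closed subgroups are separated from outside points by stabilizers of points of connected
objects. -/
theorem exists_connected_stabilizer_separating (R : Subgroup (Aut F))
    (hR : IsClosed (R : Set (Aut F))) (σ : Aut F) (hσ : σ ∉ R) :
    ∃ (X : C) (a : F.obj X), IsConnected X ∧ R ≤ MulAction.stabilizer (Aut F) a ∧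
      σ ∉ MulAction.stabilizer (Aut F) a := by
  let V : Set (Aut F) := (fun τ => σ * τ) ⁻¹' (R : Set (Aut F))ᶜ
  have hVo : IsOpen V := hR.isOpen_compl.preimage (continuous_const.mul continuous_id)
  have hV1 : (1 : Aut F) ∈ V := by
    change σ * 1 ∈ (R : Set (Aut F))ᶜ
    rw [mul_one]
    exact hσ
  obtain ⟨A, _, hA⟩ := (nhds_one_has_basis_stabilizers F).mem_iff.1 (hVo.mem_nhds hV1)
  haveI := A.isGalois
  let S : Subgroup (Aut F) := MulAction.stabilizer (Aut F) A.pt
  haveI hSn : S.Normal := stabilizer_normal_of_isGalois F A.obj A.pt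
  have hSo : IsOpen (S : Set (Aut F)) := stabilizer_isOpen (Aut F) A.pt
  have hUo : IsOpen ((R ⊔ S : Subgroup (Aut F)) : Set (Aut F)) :=
    Subgroup.isOpen_mono le_sup_right hSo
  obtain ⟨X, a, hX, ha⟩ := exists_connected_stabilizer_eq F (R ⊔ S) hUo
  refine ⟨X, a, hX, ?_, ?_⟩
  · rw [ha]
    exact le_sup_left
  · rw [ha]
    intro hmem
    have hmem' : σ ∈ ((R ⊔ S : Subgroup (Aut F)) : Set (Aut F)) := hmem
    rw [Subgroup.mul_normal] at hmem'
    obtain ⟨ρ, hρ, s, hs, hρs⟩ := hmem'
    have hs' : s⁻¹ ∈ V := hA (S.inv_mem hs)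
    have : σ * s⁻¹ = ρ := by
      rw [← hρs, mul_inv_cancel_right]
    change σ * s⁻¹ ∈ (R : Set (Aut F))ᶜ at hs'
    rw [this] at hs'
    exact hs' hρ

end Single

end Groth.Agent.H1.GalOS
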