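import Mathlib
import Groth.Agent.Lib.helper1.GalFun

set_option autoImplicit false

/-! Topological arguments for functoriality of fundamental groups (helper1). -/

universe u v w

open CategoryTheory CategoryTheory.Limits PreGaloisCategory

namespace Groth.Agent.H1.GalTop

open Groth.Agent.H1.GalFun

section Single

variable {C : Type u} [Category.{v} C] [GaloisCategory C] (F : C ⥤ FintypeCat.{w}) [FiberFunctor F]

/-- a pointed connected object maps to any pointed object whose stabilizer is bigger. -/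
theorem exists_hom_of_stabilizer_le {Y X : C} [IsConnected Y] (y : F.obj Y) (a : F.obj X)
    (h : MulAction.stabilizer (Aut F) y ≤ MulAction.stabilizer (Aut F) a) :
    ∃ q : Y ⟶ X, F.map q y = a := by
  classical
  have htr : ∀ z : F.obj Y, ∃ σ : Aut F, σ • y = z := fun z =>
    MulAction.exists_smul_eq (Aut F) y z
  let φ : F.obj Y → F.obj X := fun z => (Classical.choose (htr z)) • a
  have hφ0 : ∀ σ : Aut F, φ (σ • y) = σ • a := by
    intro σ
    have hτ := Classical.choose_spec (htr (σ • y))
    set τ := Classical.choose (htr (σ • y)) with hτdef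
    have hmem : σ⁻¹ * τ ∈ MulAction.stabilizer (Aut F) y := by
      rw [MulAction.mem_stabilizer_iff, mul_smul, hτ, inv_smul_smul]
    have h2 := h hmem
    rw [MulAction.mem_stabilizer_iff, mul_smul] at h2
    change τ • a = σ • a
    have h3 := congrArg (fun z => σ • z) h2
    simp only [smul_inv_smul] at h3
    exact h3
  have hφ : ∀ (σ : Aut F) (z : F.obj Y), φ (σ • z) = σ • φ z := by
    intro σ z
    obtain ⟨τ, rfl⟩ := htr z
    rw [← mul_smul, hφ0, hφ0, mul_smul]
  obtain ⟨q, hq⟩ := exists_hom_of_equivariant F φ hφ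
  refine ⟨q, ?_⟩
  rw [hq]
  have := hφ0 1
  rw [one_smul, one_smul] at this
  exact this

end Single

section Pair

variable {C C' : Type u} [Category.{v} C] [Category.{v} C'] [GaloisCategory C] [GaloisCategory C']
  (H : C ⥤ C') [PreservesFiniteLimits H] [PreservesFiniteColimits H]
  (F' : C' ⥤ FintypeCat.{w}) [FiberFunctor F'] [FiberFunctor (H ⋙ F')]

theorem continuous_autWhisker : Continuous (Pi1X.autWhisker H F') := by
  letI inst : ∀ X : C, MulAction (Aut F') ((H ⋙ F').obj X) := fun X =>
    inferInstanceAs (MulAction (Aut F') (F'.obj (H.obj X)))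
  haveI hnat : IsNaturalSMul (H ⋙ F') (Aut F') :=
    ⟨fun g X Y f x => (mulAction_naturality F' g (H.map f) x).symm⟩
  haveI hcont : ∀ X : C, ContinuousSMul (Aut F') ((H ⋙ F').obj X) := fun X =>
    continuousSMul_aut_fiber F' (H.obj X)
  have h := toAut_continuous (H ⋙ F') (Aut F')
  have heq : (Pi1X.autWhisker H F' : Aut F' → Aut (H ⋙ F')) = toAut (H ⋙ F') (Aut F') := by
    funext σ
    ext X x
    rfl
  rw [heq]
  exact h

/-- key topological lemma: if the kernel of `u` stabilizes `a'` then some point of some `H X`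
has stabilizer inside the stabilizer of `a'`. -/
theorem exists_stabilizer_le_of_ker_le {X' : C'} (a' : F'.obj X')
    (h : (Pi1X.autWhisker H F').ker ≤ MulAction.stabilizer (Aut F') a') :
    ∃ (X : C) (a : F'.obj (H.obj X)),
      MulAction.stabilizer (Aut F') a ≤ MulAction.stabilizer (Aut F') a' := by
  have hu : Continuous (Pi1X.autWhisker H F') := continuous_autWhisker H F'
  let U' : Set (Aut F') := MulAction.stabilizer (Aut F') a'
  have hU' : IsOpen U' := stabilizer_isOpen (Aut F') a'
  have hZ : IsCompact (U'ᶜ) := hU'.isClosed_compl.isCompact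
  have hZ' : IsClosed ((Pi1X.autWhisker H F') '' U'ᶜ) := (hZ.image hu).isClosed
  have h1 : (1 : Aut (H ⋙ F')) ∈ ((Pi1X.autWhisker H F') '' U'ᶜ)ᶜ := by
    rintro ⟨z, hz, hz1⟩
    exact hz (h hz1)
  have hnhds : ((Pi1X.autWhisker H F') '' U'ᶜ)ᶜ ∈ nhds (1 : Aut (H ⋙ F')) :=
    hZ'.isOpen_compl.mem_nhds h1
  obtain ⟨A, _, hA⟩ := (nhds_one_has_basis_stabilizers (H ⋙ F')).mem_iff.1 hnhds
  refine ⟨A.obj, A.pt, ?_⟩
  intro σ hσ
  by_contra hcon
  have hmem : Pi1X.autWhisker H F' σ ∈ MulAction.stabilizer (Aut (H ⋙ F')) A.pt := by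
    rw [MulAction.mem_stabilizer_iff, autWhisker_smul]
    exact hσ
  exact hA hmem ⟨σ, hcon, rfl⟩

/-- consequence: a connected subobject of some `H X` maps to `X'` hitting `a'`. -/
theorem exists_connected_sub_of_ker_le {X' : C'} (a' : F'.obj X')
    (h : (Pi1X.autWhisker H F').ker ≤ MulAction.stabilizer (Aut F') a') :
    ∃ (X : C) (Y' : C') (i : Y' ⟶ H.obj X) (q : Y' ⟶ X') (y : F'.obj Y'),
      Mono i ∧ IsConnected Y' ∧ F'.map q y = a' := by
  obtain ⟨X, a, ha⟩ := exists_stabilizer_le_of_ker_le H F' a' h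
  obtain ⟨Y', i, y, hy, hc, hm⟩ := fiber_in_connected_component F' (H.obj X) a
  have hst : MulAction.stabilizer (Aut F') y ≤ MulAction.stabilizer (Aut F') a' := by
    intro σ hσ
    apply ha
    rw [MulAction.mem_stabilizer_iff] at hσ ⊢
    rw [← hy, mulAction_naturality, hσ]
  obtain ⟨q, hq⟩ := exists_hom_of_stabilizer_le F' y a' hst
  exact ⟨X, Y', i, q, y, hm, hc, hq⟩

/-- elements of the kernel act trivially on subobjects of objects in the image of `H`. -/
theorem ker_smul_eq_of_mono {X : C} {Y' : C'} (i : Y' ⟶ H.obj X) [Mono i]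
    (σ : Aut F') (hσ : σ ∈ (Pi1X.autWhisker H F').ker) (y : F'.obj Y') : σ • y = y := by
  apply map_injective_of_mono F' i
  rw [← mulAction_naturality]
  have h1 : Pi1X.autWhisker H F' σ = 1 := hσ
  have h2 := congrArg (fun τ : Aut (H ⋙ F') => τ.hom.app X) h1
  exact congrArg (fun m => m (F'.map i y)) h2

/-- if a connected subobject of some `H X` maps to the connected object `X'` then the kernel
acts trivially on the fibre of `X'`. -/
theorem ker_le_stabilizer_of_connected_sub {X' : C'} [IsConnected X'] (a' : F'.obj X')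
    {X : C} {Y' : C'} (i : Y' ⟶ H.obj X) (q : Y' ⟶ X') [Mono i] [IsConnected Y'] :
    (Pi1X.autWhisker H F').ker ≤ MulAction.stabilizer (Aut F') a' := by
  intro σ hσ
  rw [MulAction.mem_stabilizer_iff]
  haveI : Nonempty (F'.obj Y') := nonempty_fiber_of_isConnected F' Y'
  obtain ⟨y, rfl⟩ := surjective_of_nonempty_fiber_of_isConnected F' q a'
  rw [mulAction_naturality, ker_smul_eq_of_mono H F' i σ hσ y]

theorem isClosed_range_autWhisker :
    IsClosed (Set.range (Pi1X.autWhisker H F')) :=
  (isCompact_range (continuous_autWhisker H F')).isClosed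

end Pair

end Groth.Agent.H1.GalTop
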