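import Mathlib
import Groth.Agent.Lib.helper1.GalFun
import Groth.Agent.Lib.helper1.GalTop
import Groth.Agent.Lib.helper1.GalOS

set_option autoImplicit false

/-! Descent of objects along a surjection of fundamental groups (helper1). -/

universe u v w

open CategoryTheory CategoryTheory.Limits PreGaloisCategory

namespace Groth.Agent.H1.GalDesc

open Groth.Agent.H1.GalFun Groth.Agent.H1.GalTop Groth.Agent.H1.GalOS

section Pair

variable {C C' : Type u} [Category.{v} C] [Category.{v} C'] [GaloisCategory C] [GaloisCategory C']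
  (H : C ⥤ C') [PreservesFiniteLimits H] [PreservesFiniteColimits H]
  (F' : C' ⥤ FintypeCat.{w}) [FiberFunctor F'] [FiberFunctor (H ⋙ F')]

/-- if `u` is surjective and its kernel acts trivially on the fibre of `X'`, then `X'` is in the
essential image of `H`. -/
theorem exists_iso_of_ker_le (hsurj : Function.Surjective (Pi1X.autWhisker H F')) (X' : C')
    (hker : ∀ σ ∈ (Pi1X.autWhisker H F').ker, ∀ y : F'.obj X', σ • y = y) :
    ∃ X : C, Nonempty (H.obj X ≅ X') := by
  classical
  let s : Aut (H ⋙ F') → Aut F' := Function.surjInv hsurj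
  have hs : ∀ τ, Pi1X.autWhisker H F' (s τ) = τ := Function.surjInv_eq hsurj
  have hkey : ∀ (σ₁ σ₂ : Aut F'), Pi1X.autWhisker H F' σ₁ = Pi1X.autWhisker H F' σ₂ →
      ∀ y : F'.obj X', σ₁ • y = σ₂ • y := by
    intro σ₁ σ₂ h y
    have hmem : σ₂⁻¹ * σ₁ ∈ (Pi1X.autWhisker H F').ker := by
      rw [MonoidHom.mem_ker, map_mul, map_inv, h, inv_mul_cancel]
    have h1 := hker _ hmem y
    rw [mul_smul] at h1
    have h2 := congrArg (fun z => σ₂ • z) h1
    simp only [smul_inv_smul] at h2
    exact h2
  let T : Type w := F'.obj X'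
  haveI : Finite T := inferInstanceAs (Finite (F'.obj X'))
  letI : MulAction (Aut (H ⋙ F')) T :=
    { smul := fun τ t => ((s τ) • (show F'.obj X' from t) : F'.obj X')
      one_smul := fun t => by
        change ((s 1) • (show F'.obj X' from t) : F'.obj X') = t
        rw [hkey (s 1) 1 (by rw [hs, map_one]), one_smul]
      mul_smul := fun τ₁ τ₂ t => by
        change ((s (τ₁ * τ₂)) • (show F'.obj X' from t) : F'.obj X') =
          (s τ₁ • (s τ₂ • (show F'.obj X' from t)) : F'.obj X')
        rw [← mul_smul]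
        exact hkey _ _ (by rw [hs, map_mul, hs, hs]) t }
  have hact : ∀ (σ : Aut F') (t : T),
      (Pi1X.autWhisker H F' σ) • t = (σ • (show F'.obj X' from t) : F'.obj X') := by
    intro σ t
    exact hkey _ _ (hs (Pi1X.autWhisker H F' σ)) t
  have hcont : ∀ t : T,
      IsOpen (MulAction.stabilizer (Aut (H ⋙ F')) t : Set (Aut (H ⋙ F'))) := by
    intro t
    have hU' : IsOpen (MulAction.stabilizer (Aut F') (show F'.obj X' from t) : Set (Aut F')) :=
      stabilizer_isOpen (Aut F') _
    have hZ : IsCompact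
        ((MulAction.stabilizer (Aut F') (show F'.obj X' from t) : Set (Aut F'))ᶜ) :=
      hU'.isClosed_compl.isCompact
    have hZ' := (hZ.image (continuous_autWhisker H F')).isClosed
    have heq : (MulAction.stabilizer (Aut (H ⋙ F')) t : Set (Aut (H ⋙ F'))) =
        ((Pi1X.autWhisker H F') ''
          (MulAction.stabilizer (Aut F') (show F'.obj X' from t) : Set (Aut F'))ᶜ)ᶜ := by
      ext τ
      obtain ⟨σ, rfl⟩ := hsurj τ
      simp only [Set.mem_compl_iff, Set.mem_image, SetLike.mem_coe,
        MulAction.mem_stabilizer_iff, hact]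
      constructor
      · rintro h ⟨σ', hσ', hσσ'⟩
        apply hσ'
        rw [hkey σ' σ hσσ' t]
        exact h
      · intro h
        by_contra hne
        exact h ⟨σ, hne, rfl⟩
    rw [heq]
    exact hZ'.isOpen_compl
  obtain ⟨X, φ, hφ⟩ := exists_fiber_equiv (H ⋙ F') T hcont
  have hφ' : ∀ (σ : Aut F') (x : F'.obj (H.obj X)),
      (φ (σ • x) : F'.obj X') = σ • (show F'.obj X' from φ x) := by
    intro σ x
    have h1 := hφ (Pi1X.autWhisker H F' σ) x
    rw [hact] at h1
    exact h1
  obtain ⟨f, hf⟩ := exists_hom_of_equivariant F' (X := H.obj X) (Y := X') (fun x => φ x) hφ'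
  have hiso : IsIso (F'.map f) := by
    rw [ConcreteCategory.isIso_iff_bijective]
    have h1 : (F'.map f : F'.obj (H.obj X) → F'.obj X') = φ := funext hf
    rw [h1]
    exact φ.bijective
  have := isIso_of_reflects_iso f F'
  exact ⟨X, ⟨asIso f⟩⟩

end Pair

end Groth.Agent.H1.GalDesc
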