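import Mathlib
import Groth.Agent.Lib.helper1.GalFun

set_option autoImplicit false

/-! Exact functors out of Galois categories are conservative (helper1). -/

universe u v w

open CategoryTheory CategoryTheory.Limits PreGaloisCategory

namespace Groth.Agent.H1.GalExact

section Cons

variable {C : Type u} [Category.{v} C] [GaloisCategory C] (G : C ⥤ FintypeCat.{w})
  [PreservesFiniteLimits G] [PreservesFiniteCoproducts G] [G.PreservesEpimorphisms]

theorem terminal_nonempty : Nonempty (G.obj (⊤_ C)) := by
  have h : IsTerminal (G.obj (⊤_ C)) := IsTerminal.isTerminalObj G _ terminalIsTerminal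
  have h2 : IsTerminal ((FintypeCat.incl.{w}).obj (G.obj (⊤_ C))) :=
    IsTerminal.isTerminalObj FintypeCat.incl.{w} _ h
  have := Types.isTerminalEquivUnique _ h2
  exact ⟨this.default⟩

theorem nonempty_of_not_initial (X : C) (h : IsInitial X → False) : Nonempty (G.obj X) := by
  let F := GaloisCategory.getFiberFunctor C
  have hne : Nonempty (F.obj X) := (not_initial_iff_fiber_nonempty F X).1 h
  have hepi : Epi (terminal.from X) := by
    apply F.epi_of_epi_map
    apply FintypeCat.incl.epi_of_epi_map
    rw [CategoryTheory.epi_iff_surjective]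
    intro t
    obtain ⟨x⟩ := hne
    have := Groth.Agent.H1.GalFun.fiber_terminal_subsingleton F
    exact ⟨x, Subsingleton.elim (α := F.obj (⊤_ C)) _ _⟩
  have h2 : Function.Surjective (G.map (terminal.from X)) :=
    surjective_of_epi (FintypeCat.incl.map (G.map (terminal.from X)))
  obtain ⟨t⟩ := terminal_nonempty G
  obtain ⟨x, _⟩ := h2 t
  exact ⟨x⟩

theorem card_coprod (X Y : C) :
    Nat.card (G.obj (X ⨿ Y)) = Nat.card (G.obj X) + Nat.card (G.obj Y) := by
  let e : G.obj (X ⨿ Y) ≃ G.obj X ⊕ G.obj Y := Iso.toEquiv
    <| (PreservesColimitPair.iso (G ⋙ FintypeCat.incl) X Y).symm.trans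
    <| Types.binaryCoproductIso (FintypeCat.incl.obj (G.obj X)) (FintypeCat.incl.obj (G.obj Y))
  rw [← Nat.card_sum]
  exact Nat.card_eq_of_bijective e.toFun (Equiv.bijective e)

theorem isIso_of_mono {X Y : C} (f : X ⟶ Y) [Mono f] (hf : IsIso (G.map f)) : IsIso f := by
  obtain ⟨Z, u, ⟨hc⟩⟩ := PreGaloisCategory.monoInducesIsoOnDirectSummand f
  let e : Y ≅ X ⨿ Z := hc.coconePointUniqueUpToIso (colimit.isColimit _)
  have hcard : Nat.card (G.obj Y) = Nat.card (G.obj X) + Nat.card (G.obj Z) := by
    rw [← card_coprod]
    exact Nat.card_congr (FintypeCat.equivEquivIso.symm (G.mapIso e))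
  have hcard2 : Nat.card (G.obj X) = Nat.card (G.obj Y) := by
    have hb : Function.Bijective (G.map f) := by
      rw [← ConcreteCategory.isIso_iff_bijective]; exact hf
    exact Nat.card_eq_of_bijective _ hb
  have hZ : Nat.card (G.obj Z) = 0 := by omega
  have hZi : Nonempty (IsInitial Z) := by
    by_contra hcon
    obtain ⟨z⟩ := nonempty_of_not_initial G Z (fun h => hcon ⟨h⟩)
    have : Nat.card (G.obj Z) ≠ 0 := Nat.card_ne_zero.2 ⟨⟨z⟩, inferInstance⟩
    exact this hZ
  obtain ⟨hZi⟩ := hZi
  -- `f` is an iso since `Y = X ⨿ 0`
  let F := GaloisCategory.getFiberFunctor C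
  have : IsIso (F.map f) := by
    rw [ConcreteCategory.isIso_iff_bijective]
    refine ⟨Groth.Agent.H1.GalFun.map_injective_of_mono F f, ?_⟩
    intro y
    have hcF := isColimitOfPreserves F hc
    have hZe : IsEmpty (F.obj Z) := (initial_iff_fiber_empty F Z).1 ⟨hZi⟩
    obtain ⟨⟨j⟩, x, hx⟩ := Limits.FintypeCat.jointly_surjective _ _ hcF y
    cases j with
    | left => exact ⟨x, hx⟩
    | right => exact (hZe.false x).elim
  exact isIso_of_reflects_iso f F

theorem mono_of_isIso_map {X Y : C} (f : X ⟶ Y) (hf : IsIso (G.map f)) : Mono f := by
  have hinj : Function.Injective (G.map f) := by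
    have hb : Function.Bijective (G.map f) := by
      rw [← ConcreteCategory.isIso_iff_bijective]; exact hf
    exact hb.1
  have hΔ1 : pullback.diagonal f ≫ pullback.fst f f = 𝟙 X := pullback.diagonal_fst f
  have hΔ2 : pullback.diagonal f ≫ pullback.snd f f = 𝟙 X := pullback.diagonal_snd f
  have hG1 : ∀ a : G.obj X, G.map (pullback.fst f f) (G.map (pullback.diagonal f) a) = a := by
    intro a
    have := congrArg (fun t => G.map t) hΔ1
    simp only [G.map_comp, G.map_id] at this
    exact congrArg (fun t => t a) this
  have hG2 : ∀ a : G.obj X, G.map (pullback.snd f f) (G.map (pullback.diagonal f) a) = a := by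
    intro a
    have := congrArg (fun t => G.map t) hΔ2
    simp only [G.map_comp, G.map_id] at this
    exact congrArg (fun t => t a) this
  have hcond : ∀ p : G.obj (pullback f f),
      G.map (pullback.snd f f) p = G.map (pullback.fst f f) p := by
    intro p
    apply hinj
    have := congrArg (fun t => G.map t) (pullback.condition (f := f) (g := f))
    simp only [G.map_comp] at this
    exact (congrArg (fun t => t p) this).symm
  have hmonoΔ : Mono (pullback.diagonal f) := inferInstance
  have hisoGΔ : IsIso (G.map (pullback.diagonal f)) := by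
    rw [ConcreteCategory.isIso_iff_bijective]
    constructor
    · intro a b hab
      rw [← hG1 a, ← hG1 b, hab]
    · intro p
      refine ⟨G.map (pullback.fst f f) p, ?_⟩
      have hP : IsLimit (G.mapCone (limit.cone (cospan f f))) :=
        isLimitOfPreserves G (limit.isLimit _)
      apply Concrete.isLimit_ext (cospan f f ⋙ G) hP
      have hleft : G.map (pullback.fst f f) (G.map (pullback.diagonal f)
          (G.map (pullback.fst f f) p)) = G.map (pullback.fst f f) p := hG1 _
      have hright : G.map (pullback.snd f f) (G.map (pullback.diagonal f)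
          (G.map (pullback.fst f f) p)) = G.map (pullback.snd f f) p := by
        rw [hG2, hcond]
      intro j
      rcases j with _ | _ | _
      · have hπ : (G.mapCone (limit.cone (cospan f f))).π.app none =
            G.map (pullback.fst f f) ≫ G.map f := by
          rw [← G.map_comp]
          change G.map (limit.π (cospan f f) none) = _
          congr 1
          exact (limit.w (cospan f f) WalkingCospan.Hom.inl).symm
        rw [hπ]
        change G.map f (G.map (pullback.fst f f) _) = G.map f (G.map (pullback.fst f f) _)
        rw [hleft]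
      · exact hleft
      · exact hright
  have hisoΔ : IsIso (pullback.diagonal f) := isIso_of_mono G _ hisoGΔ
  have hfs : pullback.fst f f = pullback.snd f f := by
    rw [← cancel_epi (pullback.diagonal f), hΔ1, hΔ2]
  constructor
  intro W g h hgh
  have h1 : pullback.lift g h hgh ≫ pullback.fst f f = g := pullback.lift_fst _ _ _
  have h2 : pullback.lift g h hgh ≫ pullback.snd f f = h := pullback.lift_snd _ _ _
  calc g = pullback.lift g h hgh ≫ pullback.fst f f := h1.symm
    _ = pullback.lift g h hgh ≫ pullback.snd f f := by rw [hfs]
    _ = h := h2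

theorem reflectsIsomorphisms_of_exact : G.ReflectsIsomorphisms := by
  constructor
  intro X Y f hf
  have := mono_of_isIso_map G f hf
  exact isIso_of_mono G f hf

end Cons

section Comp

variable {C D : Type u} [Category.{v} C] [Category.{v} D] [GaloisCategory C] [GaloisCategory D]
  (H : C ⥤ D) [PreservesFiniteLimits H] [PreservesFiniteColimits H]
  (F' : D ⥤ FintypeCat.{w}) [FiberFunctor F']

/-- the composite of an exact functor of Galois categories with a fibre functor is a
fibre functor. -/
noncomputable def fiberFunctorComp : FiberFunctor (H ⋙ F') := by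
  haveI : PreservesFiniteCoproducts H := inferInstance
  haveI : H.PreservesEpimorphisms := inferInstance
  haveI : PreservesFiniteCoproducts (H ⋙ F') := inferInstance
  haveI : (H ⋙ F').PreservesEpimorphisms := inferInstance
  haveI : PreservesFiniteLimits (H ⋙ F') := inferInstance
  exact
  { preservesTerminalObjects := inferInstance
    preservesPullbacks := inferInstance
    preservesFiniteCoproducts := inferInstance
    preservesEpis := inferInstance
    preservesQuotientsByFiniteGroups := fun G _ _ => by
      haveI : PreservesColimitsOfShape (SingleObj G) H := by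
        choose G' hg hf he using Finite.exists_type_univ_nonempty_mulEquiv G
        exact Limits.preservesColimitsOfShape_of_equiv he.some.toSingleObjEquiv.symm H
      exact comp_preservesColimitsOfShape H F'
    reflectsIsos := reflectsIsomorphisms_of_exact (H ⋙ F') }

end Comp

end Groth.Agent.H1.GalExact
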