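import Mathlib
import Groth.Agent.Lib.helper1.GalFun

set_option autoImplicit false

/-! Uniqueness of fibre functors on a Galois category (helper1). -/

universe u v w

open CategoryTheory CategoryTheory.Limits PreGaloisCategory

namespace Groth.Agent.H1.GalUniq

open Groth.Agent.H1.GalFun

section General

variable {C : Type u} [Category.{v} C] [GaloisCategory C]
  (G : C ⥤ FintypeCat.{w}) [PreservesFiniteLimits G]

/-- The value on a binary product is the product of the values. -/
noncomputable def prodEquiv (X Y : C) : G.obj (X ⨯ Y) ≃ G.obj X × G.obj Y :=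
  (PreservesLimitPair.iso (G ⋙ FintypeCat.incl) X Y ≪≫
  Types.binaryProductIso (G.obj X) (G.obj Y)).toEquiv

lemma prodEquiv_symm_fst_apply {X Y : C} (x : G.obj X) (y : G.obj Y) :
    G.map prod.fst ((prodEquiv G X Y).symm (x, y)) = x := by
  simp only [prodEquiv]
  change ((Types.binaryProductIso _ _).inv ≫ _ ≫ (G ⋙ FintypeCat.incl).map prod.fst) _ = _
  erw [PreservesLimitPair.iso_inv_fst, Types.binaryProductIso_inv_comp_fst]
  rfl

lemma prodEquiv_symm_snd_apply {X Y : C} (x : G.obj X) (y : G.obj Y) :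
    G.map prod.snd ((prodEquiv G X Y).symm (x, y)) = y := by
  simp only [prodEquiv]
  change ((Types.binaryProductIso _ _).inv ≫ _ ≫ (G ⋙ FintypeCat.incl).map prod.snd) _ = _
  erw [PreservesLimitPair.iso_inv_snd, Types.binaryProductIso_inv_comp_snd]
  rfl

lemma prod_ext {X Y : C} (w₁ w₂ : G.obj (X ⨯ Y))
    (h1 : G.map prod.fst w₁ = G.map prod.fst w₂) (h2 : G.map prod.snd w₁ = G.map prod.snd w₂) :
    w₁ = w₂ := by
  have key : ∀ w : G.obj (X ⨯ Y),
      prodEquiv G X Y w = (G.map prod.fst w, G.map prod.snd w) := by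
    intro w
    obtain ⟨⟨x, y⟩, rfl⟩ := (prodEquiv G X Y).symm.surjective w
    rw [Equiv.apply_symm_apply, prodEquiv_symm_fst_apply, prodEquiv_symm_snd_apply]
  apply (prodEquiv G X Y).injective
  rw [key, key, h1, h2]

/-- The value on an equalizer. -/
noncomputable def equalizerEquiv {X Y : C} (f g : X ⟶ Y) :
    G.obj (equalizer f g) ≃ { x : G.obj X // G.map f x = G.map g x } :=
  (PreservesEqualizer.iso (G ⋙ FintypeCat.incl) f g ≪≫
    Types.equalizerIso (G.map f).hom (G.map g).hom).toEquiv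

end General

section Main

variable {C : Type u} [Category.{v} C] [GaloisCategory C]
  (F : C ⥤ FintypeCat.{w}) [FiberFunctor F] (F' : C ⥤ FintypeCat.{w}) [PreservesFiniteLimits F']
  [PreservesColimitsOfShape (Discrete WalkingPair) F']

omit [GaloisCategory C] in
lemma map_comp_apply (G : C ⥤ FintypeCat.{w}) {X Y Z : C} (f : X ⟶ Y) (g : Y ⟶ Z)
    (x : G.obj X) : G.map (f ≫ g) x = G.map g (G.map f x) := by
  rw [G.map_comp]
  rfl

omit [PreservesFiniteLimits F'] in
theorem card_coprod' (X Y : C) :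
    Nat.card (F'.obj (X ⨿ Y)) = Nat.card (F'.obj X) + Nat.card (F'.obj Y) := by
  let e : F'.obj (X ⨿ Y) ≃ F'.obj X ⊕ F'.obj Y := Iso.toEquiv
    <| (PreservesColimitPair.iso (F' ⋙ FintypeCat.incl) X Y).symm.trans
    <| Types.binaryCoproductIso (FintypeCat.incl.obj (F'.obj X)) (FintypeCat.incl.obj (F'.obj Y))
  rw [← Nat.card_sum]
  exact Nat.card_eq_of_bijective e.toFun (Equiv.bijective e)

omit [PreservesFiniteLimits F'] in
include F in
theorem isEmpty_of_isInitial (X : C) (hX : IsInitial X) : IsEmpty (F'.obj X) := by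
  have hFX : IsEmpty (F.obj X) := (initial_iff_fiber_empty F X).1 ⟨hX⟩
  have hFXX : IsEmpty (F.obj (X ⨿ X)) := by
    have h0 : Nat.card (F.obj (X ⨿ X)) = 0 := by
      rw [card_fiber_coprod_eq_sum, Nat.card_of_isEmpty]
    rcases Nat.card_eq_zero.1 h0 with h | h
    · exact h
    · exact (not_finite (F.obj (X ⨿ X))).elim
  obtain ⟨hX'⟩ := (initial_iff_fiber_empty F (X ⨿ X)).2 hFXX
  let e : X ≅ X ⨿ X := hX.uniqueUpToIso hX'
  have h1 : Nat.card (F'.obj X) = Nat.card (F'.obj (X ⨿ X)) :=
    Nat.card_congr (FintypeCat.equivEquivIso.symm (F'.mapIso e))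
  rw [card_coprod'] at h1
  have h0 : Nat.card (F'.obj X) = 0 := by omega
  rcases Nat.card_eq_zero.1 h0 with h | h
  · exact h
  · exact (not_finite (F'.obj X)).elim

omit [PreservesFiniteLimits F'] in
include F in
theorem preservesInitial : PreservesColimitsOfShape (Discrete PEmpty.{1}) F' := by
  have hemp : IsEmpty (F'.obj (⊥_ C)) := isEmpty_of_isInitial F F' _ initialIsInitial
  have hinit : IsInitial (F'.obj (⊥_ C)) :=
    IsInitial.ofUniqueHom (fun Y => FintypeCat.homMk (fun x => (hemp.false x).elim))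
      (fun Y m => by
        apply FintypeCat.hom_ext
        intro x
        exact (hemp.false x).elim)
  haveI := preservesInitial_of_iso F' (initialIsInitial.uniqueUpToIso hinit)
  exact preservesColimitsOfShape_pempty_of_preservesInitial F'

omit [PreservesFiniteLimits F'] in
include F in
theorem preservesFinCoprod (n : ℕ) : PreservesColimitsOfShape (Discrete (Fin n)) F' := by
  haveI := preservesInitial F F'
  exact PreservesFiniteCoproducts.of_preserves_binary_and_initial F' (Fin n)

theorem exists_hom_of_representative {A X : C} [IsGalois A] (a : F.obj A)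
    (hbij : Function.Bijective (fun f : A ⟶ X => F.map f a)) (p : F.obj A) (x : F.obj X) :
    ∃ h : A ⟶ X, F.map h p = x := by
  obtain ⟨g, hg⟩ := evaluation_aut_surjective_of_isGalois F A a p
  obtain ⟨h₀, hh₀⟩ := hbij.2 x
  refine ⟨g.inv ≫ h₀, ?_⟩
  have hg' : F.map g.hom a = p := hg
  rw [← hg', map_comp_apply]
  have h1 : F.map g.inv (F.map g.hom a) = a := by
    rw [← map_comp_apply, g.hom_inv_id, F.map_id]
    rfl
  rw [h1]
  exact hh₀

theorem isIso_sigmaDesc_graph {A X : C} [IsGalois A] (a : F.obj A)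
    (hbij : Function.Bijective (fun f : A ⟶ X => F.map f a)) {n : ℕ} (e : (A ⟶ X) ≃ Fin n) :
    IsIso (Sigma.desc (fun i : Fin n => prod.lift (𝟙 A) (e.symm i)) :
      (∐ fun _ : Fin n => A) ⟶ A ⨯ X) := by
  set Φ : (∐ fun _ : Fin n => A) ⟶ A ⨯ X :=
    Sigma.desc (fun i : Fin n => prod.lift (𝟙 A) (e.symm i)) with hΦdef
  have hΦ : ∀ i : Fin n, Sigma.ι (fun _ : Fin n => A) i ≫ Φ = prod.lift (𝟙 A) (e.symm i) :=
    fun i => Sigma.ι_desc _ _
  have hfst : ∀ (i : Fin n) (y : F.obj A),
      F.map prod.fst (F.map Φ (F.map (Sigma.ι (fun _ : Fin n => A) i) y)) = y := by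
    intro i y
    rw [← map_comp_apply, ← map_comp_apply, ← Category.assoc, hΦ, prod.lift_fst, F.map_id]
    rfl
  have hsnd : ∀ (i : Fin n) (y : F.obj A),
      F.map prod.snd (F.map Φ (F.map (Sigma.ι (fun _ : Fin n => A) i) y)) =
        F.map (e.symm i) y := by
    intro i y
    rw [← map_comp_apply, ← map_comp_apply, ← Category.assoc, hΦ, prod.lift_snd]
  have : IsIso (F.map Φ) := by
    rw [ConcreteCategory.isIso_iff_bijective]
    constructor
    · intro u₁ u₂ hu
      obtain ⟨i, y₁, rfl⟩ := exists_sigma_ι_eq F (fun _ : Fin n => A) u₁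
      obtain ⟨j, y₂, rfl⟩ := exists_sigma_ι_eq F (fun _ : Fin n => A) u₂
      have h1 := congrArg (fun t => F.map prod.fst t) hu
      simp only [hfst] at h1
      have h2 := congrArg (fun t => F.map prod.snd t) hu
      simp only [hsnd] at h2
      subst h1
      have h3 : e.symm i = e.symm j := evaluation_injective_of_isConnected F A X y₁ h2
      have h4 : i = j := e.symm.injective h3
      subst h4
      rfl
    · intro w
      obtain ⟨h, hh⟩ := exists_hom_of_representative F a hbij (F.map prod.fst w) (F.map prod.snd w)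
      refine ⟨F.map (Sigma.ι (fun _ : Fin n => A) (e h)) (F.map prod.fst w), ?_⟩
      apply prod_ext F
      · exact hfst _ _
      · rw [hsnd, Equiv.symm_apply_apply]
        exact hh
  exact isIso_of_reflects_iso Φ F

end Main

section Cof

variable {C : Type u} [Category.{v} C] [GaloisCategory C]
  (F : C ⥤ FintypeCat.{w}) [FiberFunctor F]

/-- The category of pointed Galois objects is cofiltered (any universe for the fibres). -/
theorem isCofilteredOrEmpty_pointedGaloisObject : IsCofilteredOrEmpty (PointedGaloisObject F) where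
  cone_objs := fun ⟨A, a, _⟩ ⟨B, b, _⟩ ↦ by
    obtain ⟨Z, f, z, hgal, hfz⟩ := exists_hom_from_galois_of_fiber F (A ⨯ B)
      <| (fiberBinaryProductEquiv F A B).symm (a, b)
    refine ⟨⟨Z, z, hgal⟩, ⟨f ≫ prod.fst, ?_⟩, ⟨f ≫ prod.snd, ?_⟩, trivial⟩
    · simp only [F.map_comp, hfz, FintypeCat.comp_apply, fiberBinaryProductEquiv_symm_fst_apply]
    · simp only [F.map_comp, hfz, FintypeCat.comp_apply, fiberBinaryProductEquiv_symm_snd_apply]
  cone_maps := fun ⟨A, a, _⟩ ⟨B, b, _⟩ ⟨f, hf⟩ ⟨g, hg⟩ ↦ by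
    obtain ⟨Z, h, z, hgal, hhz⟩ := exists_hom_from_galois_of_fiber F A a
    refine ⟨⟨Z, z, hgal⟩, ⟨h, hhz⟩, PointedGaloisObject.hom_ext ?_⟩
    apply evaluation_injective_of_isConnected F Z B z
    simp [hhz, hf, hg]

end Cof

section Main2

variable {C : Type u} [Category.{v} C] [GaloisCategory C]
  (F : C ⥤ FintypeCat.{w}) [FiberFunctor F] (F' : C ⥤ FintypeCat.{w}) [PreservesFiniteLimits F']
  [PreservesColimitsOfShape (Discrete WalkingPair) F']

omit [PreservesFiniteLimits F'] [PreservesColimitsOfShape (Discrete WalkingPair) F'] in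
/-- a compatible system of points of `F'` over all pointed Galois objects. -/
theorem exists_compatible_points
    (h : ∀ X : C, IsEmpty (F'.obj X) → Nonempty (IsInitial X)) :
    ∃ s : ∀ A : PointedGaloisObject F, F'.obj A.obj,
      ∀ (A B : PointedGaloisObject F) (f : A ⟶ B), F'.map f.val (s A) = s B := by
  haveI := isCofilteredOrEmpty_pointedGaloisObject F
  let K : PointedGaloisObject F ⥤ Type w := PointedGaloisObject.incl F ⋙ F' ⋙ FintypeCat.incl
  haveI : ∀ j, Finite (K.obj j) := fun j => inferInstanceAs (Finite (F'.obj j.obj))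
  haveI : ∀ j, Nonempty (K.obj j) := fun j => by
    by_contra hne
    rw [not_nonempty_iff] at hne
    obtain ⟨hi⟩ := h j.obj hne
    exact IsConnected.notInitial hi
  obtain ⟨s, hs⟩ := nonempty_sections_of_finite_cofiltered_system K
  exact ⟨fun A => s A, fun A B f => hs f⟩

/-- the comparison map on fibres. -/
noncomputable def etaApp (s : ∀ A : PointedGaloisObject F, F'.obj A.obj) (X : C) (x : F.obj X) :
    F'.obj X :=
  let h := exists_hom_from_galois_of_fiber F X x
  F'.map h.choose_spec.choose (s ⟨h.choose, h.choose_spec.choose_spec.choose,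
    h.choose_spec.choose_spec.choose_spec.1⟩)

omit [PreservesFiniteLimits F'] [PreservesColimitsOfShape (Discrete WalkingPair) F'] in
theorem etaApp_eq (s : ∀ A : PointedGaloisObject F, F'.obj A.obj)
    (hs : ∀ (A B : PointedGaloisObject F) (f : A ⟶ B), F'.map f.val (s A) = s B)
    (X : C) (x : F.obj X) (B : PointedGaloisObject F) (g : B.obj ⟶ X) (hg : F.map g B.pt = x) :
    etaApp F F' s X x = F'.map g (s B) := by
  haveI := isCofilteredOrEmpty_pointedGaloisObject F
  let h := exists_hom_from_galois_of_fiber F X x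
  let A' : PointedGaloisObject F := ⟨h.choose, h.choose_spec.choose_spec.choose,
    h.choose_spec.choose_spec.choose_spec.1⟩
  let f : A'.obj ⟶ X := h.choose_spec.choose
  have hf : F.map f A'.pt = x := h.choose_spec.choose_spec.choose_spec.2
  change F'.map f (s A') = F'.map g (s B)
  obtain ⟨D, p, q, _⟩ := IsCofilteredOrEmpty.cone_objs A' B
  have hpq : p.val ≫ f = q.val ≫ g := by
    apply evaluation_injective_of_isConnected F D.obj X D.pt
    change F.map (p.val ≫ f) D.pt = F.map (q.val ≫ g) D.pt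
    rw [map_comp_apply, map_comp_apply, p.comp, q.comp, hf, hg]
  rw [← hs D A' p, ← hs D B q, ← map_comp_apply, ← map_comp_apply, hpq]

/-- the comparison natural transformation. -/
noncomputable def eta (s : ∀ A : PointedGaloisObject F, F'.obj A.obj)
    (hs : ∀ (A B : PointedGaloisObject F) (f : A ⟶ B), F'.map f.val (s A) = s B) : F ⟶ F' where
  app X := FintypeCat.homMk (etaApp F F' s X)
  naturality X Y k := by
    apply FintypeCat.hom_ext
    intro x
    change etaApp F F' s Y (F.map k x) = F'.map k (etaApp F F' s X x)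
    obtain ⟨A, f, a, hgal, hfa⟩ := exists_hom_from_galois_of_fiber F X x
    rw [etaApp_eq F F' s hs X x ⟨A, a, hgal⟩ f hfa,
      etaApp_eq F F' s hs Y (F.map k x) ⟨A, a, hgal⟩ (f ≫ k)
        (by rw [map_comp_apply, hfa]), map_comp_apply]

theorem etaApp_injective (s : ∀ A : PointedGaloisObject F, F'.obj A.obj)
    (hs : ∀ (A B : PointedGaloisObject F) (f : A ⟶ B), F'.map f.val (s A) = s B) (X : C) :
    Function.Injective (etaApp F F' s X) := by
  intro x₁ x₂ hx
  obtain ⟨A, a, hgal, hbij⟩ := exists_galois_representative F X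
  obtain ⟨h₁, hh₁⟩ := hbij.2 x₁
  obtain ⟨h₂, hh₂⟩ := hbij.2 x₂
  rw [etaApp_eq F F' s hs X x₁ ⟨A, a, hgal⟩ h₁ hh₁,
    etaApp_eq F F' s hs X x₂ ⟨A, a, hgal⟩ h₂ hh₂] at hx
  let t : F'.obj (equalizer h₁ h₂) := (equalizerEquiv F' h₁ h₂).symm ⟨s ⟨A, a, hgal⟩, hx⟩
  have hnotinit : IsInitial (equalizer h₁ h₂) → False := by
    intro hi
    exact (isEmpty_of_isInitial F F' _ hi).false t
  have hiso : IsIso (equalizer.ι h₁ h₂) :=
    IsConnected.noTrivialComponent _ (equalizer.ι h₁ h₂) hnotinit
  have heq : h₁ = h₂ := eq_of_epi_equalizer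
  rw [← hh₁, ← hh₂, heq]

theorem etaApp_surjective (s : ∀ A : PointedGaloisObject F, F'.obj A.obj)
    (hs : ∀ (A B : PointedGaloisObject F) (f : A ⟶ B), F'.map f.val (s A) = s B) (X : C) :
    Function.Surjective (etaApp F F' s X) := by
  intro z
  obtain ⟨A, a, hgal, hbij⟩ := exists_galois_representative F X
  let e : (A ⟶ X) ≃ Fin (Nat.card (A ⟶ X)) := Finite.equivFin _
  have hΦ := isIso_sigmaDesc_graph F a hbij e
  set Φ : (∐ fun _ : Fin (Nat.card (A ⟶ X)) => A) ⟶ A ⨯ X :=
    Sigma.desc (fun i => prod.lift (𝟙 A) (e.symm i)) with hΦdef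
  let w : F'.obj (A ⨯ X) := (prodEquiv F' A X).symm (s ⟨A, a, hgal⟩, z)
  have hw1 : F'.map prod.fst w = s ⟨A, a, hgal⟩ := prodEquiv_symm_fst_apply F' _ _
  have hw2 : F'.map prod.snd w = z := prodEquiv_symm_snd_apply F' _ _
  have hsurj : Function.Surjective (F'.map Φ) := by
    have : IsIso (F'.map Φ) := inferInstance
    exact ((ConcreteCategory.isIso_iff_bijective _).1 this).2
  obtain ⟨u, hu⟩ := hsurj w
  haveI := preservesFinCoprod F F' (Nat.card (A ⟶ X))
  have hc : IsColimit (F'.mapCocone (colimit.cocone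
      (Discrete.functor fun _ : Fin (Nat.card (A ⟶ X)) => A))) :=
    isColimitOfPreserves F' (colimit.isColimit _)
  obtain ⟨⟨i⟩, y, hy⟩ := Limits.FintypeCat.jointly_surjective _ _ hc u
  have hy' : F'.map (Sigma.ι (fun _ : Fin (Nat.card (A ⟶ X)) => A) i) y = u := hy
  have hιΦ : Sigma.ι (fun _ : Fin (Nat.card (A ⟶ X)) => A) i ≫ Φ =
      prod.lift (𝟙 A) (e.symm i) := Sigma.ι_desc _ _
  have h1 : y = s ⟨A, a, hgal⟩ := by
    rw [← hw1, ← hu, ← hy', ← map_comp_apply, ← map_comp_apply, ← Category.assoc, hιΦ,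
      prod.lift_fst, F'.map_id]
    rfl
  have h2 : F'.map (e.symm i) y = z := by
    rw [← hw2, ← hu, ← hy', ← map_comp_apply, ← map_comp_apply, ← Category.assoc, hιΦ,
      prod.lift_snd]
  refine ⟨F.map (e.symm i) a, ?_⟩
  rw [etaApp_eq F F' s hs X _ ⟨A, a, hgal⟩ (e.symm i) rfl, ← h1, h2]

/-- main theorem: `F'` is isomorphic to the fibre functor `F`. -/
theorem nonempty_iso (h : ∀ X : C, IsEmpty (F'.obj X) → Nonempty (IsInitial X)) :
    Nonempty (F' ≅ F) := by
  obtain ⟨s, hs⟩ := exists_compatible_points F F' h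
  have hiso : ∀ X, IsIso ((eta F F' s hs).app X) := fun X => by
    rw [ConcreteCategory.isIso_iff_bijective]
    exact ⟨etaApp_injective F F' s hs X, etaApp_surjective F F' s hs X⟩
  have : IsIso (eta F F' s hs) := NatIso.isIso_of_isIso_app _
  exact ⟨(asIso (eta F F' s hs)).symm⟩

end Main2

end Groth.Agent.H1.GalUniq
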