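import Mathlib
import Groth.Prelude.Def_StGerb
import Groth.Agent.Lib.helper1.FibCatFiber
import Groth.Agent.Lib.helper1.FibCatFp
import Groth.Agent.Lib.helper1.StkEquiv

set_option autoImplicit false

/-! Basic permanence properties of gerbes over a site (helper1). -/

universe v₁ u₁ v₂ u₂ v₃ u₃ v₄ u₄ v₅ u₅

open CategoryTheory

namespace Groth.Agent.H1.GerbB

open Groth.Agent.H1.FC

variable {C : Type u₁} [Category.{v₁} C] (J : GrothendieckTopology C)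
variable {𝒳 : BasedCategory.{v₂, u₂} C} {𝒴 : BasedCategory.{v₃, u₃} C}
  {𝒵 : BasedCategory.{v₄, u₄} C}

theorem cover_bind {U : C} (P : ∀ ⦃V : C⦄, (V ⟶ U) → Prop) (R : Sieve U) (hR : R ∈ J U)
    (h : ∀ ⦃V : C⦄ (f : V ⟶ U), R f → ∃ R' ∈ J V, ∀ ⦃W : C⦄ (f' : W ⟶ V), R' f' → P (f' ≫ f)) :
    ∃ T ∈ J U, ∀ ⦃V : C⦄ (f : V ⟶ U), T f → P f := by
  classical
  choose R' hR' hP using h
  refine ⟨Sieve.bind R (fun V f hf => R' f hf), J.bind_covering hR (fun V f hf => hR' f hf), ?_⟩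
  rintro V f ⟨W, g, f', hf', hg, rfl⟩
  exact hP f' hf' g hg

theorem locSurjObj' {F : 𝒳 ⥤ᵇ 𝒴} (hF : Gerb.LocSurjObj J F) (y : 𝒴.obj) {U : C}
    (hU : 𝒴.p.obj y = U) :
    ∃ R ∈ J U, ∀ ⦃V : C⦄ (f : V ⟶ U), R f →
      ∃ (x : 𝒳.obj) (g : F.obj x ⟶ y), 𝒴.p.IsHomLift f g := by
  subst hU; exact hF y

theorem locSurjHom' {F : 𝒳 ⥤ᵇ 𝒴} (hF : Gerb.LocSurjHom J F) (x x' : 𝒳.obj) {U : C}
    (hU : 𝒳.p.obj x = U) (b : F.obj x ⟶ F.obj x') [hb : 𝒴.p.IsHomLift (𝟙 U) b] :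
    ∃ R ∈ J U, ∀ ⦃V : C⦄ (f : V ⟶ U), R f →
      ∃ (x₀ : 𝒳.obj) (φ : x₀ ⟶ x) (ψ : x₀ ⟶ x'),
        𝒳.p.IsHomLift f φ ∧ 𝒳.p.IsHomLift f ψ ∧ F.map φ ≫ b = F.map ψ := by
  subst hU; exact hF x x' b hb

theorem exists_lift' {𝒲 : Type u₂} [Category.{v₂} 𝒲] {p : 𝒲 ⥤ C} (h : FibCat.IsFibGrpd p)
    (x : 𝒲) {U V : C} (hU : p.obj x = U) (f : V ⟶ U) :
    ∃ (y : 𝒲) (φ : y ⟶ x), p.IsHomLift f φ := by
  subst hU; exact h.exists_lift f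

theorem exists_iso_fac {𝒲 : Type u₂} [Category.{v₂} 𝒲] {p : 𝒲 ⥤ C} (h : FibCat.IsFibGrpd p)
    {V U : C} (f : V ⟶ U) {a b c : 𝒲} (φ : a ⟶ b) (ψ : c ⟶ b) [hφ : p.IsHomLift f φ]
    [hψ : p.IsHomLift f ψ] :
    ∃ j : c ≅ a, p.IsHomLift (𝟙 V) j.hom ∧ j.hom ≫ φ = ψ := by
  have := H1_isStronglyCartesian_of_isFibGrpd h f φ
  let j : c ⟶ a := Functor.IsCartesian.map p f φ ψ
  have hj : p.IsHomLift (𝟙 V) j := inferInstance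
  have := H1_isStronglyCartesian_of_isFibGrpd h (𝟙 V) j
  have : IsIso j := Functor.IsStronglyCartesian.isIso_of_base_isIso p (𝟙 V) j
  exact ⟨asIso j, hj, Functor.IsCartesian.fac p f φ ψ⟩

theorem hom_ext_of_isFibGrpd {𝒲 : Type u₂} [Category.{v₂} 𝒲] {p : 𝒲 ⥤ C} (h : FibCat.IsFibGrpd p)
    {V U : C} (f : V ⟶ U) {a b c : 𝒲} (φ : a ⟶ b) [p.IsHomLift f φ] (j j' : c ⟶ a)
    [p.IsHomLift (𝟙 V) j] [p.IsHomLift (𝟙 V) j'] (hjj : j ≫ φ = j' ≫ φ) : j = j' := by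
  have := H1_isStronglyCartesian_of_isFibGrpd h f φ
  have : p.IsHomLift f (j' ≫ φ) := by
    have : p.IsHomLift (𝟙 V ≫ f) (j' ≫ φ) := inferInstance
    simpa using this
  have h1 := Functor.IsCartesian.map_uniq p f φ (j' ≫ φ) j hjj
  have h2 := Functor.IsCartesian.map_uniq p f φ (j' ≫ φ) j' rfl
  exact h1.trans h2.symm

theorem isHomLift_comp_id' {𝒲 : Type u₂} [Category.{v₂} 𝒲] (p : 𝒲 ⥤ C) {V U : C} (f : V ⟶ U)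
    {a b c : 𝒲} (φ : a ⟶ b) (ψ : b ⟶ c) [hφ : p.IsHomLift f φ] [hψ : p.IsHomLift (𝟙 U) ψ] :
    p.IsHomLift f (φ ≫ ψ) := by
  have : p.IsHomLift (f ≫ 𝟙 U) (φ ≫ ψ) := inferInstance
  simpa using this

theorem isHomLift_id_comp' {𝒲 : Type u₂} [Category.{v₂} 𝒲] (p : 𝒲 ⥤ C) {V U : C} (f : V ⟶ U)
    {a b c : 𝒲} (φ : a ⟶ b) (ψ : b ⟶ c) [hφ : p.IsHomLift (𝟙 V) φ] [hψ : p.IsHomLift f ψ] :
    p.IsHomLift f (φ ≫ ψ) := by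
  have : p.IsHomLift (𝟙 V ≫ f) (φ ≫ ψ) := inferInstance
  simpa using this

theorem isHomLift_id_id' {𝒲 : Type u₂} [Category.{v₂} 𝒲] (p : 𝒲 ⥤ C) {U : C}
    {a b c : 𝒲} (φ : a ⟶ b) (ψ : b ⟶ c) [hφ : p.IsHomLift (𝟙 U) φ] [hψ : p.IsHomLift (𝟙 U) ψ] :
    p.IsHomLift (𝟙 U) (φ ≫ ψ) := isHomLift_comp_id' p (𝟙 U) φ ψ

theorem isHomLift_iso_inv' {𝒲 : Type u₂} [Category.{v₂} 𝒲] (p : 𝒲 ⥤ C) {U : C}
    {a b : 𝒲} (e : a ≅ b) [he : p.IsHomLift (𝟙 U) e.hom] : p.IsHomLift (𝟙 U) e.inv := by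
  have : e.inv = inv e.hom := by simp
  rw [this]; infer_instance

theorem locSurjObj_comp (F : 𝒳 ⥤ᵇ 𝒴) (G : 𝒴 ⥤ᵇ 𝒵) (hF : Gerb.LocSurjObj J F)
    (hG : Gerb.LocSurjObj J G) : Gerb.LocSurjObj J (BasedFunctor.comp F G) := by
  intro z
  obtain ⟨R, hR, h⟩ := hG z
  refine cover_bind J (fun V f => ∃ (x : 𝒳.obj) (g : (BasedFunctor.comp F G).obj x ⟶ z),
    𝒵.p.IsHomLift f g) R hR ?_
  intro V f hf
  obtain ⟨y, g, hg⟩ := h f hf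
  have hV : 𝒴.p.obj y = V := (G.w_obj y).symm.trans (IsHomLift.domain_eq 𝒵.p f g)
  obtain ⟨R', hR', h'⟩ := locSurjObj' J hF y hV
  refine ⟨R', hR', fun W f' hf' => ?_⟩
  obtain ⟨x, g', hg'⟩ := h' f' hf'
  refine ⟨x, G.map g' ≫ g, ?_⟩
  have := hg
  have := hg'
  have : 𝒵.p.IsHomLift f' (G.map g') := inferInstance
  have h3 : 𝒵.p.IsHomLift (f' ≫ f) (G.map g' ≫ g) := inferInstance
  exact h3

theorem locSurjHom_comp (h𝒳 : FibCat.IsFibGrpd 𝒳.p) (h𝒴 : FibCat.IsFibGrpd 𝒴.p)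
    (F : 𝒳 ⥤ᵇ 𝒴) (G : 𝒴 ⥤ᵇ 𝒵) (hF : Gerb.LocSurjHom J F) (hG : Gerb.LocSurjHom J G) :
    Gerb.LocSurjHom J (BasedFunctor.comp F G) := by
  intro x x' c hc
  have hc' : 𝒵.p.IsHomLift (𝟙 (𝒳.p.obj x)) (show G.obj (F.obj x) ⟶ G.obj (F.obj x') from c) := hc
  obtain ⟨R, hR, h⟩ := locSurjHom' J hG (F.obj x) (F.obj x') (F.w_obj x) c
  refine cover_bind J (fun V f => ∃ (x₀ : 𝒳.obj) (φ : x₀ ⟶ x) (ψ : x₀ ⟶ x'),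
    𝒳.p.IsHomLift f φ ∧ 𝒳.p.IsHomLift f ψ ∧
      (BasedFunctor.comp F G).map φ ≫ c = (BasedFunctor.comp F G).map ψ) R hR ?_
  intro V f hf
  obtain ⟨y₀, φ, ψ, hφ, hψ, hc''⟩ := h f hf
  have hx' : 𝒳.p.obj x' = 𝒳.p.obj x :=
    (((BasedFunctor.comp F G).w_obj x').symm.trans
      (IsHomLift.codomain_eq 𝒵.p (𝟙 (𝒳.p.obj x)) c))
  obtain ⟨xV, a, ha⟩ := h𝒳.exists_lift (x := x) f
  obtain ⟨xV', a', ha'⟩ := exists_lift' h𝒳 x' hx' f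
  have : 𝒴.p.IsHomLift f (F.map a) := inferInstance
  have : 𝒴.p.IsHomLift f (F.map a') := inferInstance
  obtain ⟨b₁, hb₁, hb₁f⟩ := exists_iso_fac h𝒴 f (F.map a) φ
  obtain ⟨b₂, hb₂, hb₂f⟩ := exists_iso_fac h𝒴 f (F.map a') ψ
  have hxV : 𝒳.p.obj xV = V := IsHomLift.domain_eq 𝒳.p f a
  have : 𝒴.p.IsHomLift (𝟙 V) b₁.inv := by
    have : b₁.inv = inv b₁.hom := by simp
    rw [this]; infer_instance
  have : 𝒴.p.IsHomLift (𝟙 V) (b₁.inv ≫ b₂.hom) := by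
    have : 𝒴.p.IsHomLift (𝟙 V ≫ 𝟙 V) (b₁.inv ≫ b₂.hom) := inferInstance
    simpa using this
  obtain ⟨R', hR', h'⟩ := locSurjHom' J hF xV xV' hxV (b₁.inv ≫ b₂.hom)
  refine ⟨R', hR', fun W f' hf' => ?_⟩
  obtain ⟨x₀, φ', ψ', hφ', hψ', hF'⟩ := h' f' hf'
  refine ⟨x₀, φ' ≫ a, ψ' ≫ a', inferInstance, inferInstance, ?_⟩
  have e1 : F.map a = b₁.inv ≫ φ := by rw [← hb₁f, Iso.inv_hom_id_assoc]
  have e2 : ψ = b₂.hom ≫ F.map a' := hb₂f.symm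
  change G.map (F.map (φ' ≫ a)) ≫ c = G.map (F.map (ψ' ≫ a'))
  calc G.map (F.map (φ' ≫ a)) ≫ c
      = G.map (F.map φ' ≫ b₁.inv) ≫ (G.map φ ≫ c) := by
        rw [F.map_comp, e1, ← Category.assoc, G.map_comp, Category.assoc]
    _ = G.map (F.map φ' ≫ b₁.inv) ≫ G.map ψ := congrArg (G.map (F.map φ' ≫ b₁.inv) ≫ ·) hc''
    _ = G.map ((F.map φ' ≫ b₁.inv ≫ b₂.hom) ≫ F.map a') := by
        rw [← G.map_comp, e2]; simp only [Category.assoc]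
    _ = G.map (F.map (ψ' ≫ a')) := by rw [hF', ← F.map_comp]

theorem isGerbeOver_comp (h𝒳 : FibCat.IsFibGrpd 𝒳.p) (h𝒴 : FibCat.IsFibGrpd 𝒴.p)
    (F : 𝒳 ⥤ᵇ 𝒴) (G : 𝒴 ⥤ᵇ 𝒵) (hF : Gerb.IsGerbeOver J F) (hG : Gerb.IsGerbeOver J G) :
    Gerb.IsGerbeOver J (BasedFunctor.comp F G) :=
  ⟨locSurjObj_comp J F G hF.1 hG.1, locSurjHom_comp J h𝒳 h𝒴 F G hF.2 hG.2⟩

end Groth.Agent.H1.GerbB
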