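import Mathlib
import Groth.Prelude.Def_AlgSt
import Groth.Agent.Lib.helper1.FibCatYoneda
import Groth.Agent.Lib.helper1.GerbBasic

set_option autoImplicit false

/-! Concrete gluing of morphisms in a prestack (helper1). -/

universe v₁ u₁ v₂ u₂

open CategoryTheory

namespace Groth.Agent.H1.StkGlue

open Groth.Agent.H1.FC Groth.Agent.H1.GerbB

variable {C : Type u₁} [Category.{v₁} C] {𝒳 : BasedCategory.{v₂, u₂} C}

/-- in a category fibred in groupoids, a sieve on an object is determined by its image. -/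
theorem mem_of_isHomLift_of_mem_functorPushforward (h𝒳 : FibCat.IsFibGrpd 𝒳.p) {a : 𝒳.obj}
    (𝓡 : Sieve a) {a' : 𝒳.obj} (β : a' ⟶ a) {V : C} (f : V ⟶ 𝒳.p.obj a) [hβ : 𝒳.p.IsHomLift f β]
    (hf : (𝓡.functorPushforward 𝒳.p) f) : 𝓡 β := by
  obtain ⟨a₀, α, g, hα, hg⟩ := hf
  obtain ⟨a'', h, hh⟩ := h𝒳.exists_lift (x := a₀) g
  have h1 : 𝒳.p.IsHomLift f (h ≫ α) := by
    rw [hg]; infer_instance
  obtain ⟨j, hj, hjf⟩ := exists_iso_fac h𝒳 f (h ≫ α) β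
  rw [← hjf]
  exact 𝓡.downward_closed (𝓡.downward_closed hα h) j.hom

theorem mem_functorPushforward_of_isHomLift {a : 𝒳.obj} (𝓡 : Sieve a) {a' : 𝒳.obj} (β : a' ⟶ a)
    (hβ : 𝓡 β) {V : C} (f : V ⟶ 𝒳.p.obj a) [hf : 𝒳.p.IsHomLift f β] :
    (𝓡.functorPushforward 𝒳.p) f := by
  have hV : 𝒳.p.obj a' = V := IsHomLift.domain_eq 𝒳.p f β
  subst hV
  have hfe : f = 𝒳.p.map β := IsHomLift.eq_of_isHomLift 𝒳.p f β
  rw [hfe]
  exact Presieve.image_mem_functorPushforward 𝒳.p 𝓡.arrows hβ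

section Glue

variable (h𝒳 : FibCat.IsFibGrpd 𝒳.p) {a b : 𝒳.obj} (𝓡 : Sieve a)
  (hR : Stk.IsPrestackFor (𝓡.functorPushforward 𝒳.p) 𝒳)

include h𝒳 hR in
/-- uniqueness of glued morphisms. -/
theorem hom_ext_of_sieve (μ μ' : a ⟶ b) [hμ : 𝒳.p.IsHomLift (𝟙 (𝒳.p.obj a)) μ]
    [hμ' : 𝒳.p.IsHomLift (𝟙 (𝒳.p.obj a)) μ']
    (h : ∀ ⦃a' : 𝒳.obj⦄ (α : a' ⟶ a), 𝓡 α → α ≫ μ = α ≫ μ') : μ = μ' := by
  have := H1_isFibered_of_isFibGrpd h𝒳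
  have hb : 𝒳.p.obj b = 𝒳.p.obj a := IsHomLift.codomain_eq 𝒳.p (𝟙 (𝒳.p.obj a)) μ
  obtain ⟨A, -, ⟨eA⟩⟩ := H1_evalAtId_essSurj (U := 𝒳.p.obj a) (⟨a, rfl⟩ : 𝒳.p.Fiber (𝒳.p.obj a))
  obtain ⟨B, -, ⟨eB⟩⟩ := H1_evalAtId_essSurj (U := 𝒳.p.obj a) (⟨b, hb⟩ : 𝒳.p.Fiber (𝒳.p.obj a))
  let eA' : A.toFunctor.obj (oT (𝒳.p.obj a)) ≅ a := (Functor.Fiber.fiberInclusion).mapIso eA
  let eB' : B.toFunctor.obj (oT (𝒳.p.obj a)) ≅ b := (Functor.Fiber.fiberInclusion).mapIso eB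
  have heA : 𝒳.p.IsHomLift (𝟙 (𝒳.p.obj a)) eA'.hom := eA.hom.2
  have heB : 𝒳.p.IsHomLift (𝟙 (𝒳.p.obj a)) eB'.hom := eB.hom.2
  have heBi : 𝒳.p.IsHomLift (𝟙 (𝒳.p.obj a)) eB'.inv := eB.inv.2
  have heAi : 𝒳.p.IsHomLift (𝟙 (𝒳.p.obj a)) eA'.inv := eA.inv.2
  have l1 : 𝒳.p.IsHomLift (𝟙 (𝒳.p.obj a)) (μ ≫ eB'.inv) := isHomLift_id_id' 𝒳.p _ _
  have l2 : 𝒳.p.IsHomLift (𝟙 (𝒳.p.obj a)) (eA'.hom ≫ μ ≫ eB'.inv) := isHomLift_id_id' 𝒳.p _ _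
  have l1' : 𝒳.p.IsHomLift (𝟙 (𝒳.p.obj a)) (μ' ≫ eB'.inv) := isHomLift_id_id' 𝒳.p _ _
  have l2' : 𝒳.p.IsHomLift (𝟙 (𝒳.p.obj a)) (eA'.hom ≫ μ' ≫ eB'.inv) := isHomLift_id_id' 𝒳.p _ _
  obtain ⟨γ, hγ⟩ := H1_evalAtId_full (G := A) (H := B) (H1_SC_of_isFibGrpd h𝒳 B)
    (eA'.hom ≫ μ ≫ eB'.inv)
  obtain ⟨γ', hγ'⟩ := H1_evalAtId_full (G := A) (H := B) (H1_SC_of_isFibGrpd h𝒳 B)
    (eA'.hom ≫ μ' ≫ eB'.inv)
  have hres : (Stk.resSieve (𝓡.functorPushforward 𝒳.p) 𝒳).map γ =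
      (Stk.resSieve (𝓡.functorPushforward 𝒳.p) 𝒳).map γ' := by
    apply BasedNatTrans.homCategory.ext
    ext c
    change γ.toNatTrans.app c.obj = γ'.toNatTrans.app c.obj
    have hc1 : 𝒳.p.IsHomLift (𝟙 c.obj.left) (γ.toNatTrans.app c.obj) := γ.isHomLift' c.obj
    have hc2 : 𝒳.p.IsHomLift (𝟙 c.obj.left) (γ'.toNatTrans.app c.obj) := γ'.isHomLift' c.obj
    have hB1 : 𝒳.p.IsHomLift c.obj.hom (B.toFunctor.map (toT c.obj)) := inferInstance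
    have hB2 : 𝒳.p.IsHomLift c.obj.hom (B.toFunctor.map (toT c.obj) ≫ eB'.hom) :=
      isHomLift_comp_id' 𝒳.p c.obj.hom _ _
    have hA1 : 𝒳.p.IsHomLift c.obj.hom (A.toFunctor.map (toT c.obj)) := inferInstance
    have hA2 : 𝒳.p.IsHomLift c.obj.hom (A.toFunctor.map (toT c.obj) ≫ eA'.hom) :=
      isHomLift_comp_id' 𝒳.p c.obj.hom _ _
    have hmem : 𝓡 (A.toFunctor.map (toT c.obj) ≫ eA'.hom) :=
      mem_of_isHomLift_of_mem_functorPushforward h𝒳 𝓡 _ c.obj.hom c.property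
    apply hom_ext_of_isFibGrpd h𝒳 c.obj.hom (B.toFunctor.map (toT c.obj) ≫ eB'.hom)
    have n1 := γ.toNatTrans.naturality (toT c.obj)
    have n2 := γ'.toNatTrans.naturality (toT c.obj)
    rw [← Category.assoc, ← n1, ← Category.assoc, ← n2, hγ, hγ']
    have := h _ hmem
    simp only [Category.assoc, Iso.inv_hom_id, Category.comp_id] at this ⊢
    exact this
  have hF : (Stk.resSieve (𝓡.functorPushforward 𝒳.p) 𝒳).Faithful := hR.2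
  have hγγ' : γ = γ' := (Stk.resSieve (𝓡.functorPushforward 𝒳.p) 𝒳).map_injective hres
  have e : eA'.hom ≫ μ ≫ eB'.inv = eA'.hom ≫ μ' ≫ eB'.inv := by
    rw [← hγ, ← hγ', hγγ']
  have e2 := congrArg (fun t => eA'.inv ≫ t ≫ eB'.hom) e
  simpa using e2

include h𝒳 hR in
/-- gluing of morphisms along a sieve whose image satisfies the prestack condition. -/
theorem glue_hom (hb : 𝒳.p.obj b = 𝒳.p.obj a)
    (m : ∀ ⦃a' : 𝒳.obj⦄ (α : a' ⟶ a), 𝓡 α → (a' ⟶ b))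
    (hm : ∀ ⦃a' : 𝒳.obj⦄ (α : a' ⟶ a) (hα : 𝓡 α) ⦃V : C⦄ (f : V ⟶ 𝒳.p.obj a),
      𝒳.p.IsHomLift f α → 𝒳.p.IsHomLift f (m α hα))
    (hcompat : ∀ ⦃a' a'' : 𝒳.obj⦄ (α : a' ⟶ a) (hα : 𝓡 α) (h : a'' ⟶ a'),
      m (h ≫ α) (𝓡.downward_closed hα h) = h ≫ m α hα) :
    ∃ μ : a ⟶ b, 𝒳.p.IsHomLift (𝟙 (𝒳.p.obj a)) μ ∧
      ∀ ⦃a' : 𝒳.obj⦄ (α : a' ⟶ a) (hα : 𝓡 α), α ≫ μ = m α hα := by
  have := H1_isFibered_of_isFibGrpd h𝒳
  have mcongr : ∀ ⦃a' : 𝒳.obj⦄ (α α' : a' ⟶ a) (e : α = α') (hα : 𝓡 α) (hα' : 𝓡 α'),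
      m α hα = m α' hα' := by
    intro a' α α' e hα hα'; subst e; rfl
  obtain ⟨A, -, ⟨eA⟩⟩ := H1_evalAtId_essSurj (U := 𝒳.p.obj a) (⟨a, rfl⟩ : 𝒳.p.Fiber (𝒳.p.obj a))
  obtain ⟨B, -, ⟨eB⟩⟩ := H1_evalAtId_essSurj (U := 𝒳.p.obj a) (⟨b, hb⟩ : 𝒳.p.Fiber (𝒳.p.obj a))
  let eA' : A.toFunctor.obj (oT (𝒳.p.obj a)) ≅ a := (Functor.Fiber.fiberInclusion).mapIso eA
  let eB' : B.toFunctor.obj (oT (𝒳.p.obj a)) ≅ b := (Functor.Fiber.fiberInclusion).mapIso eB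
  have heA : 𝒳.p.IsHomLift (𝟙 (𝒳.p.obj a)) eA'.hom := eA.hom.2
  have heB : 𝒳.p.IsHomLift (𝟙 (𝒳.p.obj a)) eB'.hom := eB.hom.2
  have heBi : 𝒳.p.IsHomLift (𝟙 (𝒳.p.obj a)) eB'.inv := eB.inv.2
  have heAi : 𝒳.p.IsHomLift (𝟙 (𝒳.p.obj a)) eA'.inv := eA.inv.2
  let R' := 𝓡.functorPushforward 𝒳.p
  have hA2 : ∀ c : Over (𝒳.p.obj a),
      𝒳.p.IsHomLift c.hom (A.toFunctor.map (toT c) ≫ eA'.hom) := fun c =>
    isHomLift_comp_id' 𝒳.p c.hom _ _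
  have hB2 : ∀ c : Over (𝒳.p.obj a),
      𝒳.p.IsHomLift c.hom (B.toFunctor.map (toT c) ≫ eB'.hom) := fun c =>
    isHomLift_comp_id' 𝒳.p c.hom _ _
  have hmem : ∀ c : (Stk.sieveCat R').obj, 𝓡 (A.toFunctor.map (toT c.obj) ≫ eA'.hom) := fun c =>
    have := hA2 c.obj
    mem_of_isHomLift_of_mem_functorPushforward h𝒳 𝓡 _ c.obj.hom c.property
  have hmc : ∀ c : (Stk.sieveCat R').obj,
      𝒳.p.IsHomLift c.obj.hom (m (A.toFunctor.map (toT c.obj) ≫ eA'.hom) (hmem c)) := fun c =>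
    hm _ (hmem c) c.obj.hom (hA2 c.obj)
  have hBc : ∀ c : Over (𝒳.p.obj a),
      𝒳.p.IsStronglyCartesian c.hom (B.toFunctor.map (toT c) ≫ eB'.hom) := fun c =>
    have := hB2 c
    H1_isStronglyCartesian_of_isFibGrpd h𝒳 _ _
  let βc : ∀ c : (Stk.sieveCat R').obj, A.toFunctor.obj c.obj ⟶ B.toFunctor.obj c.obj := fun c =>
    have := hBc c.obj
    have := hmc c
    Functor.IsCartesian.map 𝒳.p c.obj.hom (B.toFunctor.map (toT c.obj) ≫ eB'.hom)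
      (m (A.toFunctor.map (toT c.obj) ≫ eA'.hom) (hmem c))
  have hβ1 : ∀ c, 𝒳.p.IsHomLift (𝟙 c.obj.left) (βc c) := fun c => by
    have := hBc c.obj
    have := hmc c
    exact Functor.IsCartesian.map_isHomLift 𝒳.p c.obj.hom _ _
  have hβ2 : ∀ c, βc c ≫ (B.toFunctor.map (toT c.obj) ≫ eB'.hom) =
      m (A.toFunctor.map (toT c.obj) ≫ eA'.hom) (hmem c) := fun c => by
    have := hBc c.obj
    have := hmc c
    exact Functor.IsCartesian.fac 𝒳.p c.obj.hom _ _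
  have hnat : ∀ {c c' : (Stk.sieveCat R').obj} (g : c ⟶ c'),
      A.toFunctor.map g.hom ≫ βc c' = βc c ≫ B.toFunctor.map g.hom := by
    intro c c' g
    have := hBc c'.obj
    have := hβ1 c
    have := hβ1 c'
    have hgA : 𝒳.p.IsHomLift g.hom.left (A.toFunctor.map g.hom) := inferInstance
    have hgB : 𝒳.p.IsHomLift g.hom.left (B.toFunctor.map g.hom) := inferInstance
    have l1 : 𝒳.p.IsHomLift g.hom.left (A.toFunctor.map g.hom ≫ βc c') :=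
      isHomLift_comp_id' 𝒳.p g.hom.left _ _
    have l2 : 𝒳.p.IsHomLift g.hom.left (βc c ≫ B.toFunctor.map g.hom) :=
      isHomLift_id_comp' 𝒳.p g.hom.left _ _
    have eG : A.toFunctor.map g.hom ≫ A.toFunctor.map (toT c'.obj) = A.toFunctor.map (toT c.obj) := by
      rw [← A.toFunctor.map_comp]; exact congrArg A.toFunctor.map (comp_toT g.hom)
    have eH : B.toFunctor.map g.hom ≫ B.toFunctor.map (toT c'.obj) = B.toFunctor.map (toT c.obj) := by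
      rw [← B.toFunctor.map_comp]; exact congrArg B.toFunctor.map (comp_toT g.hom)
    apply Functor.IsStronglyCartesian.ext 𝒳.p c'.obj.hom
      (B.toFunctor.map (toT c'.obj) ≫ eB'.hom) g.hom.left
    rw [Category.assoc, hβ2 c', Category.assoc, ← Category.assoc (B.toFunctor.map g.hom), eH, hβ2 c,
      ← hcompat _ (hmem c') (A.toFunctor.map g.hom)]
    apply mcongr
    rw [← Category.assoc, eG]
  let βnat : (Stk.resSieve R' 𝒳).obj A ⟶ (Stk.resSieve R' 𝒳).obj B :=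
    { toNatTrans := { app := βc, naturality := fun c c' g => hnat g }
      isHomLift' := fun c => hβ1 c }
  have hFull : (Stk.resSieve R' 𝒳).Full := hR.1
  obtain ⟨γ, hγ⟩ := (Stk.resSieve R' 𝒳).map_surjective βnat
  have hγc : ∀ c : (Stk.sieveCat R').obj, γ.toNatTrans.app c.obj = βc c := fun c => by
    have := congrArg (fun t : (Stk.resSieve R' 𝒳).obj A ⟶ (Stk.resSieve R' 𝒳).obj B =>
      t.toNatTrans.app c) hγ
    exact this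
  have hγ1 : 𝒳.p.IsHomLift (𝟙 (𝒳.p.obj a)) (γ.toNatTrans.app (oT (𝒳.p.obj a))) :=
    γ.isHomLift' (oT (𝒳.p.obj a))
  have l1 : 𝒳.p.IsHomLift (𝟙 (𝒳.p.obj a)) (γ.toNatTrans.app (oT (𝒳.p.obj a)) ≫ eB'.hom) :=
    isHomLift_id_id' 𝒳.p _ _
  have l2 : 𝒳.p.IsHomLift (𝟙 (𝒳.p.obj a))
      (eA'.inv ≫ γ.toNatTrans.app (oT (𝒳.p.obj a)) ≫ eB'.hom) := isHomLift_id_id' 𝒳.p _ _
  refine ⟨eA'.inv ≫ γ.toNatTrans.app (oT (𝒳.p.obj a)) ≫ eB'.hom, l2, ?_⟩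
  intro a' α hα
  let c : (Stk.sieveCat R').obj :=
    ⟨Over.mk (𝒳.p.map α), Presieve.image_mem_functorPushforward 𝒳.p 𝓡.arrows hα⟩
  have hαl : 𝒳.p.IsHomLift (𝒳.p.map α) α := inferInstance
  have := hA2 c.obj
  obtain ⟨j, hj, hjf⟩ := exists_iso_fac h𝒳 (𝒳.p.map α) (A.toFunctor.map (toT c.obj) ≫ eA'.hom) α
    (hφ := hA2 c.obj) (hψ := hαl)
  have n1 := γ.toNatTrans.naturality (toT c.obj)
  calc α ≫ eA'.inv ≫ γ.toNatTrans.app (oT (𝒳.p.obj a)) ≫ eB'.hom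
      = j.hom ≫ (A.toFunctor.map (toT c.obj) ≫ γ.toNatTrans.app (oT (𝒳.p.obj a))) ≫ eB'.hom := by
        rw [← hjf]; simp only [Category.assoc, Iso.hom_inv_id_assoc]
    _ = j.hom ≫ βc c ≫ (B.toFunctor.map (toT c.obj) ≫ eB'.hom) := by
        rw [n1, hγc c]; simp only [Category.assoc]
    _ = j.hom ≫ m (A.toFunctor.map (toT c.obj) ≫ eA'.hom) (hmem c) := by rw [hβ2 c]
    _ = m (j.hom ≫ A.toFunctor.map (toT c.obj) ≫ eA'.hom) (𝓡.downward_closed (hmem c) j.hom) :=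
        (hcompat _ (hmem c) j.hom).symm
    _ = m α hα := mcongr _ _ hjf _ _

end Glue

end Groth.Agent.H1.StkGlue
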