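import Mathlib
import Groth.Prelude.Def_StGerb2
import Groth.Agent.Lib.helper1.StkGlue
import Groth.Agent.Lib.helper1.FibCatGrpd

set_option autoImplicit false

/-! Fibrewise trivialisation of endofunctors of gerbes with a global object (helper1). -/

universe v₁ u₁ v₂ u₂ v₃ u₃

open CategoryTheory

namespace Groth.Agent.H1.GerbT

open Groth.Agent.H1.FC Groth.Agent.H1.GerbB Groth.Agent.H1.StkGlue

variable {C : Type u₁} [Category.{v₁} C] (J : GrothendieckTopology C)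
  {𝒳 : BasedCategory.{v₂, u₂} C}

theorem isIso_of_lift_id (h𝒳 : FibCat.IsFibGrpd 𝒳.p) (U : C) {z z' : 𝒳.obj} (α : z ⟶ z')
    [hα : 𝒳.p.IsHomLift (𝟙 U) α] : IsIso α := by
  have := H1_isStronglyCartesian_of_isFibGrpd h𝒳 (𝟙 U) α
  exact Functor.IsStronglyCartesian.isIso_of_base_isIso 𝒳.p (𝟙 U) α

/-- an automorphism over the identity from a morphism over the identity -/
theorem exists_autO (h𝒳 : FibCat.IsFibGrpd 𝒳.p) (z : 𝒳.obj) (α : z ⟶ z)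
    [hα : 𝒳.p.IsHomLift (𝟙 (𝒳.p.obj z)) α] : ∃ a : Gerb.AutO z, a.hom.1 = α := by
  have hiso : IsIso α := isIso_of_lift_id h𝒳 (𝒳.p.obj z) α
  let ψ : Gerb.fib z ⟶ Gerb.fib z := ⟨α, hα⟩
  haveI : IsIso ψ.1 := hiso
  haveI : IsIso ψ := H1_isIso_fiber_of_isIso ψ
  exact ⟨asIso ψ, rfl⟩

/-- the sieve on `y` of the morphisms whose source admits a morphism to `x`. -/
def goodSieve (x y : 𝒳.obj) : Sieve y where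
  arrows z _ := Nonempty (z ⟶ x)
  downward_closed := by
    rintro z z' ζ ⟨c⟩ h
    exact ⟨h ≫ c⟩

theorem isPrestackFor_of_mem (h𝒳 : Stk.IsStack J 𝒳) {U : C} (R : Sieve U) (hR : R ∈ J U) :
    Stk.IsPrestackFor R 𝒳 := by
  have : (Stk.resSieve R 𝒳).IsEquivalence := h𝒳.2 R hR
  exact ⟨inferInstance, inferInstance⟩

/-- two objects over the same base object of a gerbe are locally connected. -/
theorem locally_connected (h𝒳 : Gerb.IsGerbe J 𝒳) (y y' : 𝒳.obj) (hy : 𝒳.p.obj y' = 𝒳.p.obj y) :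
    ∃ R ∈ J (𝒳.p.obj y), ∀ ⦃V : C⦄ (f : V ⟶ 𝒳.p.obj y), R f →
      ∃ (x₀ : 𝒳.obj) (φ : x₀ ⟶ y) (ψ : x₀ ⟶ y'), 𝒳.p.IsHomLift f φ ∧ 𝒳.p.IsHomLift f ψ := by
  have hb : ∃ b : (FibCat.toSelf 𝒳).obj y ⟶ (FibCat.toSelf 𝒳).obj y',
      (FibCat.selfOver C).p.IsHomLift (𝟙 (𝒳.p.obj y)) b := by
    change ∃ b : 𝒳.p.obj y ⟶ 𝒳.p.obj y', (𝟭 C).IsHomLift (𝟙 (𝒳.p.obj y)) b
    rw [hy]
    exact ⟨𝟙 _, Functor.IsHomLift.map (p := 𝟭 C) (𝟙 (𝒳.p.obj y))⟩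
  obtain ⟨b, hb⟩ := hb
  obtain ⟨R, hR, hR'⟩ := h𝒳.2.2 y y' b hb
  refine ⟨R, hR, fun V f hf => ?_⟩
  obtain ⟨x₀, φ, ψ, hφ, hψ, -⟩ := hR' f hf
  exact ⟨x₀, φ, ψ, hφ, hψ⟩

theorem goodSieve_covering (h𝒳 : Gerb.IsGerbe J 𝒳) {T : C} (hT : Limits.IsTerminal T)
    (x : 𝒳.obj) (hx : 𝒳.p.obj x = T) (y : 𝒳.obj) :
    (goodSieve x y).functorPushforward 𝒳.p ∈ J (𝒳.p.obj y) := by
  have hfib := h𝒳.1.1
  obtain ⟨xU, t, ht⟩ := exists_lift' hfib x hx (hT.from (𝒳.p.obj y))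
  have hxU : 𝒳.p.obj xU = 𝒳.p.obj y := IsHomLift.domain_eq 𝒳.p (hT.from (𝒳.p.obj y)) t
  obtain ⟨R, hR, hR'⟩ := locally_connected J h𝒳 y xU hxU
  refine J.superset_covering ?_ hR
  intro V f hf
  obtain ⟨x₀, φ, ψ, hφ, hψ⟩ := hR' f hf
  exact mem_functorPushforward_of_isHomLift (goodSieve x y) φ ⟨ψ ≫ t⟩ f

theorem fiberwise_triv (h𝒳 : Gerb.IsGerbe J 𝒳) {T : C} (hT : Limits.IsTerminal T)
    (Φ : 𝒳 ⥤ᵇ 𝒳) (x : 𝒳.obj) (hx : 𝒳.p.obj x = T)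
    (g : Φ.obj x ⟶ x) (hg : 𝒳.p.IsHomLift (𝟙 (𝒳.p.obj x)) g)
    (hconj : ∀ (x' : 𝒳.obj) (c : x' ⟶ x) (g' : Φ.obj x' ⟶ x'),
      𝒳.p.IsHomLift (𝟙 (𝒳.p.obj x')) g' →
      Φ.map c ≫ g = g' ≫ c → ∀ α : Gerb.AutO x', Φ.map α.hom.1 ≫ g' = g' ≫ α.hom.1) :
    ∃ ρ : ∀ y : 𝒳.obj, Φ.obj y ⟶ y,
      (∀ y, IsIso (ρ y) ∧ 𝒳.p.IsHomLift (𝟙 (𝒳.p.obj y)) (ρ y)) ∧
      (∀ (y y' : 𝒳.obj) (f : y ⟶ y'), 𝒳.p.IsHomLift (𝟙 (𝒳.p.obj y)) f →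
        Φ.map f ≫ ρ y' = ρ y ≫ f) := by
  classical
  have hfib : FibCat.IsFibGrpd 𝒳.p := h𝒳.1.1
  have hbase : ∀ {Y : C} (u v : Y ⟶ 𝒳.p.obj x), u = v := by
    rw [hx]; intro Y u v; exact hT.hom_ext u v
  -- Step 1: the canonical isomorphisms on the objects mapping to `x`
  have key : ∀ (z : 𝒳.obj), Nonempty (z ⟶ x) → ∃ (ρ : Φ.obj z ⟶ z) (μ : z ⟶ Φ.obj z),
      𝒳.p.IsHomLift (𝟙 (𝒳.p.obj z)) ρ ∧ 𝒳.p.IsHomLift (𝟙 (𝒳.p.obj z)) μ ∧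
        ρ ≫ μ = 𝟙 _ ∧ μ ≫ ρ = 𝟙 _ ∧ ∀ c : z ⟶ x, ρ ≫ c = Φ.map c ≫ g := by
    rintro z ⟨c⟩
    have hc : 𝒳.p.IsHomLift (𝒳.p.map c) c := inferInstance
    have hΦc : 𝒳.p.IsHomLift (𝒳.p.map c) (Φ.map c) := inferInstance
    have hΦcg : 𝒳.p.IsHomLift (𝒳.p.map c) (Φ.map c ≫ g) := isHomLift_comp_id' 𝒳.p _ _ _
    have hsc := H1_isStronglyCartesian_of_isFibGrpd hfib (𝒳.p.map c) c
    let ρ := Functor.IsCartesian.map 𝒳.p (𝒳.p.map c) c (Φ.map c ≫ g)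
    have hρ : 𝒳.p.IsHomLift (𝟙 (𝒳.p.obj z)) ρ :=
      Functor.IsCartesian.map_isHomLift 𝒳.p (𝒳.p.map c) c (Φ.map c ≫ g)
    have hρc : ρ ≫ c = Φ.map c ≫ g := Functor.IsCartesian.fac 𝒳.p (𝒳.p.map c) c (Φ.map c ≫ g)
    have hρiso : IsIso ρ := isIso_of_lift_id hfib (𝒳.p.obj z) ρ
    refine ⟨ρ, inv ρ, hρ, inferInstance, IsIso.hom_inv_id ρ, IsIso.inv_hom_id ρ, ?_⟩
    intro c'
    have hc' : 𝒳.p.IsHomLift (𝒳.p.map c) c' := by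
      have : 𝒳.p.map c' = 𝒳.p.map c := hbase _ _
      rw [← this]; infer_instance
    let α := Functor.IsCartesian.map 𝒳.p (𝒳.p.map c) c c'
    have hα : 𝒳.p.IsHomLift (𝟙 (𝒳.p.obj z)) α :=
      Functor.IsCartesian.map_isHomLift 𝒳.p (𝒳.p.map c) c c'
    have hαc : α ≫ c = c' := Functor.IsCartesian.fac 𝒳.p (𝒳.p.map c) c c'
    obtain ⟨a, ha⟩ := exists_autO hfib z α
    have h1 := hconj z c ρ hρ hρc.symm a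
    rw [ha] at h1
    calc ρ ≫ c' = (ρ ≫ α) ≫ c := by rw [Category.assoc, hαc]
      _ = Φ.map α ≫ ρ ≫ c := by rw [← h1, Category.assoc]
      _ = Φ.map α ≫ Φ.map c ≫ g := by rw [hρc]
      _ = Φ.map c' ≫ g := by rw [← Category.assoc, ← Φ.toFunctor.map_comp, hαc]
  choose ρg μg hρg1 hμg1 hρμ hμρ hρg2 using key
  -- naturality
  have hnat : ∀ {z z' : 𝒳.obj} (h : z' ⟶ z) (hz : Nonempty (z ⟶ x)) (hz' : Nonempty (z' ⟶ x)),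
      Φ.map h ≫ ρg z hz = ρg z' hz' ≫ h := by
    intro z z' h hz hz'
    obtain ⟨c⟩ := hz
    have hsc := H1_isStronglyCartesian_of_isFibGrpd hfib (𝒳.p.map c) c
    have i1 := hρg1 z ⟨c⟩
    have i2 := hρg1 z' hz'
    have i3 : 𝒳.p.IsHomLift (𝒳.p.map h) (Φ.map h) := inferInstance
    have l1 : 𝒳.p.IsHomLift (𝒳.p.map h) (Φ.map h ≫ ρg z ⟨c⟩) := isHomLift_comp_id' 𝒳.p _ _ _
    have l2 : 𝒳.p.IsHomLift (𝒳.p.map h) (ρg z' hz' ≫ h) := isHomLift_id_comp' 𝒳.p _ _ _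
    apply Functor.IsStronglyCartesian.ext 𝒳.p (𝒳.p.map c) c (𝒳.p.map h)
    rw [Category.assoc, hρg2 z ⟨c⟩ c, Category.assoc, hρg2 z' hz' (h ≫ c), Φ.toFunctor.map_comp,
      Category.assoc]
  have hnat' : ∀ {z z' : 𝒳.obj} (h : z' ⟶ z) (hz : Nonempty (z ⟶ x)) (hz' : Nonempty (z' ⟶ x)),
      h ≫ μg z hz = μg z' hz' ≫ Φ.map h := by
    intro z z' h hz hz'
    have e := hnat h hz hz'
    calc h ≫ μg z hz = (μg z' hz' ≫ ρg z' hz') ≫ h ≫ μg z hz := by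
          rw [hμρ, Category.id_comp]
      _ = μg z' hz' ≫ (ρg z' hz' ≫ h) ≫ μg z hz := by simp only [Category.assoc]
      _ = μg z' hz' ≫ (Φ.map h ≫ ρg z hz) ≫ μg z hz := by rw [e]
      _ = μg z' hz' ≫ Φ.map h := by rw [Category.assoc, hρμ, Category.comp_id]
  -- gluing
  have hpre : ∀ y : 𝒳.obj, Stk.IsPrestackFor ((goodSieve x y).functorPushforward 𝒳.p) 𝒳 := fun y =>
    isPrestackFor_of_mem J h𝒳.1 _ (goodSieve_covering J h𝒳 hT x hx y)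
  have hglue : ∀ y : 𝒳.obj, ∃ μ : y ⟶ Φ.obj y, 𝒳.p.IsHomLift (𝟙 (𝒳.p.obj y)) μ ∧
      ∀ ⦃z : 𝒳.obj⦄ (ζ : z ⟶ y) (hζ : Nonempty (z ⟶ x)), ζ ≫ μ = μg z hζ ≫ Φ.map ζ := by
    intro y
    refine glue_hom hfib (goodSieve x y) (hpre y) (b := Φ.obj y) (Φ.w_obj y)
      (fun z ζ hζ => μg z hζ ≫ Φ.map ζ) ?_ ?_
    · intro z ζ hζ V f hf
      have hV : 𝒳.p.obj z = V := IsHomLift.domain_eq 𝒳.p f ζ
      have i1 := hμg1 z hζ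
      have i2 : 𝒳.p.IsHomLift (𝟙 V) (μg z hζ) := H1_isHomLift_id_of_eq 𝒳.p hV _
      have i3 : 𝒳.p.IsHomLift f (Φ.map ζ) := inferInstance
      exact isHomLift_id_comp' 𝒳.p f _ _
    · intro z z' ζ hζ h
      change μg z' _ ≫ Φ.map (h ≫ ζ) = h ≫ μg z hζ ≫ Φ.map ζ
      rw [Φ.toFunctor.map_comp, ← Category.assoc, ← Category.assoc, hnat' h hζ]
  choose μ hμ1 hμ2 using hglue
  have hinv : ∀ y : 𝒳.obj, ∃ ρ : Φ.obj y ⟶ y, IsIso ρ ∧ 𝒳.p.IsHomLift (𝟙 (𝒳.p.obj y)) ρ ∧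
      μ y ≫ ρ = 𝟙 _ ∧ ρ ≫ μ y = 𝟙 _ := by
    intro y
    have i1 := hμ1 y
    have hiso : IsIso (μ y) := isIso_of_lift_id hfib (𝒳.p.obj y) (μ y)
    exact ⟨inv (μ y), inferInstance, inferInstance, IsIso.hom_inv_id _, IsIso.inv_hom_id _⟩
  choose ρ hρ1 hρ2 hρ3 hρ4 using hinv
  refine ⟨ρ, fun y => ⟨hρ1 y, hρ2 y⟩, ?_⟩
  intro y y' f hf
  have hy' : 𝒳.p.obj y' = 𝒳.p.obj y := IsHomLift.codomain_eq 𝒳.p (𝟙 (𝒳.p.obj y)) f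
  have i1 := hμ1 y
  have i2 : 𝒳.p.IsHomLift (𝟙 (𝒳.p.obj y)) (μ y') := H1_isHomLift_id_of_eq 𝒳.p hy' _
  have i3 : 𝒳.p.IsHomLift (𝟙 (𝒳.p.obj y)) (Φ.map f) := inferInstance
  have l1 : 𝒳.p.IsHomLift (𝟙 (𝒳.p.obj y)) (μ y ≫ Φ.map f) := isHomLift_id_id' 𝒳.p _ _
  have l2 : 𝒳.p.IsHomLift (𝟙 (𝒳.p.obj y)) (f ≫ μ y') := isHomLift_id_id' 𝒳.p _ _
  have e : μ y ≫ Φ.map f = f ≫ μ y' := by
    apply hom_ext_of_sieve hfib (goodSieve x y) (hpre y)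
    intro z ζ hζ
    have hζ' : Nonempty (z ⟶ x) := hζ
    rw [← Category.assoc, hμ2 y ζ hζ', ← Category.assoc, hμ2 y' (ζ ≫ f) hζ', Category.assoc,
      Φ.toFunctor.map_comp]
  calc Φ.map f ≫ ρ y' = (ρ y ≫ μ y) ≫ Φ.map f ≫ ρ y' := by rw [hρ4, Category.id_comp]
    _ = ρ y ≫ (μ y ≫ Φ.map f) ≫ ρ y' := by simp only [Category.assoc]
    _ = ρ y ≫ (f ≫ μ y') ≫ ρ y' := by rw [e]
    _ = ρ y ≫ f := by rw [Category.assoc, hρ3, Category.comp_id]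

end Groth.Agent.H1.GerbT
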