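import Mathlib
import Groth.Prelude.Def_StGerb2
import Groth.Agent.Lib.helper1.GerbTriv

set_option autoImplicit false

/-! The band of an abelian gerbe (helper1). -/

universe v u

open CategoryTheory Opposite

namespace Groth.Agent.H1.GerbBand

open Groth.Agent.H1.FC Groth.Agent.H1.GerbB Groth.Agent.H1.StkGlue Groth.Agent.H1.GerbT

variable {C : Type u} [Category.{v} C] (J : GrothendieckTopology C)
  (𝒮 : BasedCategory.{v, max u v} C)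

theorem autO_ext {x : 𝒮.obj} (a b : Gerb.AutO x) (h : a.hom.1 = b.hom.1) : a = b :=
  Aut.ext (Functor.Fiber.hom_ext h)

@[simp] theorem autO_mul_hom {x : 𝒮.obj} (a b : Gerb.AutO x) : (a * b).hom.1 = b.hom.1 ≫ a.hom.1 := rfl

@[simp] theorem autO_one_hom {x : 𝒮.obj} : (1 : Gerb.AutO x).hom.1 = 𝟙 x := rfl

theorem autO_inv_hom {x : 𝒮.obj} (a : Gerb.AutO x) : (a⁻¹).hom.1 = a.inv.1 := rfl

theorem autO_hom_inv {x : 𝒮.obj} (a : Gerb.AutO x) : a.hom.1 ≫ a.inv.1 = 𝟙 x :=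
  congrArg Subtype.val a.hom_inv_id

theorem autO_inv_hom_id {x : 𝒮.obj} (a : Gerb.AutO x) : a.inv.1 ≫ a.hom.1 = 𝟙 x :=
  congrArg Subtype.val a.inv_hom_id

/-- index type of the families -/
abbrev Idx (U : C) := Σ x : 𝒮.obj, (𝒮.p.obj x ⟶ U)

/-- the group of compatible families of automorphisms over `U` -/
def sec (U : C) : Subgroup (∀ i : Idx 𝒮 U, Gerb.AutO i.1) where
  carrier := {a | ∀ ⦃x' x : 𝒮.obj⦄ (φ : x' ⟶ x) (f : 𝒮.p.obj x ⟶ U),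
    (a ⟨x', 𝒮.p.map φ ≫ f⟩).hom.1 ≫ φ = φ ≫ (a ⟨x, f⟩).hom.1}
  mul_mem' := by
    intro a b ha hb x' x φ f
    change ((a ⟨x', _⟩) * (b ⟨x', _⟩)).hom.1 ≫ φ = φ ≫ ((a ⟨x, f⟩) * (b ⟨x, f⟩)).hom.1
    rw [autO_mul_hom, autO_mul_hom, Category.assoc, ha φ f, ← Category.assoc, hb φ f, Category.assoc]
  one_mem' := by
    intro x' x φ f
    change (1 : Gerb.AutO x').hom.1 ≫ φ = φ ≫ (1 : Gerb.AutO x).hom.1
    simp
  inv_mem' := by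
    intro a ha x' x φ f
    change ((a ⟨x', _⟩)⁻¹).hom.1 ≫ φ = φ ≫ ((a ⟨x, f⟩)⁻¹).hom.1
    rw [autO_inv_hom, autO_inv_hom]
    have h := ha φ f
    calc (a ⟨x', 𝒮.p.map φ ≫ f⟩).inv.1 ≫ φ
        = (a ⟨x', 𝒮.p.map φ ≫ f⟩).inv.1 ≫ φ ≫ ((a ⟨x, f⟩).hom.1 ≫ (a ⟨x, f⟩).inv.1) := by
          rw [autO_hom_inv, Category.comp_id]
      _ = (a ⟨x', 𝒮.p.map φ ≫ f⟩).inv.1 ≫ ((a ⟨x', 𝒮.p.map φ ≫ f⟩).hom.1 ≫ φ) ≫
            (a ⟨x, f⟩).inv.1 := by rw [h]; simp only [Category.assoc]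
      _ = φ ≫ (a ⟨x, f⟩).inv.1 := by
          rw [Category.assoc, ← Category.assoc, autO_inv_hom_id, Category.id_comp]

variable {𝒮}

theorem sec_compat {U : C} (a : sec 𝒮 U) ⦃x' x : 𝒮.obj⦄ (φ : x' ⟶ x) (f : 𝒮.p.obj x ⟶ U) :
    (a.1 ⟨x', 𝒮.p.map φ ≫ f⟩).hom.1 ≫ φ = φ ≫ (a.1 ⟨x, f⟩).hom.1 := a.2 φ f

theorem sec_ext {U : C} (a b : sec 𝒮 U) (h : ∀ (x : 𝒮.obj) (f : 𝒮.p.obj x ⟶ U), a.1 ⟨x, f⟩ = b.1 ⟨x, f⟩) :
    a = b := by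
  apply Subtype.ext
  funext i
  obtain ⟨x, f⟩ := i
  exact h x f

/-- restriction of families -/
def res {U V : C} (g : V ⟶ U) : sec 𝒮 U →* sec 𝒮 V where
  toFun a := ⟨fun i => a.1 ⟨i.1, i.2 ≫ g⟩, by
    intro x' x φ f
    have h := a.2 φ (f ≫ g)
    have e : (𝒮.p.map φ ≫ f) ≫ g = 𝒮.p.map φ ≫ f ≫ g := Category.assoc _ _ _
    show (a.1 ⟨x', (𝒮.p.map φ ≫ f) ≫ g⟩).hom.1 ≫ φ = φ ≫ (a.1 ⟨x, f ≫ g⟩).hom.1
    rw [e]; exact h⟩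
  map_one' := rfl
  map_mul' _ _ := rfl

@[simp] theorem res_val {U V : C} (g : V ⟶ U) (a : sec 𝒮 U) (x : 𝒮.obj) (f : 𝒮.p.obj x ⟶ V) :
    (res g a).1 ⟨x, f⟩ = a.1 ⟨x, f ≫ g⟩ := rfl

variable (𝒮)

/-- the presheaf of groups of compatible families -/
def bandPsh : Cᵒᵖ ⥤ GrpCat.{max u v} where
  obj U := GrpCat.of (sec 𝒮 U.unop)
  map g := GrpCat.ofHom (res g.unop)
  map_id U := by
    refine GrpCat.hom_ext (MonoidHom.ext fun a => ?_)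
    apply sec_ext
    intro x f
    change a.1 ⟨x, f ≫ 𝟙 _⟩ = a.1 ⟨x, f⟩
    rw [Category.comp_id]
  map_comp g h := by
    refine GrpCat.hom_ext (MonoidHom.ext fun a => ?_)
    apply sec_ext
    intro x f
    change a.1 ⟨x, f ≫ (h.unop ≫ g.unop)⟩ = a.1 ⟨x, (f ≫ h.unop) ≫ g.unop⟩
    rw [Category.assoc]


variable {𝒮}

/-- uniqueness of glued morphisms over an arbitrary base morphism. -/
theorem hom_ext_of_sieve' (h𝒮 : FibCat.IsFibGrpd 𝒮.p) {a b : 𝒮.obj} (𝓡 : Sieve a)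
    (hR : Stk.IsPrestackFor (𝓡.functorPushforward 𝒮.p) 𝒮) {V : C} (f : 𝒮.p.obj a ⟶ V)
    (μ μ' : a ⟶ b) [hμ : 𝒮.p.IsHomLift f μ] [hμ' : 𝒮.p.IsHomLift f μ']
    (h : ∀ ⦃a' : 𝒮.obj⦄ (α : a' ⟶ a), 𝓡 α → α ≫ μ = α ≫ μ') : μ = μ' := by
  have hsc := H1_isStronglyCartesian_of_isFibGrpd h𝒮 f μ
  let γ := Functor.IsCartesian.map 𝒮.p f μ μ'
  have hγ : 𝒮.p.IsHomLift (𝟙 (𝒮.p.obj a)) γ := Functor.IsCartesian.map_isHomLift 𝒮.p f μ μ'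
  have hγμ : γ ≫ μ = μ' := Functor.IsCartesian.fac 𝒮.p f μ μ'
  have hid : 𝒮.p.IsHomLift (𝟙 (𝒮.p.obj a)) (𝟙 a) := inferInstance
  have e : γ = 𝟙 a := by
    apply hom_ext_of_sieve h𝒮 𝓡 hR γ (𝟙 a)
    intro a' α hα
    have l0 : 𝒮.p.IsHomLift (𝒮.p.map α) α := inferInstance
    have l1 : 𝒮.p.IsHomLift (𝒮.p.map α) (α ≫ γ) := isHomLift_comp_id' 𝒮.p _ _ _
    have l2 : 𝒮.p.IsHomLift (𝒮.p.map α) (α ≫ 𝟙 a) := isHomLift_comp_id' 𝒮.p _ _ _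
    apply Functor.IsStronglyCartesian.ext 𝒮.p f μ (𝒮.p.map α)
    rw [Category.assoc, hγμ, Category.comp_id, h α hα]
  rw [← hγμ, e, Category.id_comp]

/-- the sieve on `y` pulled back from a sieve on `U` along `f : p y ⟶ U`. -/
def pbSieve {U : C} (R : Sieve U) (y : 𝒮.obj) (f : 𝒮.p.obj y ⟶ U) : Sieve y where
  arrows z ζ := R (𝒮.p.map ζ ≫ f)
  downward_closed := by
    intro z z' ζ hζ h
    change R (𝒮.p.map (h ≫ ζ) ≫ f)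
    rw [𝒮.p.map_comp, Category.assoc]
    exact R.downward_closed hζ _

theorem pbSieve_covering (h𝒮 : FibCat.IsFibGrpd 𝒮.p) {U : C} (R : Sieve U) (hR : R ∈ J U)
    (y : 𝒮.obj) (f : 𝒮.p.obj y ⟶ U) :
    (pbSieve R y f).functorPushforward 𝒮.p ∈ J (𝒮.p.obj y) := by
  refine J.superset_covering ?_ (J.pullback_stable f hR)
  intro V h hh
  obtain ⟨z, ζ, hζ⟩ := h𝒮.exists_lift (x := y) h
  have hV : 𝒮.p.obj z = V := IsHomLift.domain_eq 𝒮.p h ζ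
  subst hV
  have hhe : h = 𝒮.p.map ζ := IsHomLift.eq_of_isHomLift 𝒮.p h ζ
  have hmem : pbSieve R y f ζ := by
    change R (𝒮.p.map ζ ≫ f)
    rw [← hhe]; exact hh
  exact mem_functorPushforward_of_isHomLift (pbSieve R y f) ζ hmem h

/-- the sieve on `y` of the morphisms `ζ : z ⟶ y` such that `z` maps to `x` compatibly with `f`. -/
def conSieve (x y : 𝒮.obj) (f : 𝒮.p.obj y ⟶ 𝒮.p.obj x) : Sieve y where
  arrows z ζ := ∃ c : z ⟶ x, 𝒮.p.map c = 𝒮.p.map ζ ≫ f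
  downward_closed := by
    rintro z z' ζ ⟨c, hc⟩ h
    refine ⟨h ≫ c, ?_⟩
    rw [𝒮.p.map_comp, 𝒮.p.map_comp, hc, Category.assoc]

theorem conSieve_covering (h𝒮 : Gerb.IsGerbe J 𝒮) (x y : 𝒮.obj) (f : 𝒮.p.obj y ⟶ 𝒮.p.obj x) :
    (conSieve x y f).functorPushforward 𝒮.p ∈ J (𝒮.p.obj y) := by
  have hfib := h𝒮.1.1
  obtain ⟨xf, t, ht⟩ := hfib.exists_lift (x := x) f
  have hxf : 𝒮.p.obj xf = 𝒮.p.obj y := IsHomLift.domain_eq 𝒮.p f t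
  obtain ⟨R, hR, hR'⟩ := locally_connected J h𝒮 y xf hxf
  refine J.superset_covering ?_ hR
  intro V h hh
  obtain ⟨z, ζ, ψ, hζ, hψ⟩ := hR' h hh
  have hV : 𝒮.p.obj z = V := IsHomLift.domain_eq 𝒮.p h ζ
  subst hV
  have hhe : h = 𝒮.p.map ζ := IsHomLift.eq_of_isHomLift 𝒮.p h ζ
  have l1 : 𝒮.p.IsHomLift (h ≫ f) (ψ ≫ t) := inferInstance
  have hmem : conSieve x y f ζ := by
    refine ⟨ψ ≫ t, ?_⟩
    rw [← hhe]
    exact (IsHomLift.eq_of_isHomLift 𝒮.p (h ≫ f) (ψ ≫ t)).symm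
  exact mem_functorPushforward_of_isHomLift (conSieve x y f) ζ hmem h

/-- conjugate of an automorphism of `x` along `c : z ⟶ x`. -/
theorem exists_conj (h𝒮 : FibCat.IsFibGrpd 𝒮.p) {z x : 𝒮.obj} (c : z ⟶ x) (α : Gerb.AutO x) :
    ∃ β : Gerb.AutO z, β.hom.1 ≫ c = c ≫ α.hom.1 := by
  have hα : 𝒮.p.IsHomLift (𝟙 (𝒮.p.obj x)) α.hom.1 := α.hom.2
  have hc : 𝒮.p.IsHomLift (𝒮.p.map c) c := inferInstance
  have hcα : 𝒮.p.IsHomLift (𝒮.p.map c) (c ≫ α.hom.1) := isHomLift_comp_id' 𝒮.p _ _ _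
  have hsc := H1_isStronglyCartesian_of_isFibGrpd h𝒮 (𝒮.p.map c) c
  let β₀ := Functor.IsCartesian.map 𝒮.p (𝒮.p.map c) c (c ≫ α.hom.1)
  have hβ₀ : 𝒮.p.IsHomLift (𝟙 (𝒮.p.obj z)) β₀ := Functor.IsCartesian.map_isHomLift 𝒮.p _ c _
  have hβ₀c : β₀ ≫ c = c ≫ α.hom.1 := Functor.IsCartesian.fac 𝒮.p _ c _
  obtain ⟨β, hβ⟩ := exists_autO h𝒮 z β₀
  exact ⟨β, by rw [hβ]; exact hβ₀c⟩

theorem conj_unique (h𝒮 : FibCat.IsFibGrpd 𝒮.p) {z x : 𝒮.obj} (c : z ⟶ x) (α : Gerb.AutO x)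
    (β β' : Gerb.AutO z) (hβ : β.hom.1 ≫ c = c ≫ α.hom.1) (hβ' : β'.hom.1 ≫ c = c ≫ α.hom.1) :
    β = β' := by
  apply autO_ext
  have h1 : 𝒮.p.IsHomLift (𝟙 (𝒮.p.obj z)) β.hom.1 := β.hom.2
  have h2 : 𝒮.p.IsHomLift (𝟙 (𝒮.p.obj z)) β'.hom.1 := β'.hom.2
  have hc : 𝒮.p.IsHomLift (𝒮.p.map c) c := inferInstance
  apply hom_ext_of_isFibGrpd h𝒮 (𝒮.p.map c) c
  rw [hβ, hβ']

/-- in an abelian gerbe the conjugate only depends on the image of `c` in the base. -/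
theorem conj_indep (h𝒮 : FibCat.IsFibGrpd 𝒮.p)
    (hcomm : ∀ (x : 𝒮.obj) (α β : Gerb.AutO x), α * β = β * α) {z x : 𝒮.obj} (c c' : z ⟶ x)
    (hcc' : 𝒮.p.map c' = 𝒮.p.map c) (α : Gerb.AutO x) (β β' : Gerb.AutO z)
    (hβ : β.hom.1 ≫ c = c ≫ α.hom.1) (hβ' : β'.hom.1 ≫ c' = c' ≫ α.hom.1) : β = β' := by
  have hc : 𝒮.p.IsHomLift (𝒮.p.map c) c := inferInstance
  have hc' : 𝒮.p.IsHomLift (𝒮.p.map c) c' := by rw [← hcc']; infer_instance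
  have hsc := H1_isStronglyCartesian_of_isFibGrpd h𝒮 (𝒮.p.map c) c
  let γ₀ := Functor.IsCartesian.map 𝒮.p (𝒮.p.map c) c c'
  have hγ₀ : 𝒮.p.IsHomLift (𝟙 (𝒮.p.obj z)) γ₀ := Functor.IsCartesian.map_isHomLift 𝒮.p _ c _
  have hγ₀c : γ₀ ≫ c = c' := Functor.IsCartesian.fac 𝒮.p _ c _
  obtain ⟨γ, hγ⟩ := exists_autO h𝒮 z γ₀
  -- β' γ = γ β as morphisms
  have h1 : 𝒮.p.IsHomLift (𝟙 (𝒮.p.obj z)) β.hom.1 := β.hom.2
  have h2 : 𝒮.p.IsHomLift (𝟙 (𝒮.p.obj z)) β'.hom.1 := β'.hom.2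
  have h3 : 𝒮.p.IsHomLift (𝟙 (𝒮.p.obj z)) γ.hom.1 := γ.hom.2
  have e : β'.hom.1 ≫ γ.hom.1 = γ.hom.1 ≫ β.hom.1 := by
    have l1 : 𝒮.p.IsHomLift (𝟙 (𝒮.p.obj z)) (β'.hom.1 ≫ γ.hom.1) := isHomLift_id_id' 𝒮.p _ _
    have l2 : 𝒮.p.IsHomLift (𝟙 (𝒮.p.obj z)) (γ.hom.1 ≫ β.hom.1) := isHomLift_id_id' 𝒮.p _ _
    apply hom_ext_of_isFibGrpd h𝒮 (𝒮.p.map c) c
    rw [Category.assoc, Category.assoc, hγ, hγ₀c, hβ', hβ, ← Category.assoc, hγ₀c]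
  have e' : γ * β' = β * γ := by
    apply autO_ext
    rw [autO_mul_hom, autO_mul_hom]; exact e
  have e'' : γ * β' = γ * β := by rw [e', hcomm]
  exact (mul_left_cancel e'').symm


/-- value of a family, as a non-dependent function of the structure map -/
def val {U : C} (a : sec 𝒮 U) (z : 𝒮.obj) (k : 𝒮.p.obj z ⟶ U) : Gerb.AutO z := a.1 ⟨z, k⟩

theorem val_congr {U : C} (a : sec 𝒮 U) (z : 𝒮.obj) {k k' : 𝒮.p.obj z ⟶ U} (e : k = k') :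
    val a z k = val a z k' := congrArg (val a z) e

theorem val_compat {U : C} (a : sec 𝒮 U) ⦃x' x : 𝒮.obj⦄ (φ : x' ⟶ x) (f : 𝒮.p.obj x ⟶ U) :
    (val a x' (𝒮.p.map φ ≫ f)).hom.1 ≫ φ = φ ≫ (val a x f).hom.1 := a.2 φ f

theorem isPrestackFor_conSieve (h𝒮 : Gerb.IsGerbe J 𝒮) (x y : 𝒮.obj) (f : 𝒮.p.obj y ⟶ 𝒮.p.obj x) :
    Stk.IsPrestackFor ((conSieve x y f).functorPushforward 𝒮.p) 𝒮 :=
  isPrestackFor_of_mem J h𝒮.1 _ (conSieve_covering J h𝒮 x y f)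

theorem isPrestackFor_pbSieve (h𝒮 : Stk.IsStack J 𝒮) {U : C} (R : Sieve U) (hR : R ∈ J U)
    (y : 𝒮.obj) (f : 𝒮.p.obj y ⟶ U) :
    Stk.IsPrestackFor ((pbSieve R y f).functorPushforward 𝒮.p) 𝒮 :=
  isPrestackFor_of_mem J h𝒮 _ (pbSieve_covering J h𝒮.1 R hR y f)

/-- a compatible family over `p x` is determined by its value at `x`. -/
theorem sec_eq_of_val_eq (h𝒮 : Gerb.IsGerbe J 𝒮) (x : 𝒮.obj) (a b : sec 𝒮 (𝒮.p.obj x))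
    (h : val a x (𝟙 _) = val b x (𝟙 _)) : a = b := by
  have hfib := h𝒮.1.1
  apply sec_ext
  intro y f
  change val a y f = val b y f
  apply autO_ext
  have i1 : 𝒮.p.IsHomLift (𝟙 (𝒮.p.obj y)) (val a y f).hom.1 := (val a y f).hom.2
  have i2 : 𝒮.p.IsHomLift (𝟙 (𝒮.p.obj y)) (val b y f).hom.1 := (val b y f).hom.2
  apply hom_ext_of_sieve hfib (conSieve x y f) (isPrestackFor_conSieve J h𝒮 x y f)
  rintro z ζ ⟨c, hc⟩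
  have e1 := val_compat a ζ f
  have e2 := val_compat b ζ f
  have e3 := val_compat a c (𝟙 _)
  have e4 := val_compat b c (𝟙 _)
  rw [← h] at e4
  have e5 : val a z (𝒮.p.map c ≫ 𝟙 _) = val b z (𝒮.p.map c ≫ 𝟙 _) :=
    conj_unique hfib c (val a x (𝟙 _)) _ _ e3 e4
  have ek : 𝒮.p.map c ≫ 𝟙 _ = 𝒮.p.map ζ ≫ f := by rw [Category.comp_id, hc]
  rw [val_congr a z ek, val_congr b z ek] at e5
  rw [← e1, ← e2, e5]

/-- extension of an automorphism of `x` to a compatible family over `p x` (abelian gerbe). -/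
theorem exists_sec (h𝒮 : Gerb.IsGerbe J 𝒮)
    (hcomm : ∀ (x : 𝒮.obj) (α β : Gerb.AutO x), α * β = β * α) (x : 𝒮.obj) (α : Gerb.AutO x) :
    ∃ a : sec 𝒮 (𝒮.p.obj x), val a x (𝟙 _) = α := by
  classical
  have hfib := h𝒮.1.1
  have key : ∀ (y : 𝒮.obj) (f : 𝒮.p.obj y ⟶ 𝒮.p.obj x), ∃ β : Gerb.AutO y,
      ∀ ⦃z : 𝒮.obj⦄ (ζ : z ⟶ y) (c : z ⟶ x), 𝒮.p.map c = 𝒮.p.map ζ ≫ f →
        ∀ γ : Gerb.AutO z, γ.hom.1 ≫ c = c ≫ α.hom.1 → ζ ≫ β.hom.1 = γ.hom.1 ≫ ζ := by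
    intro y f
    have hex : ∀ ⦃z : 𝒮.obj⦄ (ζ : z ⟶ y), conSieve x y f ζ → ∃ γ : Gerb.AutO z, ∃ c : z ⟶ x,
        𝒮.p.map c = 𝒮.p.map ζ ≫ f ∧ γ.hom.1 ≫ c = c ≫ α.hom.1 := by
      rintro z ζ ⟨c, hc⟩
      obtain ⟨γ, hγ⟩ := exists_conj hfib c α
      exact ⟨γ, c, hc, hγ⟩
    choose Γ cc hcc hΓ using hex
    have huniq : ∀ ⦃z : 𝒮.obj⦄ (ζ : z ⟶ y) (hζ : conSieve x y f ζ) (c : z ⟶ x),
        𝒮.p.map c = 𝒮.p.map ζ ≫ f → ∀ γ : Gerb.AutO z, γ.hom.1 ≫ c = c ≫ α.hom.1 →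
          Γ ζ hζ = γ := by
      intro z ζ hζ c hc γ hγ
      exact conj_indep hfib hcomm (cc ζ hζ) c (by rw [hc, hcc ζ hζ]) α _ _ (hΓ ζ hζ) hγ
    obtain ⟨μ, hμ1, hμ2⟩ := glue_hom hfib (conSieve x y f) (isPrestackFor_conSieve J h𝒮 x y f)
      (b := y) rfl (fun z ζ hζ => (Γ ζ hζ).hom.1 ≫ ζ)
      (by
        intro z ζ hζ V f' hf'
        have hV : 𝒮.p.obj z = V := IsHomLift.domain_eq 𝒮.p f' ζ
        have i1 : 𝒮.p.IsHomLift (𝟙 (𝒮.p.obj z)) (Γ ζ hζ).hom.1 := (Γ ζ hζ).hom.2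
        have i2 : 𝒮.p.IsHomLift (𝟙 V) (Γ ζ hζ).hom.1 := H1_isHomLift_id_of_eq 𝒮.p hV _
        exact isHomLift_id_comp' 𝒮.p f' _ _)
      (by
        intro z z' ζ hζ h
        obtain ⟨γ'', hγ''⟩ := exists_conj hfib h (Γ ζ hζ)
        have e : Γ (h ≫ ζ) ((conSieve x y f).downward_closed hζ h) = γ'' := by
          apply huniq (h ≫ ζ) _ (h ≫ cc ζ hζ)
          · rw [𝒮.p.map_comp, 𝒮.p.map_comp, hcc ζ hζ, Category.assoc]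
          · rw [← Category.assoc, hγ'', Category.assoc, hΓ ζ hζ, Category.assoc]
        change (Γ (h ≫ ζ) _).hom.1 ≫ h ≫ ζ = h ≫ (Γ ζ hζ).hom.1 ≫ ζ
        rw [e, ← Category.assoc, hγ'', Category.assoc])
    obtain ⟨β, hβ⟩ := exists_autO hfib y μ
    refine ⟨β, ?_⟩
    intro z ζ c hc γ hγ
    have hζ : conSieve x y f ζ := ⟨c, hc⟩
    rw [hβ, hμ2 ζ hζ, huniq ζ hζ c hc γ hγ]
  choose B hB using key
  have hcompatB : ∀ ⦃y' y : 𝒮.obj⦄ (φ : y' ⟶ y) (f : 𝒮.p.obj y ⟶ 𝒮.p.obj x),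
      (B y' (𝒮.p.map φ ≫ f)).hom.1 ≫ φ = φ ≫ (B y f).hom.1 := by
    intro y' y φ f
    have i1 : 𝒮.p.IsHomLift (𝟙 (𝒮.p.obj y')) (B y' (𝒮.p.map φ ≫ f)).hom.1 := (B y' _).hom.2
    have i2 : 𝒮.p.IsHomLift (𝟙 (𝒮.p.obj y)) (B y f).hom.1 := (B y f).hom.2
    have i3 : 𝒮.p.IsHomLift (𝒮.p.map φ) φ := inferInstance
    have l1 : 𝒮.p.IsHomLift (𝒮.p.map φ) ((B y' (𝒮.p.map φ ≫ f)).hom.1 ≫ φ) :=
      isHomLift_id_comp' 𝒮.p _ _ _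
    have l2 : 𝒮.p.IsHomLift (𝒮.p.map φ) (φ ≫ (B y f).hom.1) := isHomLift_comp_id' 𝒮.p _ _ _
    apply hom_ext_of_sieve' hfib (conSieve x y' (𝒮.p.map φ ≫ f))
      (isPrestackFor_conSieve J h𝒮 x y' _) (𝒮.p.map φ)
    rintro z ζ' ⟨c, hc⟩
    obtain ⟨γ, hγ⟩ := exists_conj hfib c α
    have e1 := hB y' (𝒮.p.map φ ≫ f) ζ' c hc γ hγ
    have hc' : 𝒮.p.map c = 𝒮.p.map (ζ' ≫ φ) ≫ f := by
      rw [hc, 𝒮.p.map_comp, Category.assoc]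
    have e2 := hB y f (ζ' ≫ φ) c hc' γ hγ
    rw [← Category.assoc, e1, Category.assoc, ← Category.assoc ζ', e2]
  let a : sec 𝒮 (𝒮.p.obj x) := ⟨fun i => B i.1 i.2, fun x' x₁ φ f => hcompatB φ f⟩
  refine ⟨a, ?_⟩
  change B x (𝟙 _) = α
  apply autO_ext
  have := hB x (𝟙 _) (𝟙 x) (𝟙 x) (by simp) α (by simp)
  simpa using this


theorem bandPsh_map_apply {U V : C} (g : V ⟶ U) (a : sec 𝒮 U) :
    ((bandPsh 𝒮 ⋙ forget GrpCat).map g.op a) = res g a := rfl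

theorem val_res {U V : C} (g : V ⟶ U) (a : sec 𝒮 U) (z : 𝒮.obj) (k : 𝒮.p.obj z ⟶ V) :
    val (res g a) z k = val a z (k ≫ g) := rfl

theorem isSheaf_bandPsh (h𝒮 : Stk.IsStack J 𝒮) : Presheaf.IsSheaf J (bandPsh 𝒮) := by
  classical
  have hfib := h𝒮.1
  rw [Presheaf.isSheaf_iff_isSheaf_forget J (bandPsh 𝒮) (forget GrpCat), isSheaf_iff_isSheaf_of_type]
  intro U R hR xf hxf
  rw [Presieve.compatible_iff_sieveCompatible] at hxf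
  let aR : ∀ ⦃V : C⦄ (g : V ⟶ U), R g → sec 𝒮 V := fun V g hg => xf g hg
  have haR : ∀ ⦃V W : C⦄ (g : V ⟶ U) (h : W ⟶ V) (hg : R g),
      aR (h ≫ g) (R.downward_closed hg h) = res h (aR g hg) := fun V W g h hg => hxf g h hg
  have aRcongr : ∀ ⦃V : C⦄ (k k' : V ⟶ U) (e : k = k') (hk : R k) (hk' : R k'),
      aR k hk = aR k' hk' := by
    intro V k k' e hk hk'; subst e; rfl
  -- separatedness
  have hsep : ∀ a b : sec 𝒮 U, (∀ ⦃V : C⦄ (g : V ⟶ U), R g → res g a = res g b) → a = b := by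
    intro a b hab
    apply sec_ext
    intro y f
    change val a y f = val b y f
    apply autO_ext
    have i1 : 𝒮.p.IsHomLift (𝟙 (𝒮.p.obj y)) (val a y f).hom.1 := (val a y f).hom.2
    have i2 : 𝒮.p.IsHomLift (𝟙 (𝒮.p.obj y)) (val b y f).hom.1 := (val b y f).hom.2
    apply hom_ext_of_sieve hfib (pbSieve R y f) (isPrestackFor_pbSieve J h𝒮 R hR y f)
    intro z ζ hζ
    have hζ' : R (𝒮.p.map ζ ≫ f) := hζ
    have e1 := val_compat a ζ f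
    have e2 := val_compat b ζ f
    have e3 : val a z (𝒮.p.map ζ ≫ f) = val b z (𝒮.p.map ζ ≫ f) := by
      have h1 := congrArg (fun t => val t z (𝟙 _)) (hab _ hζ')
      simp only [val_res, Category.id_comp] at h1
      exact h1
    rw [← e1, ← e2, e3]
  -- existence
  have key : ∀ (y : 𝒮.obj) (f : 𝒮.p.obj y ⟶ U), ∃ β : Gerb.AutO y,
      ∀ ⦃z : 𝒮.obj⦄ (ζ : z ⟶ y) (hζ : R (𝒮.p.map ζ ≫ f)),
        ζ ≫ β.hom.1 = (val (aR (𝒮.p.map ζ ≫ f) hζ) z (𝟙 _)).hom.1 ≫ ζ := by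
    intro y f
    obtain ⟨μ, hμ1, hμ2⟩ := glue_hom hfib (pbSieve R y f) (isPrestackFor_pbSieve J h𝒮 R hR y f)
      (b := y) rfl (fun z ζ hζ => (val (aR (𝒮.p.map ζ ≫ f) hζ) z (𝟙 _)).hom.1 ≫ ζ)
      (by
        intro z ζ hζ V f' hf'
        have hV : 𝒮.p.obj z = V := IsHomLift.domain_eq 𝒮.p f' ζ
        have i1 : 𝒮.p.IsHomLift (𝟙 (𝒮.p.obj z)) (val (aR (𝒮.p.map ζ ≫ f) hζ) z (𝟙 _)).hom.1 :=
          (val (aR (𝒮.p.map ζ ≫ f) hζ) z (𝟙 _)).hom.2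
        have i2 : 𝒮.p.IsHomLift (𝟙 V) (val (aR (𝒮.p.map ζ ≫ f) hζ) z (𝟙 _)).hom.1 :=
          H1_isHomLift_id_of_eq 𝒮.p hV _
        exact isHomLift_id_comp' 𝒮.p f' _ _)
      (by
        intro z z' ζ hζ h
        have hζ' : R (𝒮.p.map ζ ≫ f) := hζ
        have ek : 𝒮.p.map (h ≫ ζ) ≫ f = 𝒮.p.map h ≫ 𝒮.p.map ζ ≫ f := by
          rw [𝒮.p.map_comp, Category.assoc]
        have e1 : aR (𝒮.p.map (h ≫ ζ) ≫ f) ((pbSieve R y f).downward_closed hζ h) =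
            res (𝒮.p.map h) (aR (𝒮.p.map ζ ≫ f) hζ') :=
          (aRcongr _ _ ek _ (R.downward_closed hζ' _)).trans (haR _ _ hζ')
        have e2 := val_compat (aR (𝒮.p.map ζ ≫ f) hζ') h (𝟙 _)
        change (val (aR (𝒮.p.map (h ≫ ζ) ≫ f) _) z' (𝟙 _)).hom.1 ≫ h ≫ ζ =
          h ≫ (val (aR (𝒮.p.map ζ ≫ f) hζ') z (𝟙 _)).hom.1 ≫ ζ
        have e3 : val (res (𝒮.p.map h) (aR (𝒮.p.map ζ ≫ f) hζ')) z' (𝟙 _) =
            val (aR (𝒮.p.map ζ ≫ f) hζ') z' (𝒮.p.map h ≫ 𝟙 _) := by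
          rw [val_res]
          exact val_congr _ z' (by rw [Category.id_comp, Category.comp_id])
        rw [e1, e3, ← Category.assoc, e2, Category.assoc])
    obtain ⟨β, hβ⟩ := exists_autO hfib y μ
    refine ⟨β, ?_⟩
    intro z ζ hζ
    rw [hβ, hμ2 ζ hζ]
  choose B hB using key
  have hcompatB : ∀ ⦃y' y : 𝒮.obj⦄ (φ : y' ⟶ y) (f : 𝒮.p.obj y ⟶ U),
      (B y' (𝒮.p.map φ ≫ f)).hom.1 ≫ φ = φ ≫ (B y f).hom.1 := by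
    intro y' y φ f
    have i1 : 𝒮.p.IsHomLift (𝟙 (𝒮.p.obj y')) (B y' (𝒮.p.map φ ≫ f)).hom.1 := (B y' _).hom.2
    have i2 : 𝒮.p.IsHomLift (𝟙 (𝒮.p.obj y)) (B y f).hom.1 := (B y f).hom.2
    have i3 : 𝒮.p.IsHomLift (𝒮.p.map φ) φ := inferInstance
    have l1 : 𝒮.p.IsHomLift (𝒮.p.map φ) ((B y' (𝒮.p.map φ ≫ f)).hom.1 ≫ φ) :=
      isHomLift_id_comp' 𝒮.p _ _ _
    have l2 : 𝒮.p.IsHomLift (𝒮.p.map φ) (φ ≫ (B y f).hom.1) := isHomLift_comp_id' 𝒮.p _ _ _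
    apply hom_ext_of_sieve' hfib (pbSieve R y' (𝒮.p.map φ ≫ f))
      (isPrestackFor_pbSieve J h𝒮 R hR y' _) (𝒮.p.map φ)
    intro z ζ' hζ'
    have hζ'1 : R (𝒮.p.map ζ' ≫ 𝒮.p.map φ ≫ f) := hζ'
    have ek : 𝒮.p.map (ζ' ≫ φ) ≫ f = 𝒮.p.map ζ' ≫ 𝒮.p.map φ ≫ f := by
      rw [𝒮.p.map_comp, Category.assoc]
    have hζ'2 : R (𝒮.p.map (ζ' ≫ φ) ≫ f) := by rw [ek]; exact hζ'1
    have e1 := hB y' (𝒮.p.map φ ≫ f) ζ' hζ'1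
    have e2 := hB y f (ζ' ≫ φ) hζ'2
    rw [← Category.assoc, e1, Category.assoc, ← Category.assoc ζ', e2, aRcongr _ _ ek hζ'2 hζ'1]
  let a : sec 𝒮 U := ⟨fun i => B i.1 i.2, fun x' x₁ φ f => hcompatB φ f⟩
  have hamal : ∀ ⦃V : C⦄ (g : V ⟶ U) (hg : R g), res g a = aR g hg := by
    intro V g hg
    apply sec_ext
    intro y f
    change B y (f ≫ g) = val (aR g hg) y f
    apply autO_ext
    have hk : R (𝒮.p.map (𝟙 y) ≫ f ≫ g) := by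
      rw [𝒮.p.map_id, Category.id_comp]; exact R.downward_closed hg f
    have e1 := hB y (f ≫ g) (𝟙 y) hk
    have ek : 𝒮.p.map (𝟙 y) ≫ f ≫ g = f ≫ g := by rw [𝒮.p.map_id, Category.id_comp]
    rw [Category.id_comp, Category.comp_id, aRcongr _ _ ek hk (R.downward_closed hg f), haR g f hg,
      val_res, Category.id_comp] at e1
    exact e1
  refine ⟨a, ?_, ?_⟩
  · intro V g hg
    exact hamal g hg
  · intro b hb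
    apply hsep
    intro V g hg
    have h1 : res g b = aR g hg := hb g hg
    rw [h1, hamal g hg]


/-- evaluation of a compatible family over `p x` at `x`. -/
def evHom (x : 𝒮.obj) : sec 𝒮 (𝒮.p.obj x) →* Gerb.AutO x where
  toFun a := val a x (𝟙 _)
  map_one' := rfl
  map_mul' _ _ := rfl

theorem evHom_bijective (h𝒮 : Gerb.IsGerbe J 𝒮)
    (hcomm : ∀ (x : 𝒮.obj) (α β : Gerb.AutO x), α * β = β * α) (x : 𝒮.obj) :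
    Function.Bijective (evHom (𝒮 := 𝒮) x) :=
  ⟨fun a b h => sec_eq_of_val_eq J h𝒮 x a b h, fun α => exists_sec J h𝒮 hcomm x α⟩

theorem exists_banding (h𝒮 : Gerb.IsGerbe J 𝒮)
    (hcomm : ∀ (x : 𝒮.obj) (α β : Gerb.AutO x), α * β = β * α) :
    ∃ G : Sheaf J GrpCat.{max u v}, (∀ (U : C) (a b : G.obj.obj (op U)), a * b = b * a) ∧
      Nonempty (Gerb.Banding 𝒮 G.obj) := by
  refine ⟨⟨bandPsh 𝒮, isSheaf_bandPsh J h𝒮.1⟩, ?_, ?_⟩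
  · intro U a b
    change (a : sec 𝒮 U) * (b : sec 𝒮 U) = (b : sec 𝒮 U) * (a : sec 𝒮 U)
    apply Subtype.ext
    funext i
    exact hcomm i.1 _ _
  · refine ⟨{ iso := fun x => MulEquiv.ofBijective (evHom (𝒮 := 𝒮) x) (evHom_bijective J h𝒮 hcomm x)
              natural := ?_ }⟩
    intro x' x φ a
    have e := val_compat (a : sec 𝒮 (𝒮.p.obj x)) φ (𝟙 _)
    have e2 : val (res (𝒮.p.map φ) (a : sec 𝒮 (𝒮.p.obj x))) x' (𝟙 _) =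
        val (a : sec 𝒮 (𝒮.p.obj x)) x' (𝒮.p.map φ ≫ 𝟙 _) := by
      rw [val_res]
      exact val_congr _ x' (by rw [Category.id_comp, Category.comp_id])
    change (val (res (𝒮.p.map φ) (a : sec 𝒮 (𝒮.p.obj x))) x' (𝟙 _)).hom.1 ≫ φ =
      φ ≫ (val (a : sec 𝒮 (𝒮.p.obj x)) x (𝟙 _)).hom.1
    rw [e2, e]

end Groth.Agent.H1.GerbBand
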