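import Mathlib
import Groth.Agent.Lib.helper1.StkEquiv
import Groth.Agent.Lib.helper1.FibCatYoneda

set_option autoImplicit false

/-! Equivalences of stacks: local essential surjectivity (helper1). -/

universe v u

open CategoryTheory

namespace Groth.Agent.H1.FC

variable {C : Type u} [Category.{v} C] {𝒳 𝒴 : BasedCategory.{v, max u v} C} (F : 𝒳 ⥤ᵇ 𝒴)

/-- the essential image of `F` over identities -/
def essImOver : ObjectProperty 𝒴.obj :=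
  fun y => ∃ (x : 𝒳.obj) (e : F.toFunctor.obj x ≅ y), 𝒴.p.IsHomLift (𝟙 (𝒴.p.obj y)) e.hom

theorem essImOver_of_iso {y y' : 𝒴.obj} (e : y ≅ y') [he : 𝒴.p.IsHomLift (𝟙 (𝒴.p.obj y)) e.hom]
    (h : essImOver F y) : essImOver F y' := by
  obtain ⟨x, e₀, he₀⟩ := h
  have hy : 𝒴.p.obj y = 𝒴.p.obj y' := (IsHomLift.codomain_eq 𝒴.p (𝟙 (𝒴.p.obj y)) e.hom).symm
  have h1 : 𝒴.p.IsHomLift (𝟙 (𝒴.p.obj y')) e.hom := H1_isHomLift_id_of_eq 𝒴.p hy e.hom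
  have h2 : 𝒴.p.IsHomLift (𝟙 (𝒴.p.obj y')) e₀.hom := H1_isHomLift_id_of_eq 𝒴.p hy e₀.hom
  refine ⟨x, e₀ ≪≫ e, ?_⟩
  show 𝒴.p.IsHomLift (𝟙 (𝒴.p.obj y')) (e₀.hom ≫ e.hom)
  infer_instance

/-- the essential image as a category over `C` -/
abbrev essIm : BasedCategory.{v, max u v} C :=
  BasedCategory.ofFunctor ((essImOver F).ι ⋙ 𝒴.p)

/-- the inclusion of the essential image -/
def essImIncl : essIm F ⥤ᵇ 𝒴 where
  toFunctor := (essImOver F).ι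
  w := rfl

/-- `F` corestricted to its essential image -/
def essImLift : 𝒳 ⥤ᵇ essIm F where
  toFunctor := (essImOver F).lift F.toFunctor (fun x => ⟨x, Iso.refl _, IsHomLift.id rfl⟩)
  w := F.w

theorem H1_essIm_isHomLift_iff {a b : (essIm F).obj} (m : a ⟶ b) {R S : C} (f : R ⟶ S) :
    (essIm F).p.IsHomLift f m ↔ 𝒴.p.IsHomLift f m.hom := by
  constructor
  · intro h
    subst_hom_lift (essIm F).p f m
    exact inferInstanceAs (𝒴.p.IsHomLift (𝒴.p.map m.hom) m.hom)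
  · intro h
    subst_hom_lift 𝒴.p f m.hom
    exact inferInstanceAs ((essIm F).p.IsHomLift ((essIm F).p.map m) m)

theorem H1_isEquivOver_essImLift [F.toFunctor.Full] [F.toFunctor.Faithful] :
    FibCat.IsEquivOver (essImLift F) := by
  rw [H1_isEquivOver_iff]
  refine ⟨⟨?_, ?_⟩, ?_⟩
  · constructor
    intro x x' m
    obtain ⟨φ, hφ⟩ := F.toFunctor.map_surjective m.hom
    exact ⟨φ, ObjectProperty.hom_ext _ hφ⟩
  · constructor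
    intro x x' φ ψ h
    apply F.toFunctor.map_injective
    exact congrArg (fun m : ((essImLift F).toFunctor.obj x ⟶ (essImLift F).toFunctor.obj x') => m.hom) h
  · intro η
    obtain ⟨x, e, he⟩ := η.property
    refine ⟨x, ObjectProperty.isoMk _ e, ?_⟩
    rw [H1_essIm_isHomLift_iff]
    exact he

theorem H1_essImOver_of_local (J : GrothendieckTopology C) (h𝒳 : Stk.IsStack J 𝒳) (h𝒴 : Stk.IsStack J 𝒴)
    [F.toFunctor.Full] [F.toFunctor.Faithful] (y : 𝒴.obj) (R : Sieve (𝒴.p.obj y)) (hR : R ∈ J (𝒴.p.obj y))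
    (hloc : ∀ ⦃V : C⦄ (f : V ⟶ 𝒴.p.obj y), R f → ∃ (x : 𝒳.obj) (φ : F.toFunctor.obj x ⟶ y), 𝒴.p.IsHomLift f φ) :
    essImOver F y := by
  haveI : 𝒴.p.IsFibered := H1_isFibered_of_isFibGrpd h𝒴.1
  obtain ⟨Y, -, ⟨eY⟩⟩ := H1_evalAtId_essSurj (U := 𝒴.p.obj y) (⟨y, rfl⟩ : 𝒴.p.Fiber (𝒴.p.obj y))
  have heY : 𝒴.p.IsHomLift (𝟙 (𝒴.p.obj y)) eY.hom.1 := eY.hom.2
  let eY' : Y.toFunctor.obj (oT (𝒴.p.obj y)) ≅ y := (Functor.Fiber.fiberInclusion).mapIso eY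
  have heY' : 𝒴.p.IsHomLift (𝟙 (𝒴.p.obj y)) eY'.hom := heY
  -- objectwise in the essential image
  have hP : ∀ a : (Stk.sieveCat R).obj, essImOver F (Y.toFunctor.obj a.obj) := by
    intro a
    obtain ⟨x, φ, hφ⟩ := hloc a.obj.hom a.property
    have hψ : 𝒴.p.IsHomLift (a.obj.hom ≫ 𝟙 _) (Y.toFunctor.map (toT a.obj) ≫ eY'.hom) := inferInstance
    rw [Category.comp_id] at hψ
    have s1 : 𝒴.p.IsStronglyCartesian a.obj.hom φ := H1_isStronglyCartesian_of_isFibGrpd h𝒴.1 _ _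
    have s2 : 𝒴.p.IsStronglyCartesian a.obj.hom (Y.toFunctor.map (toT a.obj) ≫ eY'.hom) :=
      H1_isStronglyCartesian_of_isFibGrpd h𝒴.1 _ _
    let ι := Functor.IsCartesian.domainUniqueUpToIso 𝒴.p a.obj.hom (Y.toFunctor.map (toT a.obj) ≫ eY'.hom) φ
    have hι : 𝒴.p.IsHomLift (𝟙 a.obj.left) ι.hom := inferInstance
    have hb : a.obj.left = 𝒴.p.obj (Y.toFunctor.obj a.obj) := (Y.w_obj a.obj).symm
    exact ⟨x, ι, H1_isHomLift_id_of_eq 𝒴.p hb ι.hom⟩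
  -- the restriction factors through the essential image
  let YR : Stk.sieveCat R ⥤ᵇ essIm F :=
    { toFunctor := (essImOver F).lift ((Stk.sieveIncl R).toFunctor ⋙ Y.toFunctor) hP
      w := (BasedFunctor.comp (Stk.sieveIncl R) Y).w }
  have h𝒴' : Stk.IsStack J (essIm F) :=
    H1_isStack_of_isEquivOver J (essImLift F) (H1_isEquivOver_essImLift F) h𝒳
  haveI : (Stk.resSieve R (essIm F)).IsEquivalence := h𝒴'.2 R hR
  let Y' := (Stk.resSieve R (essIm F)).objPreimage YR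
  let i₁ : (Stk.resSieve R (essIm F)).obj Y' ≅ YR := (Stk.resSieve R (essIm F)).objObjPreimageIso YR
  let i₂ : (Stk.resSieve R 𝒴).obj (BasedFunctor.comp Y' (essImIncl F)) ≅ (Stk.resSieve R 𝒴).obj Y :=
    (postF (Stk.sieveCat R) (essImIncl F)).mapIso i₁
  haveI : (Stk.resSieve R 𝒴).IsEquivalence := h𝒴.2 R hR
  let i₃ : BasedFunctor.comp Y' (essImIncl F) ≅ Y := (Stk.resSieve R 𝒴).preimageIso i₂
  let i₄ : (Y'.toFunctor.obj (oT (𝒴.p.obj y))).obj ≅ Y.toFunctor.obj (oT (𝒴.p.obj y)) :=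
    ((BasedNatTrans.forgetful _ _).mapIso i₃).app (oT (𝒴.p.obj y))
  have hi₄ : 𝒴.p.IsHomLift (𝟙 (𝒴.p.obj y)) i₄.hom := i₃.hom.isHomLift' (oT (𝒴.p.obj y))
  have hb : 𝒴.p.obj y = 𝒴.p.obj (Y'.toFunctor.obj (oT (𝒴.p.obj y))).obj :=
    (IsHomLift.domain_eq 𝒴.p (𝟙 (𝒴.p.obj y)) i₄.hom).symm
  have hb' : 𝒴.p.obj y = 𝒴.p.obj (Y.toFunctor.obj (oT (𝒴.p.obj y))) :=
    (IsHomLift.domain_eq 𝒴.p (𝟙 (𝒴.p.obj y)) eY'.hom).symm
  have hi₄' : 𝒴.p.IsHomLift (𝟙 (𝒴.p.obj (Y'.toFunctor.obj (oT (𝒴.p.obj y))).obj)) i₄.hom :=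
    H1_isHomLift_id_of_eq 𝒴.p hb i₄.hom
  have heY'' : 𝒴.p.IsHomLift (𝟙 (𝒴.p.obj (Y.toFunctor.obj (oT (𝒴.p.obj y))))) eY'.hom :=
    H1_isHomLift_id_of_eq 𝒴.p hb' eY'.hom
  have p1 : essImOver F (Y'.toFunctor.obj (oT (𝒴.p.obj y))).obj := (Y'.toFunctor.obj (oT (𝒴.p.obj y))).property
  have p2 : essImOver F (Y.toFunctor.obj (oT (𝒴.p.obj y))) := essImOver_of_iso F i₄ p1
  exact essImOver_of_iso F eY' p2

theorem H1_isEquivOver_iff_locally_essSurj (J : GrothendieckTopology C) (h𝒳 : Stk.IsStack J 𝒳)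
    (h𝒴 : Stk.IsStack J 𝒴) [F.toFunctor.Full] [F.toFunctor.Faithful] :
    FibCat.IsEquivOver F ↔
      ∀ y : 𝒴.obj, ∃ R ∈ J (𝒴.p.obj y), ∀ ⦃V : C⦄ (f : V ⟶ 𝒴.p.obj y), R f →
        ∃ (x : 𝒳.obj) (φ : F.toFunctor.obj x ⟶ y), 𝒴.p.IsHomLift f φ := by
  constructor
  · intro hF y
    obtain ⟨-, -, hess⟩ := H1_isEquivOver_data F hF
    obtain ⟨x, e, he⟩ := hess y
    refine ⟨⊤, J.top_mem _, ?_⟩
    intro V f _
    have hx : 𝒳.p.obj x = 𝒴.p.obj y :=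
      (F.w_obj x).symm.trans (IsHomLift.domain_eq 𝒴.p (𝟙 (𝒴.p.obj y)) e.hom)
    obtain ⟨x', φ, hφ'⟩ := h𝒳.1.exists_lift (x := x) (f ≫ eqToHom hx.symm)
    have hφ : 𝒳.p.IsHomLift f φ := (IsHomLift.lift_comp_eqToHom_iff 𝒳.p f φ hx.symm).1 hφ'
    refine ⟨x', F.toFunctor.map φ ≫ e.hom, ?_⟩
    have : 𝒴.p.IsHomLift (f ≫ 𝟙 _) (F.toFunctor.map φ ≫ e.hom) := inferInstance
    simpa using this
  · intro h
    rw [H1_isEquivOver_iff]
    refine ⟨⟨inferInstance, inferInstance⟩, ?_⟩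
    intro y
    obtain ⟨R, hR, hloc⟩ := h y
    exact H1_essImOver_of_local F J h𝒳 h𝒴 y R hR hloc

end Groth.Agent.H1.FC
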