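import Mathlib
import Groth.Agent.Lib.helper1.GerbTriv
import Groth.Agent.Lib.helper1.StkLocEss
import Groth.Agent.Lib.helper1.FibCatFiber

set_option autoImplicit false

/-! A morphism of gerbes inducing isomorphisms on automorphism groups is an equivalence (helper1). -/

universe v u

open CategoryTheory

namespace Groth.Agent.H1.GerbT

open Groth.Agent.H1.FC Groth.Agent.H1.GerbB Groth.Agent.H1.StkGlue

variable {C : Type u} [Category.{v} C] (J : GrothendieckTopology C)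
  {𝒳 𝒴 : BasedCategory.{v, max u v} C}

theorem isHomLift_of_isHomLift_map {𝒲 : BasedCategory.{v, max u v} C} {a a' b : 𝒲.obj} (α : a' ⟶ a)
    (ψ : a' ⟶ b) (hψ : 𝒲.p.IsHomLift (𝒲.p.map α) ψ) {V : C} (f : V ⟶ 𝒲.p.obj a)
    (hf : 𝒲.p.IsHomLift f α) : 𝒲.p.IsHomLift f ψ := by
  have hV : 𝒲.p.obj a' = V := IsHomLift.domain_eq 𝒲.p f α
  subst hV
  have hfe : f = 𝒲.p.map α := IsHomLift.eq_of_isHomLift 𝒲.p f α
  rw [hfe]; exact hψ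

theorem isHomLift_map_of_isHomLift {𝒲 : BasedCategory.{v, max u v} C} {a a' b : 𝒲.obj} (α : a' ⟶ a)
    (ψ : a' ⟶ b) {V : C} (f : V ⟶ 𝒲.p.obj a) (hf : 𝒲.p.IsHomLift f α)
    (hψ : 𝒲.p.IsHomLift f ψ) : 𝒲.p.IsHomLift (𝒲.p.map α) ψ := by
  have hV : 𝒲.p.obj a' = V := IsHomLift.domain_eq 𝒲.p f α
  subst hV
  have hfe : f = 𝒲.p.map α := IsHomLift.eq_of_isHomLift 𝒲.p f α
  rw [← hfe]; exact hψ

section

variable (h𝒳 : FibCat.IsFibGrpd 𝒳.p) (h𝒴 : FibCat.IsFibGrpd 𝒴.p) (φ : 𝒳 ⥤ᵇ 𝒴)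

include h𝒳 h𝒴 in
/-- faithfulness on morphisms out of an object with injective `autMap`. -/
theorem eq_of_map_eq_of_injective (z : 𝒳.obj) (hinj : Function.Injective (Gerb.autMap φ z))
    {y' : 𝒳.obj} (w w' : z ⟶ y') {V U : C} (f : V ⟶ U) [hw : 𝒳.p.IsHomLift f w]
    [hw' : 𝒳.p.IsHomLift f w'] (h : φ.map w = φ.map w') : w = w' := by
  have hV : 𝒳.p.obj z = V := IsHomLift.domain_eq 𝒳.p f w
  subst hV
  have hsc := H1_isStronglyCartesian_of_isFibGrpd h𝒳 f w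
  let α := Functor.IsCartesian.map 𝒳.p f w w'
  have hα : 𝒳.p.IsHomLift (𝟙 (𝒳.p.obj z)) α := Functor.IsCartesian.map_isHomLift 𝒳.p f w w'
  have hαw : α ≫ w = w' := Functor.IsCartesian.fac 𝒳.p f w w'
  obtain ⟨a, ha⟩ := exists_autO h𝒳 z α
  have hφw : 𝒴.p.IsHomLift f (φ.map w) := inferInstance
  have hφα : 𝒴.p.IsHomLift (𝟙 (𝒳.p.obj z)) (φ.map α) := inferInstance
  have hid : 𝒴.p.IsHomLift (𝟙 (𝒳.p.obj z)) (𝟙 (φ.obj z)) := by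
    have := (φ.w_obj z)
    have h0 : 𝒴.p.IsHomLift (𝟙 (𝒴.p.obj (φ.obj z))) (𝟙 (φ.obj z)) := inferInstance
    exact H1_isHomLift_id_of_eq 𝒴.p this _
  have e1 : φ.map α = 𝟙 (φ.obj z) := by
    apply hom_ext_of_isFibGrpd h𝒴 f (φ.map w)
    rw [← φ.toFunctor.map_comp, hαw, Category.id_comp, h]
  have e2 : Gerb.autMap φ z a = 1 := by
    apply Aut.ext; apply Functor.Fiber.hom_ext
    change φ.map a.hom.1 = 𝟙 (φ.obj z)
    rw [ha, e1]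
  have e3 : a = 1 := hinj (e2.trans (map_one _).symm)
  have e4 : α = 𝟙 z := by
    rw [← ha, e3]; rfl
  rw [← hαw, e4, Category.id_comp]

end

theorem isEquivOver_of_bijective_autMap (h𝒳 : Gerb.IsGerbe J 𝒳) (h𝒴 : Gerb.IsGerbe J 𝒴) {T : C}
    (hT : Limits.IsTerminal T) (φ : 𝒳 ⥤ᵇ 𝒴) (s : 𝒳.obj) (hs : 𝒳.p.obj s = T)
    (hφ : ∀ (x : 𝒳.obj) (_ : x ⟶ s), Function.Bijective (Gerb.autMap φ x)) :
    FibCat.IsEquivOver φ := by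
  classical
  have hfib : FibCat.IsFibGrpd 𝒳.p := h𝒳.1.1
  have hfib𝒴 : FibCat.IsFibGrpd 𝒴.p := h𝒴.1.1
  have hpre : ∀ y : 𝒳.obj, Stk.IsPrestackFor ((goodSieve s y).functorPushforward 𝒳.p) 𝒳 := fun y =>
    isPrestackFor_of_mem J h𝒳.1 _ (goodSieve_covering J h𝒳 hT s hs y)
  -- (a) faithfulness on good sources
  have hA : ∀ (z : 𝒳.obj), Nonempty (z ⟶ s) → ∀ {y' : 𝒳.obj} (w w' : z ⟶ y') {V U : C} (f : V ⟶ U),
      𝒳.p.IsHomLift f w → 𝒳.p.IsHomLift f w' → φ.map w = φ.map w' → w = w' := by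
    rintro z ⟨c⟩ y' w w' V U f hw hw' h
    exact eq_of_map_eq_of_injective hfib hfib𝒴 φ z (hφ z c).1 w w' f h
  -- (b) faithful on fibres
  have hfaithU : ∀ U : C, (FibCat.fiberFunctor φ U).Faithful := by
    intro U
    refine ⟨fun {y y'} u u' h => ?_⟩
    obtain ⟨y, hy⟩ := y
    subst hy
    apply Functor.Fiber.hom_ext
    have hu : 𝒳.p.IsHomLift (𝟙 (𝒳.p.obj y)) u.1 := u.2
    have hu' : 𝒳.p.IsHomLift (𝟙 (𝒳.p.obj y)) u'.1 := u'.2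
    have h' : φ.map u.1 = φ.map u'.1 := congrArg Subtype.val h
    change u.1 = u'.1
    apply hom_ext_of_sieve hfib (goodSieve s y) (hpre y) u.1 u'.1
    intro z ζ hζ
    have l1 : 𝒳.p.IsHomLift (𝒳.p.map ζ) (ζ ≫ u.1) := isHomLift_comp_id' 𝒳.p _ _ _
    have l2 : 𝒳.p.IsHomLift (𝒳.p.map ζ) (ζ ≫ u'.1) := isHomLift_comp_id' 𝒳.p _ _ _
    apply hA z hζ _ _ (𝒳.p.map ζ) l1 l2
    rw [φ.toFunctor.map_comp, φ.toFunctor.map_comp, h']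
  have hfaith : φ.toFunctor.Faithful := H1_faithful_of_fiberFunctor φ hfib hfib𝒴 hfaithU
  -- (c) full on fibres
  have hfullU : ∀ U : C, (FibCat.fiberFunctor φ U).Full := by
    intro U
    refine ⟨fun {y y'} v => ?_⟩
    obtain ⟨y, hy⟩ := y
    subst hy
    obtain ⟨y', hy'⟩ := y'
    have hv : 𝒴.p.IsHomLift (𝟙 (𝒳.p.obj y)) v.1 := v.2
    let v' : φ.obj y ⟶ φ.obj y' := v.1
    have hv' : 𝒴.p.IsHomLift (𝟙 (𝒳.p.obj y)) v' := hv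
    -- the sieve
    let 𝓡 : Sieve y :=
      { arrows := fun z ζ => Nonempty (z ⟶ s) ∧ ∃ ζ' : z ⟶ y', 𝒳.p.IsHomLift (𝒳.p.map ζ) ζ'
        downward_closed := by
          rintro z z' ζ ⟨⟨c⟩, ζ', hζ'⟩ h
          refine ⟨⟨h ≫ c⟩, h ≫ ζ', ?_⟩
          rw [𝒳.p.map_comp]; infer_instance }
    have hcov : 𝓡.functorPushforward 𝒳.p ∈ J (𝒳.p.obj y) := by
      obtain ⟨R₂, hR₂, hR₂'⟩ := locally_connected J h𝒳 y y' hy'
      refine J.superset_covering ?_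
        (J.intersection_covering (goodSieve_covering J h𝒳 hT s hs y) hR₂)
      rintro V f ⟨hf1, hf2⟩
      obtain ⟨z₁, ζ₁, g, ⟨c⟩, hfg⟩ := hf1
      obtain ⟨x₀, a, a', ha, ha'⟩ := hR₂' f hf2
      obtain ⟨z₂, h, hh⟩ := hfib.exists_lift (x := z₁) g
      have l1 : 𝒳.p.IsHomLift f (h ≫ ζ₁) := by rw [hfg]; infer_instance
      obtain ⟨j, hj, hjf⟩ := exists_iso_fac hfib f a (h ≫ ζ₁)
      have l2 : 𝒳.p.IsHomLift f (j.hom ≫ a') := isHomLift_id_comp' 𝒳.p f _ _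
      exact mem_functorPushforward_of_isHomLift 𝓡 (h ≫ ζ₁)
        ⟨⟨h ≫ c⟩, j.hom ≫ a', isHomLift_map_of_isHomLift (h ≫ ζ₁) _ f l1 l2⟩ f
    have hpre' : Stk.IsPrestackFor (𝓡.functorPushforward 𝒳.p) 𝒳 :=
      isPrestackFor_of_mem J h𝒳.1 _ hcov
    -- local lifts
    have hex : ∀ ⦃z : 𝒳.obj⦄ (ζ : z ⟶ y), 𝓡 ζ → ∃ m : z ⟶ y', 𝒳.p.IsHomLift (𝒳.p.map ζ) m ∧
        φ.map m = φ.map ζ ≫ v' := by
      rintro z ζ ⟨⟨c⟩, ζ', hζ'⟩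
      have l1 : 𝒴.p.IsHomLift (𝒳.p.map ζ) (φ.map ζ') := inferInstance
      have l2 : 𝒴.p.IsHomLift (𝒳.p.map ζ) (φ.map ζ) := inferInstance
      have l3 : 𝒴.p.IsHomLift (𝒳.p.map ζ) (φ.map ζ ≫ v') := isHomLift_comp_id' 𝒴.p _ _ _
      obtain ⟨j, hj, hjf⟩ := exists_iso_fac hfib𝒴 (𝒳.p.map ζ) (φ.map ζ') (φ.map ζ ≫ v')
      have l4 : 𝒴.p.IsHomLift (𝟙 (𝒴.p.obj (φ.obj z))) j.hom :=
        H1_isHomLift_id_of_eq 𝒴.p (φ.w_obj z).symm _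
      obtain ⟨b, hb⟩ := exists_autO hfib𝒴 (φ.obj z) j.hom
      obtain ⟨α, hα⟩ := (hφ z c).2 b
      have hα' : φ.map α.hom.1 = j.hom := by rw [← hb, ← hα]; rfl
      have l5 : 𝒳.p.IsHomLift (𝟙 (𝒳.p.obj z)) α.hom.1 := α.hom.2
      refine ⟨α.hom.1 ≫ ζ', isHomLift_id_comp' 𝒳.p _ _ _, ?_⟩
      rw [φ.toFunctor.map_comp, hα', hjf]
    choose m hm1 hm2 using hex
    have hgood : ∀ ⦃z : 𝒳.obj⦄ (ζ : z ⟶ y), 𝓡 ζ → Nonempty (z ⟶ s) := fun z ζ h => h.1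
    obtain ⟨μ, hμ1, hμ2⟩ := glue_hom hfib 𝓡 hpre' (b := y') hy' m
      (fun z ζ hζ V f hf => isHomLift_of_isHomLift_map ζ _ (hm1 ζ hζ) f hf)
      (by
        intro z z' ζ hζ h
        have l1 : 𝒳.p.IsHomLift (𝒳.p.map (h ≫ ζ)) (m (h ≫ ζ) (𝓡.downward_closed hζ h)) := hm1 _ _
        have i1 := hm1 ζ hζ
        have l2 : 𝒳.p.IsHomLift (𝒳.p.map (h ≫ ζ)) (h ≫ m ζ hζ) := by
          rw [𝒳.p.map_comp]; infer_instance
        apply hA z' (hgood _ (𝓡.downward_closed hζ h)) _ _ (𝒳.p.map (h ≫ ζ)) l1 l2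
        rw [hm2, φ.toFunctor.map_comp, φ.toFunctor.map_comp, hm2, Category.assoc])
    refine ⟨⟨μ, hμ1⟩, ?_⟩
    apply Functor.Fiber.hom_ext
    change φ.map μ = v'
    -- check on the covering
    let 𝓢 : Sieve (φ.obj y) :=
      { arrows := fun b' β => β ≫ φ.map μ = β ≫ v'
        downward_closed := by
          intro b' b'' β hβ h
          simp only [Category.assoc]
          rw [hβ] }
    have he : 𝒴.p.obj (φ.obj y) = 𝒳.p.obj y := φ.w_obj y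
    have hcov𝒴 : 𝓢.functorPushforward 𝒴.p ∈ J (𝒴.p.obj (φ.obj y)) := by
      refine J.superset_covering ?_ (J.pullback_stable (eqToHom he) hcov)
      intro V f hf
      obtain ⟨z, ζ, g, hζ, hfg⟩ := hf
      have hmem : 𝓢 (φ.map ζ) := by
        change φ.map ζ ≫ φ.map μ = φ.map ζ ≫ v'
        rw [← φ.toFunctor.map_comp, hμ2 ζ hζ, hm2]
      have l1 : 𝒴.p.IsHomLift (𝒳.p.map ζ) (φ.map ζ) := inferInstance
      have l2 : 𝒴.p.IsHomLift (𝒳.p.map ζ ≫ eqToHom he.symm) (φ.map ζ) :=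
        (IsHomLift.lift_comp_eqToHom_iff 𝒴.p (𝒳.p.map ζ) (φ.map ζ) he.symm).2 l1
      have h1 := mem_functorPushforward_of_isHomLift 𝓢 (φ.map ζ) hmem (𝒳.p.map ζ ≫ eqToHom he.symm)
      have hfe : f = g ≫ 𝒳.p.map ζ ≫ eqToHom he.symm := by
        rw [← Category.assoc, ← hfg]; simp
      rw [hfe]
      exact (𝓢.functorPushforward 𝒴.p).downward_closed h1 g
    have hpre𝒴 : Stk.IsPrestackFor (𝓢.functorPushforward 𝒴.p) 𝒴 :=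
      isPrestackFor_of_mem J h𝒴.1 _ hcov𝒴
    have i1 : 𝒴.p.IsHomLift (𝟙 (𝒳.p.obj y)) (φ.map μ) := inferInstance
    have i2 : 𝒴.p.IsHomLift (𝟙 (𝒴.p.obj (φ.obj y))) (φ.map μ) := H1_isHomLift_id_of_eq 𝒴.p he.symm _
    have i3 : 𝒴.p.IsHomLift (𝟙 (𝒴.p.obj (φ.obj y))) v' := H1_isHomLift_id_of_eq 𝒴.p he.symm _
    exact hom_ext_of_sieve hfib𝒴 𝓢 hpre𝒴 (φ.map μ) v' (fun b' β hβ => hβ)
  have hfull : φ.toFunctor.Full := H1_full_of_fiberFunctor φ hfib hfib𝒴 hfullU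
  -- (d) locally essentially surjective
  rw [H1_isEquivOver_iff_locally_essSurj φ J h𝒳.1 h𝒴.1]
  intro y
  obtain ⟨sU, t, ht⟩ := exists_lift' hfib s hs (hT.from (𝒴.p.obj y))
  have hsU : 𝒳.p.obj sU = 𝒴.p.obj y := IsHomLift.domain_eq 𝒳.p (hT.from (𝒴.p.obj y)) t
  have hφsU : 𝒴.p.obj (φ.obj sU) = 𝒴.p.obj y := (φ.w_obj sU).trans hsU
  obtain ⟨R, hR, hR'⟩ := locally_connected J h𝒴 y (φ.obj sU) hφsU
  refine ⟨R, hR, fun V f hf => ?_⟩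
  obtain ⟨y₀, a, a', ha, ha'⟩ := hR' f hf
  obtain ⟨x, b, hb⟩ := exists_lift' hfib sU hsU f
  have l1 : 𝒴.p.IsHomLift f (φ.map b) := inferInstance
  obtain ⟨j, hj, hjf⟩ := exists_iso_fac hfib𝒴 f a' (φ.map b)
  exact ⟨x, j.hom ≫ a, isHomLift_id_comp' 𝒴.p f _ _⟩

end Groth.Agent.H1.GerbT
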