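import Mathlib
import Groth.Agent.Lib.helper1.GerbBasic

set_option autoImplicit false

/-! Gerbes: equivalences, cancellation, base change and descent (helper1). -/

universe v₁ u₁ v₂ u₂ v₃ u₃ v₄ u₄ v₅ u₅

open CategoryTheory

namespace Groth.Agent.H1.GerbB

open Groth.Agent.H1.FC

variable {C : Type u₁} [Category.{v₁} C] (J : GrothendieckTopology C)
variable {𝒳 : BasedCategory.{v₂, u₂} C} {𝒴 : BasedCategory.{v₃, u₃} C}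
  {𝒮 : BasedCategory.{v₄, u₄} C}

theorem isHomLift_comp_id {𝒲 : Type u₂} [Category.{v₂} 𝒲] (p : 𝒲 ⥤ C) {V U : C} (f : V ⟶ U)
    {a b c : 𝒲} (φ : a ⟶ b) (ψ : b ⟶ c) [hφ : p.IsHomLift f φ] [hψ : p.IsHomLift (𝟙 U) ψ] :
    p.IsHomLift f (φ ≫ ψ) := by
  have : p.IsHomLift (f ≫ 𝟙 U) (φ ≫ ψ) := inferInstance
  simpa using this

theorem isHomLift_id_comp {𝒲 : Type u₂} [Category.{v₂} 𝒲] (p : 𝒲 ⥤ C) {V U : C} (f : V ⟶ U)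
    {a b c : 𝒲} (φ : a ⟶ b) (ψ : b ⟶ c) [hφ : p.IsHomLift (𝟙 V) φ] [hψ : p.IsHomLift f ψ] :
    p.IsHomLift f (φ ≫ ψ) := by
  have : p.IsHomLift (𝟙 V ≫ f) (φ ≫ ψ) := inferInstance
  simpa using this

theorem isHomLift_id_id {𝒲 : Type u₂} [Category.{v₂} 𝒲] (p : 𝒲 ⥤ C) {U : C}
    {a b c : 𝒲} (φ : a ⟶ b) (ψ : b ⟶ c) [hφ : p.IsHomLift (𝟙 U) φ] [hψ : p.IsHomLift (𝟙 U) ψ] :
    p.IsHomLift (𝟙 U) (φ ≫ ψ) := isHomLift_comp_id p (𝟙 U) φ ψ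

theorem isHomLift_iso_inv {𝒲 : Type u₂} [Category.{v₂} 𝒲] (p : 𝒲 ⥤ C) {U : C}
    {a b : 𝒲} (e : a ≅ b) [he : p.IsHomLift (𝟙 U) e.hom] : p.IsHomLift (𝟙 U) e.inv := by
  have : e.inv = inv e.hom := by simp
  rw [this]; infer_instance

/-- an equivalence over `C` out of a category fibred in groupoids is a gerbe. -/
theorem isGerbeOver_of_isEquivOver (h𝒳 : FibCat.IsFibGrpd 𝒳.p) (Φ : 𝒳 ⥤ᵇ 𝒴)
    (hΦ : FibCat.IsEquivOver Φ) : Gerb.IsGerbeOver J Φ := by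
  obtain ⟨hfull, hfaith, hess⟩ := H1_isEquivOver_data Φ hΦ
  constructor
  · intro y
    refine ⟨⊤, J.top_mem _, fun V f _ => ?_⟩
    obtain ⟨ξ, e, he⟩ := hess y
    have hξ : 𝒳.p.obj ξ = 𝒴.p.obj y :=
      (Φ.w_obj ξ).symm.trans (IsHomLift.domain_eq 𝒴.p (𝟙 (𝒴.p.obj y)) e.hom)
    obtain ⟨x, a, ha⟩ := exists_lift' h𝒳 ξ hξ f
    have : 𝒴.p.IsHomLift f (Φ.map a) := inferInstance
    exact ⟨x, Φ.map a ≫ e.hom, isHomLift_comp_id 𝒴.p f _ _⟩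
  · intro x x' b hb
    refine ⟨⊤, J.top_mem _, fun V f _ => ?_⟩
    obtain ⟨β, rfl⟩ := Φ.toFunctor.map_surjective b
    have hβ : 𝒳.p.IsHomLift (𝟙 (𝒳.p.obj x)) β := (BasedFunctor.isHomLift_iff Φ _ _).1 hb
    obtain ⟨x₀, a, ha⟩ := h𝒳.exists_lift (x := x) f
    refine ⟨x₀, a, a ≫ β, ha, isHomLift_comp_id 𝒳.p f _ _, ?_⟩
    exact (Φ.toFunctor.map_comp a β).symm

/-- cancellation: if `Φ` is an equivalence over `C` and `Φ ⋙ P` is a gerbe then `P` is a gerbe. -/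
theorem isGerbeOver_of_comp_equiv (Φ : 𝒳 ⥤ᵇ 𝒴) (hΦ : FibCat.IsEquivOver Φ) (P : 𝒴 ⥤ᵇ 𝒮)
    (h : Gerb.IsGerbeOver J (BasedFunctor.comp Φ P)) : Gerb.IsGerbeOver J P := by
  obtain ⟨hfull, hfaith, hess⟩ := H1_isEquivOver_data Φ hΦ
  constructor
  · intro s
    obtain ⟨R, hR, hR'⟩ := h.1 s
    refine ⟨R, hR, fun V f hf => ?_⟩
    obtain ⟨x, g, hg⟩ := hR' f hf
    exact ⟨Φ.obj x, g, hg⟩
  · intro p p' b hb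
    obtain ⟨ξ, e, he⟩ := hess p
    obtain ⟨ξ', e', he'⟩ := hess p'
    have hp' : 𝒴.p.obj p' = 𝒴.p.obj p :=
      (P.w_obj p').symm.trans (IsHomLift.codomain_eq 𝒮.p (𝟙 (𝒴.p.obj p)) b)
    have he'2 : 𝒴.p.IsHomLift (𝟙 (𝒴.p.obj p)) e'.hom := H1_isHomLift_id_of_eq 𝒴.p hp' e'.hom
    have he'3 : 𝒴.p.IsHomLift (𝟙 (𝒴.p.obj p)) e'.inv := isHomLift_iso_inv 𝒴.p e'
    have hξ : 𝒳.p.obj ξ = 𝒴.p.obj p :=
      (Φ.w_obj ξ).symm.trans (IsHomLift.domain_eq 𝒴.p (𝟙 (𝒴.p.obj p)) e.hom)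
    have h1 : 𝒮.p.IsHomLift (𝟙 (𝒴.p.obj p)) (P.map e.hom) := inferInstance
    have h2 : 𝒮.p.IsHomLift (𝟙 (𝒴.p.obj p)) (P.map e'.inv) := inferInstance
    have h3 : 𝒮.p.IsHomLift (𝟙 (𝒴.p.obj p)) (b ≫ P.map e'.inv) := isHomLift_id_id 𝒮.p _ _
    have h4 : 𝒮.p.IsHomLift (𝟙 (𝒴.p.obj p)) (P.map e.hom ≫ b ≫ P.map e'.inv) :=
      isHomLift_id_id 𝒮.p _ _
    obtain ⟨R, hR, hR'⟩ := locSurjHom' J h.2 ξ ξ' hξ (P.map e.hom ≫ b ≫ P.map e'.inv) (hb := h4)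
    refine ⟨R, hR, fun V f hf => ?_⟩
    obtain ⟨x₀, φ, ψ, hφ, hψ, hc⟩ := hR' f hf
    have h5 : 𝒴.p.IsHomLift f (Φ.map φ) := inferInstance
    have h6 : 𝒴.p.IsHomLift f (Φ.map ψ) := inferInstance
    refine ⟨Φ.obj x₀, Φ.map φ ≫ e.hom, Φ.map ψ ≫ e'.hom, isHomLift_comp_id 𝒴.p f _ _,
      isHomLift_comp_id 𝒴.p f _ _, ?_⟩
    have hc' : P.map (Φ.map φ) ≫ P.map e.hom ≫ b ≫ P.map e'.inv = P.map (Φ.map ψ) := hc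
    rw [P.toFunctor.map_comp, P.toFunctor.map_comp, ← hc']
    simp only [Category.assoc]
    rw [← P.toFunctor.map_comp, Iso.inv_hom_id, P.toFunctor.map_id, Category.comp_id]

section fp

variable (F : 𝒳 ⥤ᵇ 𝒮) (G : 𝒴 ⥤ᵇ 𝒮)

/-- base change of a gerbe: if `G : 𝒴 ⟶ 𝒮` is a gerbe then `𝒳 ×_𝒮 𝒴 ⟶ 𝒳` is a gerbe. -/
theorem isGerbeOver_fpFst (h𝒳 : FibCat.IsFibGrpd 𝒳.p) (h𝒮 : FibCat.IsFibGrpd 𝒮.p)
    (hG : Gerb.IsGerbeOver J G) : Gerb.IsGerbeOver J (FibCat.fpFst F G) := by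
  constructor
  · intro x
    obtain ⟨R, hR, hR'⟩ := locSurjObj' J hG.1 (F.obj x) (F.w_obj x)
    refine ⟨R, hR, fun V f hf => ?_⟩
    obtain ⟨y, g, hg⟩ := hR' f hf
    obtain ⟨x'', a, ha⟩ := h𝒳.exists_lift (x := x) f
    have hFa : 𝒮.p.IsHomLift f (F.map a) := inferInstance
    obtain ⟨j, hj, hjf⟩ := exists_iso_fac h𝒮 f g (F.map a)
    have hV : V = 𝒳.p.obj x'' := (IsHomLift.domain_eq 𝒳.p f a).symm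
    let P : (FibCat.fp F G).obj := ⟨⟨x'', y, j⟩, H1_isHomLift_id_of_eq 𝒮.p hV j.hom⟩
    exact ⟨P, a, ha⟩
  · intro P₁ P₂ b hb
    change P₁.obj.fst ⟶ P₂.obj.fst at b
    change ∃ R ∈ J (𝒳.p.obj P₁.obj.fst), ∀ ⦃V : C⦄ (f : V ⟶ 𝒳.p.obj P₁.obj.fst), R f →
      ∃ (x₀ : (FibCat.fp F G).obj) (φ : x₀ ⟶ P₁) (ψ : x₀ ⟶ P₂),
        (FibCat.fp F G).p.IsHomLift f φ ∧ (FibCat.fp F G).p.IsHomLift f ψ ∧
          φ.hom.fst ≫ b = ψ.hom.fst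
    have hb' : 𝒳.p.IsHomLift (𝟙 (𝒳.p.obj P₁.obj.fst)) b := hb
    have hi₁ : 𝒮.p.IsHomLift (𝟙 (𝒳.p.obj P₁.obj.fst)) P₁.obj.iso.hom := P₁.property
    have hP₂ : 𝒳.p.obj P₂.obj.fst = 𝒳.p.obj P₁.obj.fst :=
      IsHomLift.codomain_eq 𝒳.p (𝟙 (𝒳.p.obj P₁.obj.fst)) b
    have hi₂ : 𝒮.p.IsHomLift (𝟙 (𝒳.p.obj P₁.obj.fst)) P₂.obj.iso.hom :=
      H1_fp_iso_isHomLift F G P₂ hP₂
    have hi₁' : 𝒮.p.IsHomLift (𝟙 (𝒳.p.obj P₁.obj.fst)) P₁.obj.iso.inv :=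
      isHomLift_iso_inv 𝒮.p P₁.obj.iso
    have hU : 𝒴.p.obj P₁.obj.snd = 𝒳.p.obj P₁.obj.fst :=
      (G.w_obj P₁.obj.snd).symm.trans
        (IsHomLift.codomain_eq 𝒮.p (𝟙 (𝒳.p.obj P₁.obj.fst)) P₁.obj.iso.hom)
    have hFb : 𝒮.p.IsHomLift (𝟙 (𝒳.p.obj P₁.obj.fst)) (F.map b) := inferInstance
    have h1 : 𝒮.p.IsHomLift (𝟙 (𝒳.p.obj P₁.obj.fst)) (F.map b ≫ P₂.obj.iso.hom) :=
      isHomLift_id_id 𝒮.p _ _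
    have h2 : 𝒮.p.IsHomLift (𝟙 (𝒳.p.obj P₁.obj.fst))
        (P₁.obj.iso.inv ≫ F.map b ≫ P₂.obj.iso.hom) := isHomLift_id_id 𝒮.p _ _
    obtain ⟨R, hR, hR'⟩ := locSurjHom' J hG.2 P₁.obj.snd P₂.obj.snd hU
      (P₁.obj.iso.inv ≫ F.map b ≫ P₂.obj.iso.hom)
    refine ⟨R, hR, fun V f hf => ?_⟩
    obtain ⟨y₀, φ, ψ, hφ, hψ, hc⟩ := hR' f hf
    obtain ⟨x₀, a, ha⟩ := h𝒳.exists_lift (x := P₁.obj.fst) f
    have hFa : 𝒮.p.IsHomLift f (F.map a) := inferInstance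
    have hGφ : 𝒮.p.IsHomLift f (G.map φ) := inferInstance
    have h3 : 𝒮.p.IsHomLift f (F.map a ≫ P₁.obj.iso.hom) := isHomLift_comp_id 𝒮.p f _ _
    obtain ⟨j, hj, hjf⟩ := exists_iso_fac h𝒮 f (G.map φ) (F.map a ≫ P₁.obj.iso.hom)
    have hV : V = 𝒳.p.obj x₀ := (IsHomLift.domain_eq 𝒳.p f a).symm
    let P₀ : (FibCat.fp F G).obj := ⟨⟨x₀, y₀, j⟩, H1_isHomLift_id_of_eq 𝒮.p hV j.hom⟩
    let m₁ : P₀ ⟶ P₁ := ObjectProperty.homMk (⟨a, φ, hjf.symm⟩ : P₀.obj ⟶ P₁.obj)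
    have hw₂ : F.map (a ≫ b) ≫ P₂.obj.iso.hom = j.hom ≫ G.map ψ := by
      rw [← hc, ← Category.assoc, hjf, F.toFunctor.map_comp]
      simp only [Category.assoc, Iso.hom_inv_id_assoc]
    let m₂ : P₀ ⟶ P₂ := ObjectProperty.homMk (⟨a ≫ b, ψ, hw₂⟩ : P₀.obj ⟶ P₂.obj)
    have hab : 𝒳.p.IsHomLift f (a ≫ b) := isHomLift_comp_id 𝒳.p f _ _
    refine ⟨P₀, m₁, m₂, (H1_fp_isHomLift_iff F G m₁ f).2 ha, (H1_fp_isHomLift_iff F G m₂ f).2 hab,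
      ?_⟩
    rfl

/-- descent of gerbes: if `𝒳 ×_𝒮 𝒴 ⟶ 𝒳` is a gerbe and `F : 𝒳 ⟶ 𝒮` is locally surjective on
objects then `G : 𝒴 ⟶ 𝒮` is a gerbe. -/
theorem isGerbeOver_of_fpFst (h𝒴 : FibCat.IsFibGrpd 𝒴.p) (h𝒮 : FibCat.IsFibGrpd 𝒮.p)
    (hF : Gerb.LocSurjObj J F) (h : Gerb.IsGerbeOver J (FibCat.fpFst F G)) :
    Gerb.IsGerbeOver J G := by
  constructor
  · intro s
    obtain ⟨R, hR, hR'⟩ := hF s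
    refine cover_bind J (fun V f => ∃ (y : 𝒴.obj) (g : G.obj y ⟶ s), 𝒮.p.IsHomLift f g) R hR ?_
    intro V f hf
    obtain ⟨x, g, hg⟩ := hR' f hf
    have hV : 𝒳.p.obj x = V := (F.w_obj x).symm.trans (IsHomLift.domain_eq 𝒮.p f g)
    obtain ⟨R', hR'1, hR'2⟩ := locSurjObj' J h.1 x hV
    refine ⟨R', hR'1, fun W f' hf' => ?_⟩
    obtain ⟨P, k, hk⟩ := hR'2 f' hf'
    have hk' : 𝒳.p.IsHomLift f' (show P.obj.fst ⟶ x from k) := hk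
    have hW : 𝒳.p.obj P.obj.fst = W := IsHomLift.domain_eq 𝒳.p f' (show P.obj.fst ⟶ x from k)
    have hi : 𝒮.p.IsHomLift (𝟙 W) P.obj.iso.hom := H1_fp_iso_isHomLift F G P hW
    have hi' : 𝒮.p.IsHomLift (𝟙 W) P.obj.iso.inv := isHomLift_iso_inv 𝒮.p P.obj.iso
    have hFk : 𝒮.p.IsHomLift f' (F.map (show P.obj.fst ⟶ x from k)) := inferInstance
    have h1 : 𝒮.p.IsHomLift (f' ≫ f) (F.map (show P.obj.fst ⟶ x from k) ≫ g) := inferInstance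
    exact ⟨P.obj.snd, P.obj.iso.inv ≫ F.map (show P.obj.fst ⟶ x from k) ≫ g,
      isHomLift_id_comp 𝒮.p (f' ≫ f) _ _⟩
  · intro y₁ y₂ b hb
    obtain ⟨R, hR, hR'⟩ := locSurjObj' J hF (G.obj y₁) (G.w_obj y₁)
    refine cover_bind J (fun V f => ∃ (y₀ : 𝒴.obj) (φ : y₀ ⟶ y₁) (ψ : y₀ ⟶ y₂),
      𝒴.p.IsHomLift f φ ∧ 𝒴.p.IsHomLift f ψ ∧ G.map φ ≫ b = G.map ψ) R hR ?_
    intro V f hf
    obtain ⟨x, g, hg⟩ := hR' f hf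
    have hy₂ : 𝒴.p.obj y₂ = 𝒴.p.obj y₁ :=
      (G.w_obj y₂).symm.trans (IsHomLift.codomain_eq 𝒮.p (𝟙 (𝒴.p.obj y₁)) b)
    obtain ⟨y₁V, a₁, ha₁⟩ := h𝒴.exists_lift (x := y₁) f
    obtain ⟨y₂V, a₂, ha₂⟩ := exists_lift' h𝒴 y₂ hy₂ f
    have hGa₁ : 𝒮.p.IsHomLift f (G.map a₁) := inferInstance
    have hGa₂ : 𝒮.p.IsHomLift f (G.map a₂) := inferInstance
    have hgb : 𝒮.p.IsHomLift f (g ≫ b) := isHomLift_comp_id 𝒮.p f _ _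
    obtain ⟨i₁, hi₁, hi₁f⟩ := exists_iso_fac h𝒮 f (G.map a₁) g
    obtain ⟨i₂, hi₂, hi₂f⟩ := exists_iso_fac h𝒮 f (G.map a₂) (g ≫ b)
    have hV : V = 𝒳.p.obj x := ((F.w_obj x).symm.trans (IsHomLift.domain_eq 𝒮.p f g)).symm
    let P₁ : (FibCat.fp F G).obj := ⟨⟨x, y₁V, i₁⟩, H1_isHomLift_id_of_eq 𝒮.p hV i₁.hom⟩
    let P₂ : (FibCat.fp F G).obj := ⟨⟨x, y₂V, i₂⟩, H1_isHomLift_id_of_eq 𝒮.p hV i₂.hom⟩
    have hid : 𝒳.p.IsHomLift (𝟙 V) (𝟙 x) := by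
      subst hV; infer_instance
    obtain ⟨R', hR'1, hR'2⟩ := locSurjHom' J h.2 P₁ P₂ hV.symm (𝟙 x) (hb := hid)
    refine ⟨R', hR'1, fun W f' hf' => ?_⟩
    obtain ⟨P₀, m₁, m₂, hm₁, hm₂, hm⟩ := hR'2 f' hf'
    have hm' : m₁.hom.fst = m₂.hom.fst := by
      have : m₁.hom.fst ≫ 𝟙 x = m₂.hom.fst := hm
      rwa [Category.comp_id] at this
    have hs₁ : 𝒴.p.IsHomLift f' m₁.hom.snd := H1_fp_isHomLift_snd F G m₁ f' (h := hm₁)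
    have hs₂ : 𝒴.p.IsHomLift f' m₂.hom.snd := H1_fp_isHomLift_snd F G m₂ f' (h := hm₂)
    refine ⟨P₀.obj.snd, m₁.hom.snd ≫ a₁, m₂.hom.snd ≫ a₂, inferInstance, inferInstance, ?_⟩
    have w₁ : F.map m₁.hom.fst ≫ i₁.hom = P₀.obj.iso.hom ≫ G.map m₁.hom.snd := m₁.hom.w
    have w₂ : F.map m₂.hom.fst ≫ i₂.hom = P₀.obj.iso.hom ≫ G.map m₂.hom.snd := m₂.hom.w
    have e1 : G.map m₁.hom.snd = P₀.obj.iso.inv ≫ F.map m₁.hom.fst ≫ i₁.hom := by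
      rw [w₁, Iso.inv_hom_id_assoc]
    have e2 : G.map m₂.hom.snd = P₀.obj.iso.inv ≫ F.map m₂.hom.fst ≫ i₂.hom := by
      rw [w₂, Iso.inv_hom_id_assoc]
    rw [G.toFunctor.map_comp, G.toFunctor.map_comp, e1, e2, hm']
    simp only [Category.assoc]
    rw [reassoc_of% hi₁f, hi₂f]

end fp

end Groth.Agent.H1.GerbB

namespace Groth.Agent.H1.GerbB

open Groth.Agent.H1.FC

variable {C : Type u₁} [Category.{v₁} C] (J : GrothendieckTopology C)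
variable {𝒳 : BasedCategory.{v₂, u₂} C} {𝒴 : BasedCategory.{v₃, u₃} C}

theorem basedFunctor_ext {F G : 𝒳 ⥤ᵇ 𝒴} (h : F.toFunctor = G.toFunctor) : F = G := by
  cases F; cases G; simp only at h; subst h; rfl

theorem comp_toSelf (F : 𝒳 ⥤ᵇ 𝒴) :
    BasedFunctor.comp F (FibCat.toSelf 𝒴) = FibCat.toSelf 𝒳 :=
  basedFunctor_ext F.w

/-- being a gerbe over the site is invariant under equivalence over `C`. -/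
theorem isGerbe_of_isEquivOver (F : 𝒳 ⥤ᵇ 𝒴) (hF : FibCat.IsEquivOver F)
    (h : Gerb.IsGerbe J 𝒳) : Gerb.IsGerbe J 𝒴 := by
  refine ⟨H1_isStack_of_isEquivOver J F hF h.1, ?_⟩
  apply isGerbeOver_of_comp_equiv J F hF
  rw [comp_toSelf]
  exact h.2

end Groth.Agent.H1.GerbB
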