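import Mathlib
import Groth.Agent.Lib.helper1.GerbTriv

set_option autoImplicit false

/-! Fibrewise quasi-inverse for functors between gerbes (helper1). -/

universe v₁ u₁ v₂ u₂ v₃ u₃

open CategoryTheory

namespace Groth.Agent.H1.GerbT

open Groth.Agent.H1.FC Groth.Agent.H1.GerbB Groth.Agent.H1.StkGlue

variable {C : Type u₁} [Category.{v₁} C] (J : GrothendieckTopology C)
  {𝒳 : BasedCategory.{v₂, u₂} C} {𝒴 : BasedCategory.{v₃, u₃} C}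

theorem fiberwise_triv_comp (h𝒳 : FibCat.IsFibGrpd 𝒳.p) (h𝒴 : Gerb.IsGerbe J 𝒴) {T : C}
    (hT : Limits.IsTerminal T)
    (φ : 𝒳 ⥤ᵇ 𝒴) (ψ : 𝒴 ⥤ᵇ 𝒳) (x : 𝒳.obj) (hx : 𝒳.p.obj x = T)
    (hφ : ∀ (x' : 𝒳.obj) (_ : x' ⟶ x), Function.Surjective (Gerb.autMap φ x'))
    (g : ψ.obj (φ.obj x) ⟶ x) (hg : 𝒳.p.IsHomLift (𝟙 (𝒳.p.obj x)) g)
    (hconj : ∀ (x' : 𝒳.obj) (c : x' ⟶ x) (g' : ψ.obj (φ.obj x') ⟶ x'),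
      𝒳.p.IsHomLift (𝟙 (𝒳.p.obj x')) g' →
      ψ.map (φ.map c) ≫ g = g' ≫ c →
        ∀ α : Gerb.AutO x', ψ.map (φ.map α.hom.1) ≫ g' = g' ≫ α.hom.1) :
    ∃ σ : ∀ z : 𝒴.obj, φ.obj (ψ.obj z) ⟶ z,
      (∀ z, IsIso (σ z) ∧ 𝒴.p.IsHomLift (𝟙 (𝒴.p.obj z)) (σ z)) ∧
      (∀ (z z' : 𝒴.obj) (f : z ⟶ z'), 𝒴.p.IsHomLift (𝟙 (𝒴.p.obj z)) f →
        φ.map (ψ.map f) ≫ σ z' = σ z ≫ f) := by
  have hfib𝒴 : FibCat.IsFibGrpd 𝒴.p := h𝒴.1.1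
  have hx' : 𝒴.p.obj (φ.obj x) = T := (φ.w_obj x).trans hx
  have hg1 : 𝒴.p.IsHomLift (𝟙 (𝒳.p.obj x)) (φ.map g) := inferInstance
  have hg2 : 𝒴.p.IsHomLift (𝟙 (𝒴.p.obj (φ.obj x))) (φ.map g) :=
    H1_isHomLift_id_of_eq 𝒴.p (φ.w_obj x).symm _
  refine fiberwise_triv J h𝒴 hT (BasedFunctor.comp ψ φ) (φ.obj x) hx' (φ.map g) hg2 ?_
  intro z' c g'' hg'' hfac β
  change φ.obj (ψ.obj z') ⟶ z' at g''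
  change φ.map (ψ.map c) ≫ φ.map g = g'' ≫ c at hfac
  change φ.map (ψ.map β.hom.1) ≫ g'' = g'' ≫ β.hom.1
  have hg''2 : 𝒴.p.IsHomLift (𝟙 (𝒴.p.obj z')) g'' := hg''
  -- pull back `x`
  obtain ⟨x', c₀, hc₀⟩ := exists_lift' h𝒳 x (φ.w_obj x).symm (𝒴.p.map c)
  have hφc₀ : 𝒴.p.IsHomLift (𝒴.p.map c) (φ.map c₀) := inferInstance
  have hcl : 𝒴.p.IsHomLift (𝒴.p.map c) c := inferInstance
  obtain ⟨j, hj, hjf⟩ := exists_iso_fac hfib𝒴 (𝒴.p.map c) (φ.map c₀) c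
  have hji : 𝒴.p.IsHomLift (𝟙 (𝒴.p.obj z')) j.inv := isHomLift_iso_inv' 𝒴.p j
  have hx'V : 𝒳.p.obj x' = 𝒴.p.obj z' := IsHomLift.domain_eq 𝒳.p (𝒴.p.map c) c₀
  -- the canonical `g₀`
  have hc₀' : 𝒳.p.IsHomLift (𝒳.p.map c₀) c₀ := inferInstance
  have h1 : 𝒳.p.IsHomLift (𝒳.p.map c₀) (ψ.map (φ.map c₀)) := inferInstance
  have h2 : 𝒳.p.IsHomLift (𝒳.p.map c₀) (ψ.map (φ.map c₀) ≫ g) := isHomLift_comp_id' 𝒳.p _ _ _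
  have hsc := H1_isStronglyCartesian_of_isFibGrpd h𝒳 (𝒳.p.map c₀) c₀
  let g₀ := Functor.IsCartesian.map 𝒳.p (𝒳.p.map c₀) c₀ (ψ.map (φ.map c₀) ≫ g)
  have hg₀ : 𝒳.p.IsHomLift (𝟙 (𝒳.p.obj x')) g₀ :=
    Functor.IsCartesian.map_isHomLift 𝒳.p (𝒳.p.map c₀) c₀ _
  have hg₀c : g₀ ≫ c₀ = ψ.map (φ.map c₀) ≫ g := Functor.IsCartesian.fac 𝒳.p (𝒳.p.map c₀) c₀ _
  have hconj' := hconj x' c₀ g₀ hg₀ hg₀c.symm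
  -- `g''` in terms of `g₀`
  have hφg₀ : 𝒴.p.IsHomLift (𝟙 (𝒴.p.obj z')) (φ.map g₀) := by
    have : 𝒴.p.IsHomLift (𝟙 (𝒳.p.obj x')) (φ.map g₀) := inferInstance
    exact H1_isHomLift_id_of_eq 𝒴.p hx'V _
  have hψj : 𝒴.p.IsHomLift (𝟙 (𝒴.p.obj z')) (φ.map (ψ.map j.hom)) := inferInstance
  have l1 : 𝒴.p.IsHomLift (𝟙 (𝒴.p.obj z')) (φ.map g₀ ≫ j.inv) := isHomLift_id_id' 𝒴.p _ _
  have l2 : 𝒴.p.IsHomLift (𝟙 (𝒴.p.obj z')) (φ.map (ψ.map j.hom) ≫ φ.map g₀ ≫ j.inv) :=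
    isHomLift_id_id' 𝒴.p _ _
  have eg : g'' = φ.map (ψ.map j.hom) ≫ φ.map g₀ ≫ j.inv := by
    apply hom_ext_of_isFibGrpd hfib𝒴 (𝒴.p.map c) c
    rw [← hfac]
    conv_rhs => rw [← hjf]
    simp only [Category.assoc, Iso.inv_hom_id_assoc]
    rw [← φ.toFunctor.map_comp g₀, hg₀c, ← hjf]
    simp only [Functor.map_comp, Category.assoc]
  -- the automorphism
  have hβ : 𝒴.p.IsHomLift (𝟙 (𝒴.p.obj z')) β.hom.1 := β.hom.2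
  have hφx' : 𝒴.p.obj (φ.obj x') = 𝒴.p.obj z' := (φ.w_obj x').trans hx'V
  have l3 : 𝒴.p.IsHomLift (𝟙 (𝒴.p.obj z')) (β.hom.1 ≫ j.hom) := isHomLift_id_id' 𝒴.p _ _
  have l4 : 𝒴.p.IsHomLift (𝟙 (𝒴.p.obj z')) (j.inv ≫ β.hom.1 ≫ j.hom) := isHomLift_id_id' 𝒴.p _ _
  have l5 : 𝒴.p.IsHomLift (𝟙 (𝒴.p.obj (φ.obj x'))) (j.inv ≫ β.hom.1 ≫ j.hom) :=
    H1_isHomLift_id_of_eq 𝒴.p hφx'.symm _
  obtain ⟨b, hb⟩ := exists_autO hfib𝒴 (φ.obj x') (j.inv ≫ β.hom.1 ≫ j.hom)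
  obtain ⟨α, hα⟩ := hφ x' c₀ b
  have hα' : φ.map α.hom.1 = j.inv ≫ β.hom.1 ≫ j.hom := by
    rw [← hb, ← hα]; rfl
  have hβe : β.hom.1 = j.hom ≫ φ.map α.hom.1 ≫ j.inv := by
    rw [hα']; simp
  have hc2 := hconj' α
  have this : φ.map (ψ.map (φ.map α.hom.1)) ≫ φ.map g₀ = φ.map g₀ ≫ φ.map α.hom.1 := by
    rw [← φ.toFunctor.map_comp, hc2, φ.toFunctor.map_comp]
  have eβ : φ.map (ψ.map β.hom.1) =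
      φ.map (ψ.map j.hom) ≫ φ.map (ψ.map (φ.map α.hom.1)) ≫ φ.map (ψ.map j.inv) := by
    rw [hβe]; simp only [Functor.map_comp]
  have eAi : φ.map (ψ.map j.inv) ≫ φ.map (ψ.map j.hom) = 𝟙 _ := by
    rw [← φ.toFunctor.map_comp, ← ψ.toFunctor.map_comp, Iso.inv_hom_id, ψ.toFunctor.map_id,
      φ.toFunctor.map_id]
  calc φ.map (ψ.map β.hom.1) ≫ g''
      = φ.map (ψ.map j.hom) ≫ φ.map (ψ.map (φ.map α.hom.1)) ≫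
          (φ.map (ψ.map j.inv) ≫ φ.map (ψ.map j.hom)) ≫ φ.map g₀ ≫ j.inv := by
        rw [eβ, eg]; simp only [Category.assoc]
    _ = φ.map (ψ.map j.hom) ≫ (φ.map (ψ.map (φ.map α.hom.1)) ≫ φ.map g₀) ≫ j.inv := by
        rw [eAi, Category.id_comp]; simp only [Category.assoc]
    _ = φ.map (ψ.map j.hom) ≫ φ.map g₀ ≫ φ.map α.hom.1 ≫ j.inv := by
        rw [this]; simp only [Category.assoc]
    _ = g'' ≫ β.hom.1 := by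
        rw [eg, hβe]; simp only [Category.assoc, Iso.inv_hom_id_assoc]

end Groth.Agent.H1.GerbT
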