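import Mathlib
open CategoryTheory CategoryTheory.Limits
universe v₁ v₂ v₃ u₁ u₂ u₃

namespace Groth.Agent.H1.Glue

variable {E : Type u₁} [Category.{v₁} E] {F : Type u₂} [Category.{v₂} F]
  {G : Type u₃} [Category.{v₃} G] [HasPullbacks E]
  {ι : F ⥤ E} {L : E ⥤ F} (adjL : L ⊣ ι) [ι.Full] [ι.Faithful]
  {j : E ⥤ G} {r : G ⥤ E} (adjJ : j ⊣ r) [r.Full] [r.Faithful]
  [PreservesLimitsOfShape WalkingCospan L] [PreservesLimitsOfShape WalkingCospan j]

/-- the comparison functor -/
@[simps]
def Phi : E ⥤ Comma (𝟭 F) (r ⋙ L) where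
  obj X := { left := L.obj X, right := j.obj X, hom := L.map (adjJ.unit.app X) }
  map {X X'} m :=
    { left := L.map m
      right := j.map m
      w := by
        dsimp
        rw [← L.map_comp, ← L.map_comp]
        congr 1
        exact adjJ.unit.naturality m }

lemma isIso_L_unit (X : E) : IsIso (L.map (adjL.unit.app X)) := by
  have h := adjL.left_triangle_components X
  haveI : IsIso (L.map (adjL.unit.app X) ≫ adjL.counit.app (L.obj X)) := by
    rw [h]; exact IsIso.id _
  exact IsIso.of_isIso_comp_right (L.map (adjL.unit.app X)) (adjL.counit.app (L.obj X))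

lemma isIso_j_unit (X : E) : IsIso (j.map (adjJ.unit.app X)) := by
  have h := adjJ.left_triangle_components X
  haveI : IsIso (j.map (adjJ.unit.app X) ≫ adjJ.counit.app (j.obj X)) := by
    rw [h]; exact IsIso.id _
  exact IsIso.of_isIso_comp_right (j.map (adjJ.unit.app X)) (adjJ.counit.app (j.obj X))

/-- the glued object -/
noncomputable def glue (T : Comma (𝟭 F) (r ⋙ L)) : E :=
  pullback (ι.map T.hom) (adjL.unit.app (r.obj T.right))

noncomputable def gfst (T : Comma (𝟭 F) (r ⋙ L)) : glue adjL T ⟶ ι.obj T.left :=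
  pullback.fst (ι.map T.hom) (adjL.unit.app (r.obj T.right))

noncomputable def gsnd (T : Comma (𝟭 F) (r ⋙ L)) : glue adjL T ⟶ r.obj T.right :=
  pullback.snd (ι.map T.hom) (adjL.unit.app (r.obj T.right))

lemma gcond (T : Comma (𝟭 F) (r ⋙ L)) :
    gfst adjL T ≫ ι.map T.hom = gsnd adjL T ≫ adjL.unit.app (r.obj T.right) :=
  pullback.condition

lemma g_isPullback (T : Comma (𝟭 F) (r ⋙ L)) :
    IsPullback (gfst adjL T) (gsnd adjL T) (ι.map T.hom) (adjL.unit.app (r.obj T.right)) :=
  IsPullback.of_hasPullback _ _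

lemma isIso_L_fst (T : Comma (𝟭 F) (r ⋙ L)) : IsIso (L.map (gfst adjL T)) := by
  have h := (g_isPullback adjL T).map L
  haveI := isIso_L_unit adjL (r.obj T.right)
  exact h.isIso_fst_of_isIso

lemma isIso_j_snd (hT : ∀ {Y Y' : F} (g : j.obj (ι.obj Y) ⟶ j.obj (ι.obj Y')), IsIso g)
    (T : Comma (𝟭 F) (r ⋙ L)) : IsIso (j.map (gsnd adjL T)) := by
  have h := (g_isPullback adjL T).map j
  haveI : IsIso (j.map (ι.map T.hom)) := hT _
  exact h.isIso_snd_of_isIso

section main
variable (hT : ∀ {Y Y' : F} (g : j.obj (ι.obj Y) ⟶ j.obj (ι.obj Y')), IsIso g)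
  (hC : ∀ {X X' : E} (m : X ⟶ X'), IsIso (L.map m) → IsIso (j.map m) → IsIso m)

include hT in
/-- essential surjectivity -/
lemma glue_iso (T : Comma (𝟭 F) (r ⋙ L)) :
    Nonempty ((Phi adjJ).obj (glue adjL T) ≅ T) := by
  have i1 := isIso_L_fst adjL T
  have i2 := isIso_j_snd adjL hT T
  let a : L.obj (glue adjL T) ≅ T.left :=
    @asIso _ _ _ _ (L.map (gfst adjL T)) i1 ≪≫ asIso (adjL.counit.app T.left)
  let b : j.obj (glue adjL T) ≅ T.right :=
    @asIso _ _ _ _ (j.map (gsnd adjL T)) i2 ≪≫ asIso (adjJ.counit.app T.right)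
  refine ⟨Comma.isoMk a b ?_⟩
  have hL : (L.map (gfst adjL T) ≫ adjL.counit.app T.left) ≫ T.hom = L.map (gsnd adjL T) := by
    have n1 := adjL.counit.naturality T.hom
    simp only [Functor.comp_map, Functor.id_map, Functor.id_obj, Functor.comp_obj] at n1
    rw [Category.assoc, ← n1, ← Category.assoc, ← L.map_comp, gcond, L.map_comp, Category.assoc]
    have t := adjL.left_triangle_components (r.obj T.right)
    rw [t]
    exact Category.comp_id _
  have hR : L.map (adjJ.unit.app (glue adjL T)) ≫
      L.map (r.map (j.map (gsnd adjL T) ≫ adjJ.counit.app T.right)) = L.map (gsnd adjL T) := by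
    rw [← L.map_comp]
    congr 1
    have n2 := adjJ.unit.naturality (gsnd adjL T)
    simp only [Functor.comp_map, Functor.id_map, Functor.id_obj, Functor.comp_obj] at n2
    rw [r.map_comp, ← Category.assoc, ← n2, Category.assoc]
    have t := adjJ.right_triangle_components T.right
    rw [t]
    exact Category.comp_id _
  change (L.map (gfst adjL T) ≫ adjL.counit.app T.left) ≫ T.hom =
    L.map (adjJ.unit.app (glue adjL T)) ≫
      L.map (r.map (j.map (gsnd adjL T) ≫ adjJ.counit.app T.right))
  rw [hL, hR]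

include hT hC in
lemma isPullback_units (X : E) :
    IsPullback (adjL.unit.app X) (adjJ.unit.app X) (ι.map (L.map (adjJ.unit.app X)))
      (adjL.unit.app (r.obj (j.obj X))) := by
  have comm : adjL.unit.app X ≫ ι.map (L.map (adjJ.unit.app X)) =
      adjJ.unit.app X ≫ adjL.unit.app (r.obj (j.obj X)) :=
    (adjL.unit.naturality (adjJ.unit.app X)).symm
  let T : Comma (𝟭 F) (r ⋙ L) := (Phi adjJ).obj X
  let c : X ⟶ glue adjL T := pullback.lift (adjL.unit.app X) (adjJ.unit.app X) comm
  have c1 : c ≫ gfst adjL T = adjL.unit.app X := pullback.lift_fst _ _ _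
  have c2 : c ≫ gsnd adjL T = adjJ.unit.app X := pullback.lift_snd _ _ _
  have hc : IsIso c := by
    apply hC
    · haveI := isIso_L_fst adjL T
      haveI : IsIso (L.map c ≫ L.map (gfst adjL T)) := by
        rw [← L.map_comp, c1]
        exact isIso_L_unit adjL X
      exact IsIso.of_isIso_comp_right (L.map c) (L.map (gfst adjL T))
    · haveI := isIso_j_snd adjL hT T
      haveI : IsIso (j.map c ≫ j.map (gsnd adjL T)) := by
        rw [← j.map_comp, c2]
        exact isIso_j_unit adjJ X
      exact IsIso.of_isIso_comp_right (j.map c) (j.map (gsnd adjL T))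
  exact IsPullback.of_iso_pullback ⟨comm⟩ (@asIso _ _ _ _ c hc) c1 c2

include adjL hT hC in
theorem isEquivalence_Phi : (Phi (L := L) adjJ).IsEquivalence := by
  haveI : (Phi (L := L) adjJ).Faithful := ⟨fun {X X'} m m' h => by
    have h1 : L.map m = L.map m' := congrArg CommaMorphism.left h
    have h2 : j.map m = j.map m' := congrArg CommaMorphism.right h
    apply (isPullback_units adjL adjJ hT hC X').hom_ext
    · have n1 := adjL.unit.naturality m
      have n1' := adjL.unit.naturality m'
      simp only [Functor.comp_map, Functor.id_map] at n1 n1'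
      rw [n1, n1', h1]
    · have n1 := adjJ.unit.naturality m
      have n1' := adjJ.unit.naturality m'
      simp only [Functor.comp_map, Functor.id_map] at n1 n1'
      rw [n1, n1', h2]⟩
  haveI : (Phi (L := L) adjJ).Full := ⟨fun {X X'} f => by
    let α : L.obj X ⟶ L.obj X' := f.left
    let β : j.obj X ⟶ j.obj X' := f.right
    have w : α ≫ L.map (adjJ.unit.app X') = L.map (adjJ.unit.app X) ≫ L.map (r.map β) := f.w
    have cond : (adjL.unit.app X ≫ ι.map α) ≫ ι.map (L.map (adjJ.unit.app X')) =
        (adjJ.unit.app X ≫ r.map β) ≫ adjL.unit.app (r.obj (j.obj X')) := by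
      rw [Category.assoc, ← ι.map_comp, w, ← L.map_comp]
      exact (adjL.unit.naturality (adjJ.unit.app X ≫ r.map β)).symm
    let m : X ⟶ X' := (isPullback_units adjL adjJ hT hC X').lift _ _ cond
    have m1 : m ≫ adjL.unit.app X' = adjL.unit.app X ≫ ι.map α :=
      (isPullback_units adjL adjJ hT hC X').lift_fst _ _ cond
    have m2 : m ≫ adjJ.unit.app X' = adjJ.unit.app X ≫ r.map β :=
      (isPullback_units adjL adjJ hT hC X').lift_snd _ _ cond
    refine ⟨m, ?_⟩
    apply CommaMorphism.ext
    · change L.map m = α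
      apply (adjL.homEquiv X (L.obj X')).injective
      rw [Adjunction.homEquiv_unit, Adjunction.homEquiv_unit]
      have n1 := adjL.unit.naturality m
      simp only [Functor.comp_map, Functor.id_map] at n1
      rw [← n1, m1]
    · change j.map m = β
      apply (adjJ.homEquiv X (j.obj X')).injective
      rw [Adjunction.homEquiv_unit, Adjunction.homEquiv_unit]
      have n1 := adjJ.unit.naturality m
      simp only [Functor.comp_map, Functor.id_map] at n1
      rw [← n1, m2]⟩
  haveI : (Phi (L := L) adjJ).EssSurj := ⟨fun T => ⟨glue adjL T, glue_iso adjL adjJ hT T⟩⟩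
  exact {}

end main

end Groth.Agent.H1.Glue
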