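import Mathlib
open CategoryTheory CategoryTheory.Limits
universe w v₁ u₁

namespace Groth.Agent.H1.ShEq

section general
variable {C : Type*} [Category C]

/-- reflexive pair + coequalizer ⇒ pushout -/
lemma isPushout_of_isColimit_cofork {R X B : C} {p₁ p₂ : R ⟶ X} {π : X ⟶ B}
    (w : p₁ ≫ π = p₂ ≫ π) (h : IsColimit (Cofork.ofπ π w)) (r : X ⟶ R)
    (h₁ : r ≫ p₁ = 𝟙 _) (h₂ : r ≫ p₂ = 𝟙 _) : IsPushout p₁ p₂ π π := by
  refine ⟨⟨w⟩, ⟨PushoutCocone.IsColimit.mk _ (fun s => Cofork.IsColimit.desc h s.inl ?_) ?_ ?_ ?_⟩⟩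
  · have e : s.inl = s.inr := by
      calc s.inl = r ≫ p₁ ≫ s.inl := by rw [← Category.assoc, h₁, Category.id_comp]
        _ = r ≫ p₂ ≫ s.inr := by rw [s.condition]
        _ = s.inr := by rw [← Category.assoc, h₂, Category.id_comp]
    rw [s.condition, e]
  · intro s
    exact Cofork.IsColimit.π_desc' h _ _
  · intro s
    have e : s.inl = s.inr := by
      calc s.inl = r ≫ p₁ ≫ s.inl := by rw [← Category.assoc, h₁, Category.id_comp]
        _ = r ≫ p₂ ≫ s.inr := by rw [s.condition]
        _ = s.inr := by rw [← Category.assoc, h₂, Category.id_comp]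
    exact (Cofork.IsColimit.π_desc' h _ _).trans e
  · intro s m hm _
    apply Cofork.IsColimit.hom_ext h
    rw [Cofork.IsColimit.π_desc' h]
    exact hm

lemma isPullback_of_comp {R X B B' : C} {p₁ p₂ : R ⟶ X} {π : X ⟶ B} (e : B ⟶ B')
    (w : p₁ ≫ π = p₂ ≫ π) (h : IsPullback p₁ p₂ (π ≫ e) (π ≫ e)) : IsPullback p₁ p₂ π π := by
  refine ⟨⟨w⟩, ⟨PullbackCone.IsLimit.mk _ (fun s => h.lift s.fst s.snd ?_) ?_ ?_ ?_⟩⟩
  · rw [← Category.assoc, s.condition, Category.assoc]
  · intro s; exact h.lift_fst _ _ _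
  · intro s; exact h.lift_snd _ _ _
  · intro s m h₁ h₂
    apply h.hom_ext
    · rw [h.lift_fst]; exact h₁
    · rw [h.lift_snd]; exact h₂

end general

section types

/-- in `Type`, the coequalizer of an equivalence relation has the relation as kernel pair. -/
lemma rel_of_isColimit {R X Q : Type w} {f g : R ⟶ X} {π : X ⟶ Q} (w' : f ≫ π = g ≫ π)
    (h : IsColimit (Cofork.ofπ π w')) (hE : Equivalence (TypeCat.Rel.ofPair f g))
    {x x' : X} (hx : π x = π x') : ∃ r : R, f r = x ∧ g r = x' := by
  let T : Type w := Quot (TypeCat.Rel.ofPair f g)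
  let m : X ⟶ T := ↾(Quot.mk _)
  have hm : f ≫ m = g ≫ m := by
    ext r
    exact Quot.sound ⟨r, rfl, rfl⟩
  let d : Q ⟶ T := Cofork.IsColimit.desc h m hm
  have hd : π ≫ d = m := Cofork.IsColimit.π_desc' h m hm
  have : m x = m x' := by
    rw [← hd]
    change d (π x) = d (π x')
    rw [hx]
  have h2 := Quot.eqvGen_exact this
  exact (hE.eqvGen_iff).1 h2

end types

section general2
variable {C : Type*} [Category C] {D : Type*} [Category D]

lemma jointlyMono_map [HasBinaryProducts C] [HasBinaryProducts D] (F : C ⥤ D)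
    [PreservesLimitsOfShape (Discrete WalkingPair) F] [F.PreservesMonomorphisms]
    {R X : C} (p₁ p₂ : R ⟶ X) (hj : JointlyMono₂ p₁ p₂) : JointlyMono₂ (F.map p₁) (F.map p₂) := by
  have hm : Mono (prod.lift p₁ p₂) := by
    constructor
    intro Z f g hfg
    apply hj.right_cancellation
    · have := congrArg (· ≫ prod.fst) hfg
      simpa only [Category.assoc, prod.lift_fst] using this
    · have := congrArg (· ≫ prod.snd) hfg
      simpa only [Category.assoc, prod.lift_snd] using this
  have hm' : Mono (F.map (prod.lift p₁ p₂)) := inferInstance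
  constructor
  intro Y f g h₁ h₂
  rw [← cancel_mono (F.map (prod.lift p₁ p₂)), ← cancel_mono (prodComparison F X X)]
  apply Limits.prod.hom_ext
  · simp only [Category.assoc, prodComparison_fst, ← F.map_comp, prod.lift_fst]
    exact h₁
  · simp only [Category.assoc, prodComparison_snd, ← F.map_comp, prod.lift_snd]
    exact h₂

/-- image of an equivalence relation under a functor preserving finite limits -/
noncomputable def eqMap {R X : C} {p₁ p₂ : R ⟶ X} (E : EquivalenceRelation p₁ p₂) (F : C ⥤ D)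
    (hj : JointlyMono₂ (F.map p₁) (F.map p₂)) [PreservesLimitsOfShape WalkingCospan F] :
    EquivalenceRelation (F.map p₁) (F.map p₂) :=
  haveI := hj
  { toReflexiveRelation := E.toReflexiveRelation.map F
    s := F.map E.s
    symmetry₁ := by rw [← F.map_comp, E.symmetry₁]
    symmetry₂ := by rw [← F.map_comp, E.symmetry₂]
    c := (E.toTransitiveRelation.map F).c
    isLimit := (E.toTransitiveRelation.map F).isLimit
    t := (E.toTransitiveRelation.map F).t
    transitivity₁ := (E.toTransitiveRelation.map F).transitivity₁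
    transitivity₂ := (E.toTransitiveRelation.map F).transitivity₂ }

end general2

section sheaf
open Opposite
variable {C : Type u₁} [Category.{v₁} C] (J : GrothendieckTopology C) [HasSheafify J (Type w)]
  {R X : Sheaf J (Type w)} {p₁ p₂ : R ⟶ X}

/-- evaluation functor on sheaves -/
noncomputable abbrev ev (U : Cᵒᵖ) : Sheaf J (Type w) ⥤ Type w :=
  sheafToPresheaf J (Type w) ⋙ (evaluation Cᵒᵖ (Type w)).obj U

lemma jm_app (E : EquivalenceRelation p₁ p₂) (U : Cᵒᵖ) :
    JointlyMono₂ (p₁.hom.app U) (p₂.hom.app U) :=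
  jointlyMono_map (ev J U) p₁ p₂ E.toJointlyMono₂

lemma equiv_app (E : EquivalenceRelation p₁ p₂) (U : Cᵒᵖ) :
    Equivalence (TypeCat.Rel.ofPair (p₁.hom.app U) (p₂.hom.app U)) :=
  TypeCat.equivalence_of_equivalenceRelation (eqMap E (ev J U) (jm_app J E U))


/-- the presheaf coequalizer of an equivalence relation of sheaves has the relation as kernel pair -/
lemma psh_kernelPair (E : EquivalenceRelation p₁ p₂) :
    IsPullback p₁.hom p₂.hom (coequalizer.π p₁.hom p₂.hom) (coequalizer.π p₁.hom p₂.hom) := by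
  refine IsPullback.of_forall_isPullback_app fun U => ?_
  rw [Types.isPullback_iff]
  have hw : p₁.hom.app U ≫ (coequalizer.π p₁.hom p₂.hom).app U =
      p₂.hom.app U ≫ (coequalizer.π p₁.hom p₂.hom).app U := by
    rw [← NatTrans.comp_app, ← NatTrans.comp_app, coequalizer.condition]
  refine ⟨hw, ?_, ?_⟩
  · rintro x y ⟨h₁, h₂⟩
    have hj := jm_app J E U
    have := hj.right_cancellation (Y := PUnit.{w+1}) (↾fun _ => x) (↾fun _ => y)
      (by ext; exact h₁) (by ext; exact h₂)
    exact ConcreteCategory.congr_hom this PUnit.unit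
  · intro x x' hx
    have hcol : IsColimit (Cofork.ofπ ((coequalizer.π p₁.hom p₂.hom).app U) hw) :=
      isColimitCoforkMapOfIsColimit ((evaluation Cᵒᵖ (Type w)).obj U)
        (coequalizer.condition p₁.hom p₂.hom) (coequalizerIsCoequalizer p₁.hom p₂.hom)
    exact rel_of_isColimit hw hcol (equiv_app J E U) hx


lemma sheaf_kernelPair (E : EquivalenceRelation p₁ p₂) :
    IsPullback p₁ p₂ (coequalizer.π p₁ p₂) (coequalizer.π p₁ p₂) := by
  let a := presheafToSheaf J (Type w)
  let adj := sheafificationAdjunction J (Type w)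
  let q := coequalizer.π p₁.hom p₂.hom
  have h1 : IsPullback (a.map p₁.hom) (a.map p₂.hom) (a.map q) (a.map q) :=
    (psh_kernelPair J E).map a
  let εR := asIso (adj.counit.app R)
  let εX := asIso (adj.counit.app X)
  have n₁ : a.map p₁.hom ≫ εX.hom = εR.hom ≫ p₁ := adj.counit.naturality p₁
  have n₂ : a.map p₂.hom ≫ εX.hom = εR.hom ≫ p₂ := adj.counit.naturality p₂
  let π' : X ⟶ a.obj (coequalizer p₁.hom p₂.hom) := εX.inv ≫ a.map q
  have h2 : IsPullback p₁ p₂ π' π' :=
    IsPullback.of_iso h1 εR εX εX (Iso.refl _) n₁ n₂ (by simp [π']) (by simp [π'])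
  have w' : p₁ ≫ π' = p₂ ≫ π' := h2.w
  let e := coequalizer.desc π' w'
  have he : coequalizer.π p₁ p₂ ≫ e = π' := coequalizer.π_desc _ _
  rw [← he] at h2
  exact isPullback_of_comp e (coequalizer.condition _ _) h2

lemma sheaf_pushout (E : EquivalenceRelation p₁ p₂) :
    IsPushout p₁ p₂ (coequalizer.π p₁ p₂) (coequalizer.π p₁ p₂) :=
  isPushout_of_isColimit_cofork (coequalizer.condition p₁ p₂) (coequalizerIsCoequalizer p₁ p₂)
    E.r E.reflexivity₁ E.reflexivity₂

/-- epimorphisms of sheaves of sets are universally effective epimorphisms -/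
lemma universally_effectiveEpi {X B : Sheaf J (Type w)} (π : X ⟶ B) [Epi π] :
    MorphismProperty.universally (fun _ _ f => EffectiveEpi f) π := by
  intro X' Y' i₁ i₂ f' hsq
  have hπ : Sheaf.IsLocallySurjective π := (Sheaf.isLocallySurjective_iff_epi π).2 inferInstance
  have hf' : Sheaf.IsLocallySurjective f' := by
    constructor
    intro U s
    refine J.superset_covering ?_ (Presheaf.imageSieve_mem J π.hom (i₂.hom.app (op U) s))
    intro V i hi
    obtain ⟨x, hx⟩ := hi
    have hsqV : IsPullback (f'.hom.app (op V)) (i₁.hom.app (op V)) (i₂.hom.app (op V))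
        (π.hom.app (op V)) := hsq.map (ev J (op V))
    have hx' : i₂.hom.app (op V) (Y'.obj.map i.op s) = π.hom.app (op V) x := by
      rw [hx]
      exact ConcreteCategory.congr_hom (i₂.hom.naturality i.op) s
    obtain ⟨x', hx'1, hx'2⟩ := Types.exists_of_isPullback hsqV _ _ hx'
    exact ⟨x', hx'1⟩
  have : Epi f' := (Sheaf.isLocallySurjective_iff_epi f').1 hf'
  have := IsRegularEpiCategory.regularEpiOfEpi f'
  exact (isRegularEpi_iff_effectiveEpi f').1 this

theorem sheaf_isUniversallyEffective (p₁ p₂ : R ⟶ X) [IsEquivalenceRelation p₁ p₂] :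
    IsUniversallyEffectiveEquivalenceRelation p₁ p₂ := by
  obtain ⟨E⟩ := IsEquivalenceRelation.nonempty_equivalenceRelation (p₁ := p₁) (p₂ := p₂)
  exact ⟨⟨{ toEquivalenceRelation := E
            B := coequalizer p₁ p₂
            π := coequalizer.π p₁ p₂
            isKernelPair := sheaf_kernelPair J E
            isPushout := sheaf_pushout J E
            universally_effectiveEpi_π := universally_effectiveEpi J _ }⟩⟩

end sheaf

end Groth.Agent.H1.ShEq
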