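import Mathlib
open CategoryTheory CategoryTheory.Limits Opposite
universe w v u

namespace Groth.Agent.H1.ShEq

section vk

theorem types_cofan_isVanKampen' {ι : Type u} {X : ι → Type u} (c : Cofan X) (hc : IsColimit c) :
    IsVanKampenColimit c := by
  intro F' c' α f e hα
  obtain ⟨X', rfl⟩ : ∃ X' : ι → Type u, F' = Discrete.functor X' :=
    ⟨F'.obj ∘ Discrete.mk, Functor.hext (fun i ↦ rfl)
      (by rintro ⟨i⟩ ⟨j⟩ ⟨⟨rfl : i = j⟩⟩; simp)⟩
  have e' : ∀ i (z : X' i), f (Cofan.inj c' i z) = Cofan.inj c i (α.app ⟨i⟩ z) := fun i z =>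
    (ConcreteCategory.congr_hom (NatTrans.congr_app e ⟨i⟩) z).symm
  constructor
  · rintro ⟨hc'⟩ ⟨j⟩
    rw [Types.isPullback_iff]
    refine ⟨(NatTrans.congr_app e ⟨j⟩).symm, ?_, ?_⟩
    · rintro z z' ⟨h1, h2⟩
      exact Cofan.inj_injective_of_isColimit hc' j h1
    · intro y x hyx
      obtain ⟨k, z, rfl⟩ := Cofan.inj_jointly_surjective_of_isColimit hc' y
      have hyx' : Cofan.inj c k (α.app ⟨k⟩ z) = Cofan.inj c j x := (e' k z).symm.trans hyx
      obtain rfl := Cofan.eq_of_inj_apply_eq_of_isColimit hc _ _ hyx'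
      exact ⟨z, rfl, Cofan.inj_injective_of_isColimit hc _ hyx'⟩
  · intro H
    rw [Cofan.nonempty_isColimit_iff_bijective_fromSigma]
    constructor
    · rintro ⟨i, z⟩ ⟨j, z'⟩ h
      have h' : Cofan.inj c' i z = Cofan.inj c' j z' := h
      have h2 : Cofan.inj c i (α.app ⟨i⟩ z) = Cofan.inj c j (α.app ⟨j⟩ z') := by
        rw [← e', ← e', h']
      obtain rfl := Cofan.eq_of_inj_apply_eq_of_isColimit hc _ _ h2
      have hz := Cofan.inj_injective_of_isColimit hc _ h2
      have := Types.ext_of_isPullback (H ⟨i⟩) h' hz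
      subst this; rfl
    · intro y
      obtain ⟨i, x, hx⟩ := Cofan.inj_jointly_surjective_of_isColimit hc (f y)
      obtain ⟨z, hz1, hz2⟩ := Types.exists_of_isPullback (H ⟨i⟩) y x hx.symm
      exact ⟨⟨i, z⟩, hz1⟩

theorem types_cofan_isVanKampen {ι : Type u} {F : Discrete ι ⥤ Type u} (c : Cocone F)
    (hc : IsColimit c) : IsVanKampenColimit c := by
  obtain ⟨X, rfl⟩ : ∃ X : ι → Type u, F = Discrete.functor X :=
    ⟨F.obj ∘ Discrete.mk, Functor.hext (fun i ↦ rfl)
      (by rintro ⟨i⟩ ⟨j⟩ ⟨⟨rfl : i = j⟩⟩; simp)⟩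
  exact types_cofan_isVanKampen' c hc

theorem psh_cofan_isVanKampen {C : Type u} [SmallCategory C] {ι : Type u}
    {F : Discrete ι ⥤ (Cᵒᵖ ⥤ Type u)} (c : Cocone F)
    (hc : IsColimit c) : IsVanKampenColimit c :=
  isVanKampenColimit_of_evaluation _ c fun _ =>
    types_cofan_isVanKampen _ (isColimitOfPreserves _ hc)


theorem sheaf_cofan_isVanKampen {C : Type u} [SmallCategory C] (J : GrothendieckTopology C)
    {ι : Type u} (X : ι → Sheaf J (Type u)) :
    ∃ c : Cofan X, IsVanKampenColimit c := by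
  let Gl := presheafToSheaf J (Type u)
  let Gr := sheafToPresheaf J (Type u)
  let adj := sheafificationAdjunction J (Type u)
  let F : Discrete ι ⥤ Sheaf J (Type u) := Discrete.functor X
  let c₀ := colimit.cocone (F ⋙ Gr)
  have h₀ : IsVanKampenColimit c₀ := psh_cofan_isVanKampen c₀ (colimit.isColimit _)
  haveI : PreservesLimitsOfShape WalkingCospan Gl := inferInstance
  have h₁ : IsVanKampenColimit (Gl.mapCocone c₀) := h₀.map_reflective adj
  let iso : (F ⋙ Gr) ⋙ Gl ≅ F :=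
    Functor.associator _ _ _ ≪≫ Functor.isoWhiskerLeft F (asIso adj.counit) ≪≫
      Functor.rightUnitor _
  refine ⟨(Cocone.precompose iso.inv).obj (Gl.mapCocone c₀), ?_⟩
  exact h₁.precompose_isIso iso.inv


theorem sheaf_disjointUniversalCoproducts {C : Type u} [SmallCategory C]
    (J : GrothendieckTopology C) (ι : Type u) (X : ι → Sheaf J (Type u)) :
    ∃ (c : Cofan X) (_ : IsColimit c), CoproductDisjoint X ∧ IsUniversalColimit c := by
  obtain ⟨c, hvk⟩ := sheaf_cofan_isVanKampen J X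
  haveI : HasInitial (Sheaf J (Type u)) :=
    @CategoryTheory.Sheaf.instHasColimitsOfShape _ _ J _ _ _ _ inferInstance inferInstance
  have hc : IsColimit c := hvk.isColimit
  refine ⟨c, hc, ?_, hvk.isUniversal⟩
  haveI : ∀ i, Mono (c.inj i) := fun i => mono_of_cofan_isVanKampen hvk ⟨i⟩
  refine CoproductDisjoint.of_cofan hc
    (fun {i j} _ => PullbackCone.mk (initial.to _) (initial.to _)
      (initialIsInitial.hom_ext _ _))
    (fun {i j} hij => ?_) (fun {i j} _ => initialIsInitial)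
  exact (isPullback_initial_to_of_cofan_isVanKampen hvk ⟨i⟩ ⟨j⟩
    (fun h => hij (congrArg Discrete.as h))).isLimit

end vk

section eqrel

variable {E : Type*} [Category E] [HasPullbacks E]

theorem equivalenceRelation_of_points {R A : E} (p₁ p₂ : R ⟶ A)
    (h : ∀ T : E, Function.Injective (fun f : T ⟶ R => (f ≫ p₁, f ≫ p₂)) ∧
      Equivalence (fun a b : T ⟶ A => ∃ f : T ⟶ R, f ≫ p₁ = a ∧ f ≫ p₂ = b)) :
    IsEquivalenceRelation p₁ p₂ := by
  obtain ⟨r, hr₁, hr₂⟩ := (h A).2.refl (𝟙 A)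
  obtain ⟨s, hs₁, hs₂⟩ := (h R).2.symm (x := p₁) (y := p₂) ⟨𝟙 R, Category.id_comp _, Category.id_comp _⟩
  obtain ⟨t, ht₁, ht₂⟩ := (h (pullback p₂ p₁)).2.trans
    (x := pullback.fst p₂ p₁ ≫ p₁) (y := pullback.fst p₂ p₁ ≫ p₂) (z := pullback.snd p₂ p₁ ≫ p₂)
    ⟨pullback.fst p₂ p₁, rfl, rfl⟩ ⟨pullback.snd p₂ p₁, pullback.condition.symm, rfl⟩
  exact ⟨⟨{ right_cancellation := fun Y f g h₁ h₂ => (h Y).1 (Prod.ext h₁ h₂)
            r := r
            reflexivity₁ := hr₁
            reflexivity₂ := hr₂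
            s := s
            symmetry₁ := hs₁
            symmetry₂ := hs₂
            c := pullback.cone p₂ p₁
            isLimit := pullback.isLimit p₂ p₁
            t := t
            transitivity₁ := ht₁
            transitivity₂ := ht₂ }⟩⟩

end eqrel

end Groth.Agent.H1.ShEq
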