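import Mathlib
import Groth.Agent.Lib.helper1.SheafEqRel
import Groth.Agent.Lib.helper1.SheafGiraud

set_option autoImplicit false

/-! Quotient of a group object by a subgroup object: the induced action (helper1). -/

universe w v u v₁ u₁

open CategoryTheory CategoryTheory.Limits MonoidalCategory MonObj CartesianMonoidalCategory
  SemiCartesianMonoidalCategory

namespace Groth.Agent.H1.GrpQuot

section abstract

variable {E : Type u} [Category.{v} E] [CartesianMonoidalCategory E]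

lemma isPullback_whiskerLeft (X : E) {A B : E} (f : A ⟶ B) :
    IsPullback (X ◁ f) (snd X A) (snd X B) f := by
  refine IsPullback.of_isLimit (PullbackCone.IsLimit.mk (by simp)
    (fun s => lift (s.fst ≫ fst X B) s.snd) ?_ ?_ ?_)
  · intro s
    apply CartesianMonoidalCategory.hom_ext
    · simp
    · simp [s.condition]
  · intro s
    simp
  · intro s m h1 h2
    apply CartesianMonoidalCategory.hom_ext
    · rw [lift_fst, ← h1]
      simp
    · rw [lift_snd, ← h2]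

lemma comp_mulmap {H G : E} [MonObj G] (u : H ⟶ G) {T : E} (k : T ⟶ G ⊗ H) :
    k ≫ (G ◁ u) ≫ μ = (k ≫ fst G H) * (k ≫ snd G H ≫ u) := by
  rw [MonObj.mul_eq_mul, MonObj.comp_mul, MonObj.comp_mul]
  simp

variable {H G : E} [GrpObj H] [GrpObj G] (u : H ⟶ G) [IsMonHom u]

lemma comp_mul' {T : E} (k : T ⟶ G ⊗ G) : k ≫ μ = (k ≫ fst G G) * (k ≫ snd G G) := by
  rw [MonObj.mul_eq_mul, MonObj.comp_mul]

lemma rel_iff {T : E} (a b : T ⟶ G) :
    (∃ k : T ⟶ G ⊗ H, k ≫ fst G H = a ∧ k ≫ (G ◁ u) ≫ μ = b) ↔ ∃ h : T ⟶ H, b = a * (h ≫ u) := by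
  constructor
  · rintro ⟨k, rfl, rfl⟩
    exact ⟨k ≫ snd G H, by rw [comp_mulmap, Category.assoc]⟩
  · rintro ⟨h, rfl⟩
    refine ⟨lift a h, lift_fst _ _, ?_⟩
    rw [comp_mulmap, lift_fst, lift_snd_assoc]


lemma hom_ext_tensor {T : E} (k k' : T ⟶ G ⊗ H) (h1 : k ≫ fst G H = k' ≫ fst G H)
    (h2 : k ≫ snd G H = k' ≫ snd G H) : k = k' :=
  CartesianMonoidalCategory.hom_ext _ _ h1 h2

theorem isEquivalenceRelation [HasPullbacks E] [Mono u] :
    IsEquivalenceRelation (fst G H) ((G ◁ u) ≫ μ) := by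
  apply Groth.Agent.H1.ShEq.equivalenceRelation_of_points
  intro T
  constructor
  · intro k k' hk
    have h1 : k ≫ fst G H = k' ≫ fst G H := congrArg Prod.fst hk
    have h2 : k ≫ (G ◁ u) ≫ μ = k' ≫ (G ◁ u) ≫ μ := congrArg Prod.snd hk
    rw [comp_mulmap, comp_mulmap, h1] at h2
    have h3 := mul_left_cancel h2
    rw [← Category.assoc, ← Category.assoc] at h3
    exact hom_ext_tensor k k' h1 ((cancel_mono u).1 h3)
  · have key : ∀ a b : T ⟶ G, (∃ f : T ⟶ G ⊗ H, f ≫ fst G H = a ∧ f ≫ (G ◁ u) ≫ μ = b) ↔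
        ∃ h : T ⟶ H, b = a * (h ≫ u) := fun a b => rel_iff u a b
    refine ⟨fun a => ?_, fun {a b} hab => ?_, fun {a b c} hab hbc => ?_⟩
    · rw [key]
      exact ⟨1, by rw [MonObj.one_comp, _root_.mul_one]⟩
    · rw [key] at hab ⊢
      obtain ⟨h, rfl⟩ := hab
      refine ⟨h⁻¹, ?_⟩
      rw [GrpObj.inv_comp, _root_.mul_assoc, mul_inv_cancel, _root_.mul_one]
    · rw [key] at hab hbc ⊢
      obtain ⟨h, rfl⟩ := hab
      obtain ⟨h', rfl⟩ := hbc
      exact ⟨h * h', by rw [MonObj.mul_comp, _root_.mul_assoc]⟩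

theorem existsUnique_act {Q : E} (π : G ⟶ Q)
    (hcond : fst G H ≫ π = ((G ◁ u) ≫ μ) ≫ π)
    (hkp : IsPullback (fst G H) ((G ◁ u) ≫ μ) π π)
    (heff : ∀ X : E, EffectiveEpi (X ◁ π)) :
    ∃! act : G ⊗ Q ⟶ Q, (η ▷ Q) ≫ act = (λ_ Q).hom ∧
      (μ ▷ Q) ≫ act = (α_ G G Q).hom ≫ (G ◁ act) ≫ act ∧ μ ≫ π = (G ◁ π) ≫ act := by
  haveI := heff G
  haveI := heff (𝟙_ E)
  haveI := heff (G ⊗ G)
  have hdesc : ∀ {Z : E} (a b : Z ⟶ G ⊗ G), a ≫ (G ◁ π) = b ≫ (G ◁ π) → a ≫ μ ≫ π = b ≫ μ ≫ π := by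
    intro Z a b hab
    have h1 : a ≫ fst G G = b ≫ fst G G := by
      have := congrArg (fun m => m ≫ fst G Q) hab
      simpa using this
    have h2 : (a ≫ snd G G) ≫ π = (b ≫ snd G G) ≫ π := by
      have := congrArg (fun m => m ≫ snd G Q) hab
      simpa using this
    obtain ⟨k, hk1, hk2⟩ := hkp.exists_lift (a ≫ snd G G) (b ≫ snd G G) h2
    obtain ⟨h, hh⟩ := (rel_iff u (a ≫ snd G G) (b ≫ snd G G)).1 ⟨k, hk1, by rw [← hk2]⟩
    rw [← Category.assoc, ← Category.assoc, comp_mul', comp_mul', ← h1, hh, ← _root_.mul_assoc]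
    have h3 := comp_mulmap u (lift ((a ≫ fst G G) * (a ≫ snd G G)) h)
    rw [lift_fst, lift_snd_assoc] at h3
    rw [← h3, Category.assoc, Category.assoc, ← Category.assoc (G ◁ u), ← hcond, lift_fst_assoc]
  let act : G ⊗ Q ⟶ Q := EffectiveEpi.desc (G ◁ π) (μ ≫ π) (fun a b hab => hdesc a b hab)
  have hact : (G ◁ π) ≫ act = μ ≫ π := EffectiveEpi.fac _ _ _
  refine ⟨act, ⟨?_, ?_, hact.symm⟩, ?_⟩
  · rw [← cancel_epi (𝟙_ E ◁ π), whisker_exchange_assoc, hact, ← Category.assoc,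
      MonObj.one_mul, leftUnitor_naturality]
  · rw [← cancel_epi ((G ⊗ G) ◁ π), whisker_exchange_assoc, hact,
      associator_naturality_right_assoc, ← whiskerLeft_comp_assoc, hact, whiskerLeft_comp_assoc,
      hact, ← Category.assoc (μ ▷ G), MonObj.mul_assoc]
    simp
  · rintro act' ⟨-, -, h3⟩
    rw [← cancel_epi (G ◁ π), hact, ← h3]


lemma pi_mul_right {Q : E} (π : G ⟶ Q) (hcond : fst G H ≫ π = ((G ◁ u) ≫ μ) ≫ π) {T : E}
    (x : T ⟶ G) (h : T ⟶ H) : (x * (h ≫ u)) ≫ π = x ≫ π := by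
  have h3 := comp_mulmap u (lift x h)
  rw [lift_fst, lift_snd_assoc] at h3
  rw [← h3, Category.assoc, Category.assoc, ← Category.assoc (G ◁ u), ← hcond, lift_fst_assoc]

lemma exists_of_pi_eq {Q : E} (π : G ⟶ Q) (hkp : IsPullback (fst G H) ((G ◁ u) ≫ μ) π π) {T : E}
    (a b : T ⟶ G) (h : a ≫ π = b ≫ π) : ∃ h : T ⟶ H, b = a * (h ≫ u) := by
  obtain ⟨k, hk1, hk2⟩ := hkp.exists_lift a b h
  exact (rel_iff u a b).1 ⟨k, hk1, by rw [← hk2]⟩

theorem existsUnique_grp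
    (hn : ∀ (Y : E) (g : Y ⟶ G) (h : Y ⟶ H), ∃ h' : Y ⟶ H, g * (h ≫ u) * g⁻¹ = h' ≫ u)
    {Q : E} (π : G ⟶ Q) [Epi π]
    (hcond : fst G H ≫ π = ((G ◁ u) ≫ μ) ≫ π)
    (hkp : IsPullback (fst G H) ((G ◁ u) ≫ μ) π π)
    (hW1 : ∀ (X : E) {A B : E} (f : A ⟶ B), Epi f → Epi (X ◁ f))
    (hW2 : ∀ (X : E) {A B : E} (f : A ⟶ B), Epi f → Epi (f ▷ X))
    (hEE : ∀ {A B : E} (f : A ⟶ B), Epi f → EffectiveEpi f) :
    ∃! str : GrpObj Q, @IsMonHom E _ _ G Q _ str.toMonObj π := by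
  have hten : ∀ {A B A' B' : E} (f : A ⟶ B) (g : A' ⟶ B'), Epi f → Epi g → Epi (f ⊗ₘ g) := by
    intro A B A' B' f g hf hg
    rw [MonoidalCategory.tensorHom_def]
    haveI := hW2 A' f hf
    haveI := hW1 B g hg
    exact epi_comp _ _
  haveI hππ : Epi (π ⊗ₘ π) := hten π π inferInstance inferInstance
  haveI := hEE (π ⊗ₘ π) hππ
  haveI := hEE π inferInstance
  have hdesc_m : ∀ {Z : E} (a b : Z ⟶ G ⊗ G), a ≫ (π ⊗ₘ π) = b ≫ (π ⊗ₘ π) →
      a ≫ μ ≫ π = b ≫ μ ≫ π := by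
    intro Z a b hab
    have h1 : (a ≫ fst G G) ≫ π = (b ≫ fst G G) ≫ π := by
      have := congrArg (fun m => m ≫ fst Q Q) hab
      simpa using this
    have h2 : (a ≫ snd G G) ≫ π = (b ≫ snd G G) ≫ π := by
      have := congrArg (fun m => m ≫ snd Q Q) hab
      simpa using this
    obtain ⟨k₁, hk₁⟩ := exists_of_pi_eq u π hkp _ _ h1
    obtain ⟨k₂, hk₂⟩ := exists_of_pi_eq u π hkp _ _ h2
    obtain ⟨k', hk'⟩ := hn Z (a ≫ snd G G)⁻¹ k₁
    rw [inv_inv] at hk'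
    have e : (k₁ ≫ u) * (a ≫ snd G G) = (a ≫ snd G G) * (k' ≫ u) := by
      rw [← hk']; group
    rw [← Category.assoc, ← Category.assoc, comp_mul', comp_mul', hk₁, hk₂]
    have e2 : (a ≫ fst G G) * (k₁ ≫ u) * ((a ≫ snd G G) * (k₂ ≫ u)) =
        ((a ≫ fst G G) * (a ≫ snd G G)) * ((k' * k₂) ≫ u) := by
      rw [MonObj.mul_comp]
      calc (a ≫ fst G G) * (k₁ ≫ u) * ((a ≫ snd G G) * (k₂ ≫ u))
          = (a ≫ fst G G) * ((k₁ ≫ u) * (a ≫ snd G G)) * (k₂ ≫ u) := by group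
        _ = (a ≫ fst G G) * ((a ≫ snd G G) * (k' ≫ u)) * (k₂ ≫ u) := by rw [e]
        _ = _ := by group
    rw [e2, pi_mul_right u π hcond]
  have hdesc_i : ∀ {Z : E} (a b : Z ⟶ G), a ≫ π = b ≫ π → a ≫ ι ≫ π = b ≫ ι ≫ π := by
    intro Z a b hab
    obtain ⟨k, hk⟩ := exists_of_pi_eq u π hkp _ _ hab
    obtain ⟨k', hk'⟩ := hn Z a k⁻¹
    rw [GrpObj.inv_comp] at hk'
    rw [← Category.assoc, ← Category.assoc, ← Hom.inv_def, ← Hom.inv_def, hk]
    have e : (a * (k ≫ u))⁻¹ = a⁻¹ * (k' ≫ u) := by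
      rw [← hk']; group
    rw [e, pi_mul_right u π hcond]
  let m : Q ⊗ Q ⟶ Q := EffectiveEpi.desc (π ⊗ₘ π) (μ ≫ π) (fun a b hab => hdesc_m a b hab)
  have hm0 : (π ⊗ₘ π) ≫ m = μ ≫ π := EffectiveEpi.fac _ _ _
  let i : Q ⟶ Q := EffectiveEpi.desc π (ι ≫ π) (fun a b hab => hdesc_i a b hab)
  have hi0 : π ≫ i = ι ≫ π := EffectiveEpi.fac _ _ _
  have hm : ∀ {T : E} (a b : T ⟶ G), lift (a ≫ π) (b ≫ π) ≫ m = (a * b) ≫ π := by
    intro T a b
    rw [← lift_map, Category.assoc, hm0, Hom.mul_def, Category.assoc]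
  have hi : ∀ {T : E} (a : T ⟶ G), (a ≫ π) ≫ i = a⁻¹ ≫ π := by
    intro T a
    rw [Category.assoc, hi0, Hom.inv_def, Category.assoc]
  have hfstη : ∀ (T : E) (t : T ⟶ 𝟙_ E), t ≫ η[G] = 1 := by
    intro T t
    rw [Hom.one_def]; congr 1; exact toUnit_unique _ _
  have tensor_lift : ∀ {A B A' B' : E} (f : A ⟶ B) (g : A' ⟶ B'),
      f ⊗ₘ g = lift (fst A A' ≫ f) (snd A A' ≫ g) := by
    intro A B A' B' f g
    apply CartesianMonoidalCategory.hom_ext <;> simp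
  let str : GrpObj Q :=
    { one := η ≫ π
      mul := m
      one_mul := by
        haveI := hW1 (𝟙_ E) π inferInstance
        rw [← cancel_epi (𝟙_ E ◁ π)]
        have hP : (𝟙_ E ◁ π) ≫ ((η ≫ π) ▷ Q) =
            lift ((toUnit _ ≫ η) ≫ π) ((λ_ G).hom ≫ π) := by
          apply CartesianMonoidalCategory.hom_ext <;> simp
        rw [← Category.assoc, hP, hm, leftUnitor_naturality, hfstη, _root_.one_mul]
      mul_one := by
        haveI := hW2 (𝟙_ E) π inferInstance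
        rw [← cancel_epi (π ▷ 𝟙_ E)]
        have hP : (π ▷ 𝟙_ E) ≫ (Q ◁ (η ≫ π)) =
            lift ((ρ_ G).hom ≫ π) ((toUnit _ ≫ η) ≫ π) := by
          apply CartesianMonoidalCategory.hom_ext <;> simp
        rw [← Category.assoc, hP, hm, rightUnitor_naturality, hfstη, _root_.mul_one]
      mul_assoc := by
        haveI : Epi ((π ⊗ₘ π) ⊗ₘ π) := hten _ _ hππ inferInstance
        rw [← cancel_epi ((π ⊗ₘ π) ⊗ₘ π)]
        have hP : (π ⊗ₘ π) ⊗ₘ π = lift (lift ((fst (G ⊗ G) G ≫ fst G G) ≫ π)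
            ((fst (G ⊗ G) G ≫ snd G G) ≫ π)) (snd (G ⊗ G) G ≫ π) := by
          rw [tensor_lift, tensor_lift]
          apply CartesianMonoidalCategory.hom_ext
          · apply CartesianMonoidalCategory.hom_ext <;> simp
          · simp
        rw [hP, lift_whiskerRight_assoc, hm, hm, lift_lift_associator_hom_assoc,
          lift_whiskerLeft_assoc, hm, hm, _root_.mul_assoc]
      inv := i
      left_inv := by
        rw [← cancel_epi π, comp_lift_assoc]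
        have e1 : π ≫ i = (𝟙 G)⁻¹ ≫ π := by
          have := hi (𝟙 G)
          rwa [Category.id_comp] at this
        have e2 : π ≫ 𝟙 Q = (𝟙 G) ≫ π := by simp
        rw [e1, e2, hm, inv_mul_cancel, ← Category.assoc, toUnit_unique (π ≫ toUnit Q) (toUnit G),
          ← Category.assoc, ← Hom.one_def]
      right_inv := by
        rw [← cancel_epi π, comp_lift_assoc]
        have e1 : π ≫ i = (𝟙 G)⁻¹ ≫ π := by
          have := hi (𝟙 G)
          rwa [Category.id_comp] at this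
        have e2 : π ≫ 𝟙 Q = (𝟙 G) ≫ π := by simp
        rw [e1, e2, hm, mul_inv_cancel, ← Category.assoc, toUnit_unique (π ≫ toUnit Q) (toUnit G),
          ← Category.assoc, ← Hom.one_def] }
  refine ⟨str, ⟨rfl, hm0.symm⟩, ?_⟩
  intro str' hstr'
  apply GrpObj.ext
  apply MonObj.ext
  rw [← cancel_epi (π ⊗ₘ π)]
  have h1 := @IsMonHom.mul_hom E _ _ G Q _ str'.toMonObj π hstr'
  rw [← h1]
  exact hm0.symm

end abstract


section third

variable {E : Type u} [Category.{v} E] [CartesianMonoidalCategory E]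

lemma third_core {H K G : E} [GrpObj H] [GrpObj K] [GrpObj G]
    (h : H ⟶ K) (k : K ⟶ G) [Mono k] [IsMonHom h] [IsMonHom k]
    (hn : ∀ (Y : E) (x : Y ⟶ K) (y : Y ⟶ H), ∃ y' : Y ⟶ H, x * (y ≫ h) * x⁻¹ = y' ≫ h)
    {QGH QKH : E} (πGH : G ⟶ QGH) (πKH : K ⟶ QKH)
    (kpGH : IsPullback (fst G H) ((G ◁ (h ≫ k)) ≫ μ) πGH πGH)
    (cKH : fst K H ≫ πKH = ((K ◁ h) ≫ μ) ≫ πKH)
    {T : E} (x x' : T ⟶ G) (κ κ' : T ⟶ K) (h1 : x ≫ πGH = x' ≫ πGH)
    (h2 : (x * (κ ≫ k)) ≫ πGH = (x' * (κ' ≫ k)) ≫ πGH) : κ' ≫ πKH = κ ≫ πKH := by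
  obtain ⟨η₁, hη₁⟩ := exists_of_pi_eq (h ≫ k) πGH kpGH _ _ h1
  obtain ⟨η₂, hη₂⟩ := exists_of_pi_eq (h ≫ k) πGH kpGH _ _ h2
  have e3 : ((η₁ ≫ h) * κ') ≫ k = (κ * (η₂ ≫ h)) ≫ k := by
    rw [MonObj.mul_comp, MonObj.mul_comp, Category.assoc, Category.assoc]
    have : x * ((η₁ ≫ h ≫ k) * (κ' ≫ k)) = x * ((κ ≫ k) * (η₂ ≫ h ≫ k)) := by
      rw [← _root_.mul_assoc, ← hη₁, hη₂, _root_.mul_assoc]
    exact mul_left_cancel this
  have e4 : (η₁ ≫ h) * κ' = κ * (η₂ ≫ h) := (cancel_mono k).1 e3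
  obtain ⟨y', hy'⟩ := hn _ κ⁻¹ η₁⁻¹
  rw [inv_inv, GrpObj.inv_comp] at hy'
  have e5 : κ' = κ * ((y' * η₂) ≫ h) := by
    rw [MonObj.mul_comp, ← hy']
    have : κ' = (η₁ ≫ h)⁻¹ * (κ * (η₂ ≫ h)) := by rw [← e4]; group
    rw [this]; group
  rw [e5, pi_mul_right h πKH cKH]

theorem third_iso [HasPullbacks E] {H K G : E} [GrpObj H] [GrpObj K] [GrpObj G]
    (h : H ⟶ K) (k : K ⟶ G) [Mono k] [IsMonHom h] [IsMonHom k]
    (hn : ∀ (Y : E) (x : Y ⟶ K) (y : Y ⟶ H), ∃ y' : Y ⟶ H, x * (y ≫ h) * x⁻¹ = y' ≫ h)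
    {QGH QKH QGK : E} (πGH : G ⟶ QGH) (πKH : K ⟶ QKH) (πGK : G ⟶ QGK)
    [Epi πGH] [Epi πKH]
    (cGH : fst G H ≫ πGH = ((G ◁ (h ≫ k)) ≫ μ) ≫ πGH)
    (kpGH : IsPullback (fst G H) ((G ◁ (h ≫ k)) ≫ μ) πGH πGH)
    (cKH : fst K H ≫ πKH = ((K ◁ h) ≫ μ) ≫ πKH)
    (cGK : fst G K ≫ πGK = ((G ◁ k) ≫ μ) ≫ πGK) (colGK : IsColimit (Cofork.ofπ πGK cGK))
    (act : QGH ⊗ QKH ⟶ QGH) (hact : (πGH ⊗ₘ πKH) ≫ act = (G ◁ k) ≫ μ ≫ πGH)
    (qbar : QGH ⟶ QGK) (hq : πGH ≫ qbar = πGK)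
    (hW1 : ∀ (X : E) {A B : E} (f : A ⟶ B), Epi f → Epi (X ◁ f))
    (hW2 : ∀ (X : E) {A B : E} (f : A ⟶ B), Epi f → Epi (f ▷ X))
    (hU : ∀ {A B T : E} (p : A ⟶ B) (t : T ⟶ B), Epi p → Epi (pullback.snd p t)) :
    Mono (lift act (fst QGH QKH)) ∧
      ∃ wq : fst QGH QKH ≫ qbar = act ≫ qbar, Nonempty (IsColimit (Cofork.ofπ qbar wq)) := by
  haveI hp : Epi (πGH ⊗ₘ πKH) := by
    rw [MonoidalCategory.tensorHom_def]
    haveI := hW2 K πGH inferInstance
    haveI := hW1 QGH πKH inferInstance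
    exact epi_comp _ _
  haveI : Epi πGK := epi_of_isColimit_cofork colGK
  have hpfst : (πGH ⊗ₘ πKH) ≫ fst QGH QKH = fst G K ≫ πGH := by simp
  have hpact : ∀ {T : E} (a : T ⟶ G ⊗ K),
      a ≫ (πGH ⊗ₘ πKH) ≫ act = ((a ≫ fst G K) * (a ≫ snd G K ≫ k)) ≫ πGH := by
    intro T a
    rw [hact, ← comp_mulmap k a, Category.assoc, Category.assoc]
  constructor
  · refine ⟨fun {T} a b hab => ?_⟩
    let p := πGH ⊗ₘ πKH
    let e₁ := pullback.snd p a
    let a₁ := pullback.fst p a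
    have ha₁ : a₁ ≫ p = e₁ ≫ a := pullback.condition
    let e₂ := pullback.snd p (e₁ ≫ b)
    let b₂ := pullback.fst p (e₁ ≫ b)
    have hb₂ : b₂ ≫ p = e₂ ≫ e₁ ≫ b := pullback.condition
    haveI : Epi e₁ := hU p a hp
    haveI : Epi e₂ := hU p (e₁ ≫ b) hp
    let a₂ := e₂ ≫ a₁
    have ha₂ : a₂ ≫ p = e₂ ≫ e₁ ≫ a := by rw [Category.assoc, ha₁]
    rw [← cancel_epi e₁, ← cancel_epi e₂, ← ha₂, ← hb₂]
    have hab' : a₂ ≫ p ≫ lift act (fst QGH QKH) = b₂ ≫ p ≫ lift act (fst QGH QKH) := by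
      rw [← Category.assoc, ha₂, ← Category.assoc b₂, hb₂, Category.assoc, Category.assoc,
        Category.assoc, Category.assoc, hab]
    have h1 : (a₂ ≫ fst G K) ≫ πGH = (b₂ ≫ fst G K) ≫ πGH := by
      have := congrArg (fun m => m ≫ snd QGH QGH) hab'
      simp only [Category.assoc, lift_snd] at this
      have hp' : p ≫ fst QGH QKH = fst G K ≫ πGH := hpfst
      rw [hp'] at this
      simpa [Category.assoc] using this
    have h2 : ((a₂ ≫ fst G K) * ((a₂ ≫ snd G K) ≫ k)) ≫ πGH =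
        ((b₂ ≫ fst G K) * ((b₂ ≫ snd G K) ≫ k)) ≫ πGH := by
      have := congrArg (fun m => m ≫ fst QGH QGH) hab'
      simp only [Category.assoc, lift_fst] at this
      have h2' := (hpact a₂).symm.trans (this.trans (hpact b₂))
      simpa only [Category.assoc] using h2'
    have e6 := third_core h k hn πGH πKH kpGH cKH _ _ _ _ h1 h2
    have hpa : ∀ {T : E} (c : T ⟶ G ⊗ K), c ≫ p = lift ((c ≫ fst G K) ≫ πGH) ((c ≫ snd G K) ≫ πKH) := by
      intro T c
      apply CartesianMonoidalCategory.hom_ext <;> simp [p]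
    rw [hpa a₂, hpa b₂, h1, e6]
  · have wq : fst QGH QKH ≫ qbar = act ≫ qbar := by
      rw [← cancel_epi (πGH ⊗ₘ πKH), ← Category.assoc, hpfst, Category.assoc, hq,
        ← Category.assoc, hact, Category.assoc, Category.assoc, hq, cGK, Category.assoc]
    refine ⟨wq, ⟨Cofork.IsColimit.mk _ (fun s => colGK.desc (Cofork.ofπ (πGH ≫ s.π) ?_)) ?_ ?_⟩⟩
    · have := s.condition
      rw [← Category.assoc, ← hpfst, Category.assoc, Category.assoc, this, ← Category.assoc,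
        ← Category.assoc, hact]
      simp
    · intro s
      rw [← cancel_epi πGH]
      have := colGK.fac (Cofork.ofπ (πGH ≫ s.π) (by
        have := s.condition
        rw [← Category.assoc, ← hpfst, Category.assoc, Category.assoc, this, ← Category.assoc,
          ← Category.assoc, hact]
        simp)) WalkingParallelPair.one
      simp only [Cofork.ofπ_pt, Cofork.π_ofπ] at this ⊢
      rw [← Category.assoc, hq]
      exact this
    · intro s m hm
      haveI : Epi qbar := by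
        haveI : Epi (πGH ≫ qbar) := by rw [hq]; infer_instance
        exact epi_of_epi πGH qbar
      rw [← cancel_epi qbar, ← cancel_epi πGH]
      have := colGK.fac (Cofork.ofπ (πGH ≫ s.π) (by
        have := s.condition
        rw [← Category.assoc, ← hpfst, Category.assoc, Category.assoc, this, ← Category.assoc,
          ← Category.assoc, hact]
        simp)) WalkingParallelPair.one
      simp only [Cofork.ofπ_pt, Cofork.π_ofπ] at this hm ⊢
      rw [hm, ← Category.assoc πGH, hq]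
      exact this.symm

end third

section second

variable {E : Type u} [Category.{v} E] [CartesianMonoidalCategory E]

theorem second_kernelPair [HasPullbacks E] {H L G : E} [GrpObj H] [GrpObj L] [GrpObj G]
    (u : H ⟶ G) (l : L ⟶ G) [Mono u] [Mono l] [IsMonHom u] [IsMonHom l]
    {Q : E} (π : G ⟶ Q)
    (hcond : fst G H ≫ π = ((G ◁ u) ≫ μ) ≫ π)
    (hkp : IsPullback (fst G H) ((G ◁ u) ≫ μ) π π) :
    IsKernelPair (l ≫ π) (fst L (pullback u l)) ((L ◁ pullback.snd u l) ≫ μ) := by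
  have hpt : ∀ {T : E} (c : T ⟶ L ⊗ pullback u l),
      (c ≫ (L ◁ pullback.snd u l) ≫ μ) ≫ l =
        ((c ≫ fst L (pullback u l)) ≫ l) * ((c ≫ snd L (pullback u l) ≫ pullback.fst u l) ≫ u) := by
    intro T c
    rw [comp_mulmap (pullback.snd u l) c, MonObj.mul_comp]
    simp only [Category.assoc, pullback.condition]
  have hex : ∀ (s : PullbackCone (l ≫ π) (l ≫ π)), ∃ θ : s.pt ⟶ H,
      s.snd ≫ l = (s.fst ≫ l) * (θ ≫ u) := by
    intro s
    have h1 : (s.fst ≫ l) ≫ π = (s.snd ≫ l) ≫ π := by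
      simpa [Category.assoc] using s.condition
    exact exists_of_pi_eq u π hkp _ _ h1
  choose ηs hηs using hex
  have hw : ∀ (s : PullbackCone (l ≫ π) (l ≫ π)), ηs s ≫ u = (s.fst⁻¹ * s.snd) ≫ l := by
    intro s
    rw [MonObj.mul_comp, GrpObj.inv_comp, hηs s]; group
  refine IsPullback.of_isLimit' ⟨?_⟩ (PullbackCone.IsLimit.mk _
    (fun s => lift s.fst (pullback.lift (ηs s) (s.fst⁻¹ * s.snd) (hw s))) ?_ ?_ ?_)
  · -- commutativity
    have := hpt (𝟙 (L ⊗ pullback u l))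
    simp only [Category.id_comp] at this
    rw [← Category.assoc, ← Category.assoc ((L ◁ pullback.snd u l) ≫ μ), this,
      pi_mul_right u π hcond, Category.assoc]
  · intro s
    simp
  · intro s
    rw [← cancel_mono l, hpt]
    simp only [lift_fst, lift_snd_assoc, pullback.lift_fst]
    exact (hηs s).symm
  · intro s m hm1 hm2
    apply CartesianMonoidalCategory.hom_ext
    · rw [lift_fst]; exact hm1
    · rw [lift_snd]
      apply pullback.hom_ext
      · rw [pullback.lift_fst, ← cancel_mono u]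
        have e1 := hpt m
        rw [hm2, hm1, hηs s] at e1
        have e2 := mul_left_cancel e1
        simp only [Category.assoc] at e2 ⊢
        exact e2.symm
      · rw [pullback.lift_snd]
        have e1 := comp_mulmap (pullback.snd u l) m
        rw [hm2, hm1] at e1
        rw [e1]
        simp only [Category.assoc]
        group

end second

section sheaf

variable {E : Type u} [Category.{v} E] [CartesianMonoidalCategory E]

lemma isPullback_whiskerRight (X : E) {A B : E} (f : A ⟶ B) :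
    IsPullback (f ▷ X) (fst A X) (fst B X) f := by
  refine IsPullback.of_isLimit (PullbackCone.IsLimit.mk (by simp)
    (fun s => lift s.snd (s.fst ≫ snd B X)) ?_ ?_ ?_)
  · intro s
    apply CartesianMonoidalCategory.hom_ext
    · simp [s.condition]
    · simp
  · intro s
    simp
  · intro s m h1 h2
    apply CartesianMonoidalCategory.hom_ext
    · rw [lift_fst, ← h2]
    · rw [lift_snd, ← h1]
      simp

variable {C : Type u₁} [Category.{v₁} C] (J : GrothendieckTopology C) [HasSheafify J (Type w)]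

theorem sheaf_effectiveEpi_of_epi {A B : Sheaf J (Type w)} (f : A ⟶ B) (hf : Epi f) :
    EffectiveEpi f :=
  Groth.Agent.H1.ShEq.universally_effectiveEpi J f (𝟙 A) (𝟙 B) f (IsPullback.of_vert_isIso ⟨by simp⟩)

theorem sheaf_epi_whiskerLeft
    (X : Sheaf J (Type w)) {A B : Sheaf J (Type w)} (f : A ⟶ B) (hf : Epi f) : Epi (X ◁ f) := by
  haveI : EffectiveEpi (X ◁ f) :=
    Groth.Agent.H1.ShEq.universally_effectiveEpi J f _ _ _ (isPullback_whiskerLeft X f)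
  infer_instance

theorem sheaf_epi_whiskerRight
    (X : Sheaf J (Type w)) {A B : Sheaf J (Type w)} (f : A ⟶ B) (hf : Epi f) : Epi (f ▷ X) := by
  haveI : EffectiveEpi (f ▷ X) :=
    Groth.Agent.H1.ShEq.universally_effectiveEpi J f _ _ _ (isPullback_whiskerRight X f)
  infer_instance

theorem sheaf_epi_pullback_snd {A B T : Sheaf J (Type w)} (p : A ⟶ B) (t : T ⟶ B) (hp : Epi p) :
    Epi (pullback.snd p t) := by
  haveI : EffectiveEpi (pullback.snd p t) :=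
    Groth.Agent.H1.ShEq.universally_effectiveEpi J p (pullback.fst p t) t (pullback.snd p t)
      (IsPullback.of_hasPullback p t).flip
  infer_instance

end sheaf

end Groth.Agent.H1.GrpQuot
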