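import Mathlib

/-!
Infinitely many height one primes below a prime of height at least two in a Noetherian domain.
-/

namespace Groth.Agent.H1

theorem H1_infinite_height_one_le (D : Type*) [CommRing D] [IsDomain D] [IsNoetherianRing D]
    (Q : Ideal D) [Q.IsPrime] (hQ : 2 ≤ Q.height) :
    {p : Ideal D | p.IsPrime ∧ p.height = 1 ∧ p ≤ Q}.Infinite := by
  classical
  intro hfin
  let s : Finset (Ideal D) := insert ⊥ hfin.toFinset
  have hprime : ∀ i ∈ s, i ≠ (⊥ : Ideal D) → i ≠ (⊥ : Ideal D) → i.IsPrime := by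
    intro i hi h _
    rcases Finset.mem_insert.mp hi with rfl | hi
    · exact absurd rfl h
    · exact ((Set.Finite.mem_toFinset hfin).mp hi).1
  have hnot : ¬ ((Q : Set D) ⊆ ⋃ i ∈ (↑s : Set (Ideal D)), (id i : Ideal D)) := by
    rw [Ideal.subset_union_prime (f := id) ⊥ ⊥ hprime]
    rintro ⟨i, hi, hQi⟩
    rcases Finset.mem_insert.mp hi with rfl | hi
    · have : Q = ⊥ := le_bot_iff.mp hQi
      rw [this, Ideal.height_bot] at hQ
      exact absurd hQ (by norm_num)
    · obtain ⟨hip, hi1, hiQ⟩ := (Set.Finite.mem_toFinset hfin).mp hi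
      have : Q = i := le_antisymm hQi hiQ
      rw [this, hi1] at hQ
      exact absurd hQ (by norm_num)
  obtain ⟨y, hyQ, hy⟩ := Set.not_subset.mp hnot
  have hy0 : y ≠ 0 := by
    intro h0
    apply hy
    refine Set.mem_biUnion (x := (⊥ : Ideal D)) (Finset.mem_coe.mpr (Finset.mem_insert_self _ _)) ?_
    simp [h0]
  obtain ⟨p, hpmin, hpQ⟩ := Ideal.exists_minimalPrimes_le
    (show Ideal.span {y} ≤ Q from (Ideal.span_singleton_le_iff_mem _).mpr hyQ)
  haveI : p.IsPrime := hpmin.1.1
  have hyp : y ∈ p := hpmin.1.2 (Ideal.mem_span_singleton_self y)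
  have hp1 : p.height ≤ 1 :=
    Ideal.height_le_one_of_isPrincipal_of_mem_minimalPrimes (Ideal.span {y}) p hpmin
  have hp0 : p.height ≠ 0 := by
    rw [Ne, Ideal.height_eq_zero_iff_eq_bot]
    intro h
    rw [h] at hyp
    exact hy0 (by simpa using hyp)
  have hpe : p.height = 1 := le_antisymm hp1 (Order.one_le_iff_pos.mpr (pos_iff_ne_zero.mpr hp0))
  apply hy
  refine Set.mem_biUnion (x := p) (Finset.mem_coe.mpr (Finset.mem_insert_of_mem
    ((Set.Finite.mem_toFinset hfin).mpr ⟨inferInstance, hpe, hpQ⟩))) hyp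

end Groth.Agent.H1

namespace Groth.Agent.H1

/-- In a Noetherian domain with infinitely many primes, every nonzero element avoids some nonzero
prime. -/
theorem H1_exists_prime_not_mem (D : Type*) [CommRing D] [IsDomain D] [IsNoetherianRing D]
    (hinf : (Set.univ : Set (PrimeSpectrum D)).Infinite) (x : D) (hx : x ≠ 0) :
    ∃ q : Ideal D, q.IsPrime ∧ q ≠ ⊥ ∧ x ∉ q := by
  classical
  by_contra hcon
  push Not at hcon
  have hfinM := Ideal.finite_minimalPrimes_of_isNoetherianRing D (Ideal.span {x})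
  -- height one primes are minimal over `x`
  have h1 : ∀ p : Ideal D, p.IsPrime → p.height = 1 → p ∈ (Ideal.span {x}).minimalPrimes := by
    intro p hp hp1
    haveI := hp
    have hxp : x ∈ p := hcon p hp (Ideal.ne_bot_of_height_eq_one hp1)
    refine Ideal.mem_minimalPrimes_of_height_le ((Ideal.span_singleton_le_iff_mem _).mpr hxp) ?_
    rw [hp1]
    exact Ideal.one_le_height_span_singleton_of_mem_nonZeroDivisors
      (mem_nonZeroDivisors_of_ne_zero hx)
  -- every nonzero prime has height one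
  have h2 : ∀ Q : Ideal D, Q.IsPrime → Q ≠ ⊥ → Q.height = 1 := by
    intro Q hQ hQ0
    haveI := hQ
    by_contra hne
    have h0 : Q.height ≠ 0 := by
      rw [Ne, Ideal.height_eq_zero_iff_eq_bot]
      exact hQ0
    have h2 : 2 ≤ Q.height := by
      have h1' : 1 ≤ Q.height := Order.one_le_iff_pos.mpr (pos_iff_ne_zero.mpr h0)
      have hlt : 1 < Q.height := lt_of_le_of_ne h1' (Ne.symm hne)
      exact Order.add_one_le_of_lt hlt
    have hK := H1_infinite_height_one_le D Q h2
    exact hK (hfinM.subset fun p hp => h1 p hp.1 hp.2.1)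
  -- so there are finitely many primes
  apply hinf
  have hsub : (Set.univ : Set (PrimeSpectrum D)) ⊆
      PrimeSpectrum.asIdeal ⁻¹' (insert ⊥ (Ideal.span {x}).minimalPrimes) := by
    intro q _
    by_cases hq : q.asIdeal = ⊥
    · exact Set.mem_insert_iff.mpr (Or.inl hq)
    · exact Set.mem_insert_iff.mpr (Or.inr (h1 _ q.2 (h2 _ q.2 hq)))
  refine Set.Finite.subset ?_ hsub
  refine Set.Finite.preimage ?_ (hfinM.insert ⊥)
  intro a _ b _ hab
  exact PrimeSpectrum.ext hab

end Groth.Agent.H1
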