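import Mathlib
open CategoryTheory CategoryTheory.Limits Opposite
universe u

namespace Groth.Agent.H1.LexRefl

variable {C : Type u} [SmallCategory C]

/-- the map `(f^*S).functor ⟶ S.functor` -/
def pbMap {X Y : C} (S : Sieve X) (f : Y ⟶ X) : (S.pullback f).functor ⟶ S.functor where
  app V := ↾fun g => ⟨g.1 ≫ f, g.2⟩
  naturality V W h := by
    ext g
    apply Subtype.ext
    simp [Sieve.functor]

lemma pb_square {X Y : C} (S : Sieve X) (f : Y ⟶ X) :
    IsPullback (pbMap S f) (S.pullback f).functorInclusion S.functorInclusion (yoneda.map f) := by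
  refine IsPullback.of_forall_isPullback_app fun V => ?_
  rw [Types.isPullback_iff]
  refine ⟨?_, ?_, ?_⟩
  · ext g
    rfl
  · rintro ⟨g, hg⟩ ⟨g', hg'⟩ ⟨_, h2⟩
    apply Subtype.ext
    exact h2
  · rintro ⟨k, hk⟩ g hkg
    have hkg' : k = g ≫ f := hkg
    subst hkg'
    exact ⟨⟨g, hk⟩, rfl, rfl⟩


section main
variable (P : ObjectProperty (Cᵒᵖ ⥤ Type u)) [Reflective P.ι]

lemma inv_iff {A B : Cᵒᵖ ⥤ Type u} (m : A ⟶ B) :
    IsIso ((reflector P.ι).map m) ↔
      ∀ Z, P Z → Function.Bijective (fun g : B ⟶ Z => m ≫ g) := by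
  rw [← ObjectProperty.isLocal_iff_isIso_map (reflectorAdjunction P.ι) m]
  constructor
  · intro h Z hZ
    exact h Z ⟨⟨Z, hZ⟩, rfl⟩
  · rintro h _ ⟨⟨Z, hZ⟩, rfl⟩
    exact h Z hZ

/-- the topology -/
def topo : GrothendieckTopology C := Sheaf.finestTopology {F | P F}

lemma sheafFor_iff {X : C} (S : Sieve X) :
    IsIso ((reflector P.ι).map S.functorInclusion) ↔
      ∀ Z, P Z → Presieve.IsSheafFor Z S.arrows := by
  rw [inv_iff]
  refine forall_congr' fun Z => imp_congr Iff.rfl ?_
  rw [Presieve.isSheafFor_iff_yonedaSheafCondition]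
  constructor
  · intro h f
    obtain ⟨g, hg⟩ := h.2 f
    exact ⟨g, hg, fun g' hg' => h.1 (hg'.trans hg.symm)⟩
  · intro h
    refine ⟨fun g g' hgg => ?_, fun f => ?_⟩
    · obtain ⟨g₀, _, hu⟩ := h (S.functorInclusion ≫ g)
      exact (hu g rfl).trans (hu g' hgg.symm).symm
    · obtain ⟨g, hg, _⟩ := h f
      exact ⟨g, hg⟩

variable [PreservesFiniteLimits (reflector P.ι)]

lemma mem_topo_iff {X : C} (S : Sieve X) :
    S ∈ topo P X ↔ IsIso ((reflector P.ι).map S.functorInclusion) := by
  constructor
  · intro hS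
    rw [sheafFor_iff]
    intro Z hZ
    exact Sheaf.sheaf_for_finestTopology {F | P F} (show Z ∈ {F | P F} from hZ) S hS
  · intro h
    apply Sheaf.mem_finestTopology_of_forall_isSheafFor
    intro Z hZ Y f
    have h1 : IsIso ((reflector P.ι).map (S.pullback f).functorInclusion) :=
      ((pb_square S f).map (reflector P.ι)).isIso_snd_of_isIso
    exact (sheafFor_iff P (S.pullback f)).1 h1 Z hZ


/-- a morphism inverted by the reflector is locally surjective -/
lemma ls_of_inverted {A B : Cᵒᵖ ⥤ Type u} (m : A ⟶ B)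
    (hm : IsIso ((reflector P.ι).map m)) : Presheaf.IsLocallySurjective (topo P) m := by
  constructor
  intro X x
  rw [mem_topo_iff]
  let S := Presheaf.imageSieve m x
  let xt : yoneda.obj X ⟶ B := yonedaEquiv.symm x
  let t : pullback xt m ⟶ yoneda.obj X := pullback.fst xt m
  have hsq : ∀ (V : Cᵒᵖ) (z : (pullback xt m).obj V),
      B.map (t.app V z).op x = m.app V ((pullback.snd xt m).app V z) := by
    intro V z
    have := ConcreteCategory.congr_hom (NatTrans.congr_app (pullback.condition (f := xt) (g := m)) V) z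
    refine Eq.trans ?_ this
    exact (yonedaEquiv_symm_app_apply x _ _).symm
  let e : pullback xt m ⟶ S.functor :=
    { app := fun V => ↾fun z => ⟨t.app V z, ⟨(pullback.snd xt m).app V z, (hsq V z).symm⟩⟩
      naturality := by
        intro V W h
        ext z
        apply Subtype.ext
        exact ConcreteCategory.congr_hom (t.naturality h) z }
  have he : e ≫ S.functorInclusion = t := by
    ext V z
    rfl
  have ht : IsIso ((reflector P.ι).map t) :=
    ((IsPullback.of_hasPullback xt m).map (reflector P.ι)).isIso_fst_of_isIso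
  haveI : Mono ((reflector P.ι).map S.functorInclusion) := inferInstance
  haveI : IsSplitEpi ((reflector P.ι).map S.functorInclusion) := by
    refine ⟨⟨⟨inv ((reflector P.ι).map t) ≫ (reflector P.ι).map e, ?_⟩⟩⟩
    rw [Category.assoc, ← Functor.map_comp, he, IsIso.inv_hom_id]
  exact isIso_of_mono_of_isSplitEpi _


/-- a morphism inverted by the reflector is locally injective -/
lemma li_of_inverted {A B : Cᵒᵖ ⥤ Type u} (m : A ⟶ B)
    (hm : IsIso ((reflector P.ι).map m)) : Presheaf.IsLocallyInjective (topo P) m := by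
  -- the diagonal is inverted
  have hsq : IsPullback ((reflector P.ι).map (pullback.fst m m))
      ((reflector P.ι).map (pullback.snd m m)) ((reflector P.ι).map m) ((reflector P.ι).map m) :=
    (IsPullback.of_hasPullback m m).map (reflector P.ι)
  have hfst : IsIso ((reflector P.ι).map (pullback.fst m m)) := hsq.isIso_fst_of_isIso
  have hdiag : IsIso ((reflector P.ι).map (pullback.diagonal m)) := by
    have h1 : (reflector P.ι).map (pullback.diagonal m) ≫ (reflector P.ι).map (pullback.fst m m)
        = 𝟙 _ := by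
      rw [← CategoryTheory.Functor.map_comp, pullback.diagonal_fst, CategoryTheory.Functor.map_id]
    have : (reflector P.ι).map (pullback.diagonal m) =
        inv ((reflector P.ι).map (pullback.fst m m)) := by
      rw [← cancel_mono ((reflector P.ι).map (pullback.fst m m)), h1, IsIso.inv_hom_id]
    rw [this]; infer_instance
  have hLS := ls_of_inverted P (pullback.diagonal m) hdiag
  constructor
  intro X x y hxy
  have hpb : IsPullback ((pullback.fst m m).app X) ((pullback.snd m m).app X)
      (m.app X) (m.app X) :=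
    (IsPullback.of_hasPullback m m).map ((evaluation Cᵒᵖ (Type u)).obj X)
  obtain ⟨q, hq1, hq2⟩ := Types.exists_of_isPullback hpb x y hxy
  refine (topo P).superset_covering ?_
    (Presheaf.imageSieve_mem (topo P) (pullback.diagonal m) (U := X) q)
  rintro V k ⟨a, ha⟩
  have h1 := congrArg ((pullback.fst m m).app (op V)) ha
  have h2 := congrArg ((pullback.snd m m).app (op V)) ha
  have d1 : (pullback.fst m m).app (op V) ((pullback.diagonal m).app (op V) a) = a :=
    congrArg (fun φ => φ.app (op V) a) (pullback.diagonal_fst m)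
  have d2 : (pullback.snd m m).app (op V) ((pullback.diagonal m).app (op V) a) = a :=
    congrArg (fun φ => φ.app (op V) a) (pullback.diagonal_snd m)
  have n1 := ConcreteCategory.congr_hom ((pullback.fst m m).naturality k.op) q
  have n2 := ConcreteCategory.congr_hom ((pullback.snd m m).naturality k.op) q
  change A.map k.op x = A.map k.op y
  rw [← hq1, ← hq2]
  exact (n1.symm.trans (h1.symm.trans d1)).trans ((n2.symm.trans (h2.symm.trans d2))).symm

theorem main_thm [P.IsClosedUnderIsomorphisms] :
    ∃ J : GrothendieckTopology C,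
      (∀ (X : C) (S : Sieve X), S ∈ J X ↔ IsIso ((reflector P.ι).map S.functorInclusion)) ∧
      ∀ F : Cᵒᵖ ⥤ Type u, P F ↔ Presieve.IsSheaf J F := by
  refine ⟨topo P, fun X S => mem_topo_iff P S, fun F => ⟨fun hF => ?_, fun hF => ?_⟩⟩
  · exact Sheaf.sheaf_for_finestTopology {F | P F} (show F ∈ {F | P F} from hF)
  · let G : Cᵒᵖ ⥤ Type u := P.ι.obj ((reflector P.ι).obj F)
    have hG : P G := ((reflector P.ι).obj F).property
    have hGs : Presieve.IsSheaf (topo P) G :=
      Sheaf.sheaf_for_finestTopology {F | P F} (show G ∈ {F | P F} from hG)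
    let η : F ⟶ G := (reflectorAdjunction P.ι).unit.app F
    have hη : IsIso ((reflector P.ι).map η) := by
      rw [← ObjectProperty.isLocal_iff_isIso_map (reflectorAdjunction P.ι) η]
      exact ObjectProperty.isLocal_adj_unit_app (reflectorAdjunction P.ι) F
    let F' : Sheaf (topo P) (Type u) := ⟨F, (isSheaf_iff_isSheaf_of_type _ _).2 hF⟩
    let G' : Sheaf (topo P) (Type u) := ⟨G, (isSheaf_iff_isSheaf_of_type _ _).2 hGs⟩
    let φ : F' ⟶ G' := ⟨η⟩
    have hφ : IsIso φ := by
      rw [← GrothendieckTopology.W_sheafToPresheaf_map_iff_isIso]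
      change (topo P).W η
      rw [GrothendieckTopology.W_iff_isLocallyBijective]
      exact ⟨li_of_inverted P η hη, ls_of_inverted P η hη⟩
    have hη' : IsIso η := (inferInstance : IsIso ((sheafToPresheaf _ _).map φ))
    exact P.prop_of_iso (asIso η).symm hG

end main

end Groth.Agent.H1.LexRefl
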