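import Mathlib.RingTheory.Localization.Module
import Mathlib.Algebra.Module.LocalizedModule.Basic

set_option autoImplicit false
universe u

namespace Groth.Agent.H1

variable {R : Type*} [CommRing R] {M N : Type*} [AddCommGroup M] [Module R M]
  [AddCommGroup N] [Module R N]

theorem H1_locmk_eq_zero_iff (S : Submonoid R) (m : M) (s : S) :
    LocalizedModule.mk m s = 0 ↔ ∃ c : S, c • m = 0 := by
  rw [← LocalizedModule.zero_mk (1 : S), LocalizedModule.mk_eq]
  constructor
  · rintro ⟨u, hu⟩
    refine ⟨u, ?_⟩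
    simpa using hu
  · rintro ⟨c, hc⟩
    exact ⟨c, by simp [hc]⟩

theorem H1_locmap_injective_iff (S : Submonoid R) (φ : M →ₗ[R] N) :
    Function.Injective (LocalizedModule.map S φ) ↔
      ∀ m : M, (∃ s : S, s • φ m = 0) → ∃ s : S, s • m = 0 := by
  constructor
  · intro hinj m ⟨s, hs⟩
    have h1 : LocalizedModule.map S φ (LocalizedModule.mk m 1) = 0 := by
      rw [LocalizedModule.map_mk, H1_locmk_eq_zero_iff]
      exact ⟨s, hs⟩
    have h2 := hinj (h1.trans (map_zero _).symm)
    exact (H1_locmk_eq_zero_iff S m 1).mp h2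
  · intro H
    rw [injective_iff_map_eq_zero]
    intro x
    induction x using LocalizedModule.induction_on with
    | _ m s =>
      intro hx
      rw [LocalizedModule.map_mk, H1_locmk_eq_zero_iff] at hx
      rw [H1_locmk_eq_zero_iff]
      exact H m hx

theorem H1_locmap_surjective_iff (S : Submonoid R) (φ : M →ₗ[R] N) :
    Function.Surjective (LocalizedModule.map S φ) ↔
      ∀ n : N, ∃ (s : S) (m : M), φ m = s • n := by
  constructor
  · intro hsurj n
    obtain ⟨x, hx⟩ := hsurj (LocalizedModule.mk n 1)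
    induction x using LocalizedModule.induction_on with
    | _ m s =>
      rw [LocalizedModule.map_mk, LocalizedModule.mk_eq] at hx
      obtain ⟨u, hu⟩ := hx
      refine ⟨u * s, (u : R) • m, ?_⟩
      rw [map_smul, Submonoid.smul_def, Submonoid.coe_mul, mul_smul]
      simpa [Submonoid.smul_def] using hu
  · intro H y
    induction y using LocalizedModule.induction_on with
    | _ n t =>
      obtain ⟨s, m, hm⟩ := H n
      refine ⟨LocalizedModule.mk m (s * t), ?_⟩
      rw [LocalizedModule.map_mk, hm, LocalizedModule.mk_cancel_common_left]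

theorem H1_locmap_bijective_mono {S T : Submonoid R} (hST : S ≤ T) (φ : M →ₗ[R] N)
    (h : Function.Bijective (LocalizedModule.map S φ)) :
    Function.Bijective (LocalizedModule.map T φ) := by
  obtain ⟨hi, hs⟩ := h
  rw [H1_locmap_injective_iff] at hi
  rw [H1_locmap_surjective_iff] at hs
  constructor
  · rw [H1_locmap_injective_iff]
    rintro m ⟨t, ht⟩
    have h1 : ∃ s : S, s • φ ((t : R) • m) = 0 :=
      ⟨1, by rw [map_smul, ← Submonoid.smul_def, ht, smul_zero]⟩
    obtain ⟨s, hs'⟩ := hi ((t : R) • m) h1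
    refine ⟨⟨s, hST s.2⟩ * t, ?_⟩
    rw [Submonoid.smul_def, Submonoid.coe_mul, mul_smul]
    exact hs'
  · rw [H1_locmap_surjective_iff]
    intro n
    obtain ⟨s, m, hm⟩ := hs n
    exact ⟨⟨s, hST s.2⟩, m, hm⟩

end Groth.Agent.H1
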