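import Mathlib

set_option autoImplicit false

/-! Localization of a slice category under right calculus of fractions (helper1). -/

universe v₁ v₂ v₃ u₁ u₂ u₃

open CategoryTheory

namespace Groth.Agent.H1.LocSlice

theorem full_faithful_of_essSurj_precomp {A : Type u₁} [Category.{v₁} A] {E : Type u₂} [Category.{v₂} E]
    {B : Type u₃} [Category.{v₃} B] (L' : A ⥤ E) [L'.EssSurj] (Φ : E ⥤ B)
    (hfull : ∀ (a b : A) (ψ : Φ.obj (L'.obj a) ⟶ Φ.obj (L'.obj b)), ∃ m, Φ.map m = ψ)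
    (hfaith : ∀ (a b : A) (m₁ m₂ : L'.obj a ⟶ L'.obj b), Φ.map m₁ = Φ.map m₂ → m₁ = m₂) :
    Φ.Full ∧ Φ.Faithful := by
  constructor
  · refine ⟨fun {X Y} ψ => ?_⟩
    let iX := L'.objObjPreimageIso X
    let iY := L'.objObjPreimageIso Y
    obtain ⟨m₀, hm₀⟩ := hfull _ _ (Φ.map iX.hom ≫ ψ ≫ Φ.map iY.inv)
    refine ⟨iX.inv ≫ m₀ ≫ iY.hom, ?_⟩
    rw [Φ.map_comp, Φ.map_comp, hm₀]
    simp only [Category.assoc, ← Φ.map_comp, Iso.inv_hom_id, Φ.map_id, Category.comp_id]
    rw [← Category.assoc, ← Φ.map_comp, Iso.inv_hom_id, Φ.map_id, Category.id_comp]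
  · refine ⟨fun {X Y} m₁ m₂ h => ?_⟩
    let iX := L'.objObjPreimageIso X
    let iY := L'.objObjPreimageIso Y
    have := hfaith _ _ (iX.hom ≫ m₁ ≫ iY.inv) (iX.hom ≫ m₂ ≫ iY.inv) (by
      simp only [Φ.map_comp, h])
    rw [← cancel_epi iX.hom, ← cancel_mono iY.inv]
    simpa using this

variable {C : Type u₁} [Category.{v₁} C] (W : MorphismProperty C) [W.HasRightCalculusOfFractions] (S : C)

instance : (W.inverseImage (Over.forget S)).HasRightCalculusOfFractions where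
  exists_rightFraction := by
    intro A B φ
    obtain ⟨ψ, hψ⟩ := (MorphismProperty.LeftFraction.mk φ.f.left φ.s.left φ.hs :
      W.LeftFraction A.left B.left).exists_rightFraction
    have h1 : ψ.f ≫ B.hom = ψ.s ≫ A.hom := by
      have e1 := Over.w φ.s
      have e2 := Over.w φ.f
      dsimp at hψ
      rw [← e1, ← Category.assoc, ← hψ, Category.assoc, e2]
    refine ⟨⟨(Over.homMk ψ.s rfl : Over.mk (ψ.s ≫ A.hom) ⟶ A), ψ.hs, Over.homMk ψ.f h1⟩, ?_⟩
    ext
    exact hψ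
  ext := by
    intro A B B' f₁ f₂ s hs h
    obtain ⟨X', t, ht, h'⟩ := MorphismProperty.HasRightCalculusOfFractions.ext f₁.left f₂.left s.left hs
      (congrArg CommaMorphism.left h)
    refine ⟨Over.mk (t ≫ A.hom), Over.homMk t rfl, ht, ?_⟩
    ext
    exact h'

variable {D : Type u₂} [Category.{v₂} D] (L : C ⥤ D) [L.IsLocalization W]

theorem post_map_isIso {A B : Over S} (s : A ⟶ B) (hs : W s.left) : IsIso ((Over.post L).map s) := by
  haveI : IsIso ((Over.forget _).map ((Over.post L).map s)) := Localization.inverts L W s.left hs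
  exact isIso_of_reflects_iso _ (Over.forget _)

theorem exists_fraction_post {A B : Over S} (ψ : (Over.post L).obj A ⟶ (Over.post L).obj B) :
    ∃ (X : Over S) (s : X ⟶ A) (_ : W s.left) (g : X ⟶ B),
      (Over.post L).map s ≫ ψ = (Over.post L).map g := by
  let ψl : L.obj A.left ⟶ L.obj B.left := ψ.left
  obtain ⟨φ, hφ⟩ := Localization.exists_rightFraction L W ψl
  have h1 : L.map φ.s ≫ ψl = L.map φ.f := by
    rw [hφ]; exact φ.map_s_comp_map L _
  have h2 : ψl ≫ L.map B.hom = L.map A.hom := Over.w ψ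
  have h3 : L.map (φ.f ≫ B.hom) = L.map (φ.s ≫ A.hom) := by
    rw [L.map_comp, L.map_comp, ← h1, Category.assoc, h2]
  obtain ⟨Z, t, ht, h4⟩ := (MorphismProperty.map_eq_iff_precomp L W _ _).1 h3
  refine ⟨Over.mk (t ≫ φ.s ≫ A.hom), Over.homMk (t ≫ φ.s) (by simp),
    W.comp_mem _ _ ht φ.hs, Over.homMk (t ≫ φ.f) (by simpa using h4), ?_⟩
  ext
  change L.map (t ≫ φ.s) ≫ ψl = L.map (t ≫ φ.f)
  rw [L.map_comp, Category.assoc, h1, ← L.map_comp]

variable {E : Type u₃} [Category.{v₃} E] (L' : Over S ⥤ E)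
  [L'.IsLocalization (W.inverseImage (Over.forget S))]

include W L in
theorem map_eq_of_post_map_eq {A B : Over S} (f₁ f₂ : A ⟶ B)
    (h : (Over.post L).map f₁ = (Over.post L).map f₂) : L'.map f₁ = L'.map f₂ := by
  have h1 : L.map f₁.left = L.map f₂.left := congrArg CommaMorphism.left h
  obtain ⟨Z, t, ht, h2⟩ := (MorphismProperty.map_eq_iff_precomp L W _ _).1 h1
  rw [MorphismProperty.map_eq_iff_precomp L' (W.inverseImage (Over.forget S))]
  refine ⟨Over.mk (t ≫ A.hom), Over.homMk t rfl, ht, ?_⟩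
  ext
  exact h2

include W in
theorem isEquivalence (Φ : E ⥤ Over (L.obj S)) (e : L' ⋙ Φ ≅ Over.post L) : Φ.IsEquivalence := by
  let WS := W.inverseImage (Over.forget S)
  haveI : L'.EssSurj := Localization.essSurj L' WS
  have hinv : ∀ {A B : Over S} (s : A ⟶ B), W s.left → IsIso (L'.map s) := fun s hs =>
    Localization.inverts L' WS s hs
  have hnat : ∀ {A B : Over S} (g : A ⟶ B),
      Φ.map (L'.map g) ≫ e.hom.app B = e.hom.app A ≫ (Over.post L).map g := fun g => e.hom.naturality g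
  obtain ⟨hfull, hfaith⟩ := full_faithful_of_essSurj_precomp L' Φ
    (by
      intro A B ψ
      obtain ⟨X, s, hs, g, hsg⟩ := exists_fraction_post W S L (e.inv.app A ≫ ψ ≫ e.hom.app B)
      haveI := hinv s hs
      refine ⟨inv (L'.map s) ≫ L'.map g, ?_⟩
      have h1 : Φ.map (L'.map s) ≫ ψ = Φ.map (L'.map g) := by
        have h2 : Φ.map (L'.map g) = e.hom.app X ≫ (Over.post L).map g ≫ e.inv.app B := by
          rw [← Category.assoc, ← hnat g, Category.assoc, Iso.hom_inv_id_app]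
          exact (Category.comp_id _).symm
        have h3 : Φ.map (L'.map s) = e.hom.app X ≫ (Over.post L).map s ≫ e.inv.app A := by
          rw [← Category.assoc, ← hnat s, Category.assoc, Iso.hom_inv_id_app]
          exact (Category.comp_id _).symm
        rw [h2, h3, ← hsg]
        simp
      rw [Φ.map_comp, Functor.map_inv, IsIso.inv_comp_eq, h1])
    (by
      intro A B m₁ m₂ h
      obtain ⟨φ₁, hφ₁⟩ := Localization.exists_rightFraction L' WS m₁
      obtain ⟨φ₂, hφ₂⟩ := Localization.exists_rightFraction L' WS m₂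
      obtain ⟨ψ, hψ⟩ := (MorphismProperty.LeftFraction.mk φ₁.s φ₂.s φ₂.hs :
        WS.LeftFraction _ _).exists_rightFraction
      dsimp at hψ
      -- ψ.s : X₃ ⟶ φ₁.X' in WS, ψ.f : X₃ ⟶ φ₂.X', ψ.s ≫ φ₁.s = ψ.f ≫ φ₂.s
      have hs : WS (ψ.s ≫ φ₁.s) := WS.comp_mem _ _ ψ.hs φ₁.hs
      haveI : IsIso (L'.map (ψ.s ≫ φ₁.s)) := Localization.inverts L' WS _ hs
      have e1 : L'.map (ψ.s ≫ φ₁.s) ≫ m₁ = L'.map (ψ.s ≫ φ₁.f) := by
        rw [hφ₁, L'.map_comp, Category.assoc, φ₁.map_s_comp_map, ← L'.map_comp]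
      have e2 : L'.map (ψ.s ≫ φ₁.s) ≫ m₂ = L'.map (ψ.f ≫ φ₂.f) := by
        rw [hψ, hφ₂, L'.map_comp, Category.assoc, φ₂.map_s_comp_map, ← L'.map_comp]
      have e3 : L'.map (ψ.s ≫ φ₁.f) = L'.map (ψ.f ≫ φ₂.f) := by
        apply map_eq_of_post_map_eq W S L L'
        have h5 : Φ.map (L'.map (ψ.s ≫ φ₁.f)) = Φ.map (L'.map (ψ.f ≫ φ₂.f)) := by
          rw [← e1, ← e2, Φ.map_comp, Φ.map_comp, h]
        have h6 := hnat (ψ.s ≫ φ₁.f)
        have h7 := hnat (ψ.f ≫ φ₂.f)
        rw [h5] at h6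
        rw [← cancel_epi (e.hom.app _), ← h6, ← h7]
      rw [← cancel_epi (L'.map (ψ.s ≫ φ₁.s)), e1, e2, e3])
  haveI : Φ.EssSurj := by
    refine ⟨fun T => ?_⟩
    haveI : L.EssSurj := Localization.essSurj L W
    let X₀ := L.objPreimage T.left
    let i : L.obj X₀ ≅ T.left := L.objObjPreimageIso T.left
    obtain ⟨φ, hφ⟩ := Localization.exists_rightFraction L W (i.hom ≫ T.hom)
    have h1 : L.map φ.s ≫ i.hom ≫ T.hom = L.map φ.f := by
      rw [hφ]; exact φ.map_s_comp_map L _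
    haveI : IsIso (L.map φ.s) := Localization.inverts L W φ.s φ.hs
    refine ⟨L'.obj (Over.mk φ.f), ⟨e.app (Over.mk φ.f) ≪≫
      Over.isoMk (@asIso _ _ _ _ (L.map φ.s) this ≪≫ i) (by
        change (L.map φ.s ≫ i.hom) ≫ T.hom = L.map φ.f
        rw [Category.assoc]; exact h1)⟩⟩
  exact { }

end Groth.Agent.H1.LocSlice
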