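import Groth.Prelude.Def_Models
import Mathlib

set_option autoImplicit false
open Finset

namespace Groth.Agent.H1

variable {n : ℕ} (T : Models.NumericalType n)

/-- row relation: `Σ_j a i j * m j = 0` -/
theorem H1_row (i : Fin n) : ∑ j, T.a i j * T.m j = 0 := by
  have := congrFun T.mulVec_m i
  simpa [Matrix.mulVec, dotProduct] using this

/-- `-a i i * m i = Σ_{j ≠ i} a i j * m j` -/
theorem H1_row' (i : Fin n) : -(T.a i i * T.m i) = ∑ j ∈ univ.erase i, T.a i j * T.m j := by
  have h := H1_row T i
  rw [← Finset.add_sum_erase univ _ (mem_univ i)] at h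
  linarith

theorem H1_offdiag_term_nonneg (i j : Fin n) (h : j ∈ univ.erase i) : 0 ≤ T.a i j * T.m j := by
  have hne : i ≠ j := fun e => (Finset.ne_of_mem_erase h) e.symm
  exact mul_nonneg (T.offDiag_nonneg i j hne) (T.m_pos j).le

theorem H1_diag_nonpos (i : Fin n) : T.a i i ≤ 0 := by
  have h := H1_row' T i
  have h2 : 0 ≤ ∑ j ∈ univ.erase i, T.a i j * T.m j :=
    Finset.sum_nonneg fun j hj => H1_offdiag_term_nonneg T i j hj
  have h3 : T.a i i * T.m i ≤ 0 := by linarith
  by_contra hcon
  rw [not_le] at hcon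
  have := mul_pos hcon (T.m_pos i)
  linarith

theorem H1_diag_neg (hn : 1 < n) (i : Fin n) : T.a i i < 0 := by
  have h := H1_row' T i
  have hI : ({i} : Finset (Fin n)) ≠ univ := by
    intro e
    have := congrArg Finset.card e
    simp at this
    omega
  obtain ⟨i', hi', j, hj, hne⟩ := T.connected {i} ⟨i, mem_singleton_self i⟩ hI
  rw [mem_singleton] at hi'
  subst hi'
  have hji : j ≠ i' := fun e => hj (by rw [e]; exact mem_singleton_self _)
  have hpos : 0 < T.a i' j := lt_of_le_of_ne (T.offDiag_nonneg i' j hji.symm) (Ne.symm hne)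
  have hjmem : j ∈ univ.erase i' := Finset.mem_erase.mpr ⟨hji, mem_univ j⟩
  have h2 : 0 < ∑ j ∈ univ.erase i', T.a i' j * T.m j := by
    apply Finset.sum_pos' (fun j hj => H1_offdiag_term_nonneg T i' j hj)
    exact ⟨j, hjmem, mul_pos hpos (T.m_pos j)⟩
  have h3 : T.a i' i' * T.m i' < 0 := by linarith
  by_contra hcon
  rw [not_lt] at hcon
  have := mul_nonneg hcon (T.m_pos i').le
  linarith

/-- `m i * a i j ≤ m j * (- a j j)` for `i ≠ j`. -/
theorem H1_mul_le (i j : Fin n) (hij : i ≠ j) : T.m i * T.a i j ≤ T.m j * (-T.a j j) := by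
  have h := H1_row' T j
  have himem : i ∈ univ.erase j := Finset.mem_erase.mpr ⟨hij, mem_univ i⟩
  have h2 : T.a j i * T.m i ≤ ∑ k ∈ univ.erase j, T.a j k * T.m k :=
    Finset.single_le_sum (fun k hk => H1_offdiag_term_nonneg T j k hk) himem
  have hs : T.a j i = T.a i j := by
    have := T.symm.apply i j
    exact this
  rw [hs] at h2
  nlinarith


/-- `Σ m i * a i i` is even. -/
theorem H1_two_dvd_sum : (2 : ℤ) ∣ ∑ i, T.m i * T.a i i := by
  -- m^T A m = 0
  have h0 : ∑ i, ∑ j, T.m i * (T.a i j * T.m j) = 0 := by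
    apply Finset.sum_eq_zero
    intro i _
    rw [← Finset.mul_sum, H1_row T i, mul_zero]
  -- parity: work in ZMod 2
  have key : ((∑ i, T.m i * T.a i i : ℤ) : ZMod 2) = 0 := by
    have h1 : ((∑ i, ∑ j, T.m i * (T.a i j * T.m j) : ℤ) : ZMod 2) = 0 := by rw [h0]; simp
    push_cast at h1 ⊢
    -- split double sum into diagonal and off-diagonal
    have hsplit : ∀ i : Fin n, ∑ j, (T.m i : ZMod 2) * ((T.a i j : ZMod 2) * (T.m j : ZMod 2)) =
        (T.m i : ZMod 2) * ((T.a i i : ZMod 2) * (T.m i : ZMod 2)) +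
          ∑ j ∈ univ.erase i, (T.m i : ZMod 2) * ((T.a i j : ZMod 2) * (T.m j : ZMod 2)) := by
      intro i
      exact (Finset.add_sum_erase univ
        (fun j => (T.m i : ZMod 2) * ((T.a i j : ZMod 2) * (T.m j : ZMod 2))) (mem_univ i)).symm
    simp_rw [hsplit] at h1
    rw [Finset.sum_add_distrib] at h1
    -- off-diagonal part vanishes mod 2 by symmetry
    have hoff : ∑ i, ∑ j ∈ univ.erase i,
        (T.m i : ZMod 2) * ((T.a i j : ZMod 2) * (T.m j : ZMod 2)) = 0 := by
      have hswap : ∑ i, ∑ j ∈ univ.erase i,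
          (T.m i : ZMod 2) * ((T.a i j : ZMod 2) * (T.m j : ZMod 2)) =
          ∑ i, ∑ j ∈ univ.erase i,
            (T.m j : ZMod 2) * ((T.a j i : ZMod 2) * (T.m i : ZMod 2)) := by
        rw [Finset.sum_sigma', Finset.sum_sigma']
        refine Finset.sum_bij' (fun x _ => ⟨x.2, x.1⟩) (fun x _ => ⟨x.2, x.1⟩) ?_ ?_ ?_ ?_ ?_
        · intro x hx
          simp only [mem_sigma, mem_univ, mem_erase, ne_eq, true_and, and_true] at hx ⊢
          exact fun e => hx e.symm
        · intro x hx
          simp only [mem_sigma, mem_univ, mem_erase, ne_eq, true_and, and_true] at hx ⊢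
          exact fun e => hx e.symm
        · intro x _; rfl
        · intro x _; rfl
        · intro x _; rfl
      have hsym : ∀ i j : Fin n, T.a j i = T.a i j := fun i j => T.symm.apply i j
      have h2 : ∑ i, ∑ j ∈ univ.erase i,
          (T.m j : ZMod 2) * ((T.a j i : ZMod 2) * (T.m i : ZMod 2)) =
          ∑ i, ∑ j ∈ univ.erase i,
            (T.m i : ZMod 2) * ((T.a i j : ZMod 2) * (T.m j : ZMod 2)) := by
        refine Finset.sum_congr rfl fun i _ => Finset.sum_congr rfl fun j _ => ?_
        rw [hsym i j]; ring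
      -- x = x implies nothing; use char 2: x + x = 0, and the sum equals itself swapped;
      -- instead pair terms: S = Σ_{i≠j} t i j with t symmetric, so S = 2 * Σ_{i<j} t i j.
      have hlt : ∑ i, ∑ j ∈ univ.erase i,
          (T.m i : ZMod 2) * ((T.a i j : ZMod 2) * (T.m j : ZMod 2)) =
          ∑ i, ∑ j ∈ univ.filter (fun j => i < j),
            (T.m i : ZMod 2) * ((T.a i j : ZMod 2) * (T.m j : ZMod 2)) +
          ∑ i, ∑ j ∈ univ.filter (fun j => j < i),
            (T.m i : ZMod 2) * ((T.a i j : ZMod 2) * (T.m j : ZMod 2)) := by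
        rw [← Finset.sum_add_distrib]
        refine Finset.sum_congr rfl fun i _ => ?_
        rw [← Finset.sum_union]
        · refine Finset.sum_congr ?_ fun _ _ => rfl
          ext j
          simp only [mem_erase, mem_univ, and_true, mem_union, mem_filter, true_and]
          constructor
          · intro h; rcases lt_or_gt_of_ne h with h | h
            · exact Or.inr h
            · exact Or.inl h
          · rintro (h | h)
            · exact (ne_of_lt h).symm
            · exact ne_of_lt h
        · rw [Finset.disjoint_filter]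
          intro j _ h1 h2
          exact lt_asymm h1 h2
      have hgt : ∑ i, ∑ j ∈ univ.filter (fun j => j < i),
            (T.m i : ZMod 2) * ((T.a i j : ZMod 2) * (T.m j : ZMod 2)) =
          ∑ i, ∑ j ∈ univ.filter (fun j => i < j),
            (T.m i : ZMod 2) * ((T.a i j : ZMod 2) * (T.m j : ZMod 2)) := by
        rw [Finset.sum_sigma', Finset.sum_sigma']
        refine Finset.sum_bij' (fun x _ => ⟨x.2, x.1⟩) (fun x _ => ⟨x.2, x.1⟩) ?_ ?_ ?_ ?_ ?_
        · intro x hx
          simp only [mem_sigma, mem_univ, mem_filter, true_and] at hx ⊢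
          exact hx
        · intro x hx
          simp only [mem_sigma, mem_univ, mem_filter, true_and] at hx ⊢
          exact hx
        · intro x _; rfl
        · intro x _; rfl
        · intro x _
          simp only
          rw [hsym x.1 x.2]; ring
      rw [hlt, hgt]
      have : ∀ x : ZMod 2, x + x = 0 := by decide
      exact this _
    rw [hoff, add_zero] at h1
    -- m^2 ≡ m mod 2
    have hsq : ∀ x : ZMod 2, x * x = x := by decide
    rw [← h1]
    refine Finset.sum_congr rfl fun i _ => ?_
    rw [mul_comm (T.a i i : ZMod 2), ← mul_assoc, hsq]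
  exact (ZMod.intCast_zmod_eq_zero_iff_dvd _ 2).mp key

end Groth.Agent.H1

namespace Groth.Agent.H1

variable {n : ℕ} (T : Models.NumericalType n)

/-- the per-index inequality behind `1 ≤ genus` -/
theorem H1_term_nonneg (hmin : T.IsMinimal) (hn : 1 < n) (i : Fin n) :
    0 ≤ 2 * (T.m i * T.w i * (T.g i - 1)) - T.m i * T.a i i := by
  have hneg := H1_diag_neg T hn i
  obtain ⟨c, hc⟩ := T.w_dvd i i
  have hw := T.w_pos i
  have hm := T.m_pos i
  have hg := T.g_nonneg i
  have hc_neg : c < 0 := by
    by_contra h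
    rw [not_lt] at h
    have := mul_nonneg hw.le h
    rw [← hc] at this
    linarith
  have key : 0 ≤ 2 * (T.w i * (T.g i - 1)) - T.a i i := by
    rcases eq_or_lt_of_le hg with h0 | hpos
    · -- g i = 0
      have hc2 : c ≤ -2 := by
        by_contra h
        rw [not_le] at h
        have hc1 : c = -1 := by omega
        apply hmin i
        refine ⟨h0.symm, ?_⟩
        rw [hc, hc1]; ring
      rw [← h0, hc]
      nlinarith
    · have : 0 ≤ T.w i * (T.g i - 1) := mul_nonneg hw.le (by omega)
      linarith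
  have : 2 * (T.m i * T.w i * (T.g i - 1)) - T.m i * T.a i i =
      T.m i * (2 * (T.w i * (T.g i - 1)) - T.a i i) := by ring
  rw [this]
  exact mul_nonneg hm.le key

theorem H1_one_le_genus (hmin : T.IsMinimal) (hn : 1 < n) : 1 ≤ T.genus := by
  obtain ⟨s, hs⟩ := H1_two_dvd_sum T
  have hsum : 0 ≤ ∑ i, (2 * (T.m i * T.w i * (T.g i - 1)) - T.m i * T.a i i) :=
    Finset.sum_nonneg fun i _ => H1_term_nonneg T hmin hn i
  rw [Finset.sum_sub_distrib, ← Finset.mul_sum, hs] at hsum
  unfold Models.NumericalType.genus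
  rw [hs, Int.mul_ediv_cancel_left _ (by norm_num : (2 : ℤ) ≠ 0)]
  linarith

end Groth.Agent.H1
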