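import Mathlib

/-!
Noetherian approximation of a finitely presented algebra (ring level and affine scheme level).
-/

namespace Groth.Agent.H1

open AlgebraicGeometry CategoryTheory TensorProduct

universe u

theorem H1_noeth_approx_ring (R B : Type u) [CommRing R] [CommRing B] [Algebra R B]
    [Algebra.FinitePresentation R B] :
    ∃ (R₀ B₀ : Type u) (_ : CommRing R₀) (_ : CommRing B₀) (φ₀ : R₀ →+* B₀) (a : R₀ →+* R)
      (b : B₀ →+* B), Algebra.FiniteType ℤ R₀ ∧ φ₀.FinitePresentation ∧
      IsPushout (CommRingCat.ofHom a) (CommRingCat.ofHom φ₀)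
        (CommRingCat.ofHom (algebraMap R B)) (CommRingCat.ofHom b) := by
  let P := Algebra.Presentation.ofFinitePresentation R B
  let e := P.tensorModelOfHasCoeffsEquiv P.Core
  refine ⟨P.Core, P.ModelOfHasCoeffs P.Core, inferInstance, inferInstance,
    algebraMap P.Core (P.ModelOfHasCoeffs P.Core), algebraMap P.Core R,
    e.toRingEquiv.toRingHom.comp (Algebra.TensorProduct.includeRight (R := P.Core) (A := R)
      (B := P.ModelOfHasCoeffs P.Core)).toRingHom, inferInstance, ?_, ?_⟩
  · have : Algebra.FinitePresentation P.Core (P.ModelOfHasCoeffs P.Core) := inferInstance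
    exact RingHom.finitePresentation_algebraMap.mpr this
  · refine (CommRingCat.isPushout_tensorProduct P.Core R (P.ModelOfHasCoeffs P.Core)).of_iso
      (Iso.refl _) (Iso.refl _) (Iso.refl _) e.toRingEquiv.toCommRingCatIso ?_ ?_ ?_ ?_
    · simp
    · simp
    · ext x
      simp only [Iso.refl_hom, Category.id_comp]
      change e (x ⊗ₜ 1) = algebraMap R B x
      have := e.commutes x
      rw [Algebra.TensorProduct.algebraMap_apply] at this
      exact this
    · apply CommRingCat.hom_ext
      rfl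

end Groth.Agent.H1

namespace Groth.Agent.H1

open AlgebraicGeometry CategoryTheory TensorProduct

universe u

/-- Scheme form with a finitely presented model. -/
theorem H1_noeth_approx_scheme {X S : Scheme.{u}} (f : X ⟶ S) [IsAffine X] [IsAffine S]
    [LocallyOfFinitePresentation f] :
    ∃ (R₀ B₀ : CommRingCat.{u}) (φ₀ : R₀ ⟶ B₀) (g : S ⟶ Spec R₀) (g' : X ⟶ Spec B₀),
      IsPullback g' f (Spec.map φ₀) g ∧ Algebra.FiniteType ℤ R₀ ∧ φ₀.hom.FinitePresentation := by
  have hfp : f.appTop.hom.FinitePresentation :=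
    HasRingHomProperty.appTop @LocallyOfFinitePresentation f inferInstance
  letI : Algebra Γ(S, ⊤) Γ(X, ⊤) := f.appTop.hom.toAlgebra
  have : Algebra.FinitePresentation Γ(S, ⊤) Γ(X, ⊤) := hfp
  obtain ⟨R₀, B₀, _, _, φ₀, a, b, hft, hφ₀, hpo⟩ := H1_noeth_approx_ring Γ(S, ⊤) Γ(X, ⊤)
  have hpo' : IsPushout (CommRingCat.ofHom a) (CommRingCat.ofHom φ₀) f.appTop
      (CommRingCat.ofHom b) := hpo
  have hpb := (isPullback_SpecMap_of_isPushout _ _ _ _ hpo').flip
  refine ⟨.of R₀, .of B₀, CommRingCat.ofHom φ₀, S.isoSpec.hom ≫ Spec.map (CommRingCat.ofHom a),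
    X.isoSpec.hom ≫ Spec.map (CommRingCat.ofHom b), ?_, hft, hφ₀⟩
  refine hpb.of_iso X.isoSpec.symm (Iso.refl _) S.isoSpec.symm (Iso.refl _) ?_ ?_ ?_ ?_
  · simp
  · simp only [Iso.symm_hom]
    exact Scheme.isoSpec_inv_naturality f
  · simp
  · simp

end Groth.Agent.H1
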