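import Mathlib

set_option autoImplicit false

/-! Duality for finite abelian groups of exponent `n` with values in `ℤ/n` (helper1). -/

namespace Groth.Agent.H1.ZnDual

variable (n : ℕ) [NeZero n]

theorem hasEnough : HasEnoughRootsOfUnity (Multiplicative (ZMod n)) n where
  prim := by
    refine ⟨Multiplicative.ofAdd (1 : ZMod n), ?_⟩
    have h : orderOf (Multiplicative.ofAdd (1 : ZMod n)) = n := by
      rw [orderOf_ofAdd_eq_addOrderOf, ZMod.addOrderOf_one]
    have := IsPrimitiveRoot.orderOf (Multiplicative.ofAdd (1 : ZMod n))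
    rwa [h] at this
  cyc := by
    haveI : IsCyclic (Multiplicative (ZMod n))ˣ :=
      isCyclic_of_surjective (toUnits : Multiplicative (ZMod n) ≃* (Multiplicative (ZMod n))ˣ)
        (toUnits.surjective)
    infer_instance

theorem exponent_dvd (A : Type*) [CommGroup A] (hA : ∀ a : A, a ^ n = 1) :
    Monoid.exponent A ∣ n := Monoid.exponent_dvd_of_forall_pow_eq_one hA

theorem exists_char_ne_one (A : Type*) [CommGroup A] [Finite A] (hA : ∀ a : A, a ^ n = 1)
    {a : A} (ha : a ≠ 1) : ∃ χ : A →* Multiplicative (ZMod n), χ a ≠ 1 := by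
  haveI := hasEnough n
  haveI : HasEnoughRootsOfUnity (Multiplicative (ZMod n)) (Monoid.exponent A) :=
    HasEnoughRootsOfUnity.of_dvd _ (exponent_dvd n A hA)
  obtain ⟨φ, hφ⟩ := CommGroup.exists_apply_ne_one_of_hasEnoughRootsOfUnity A
    (Multiplicative (ZMod n)) ha
  refine ⟨(toUnits (G := Multiplicative (ZMod n))).symm.toMonoidHom.comp φ, ?_⟩
  intro h
  apply hφ
  have h2 : (toUnits (G := Multiplicative (ZMod n))).symm (φ a) = 1 := h
  rwa [MulEquiv.map_eq_one_iff] at h2

theorem card_char (A : Type*) [CommGroup A] [Finite A] (hA : ∀ a : A, a ^ n = 1) :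
    Nat.card (A →* Multiplicative (ZMod n)) = Nat.card A := by
  haveI := hasEnough n
  haveI : HasEnoughRootsOfUnity (Multiplicative (ZMod n)) (Monoid.exponent A) :=
    HasEnoughRootsOfUnity.of_dvd _ (exponent_dvd n A hA)
  rw [← CommGroup.card_monoidHom_of_hasEnoughRootsOfUnity A (Multiplicative (ZMod n))]
  exact Nat.card_congr
    (MulEquiv.monoidHomCongrRight (toUnits (G := Multiplicative (ZMod n)))).toEquiv

theorem zn_pow (z : Multiplicative (ZMod n)) : z ^ n = 1 := by
  have : n • (Multiplicative.toAdd z) = 0 := by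
    simp
  exact congrArg Multiplicative.ofAdd this

end Groth.Agent.H1.ZnDual
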