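import Mathlib
import Groth.Prelude.Def_W4c1etcurveeff2TopGrp
import Groth.Agent.Lib.helper1.ZnDual

set_option autoImplicit false

/-! The closure of the subgroup generated by `n`-th powers and commutators (helper1). -/

universe u

open W4c1etcurveeff2
open scoped commutatorElement

namespace Groth.Agent.H1.PowComm

open Groth.Agent.H1.ZnDual

variable {G : Type u} [Group G] [TopologicalSpace G] [IsTopologicalGroup G] (n : ℕ)

theorem commutator_le : commutator G ≤ powCommClosure G n :=
  le_trans le_sup_right (Subgroup.le_topologicalClosure _)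

theorem pow_mem (g : G) : g ^ n ∈ powCommClosure G n :=
  Subgroup.le_topologicalClosure _ (Subgroup.mem_sup_left (Subgroup.subset_closure ⟨g, rfl⟩))

instance normal : (powCommClosure G n).Normal :=
  Subgroup.Normal.of_commutator_le G (commutator_le n)

theorem isClosed : IsClosed (powCommClosure G n : Set G) :=
  Subgroup.isClosed_topologicalClosure _

theorem le_of_closed (H : Subgroup G) (hH : IsClosed (H : Set G)) (hc : commutator G ≤ H)
    (hp : ∀ g : G, g ^ n ∈ H) : powCommClosure G n ≤ H :=
  Subgroup.topologicalClosure_minimal _ (sup_le ((Subgroup.closure_le _).2 (by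
    rintro _ ⟨g, rfl⟩
    exact hp g)) hc) hH

/-- the quotient is commutative. -/
noncomputable def commGroupQ : CommGroup (G ⧸ powCommClosure G n) :=
  { (inferInstance : Group (G ⧸ powCommClosure G n)) with
    mul_comm := by
      intro a b
      induction a using QuotientGroup.induction_on with
      | H a =>
        induction b using QuotientGroup.induction_on with
        | H b =>
          rw [← QuotientGroup.mk_mul, ← QuotientGroup.mk_mul, QuotientGroup.eq]
          apply commutator_le n
          have h : (a * b)⁻¹ * (b * a) = ⁅b⁻¹, a⁻¹⁆ := by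
            rw [commutatorElement_def]
            group
          rw [h, commutator_def]
          exact Subgroup.commutator_mem_commutator (Subgroup.mem_top _) (Subgroup.mem_top _) }

theorem Q_pow (q : G ⧸ powCommClosure G n) : q ^ n = 1 := by
  induction q using QuotientGroup.induction_on with
  | H g =>
    rw [← QuotientGroup.mk_pow, QuotientGroup.eq_one_iff]
    exact pow_mem n g

variable [NeZero n]

omit [NeZero n] in
theorem finite_closure_of_pow {Q : Type*} [CommGroup Q] (m : ℕ) [NeZero m]
    (hn : ∀ q : Q, q ^ m = 1) (t : Set Q) (ht : t.Finite) : Finite (Subgroup.closure t) := by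
  haveI hfg : Group.FG (Subgroup.closure t) := by
    rw [Group.fg_iff_subgroup_fg, Subgroup.fg_iff]
    exact ⟨t, rfl, ht⟩
  apply CommGroup.finite_of_fg_isMulTorsion
  intro q
  rw [isOfFinOrder_iff_pow_eq_one]
  refine ⟨m, NeZero.pos m, ?_⟩
  apply Subtype.ext
  rw [Subgroup.coe_pow]
  exact hn q.val

/-- the quotient is finite when `G` is topologically finitely generated. -/
theorem finite_Q (s : Finset G)
    (hs : Dense ((Subgroup.closure (s : Set G) : Subgroup G) : Set G)) :
    Finite (G ⧸ powCommClosure G n) := by
  classical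
  let mk : G →* G ⧸ powCommClosure G n := QuotientGroup.mk' (powCommClosure G n)
  let Q₀ : Subgroup (G ⧸ powCommClosure G n) := Subgroup.closure (mk '' (s : Set G))
  haveI hfin : Finite Q₀ :=
    @finite_closure_of_pow (G ⧸ powCommClosure G n) (commGroupQ n) n _ (Q_pow n)
      (mk '' (s : Set G)) (s.finite_toSet.image mk)
  let H : Subgroup G := Q₀.comap mk
  have hHclosed : IsClosed (H : Set G) := by
    have hH : (H : Set G) = ⋃ q : Q₀, mk ⁻¹' {q.val} := by
      ext g
      simp only [Set.mem_iUnion, Set.mem_preimage, Set.mem_singleton_iff]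
      constructor
      · intro hg
        exact ⟨⟨mk g, hg⟩, rfl⟩
      · rintro ⟨q, hq⟩
        change mk g ∈ Q₀
        rw [hq]
        exact q.property
    rw [hH]
    apply isClosed_iUnion_of_finite
    intro q
    obtain ⟨g₀, hg₀⟩ := QuotientGroup.mk_surjective q.val
    have h2 : mk ⁻¹' {q.val} = (fun g => g₀⁻¹ * g) ⁻¹' (powCommClosure G n : Set G) := by
      ext g
      simp only [Set.mem_preimage, Set.mem_singleton_iff, SetLike.mem_coe]
      rw [← hg₀]
      change (QuotientGroup.mk g : G ⧸ powCommClosure G n) = QuotientGroup.mk g₀ ↔ _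
      rw [eq_comm, QuotientGroup.eq]
    rw [h2]
    exact (isClosed n).preimage (continuous_const.mul continuous_id)
  have hle : Subgroup.closure (s : Set G) ≤ H := by
    rw [Subgroup.closure_le]
    intro x hx
    change mk x ∈ Q₀
    exact Subgroup.subset_closure ⟨x, hx, rfl⟩
  have hHtop : (H : Set G) = Set.univ := by
    have hd : Dense (H : Set G) := hs.mono hle
    rw [← hHclosed.closure_eq]
    exact hd.closure_eq
  have hQ₀top : ∀ q : G ⧸ powCommClosure G n, q ∈ Q₀ := by
    intro q
    obtain ⟨g, rfl⟩ := QuotientGroup.mk_surjective q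
    have : g ∈ (H : Set G) := by
      rw [hHtop]
      trivial
    exact this
  exact Finite.of_surjective (fun q : Q₀ => q.val) (fun q => ⟨⟨q, hQ₀top q⟩, rfl⟩)

theorem isOpen_S (s : Finset G)
    (hs : Dense ((Subgroup.closure (s : Set G) : Subgroup G) : Set G)) :
    IsOpen (powCommClosure G n : Set G) := by
  haveI := finite_Q n s hs
  haveI : (powCommClosure G n).FiniteIndex := Subgroup.finiteIndex_of_finite_quotient
  exact Subgroup.isOpen_of_isClosed_of_finiteIndex _ (isClosed n)

/-- continuous characters kill `S`. -/
theorem le_ker_of_isOpen (χ : G →* Multiplicative (ZMod n))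
    (hχ : IsOpen ((χ.ker : Subgroup G) : Set G)) : powCommClosure G n ≤ χ.ker := by
  apply le_of_closed n _ (Subgroup.isClosed_of_isOpen _ hχ)
  · exact Abelianization.commutator_subset_ker χ
  · intro g
    rw [MonoidHom.mem_ker, map_pow]
    exact zn_pow n _

/-- characters with open kernel separate the points outside `S`. -/
theorem exists_char (s : Finset G)
    (hs : Dense ((Subgroup.closure (s : Set G) : Subgroup G) : Set G)) (g : G)
    (hg : g ∉ powCommClosure G n) :
    ∃ χ : G →* Multiplicative (ZMod n), IsOpen ((χ.ker : Subgroup G) : Set G) ∧ χ g ≠ 1 := by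
  haveI := finite_Q n s hs
  have hne : (QuotientGroup.mk g : G ⧸ powCommClosure G n) ≠ 1 := by
    rwa [Ne, QuotientGroup.eq_one_iff]
  obtain ⟨χ', hχ'⟩ := @exists_char_ne_one n _ (G ⧸ powCommClosure G n) (commGroupQ n) _
    (Q_pow n) _ hne
  let χ'' : (G ⧸ powCommClosure G n) →* Multiplicative (ZMod n) := χ'
  refine ⟨χ''.comp (QuotientGroup.mk' (powCommClosure G n)), ?_, hχ'⟩
  refine Subgroup.isOpen_mono (H₁ := powCommClosure G n) ?_ (isOpen_S n s hs)
  intro x hx
  rw [MonoidHom.mem_ker, MonoidHom.comp_apply]
  have : (QuotientGroup.mk' (powCommClosure G n)) x = 1 := (QuotientGroup.eq_one_iff x).2 hx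
  rw [this, map_one]

theorem mem_iff (s : Finset G)
    (hs : Dense ((Subgroup.closure (s : Set G) : Subgroup G) : Set G)) (g : G) :
    g ∈ powCommClosure G n ↔
      ∀ χ : G →* Multiplicative (ZMod n), IsOpen ((χ.ker : Subgroup G) : Set G) → χ g = 1 := by
  constructor
  · intro hg χ hχ
    exact le_ker_of_isOpen n χ hχ hg
  · intro h
    by_contra hg
    obtain ⟨χ, hχ, hne⟩ := exists_char n s hs g hg
    exact hne (h χ hχ)

/-- continuous characters correspond to characters of the quotient. -/
noncomputable def charEquiv (s : Finset G)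
    (hs : Dense ((Subgroup.closure (s : Set G) : Subgroup G) : Set G)) :
    ContChar G n ≃ ((G ⧸ powCommClosure G n) →* Multiplicative (ZMod n)) where
  toFun χ := QuotientGroup.lift (powCommClosure G n) χ.1 (le_ker_of_isOpen n χ.1 χ.2)
  invFun ψ := ⟨ψ.comp (QuotientGroup.mk' (powCommClosure G n)), by
    change IsOpen _
    refine Subgroup.isOpen_mono (H₁ := powCommClosure G n) ?_ (isOpen_S n s hs)
    intro x hx
    rw [MonoidHom.mem_ker, MonoidHom.comp_apply]
    have : (QuotientGroup.mk' (powCommClosure G n)) x = 1 := (QuotientGroup.eq_one_iff x).2 hx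
    rw [this, map_one]⟩
  left_inv χ := by
    apply Subtype.ext
    ext g
    rfl
  right_inv ψ := by
    ext q
    rfl

theorem finite_hom (s : Finset G)
    (hs : Dense ((Subgroup.closure (s : Set G) : Subgroup G) : Set G)) :
    Finite ((G ⧸ powCommClosure G n) →* Multiplicative (ZMod n)) := by
  haveI := finite_Q n s hs
  exact Finite.of_injective (fun f => (f : (G ⧸ powCommClosure G n) → Multiplicative (ZMod n)))
    DFunLike.coe_injective

theorem finite_contChar (s : Finset G)
    (hs : Dense ((Subgroup.closure (s : Set G) : Subgroup G) : Set G)) :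
    Finite (ContChar G n) := by
  haveI := finite_hom n s hs
  exact Finite.of_equiv _ (charEquiv n s hs).symm

theorem card_dual (s : Finset G)
    (hs : Dense ((Subgroup.closure (s : Set G) : Subgroup G) : Set G)) :
    Nat.card (ContChar G n →* Multiplicative (ZMod n)) = Nat.card (G ⧸ powCommClosure G n) := by
  haveI := finite_Q n s hs
  haveI := finite_contChar n s hs
  have h1 : Nat.card (ContChar G n →* Multiplicative (ZMod n)) = Nat.card (ContChar G n) := by
    apply card_char n
    intro χ
    apply Subtype.ext
    ext g
    change (χ.1 ^ n) g = 1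
    rw [MonoidHom.pow_apply]
    exact zn_pow n _
  have h2 : Nat.card (ContChar G n) =
      Nat.card ((G ⧸ powCommClosure G n) →* Multiplicative (ZMod n)) :=
    Nat.card_congr (charEquiv n s hs)
  have h3 : Nat.card ((G ⧸ powCommClosure G n) →* Multiplicative (ZMod n)) =
      Nat.card (G ⧸ powCommClosure G n) :=
    @card_char n _ (G ⧸ powCommClosure G n) (commGroupQ n) _ (Q_pow n)
  rw [h1, h2, h3]

/-- evaluation of continuous characters. -/
def ev : G →* (ContChar G n →* Multiplicative (ZMod n)) where
  toFun g :=
    { toFun := fun χ => χ.1 g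
      map_one' := rfl
      map_mul' := fun _ _ => rfl }
  map_one' := by
    ext χ
    exact map_one χ.1
  map_mul' g h := by
    ext χ
    exact map_mul χ.1 g h

theorem ev_apply (g : G) (χ : ContChar G n) : ev n g χ = χ.1 g := rfl

theorem ev_ker (s : Finset G)
    (hs : Dense ((Subgroup.closure (s : Set G) : Subgroup G) : Set G)) :
    (ev (G := G) n).ker = powCommClosure G n := by
  ext g
  rw [MonoidHom.mem_ker, mem_iff n s hs]
  constructor
  · intro h χ hχ
    exact DFunLike.congr_fun h (⟨χ, hχ⟩ : ContChar G n)
  · intro h
    ext χ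
    exact h χ.1 χ.2

theorem ev_surjective (s : Finset G)
    (hs : Dense ((Subgroup.closure (s : Set G) : Subgroup G) : Set G)) :
    Function.Surjective (ev (G := G) n) := by
  haveI := finite_Q n s hs
  haveI := finite_contChar n s hs
  haveI : Finite (ContChar G n →* Multiplicative (ZMod n)) :=
    Finite.of_injective (fun f => (f : ContChar G n → Multiplicative (ZMod n)))
      DFunLike.coe_injective
  have hle : powCommClosure G n ≤ (ev (G := G) n).ker := (ev_ker n s hs).ge
  let f : (G ⧸ powCommClosure G n) →* (ContChar G n →* Multiplicative (ZMod n)) :=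
    QuotientGroup.lift (powCommClosure G n) (ev n) hle
  have hinj : Function.Injective f := by
    rw [injective_iff_map_eq_one]
    intro q hq
    induction q using QuotientGroup.induction_on with
    | H g =>
      have h1 : ev n g = 1 := hq
      have h2 : g ∈ (ev (G := G) n).ker := h1
      rw [ev_ker n s hs] at h2
      exact (QuotientGroup.eq_one_iff g).2 h2
  have hbij : Function.Bijective f :=
    hinj.bijective_of_nat_card_le (card_dual n s hs).le
  intro F
  obtain ⟨q, rfl⟩ := hbij.2 F
  obtain ⟨g, rfl⟩ := QuotientGroup.mk_surjective q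
  exact ⟨g, rfl⟩

theorem eq_of_quotient_equiv (s : Finset G)
    (hs : Dense ((Subgroup.closure (s : Set G) : Subgroup G) : Set G))
    (H : Subgroup G) [H.Normal] (hH : IsClosed (H : Set G))
    (e : G ⧸ H ≃* (ContChar G n →* Multiplicative (ZMod n))) : H = powCommClosure G n := by
  haveI := finite_Q n s hs
  let f : G →* (ContChar G n →* Multiplicative (ZMod n)) :=
    e.toMonoidHom.comp (QuotientGroup.mk' H)
  have hker : f.ker = H := by
    ext g
    rw [MonoidHom.mem_ker]
    change e (QuotientGroup.mk g) = 1 ↔ _
    rw [MulEquiv.map_eq_one_iff, QuotientGroup.eq_one_iff]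
  have hle : powCommClosure G n ≤ H := by
    apply le_of_closed n H hH
    · rw [← hker]
      exact Abelianization.commutator_subset_ker f
    · intro g
      rw [← hker, MonoidHom.mem_ker, map_pow]
      ext χ
      rw [MonoidHom.pow_apply]
      exact zn_pow n _
  have hidx : H.index = (powCommClosure G n).index := by
    rw [Subgroup.index, Subgroup.index, Nat.card_congr e.toEquiv, card_dual n s hs]
  have hne : (powCommClosure G n).index ≠ 0 := by
    haveI : (powCommClosure G n).FiniteIndex := Subgroup.finiteIndex_of_finite_quotient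
    exact Subgroup.FiniteIndex.index_ne_zero
  have hrel := Subgroup.relIndex_mul_index hle
  rw [hidx] at hrel
  have h1 : (powCommClosure G n).relIndex H = 1 := by
    have := Nat.eq_of_mul_eq_mul_right (Nat.pos_of_ne_zero hne)
      (show (powCommClosure G n).relIndex H * (powCommClosure G n).index =
        1 * (powCommClosure G n).index by rw [hrel, one_mul])
    exact this
  exact le_antisymm (Subgroup.relIndex_eq_one.1 h1) hle

omit [NeZero n] in
theorem map_eq (φ : G ≃* G) (h1 : Continuous φ) (h2 : Continuous φ.symm) :
    (powCommClosure G n).map φ.toMonoidHom = powCommClosure G n := by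
  let S₀ : Subgroup G := Subgroup.closure (Set.range fun g : G => g ^ n) ⊔ commutator G
  have hS₀ : S₀.map φ.toMonoidHom = S₀ := by
    change (Subgroup.closure (Set.range fun g : G => g ^ n) ⊔ commutator G).map φ.toMonoidHom = _
    rw [Subgroup.map_sup, MonoidHom.map_closure]
    have hr : (φ.toMonoidHom '' Set.range fun g : G => g ^ n) = Set.range fun g : G => g ^ n := by
      ext x
      constructor
      · rintro ⟨_, ⟨g, rfl⟩, rfl⟩
        exact ⟨φ g, (map_pow φ g n).symm⟩
      · rintro ⟨g, rfl⟩
        refine ⟨(φ.symm g) ^ n, ⟨φ.symm g, rfl⟩, ?_⟩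
        change φ ((φ.symm g) ^ n) = g ^ n
        rw [map_pow, MulEquiv.apply_symm_apply]
    rw [hr]
    have hc : (commutator G).map φ.toMonoidHom = commutator G :=
      (Subgroup.characteristic_iff_map_eq.1 inferInstance) φ
    rw [hc]
  let e : G ≃ₜ G :=
    { toEquiv := φ.toEquiv
      continuous_toFun := h1
      continuous_invFun := h2 }
  apply SetLike.coe_injective
  change (φ '' (closure (S₀ : Set G))) = closure (S₀ : Set G)
  have h3 : (φ '' (closure (S₀ : Set G))) = closure (φ '' (S₀ : Set G)) :=
    e.image_closure (S₀ : Set G)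
  rw [h3]
  have h4 : (φ '' (S₀ : Set G)) = (S₀ : Set G) := by
    have := congrArg (fun K : Subgroup G => (K : Set G)) hS₀
    exact this
  rw [h4]

end Groth.Agent.H1.PowComm
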