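import Mathlib

set_option autoImplicit false

/-! Profinite completion of a discrete group as automorphism group of the forgetful functor on
finite `G`-sets (helper1). -/

universe u

open CategoryTheory PreGaloisCategory ProfiniteGrp ProfiniteGrp.ProfiniteCompletion

namespace Groth.Agent.H1.ProfCompAut

variable (G : Type u) [Group G]

/-- the forgetful functor. -/
abbrev Fa : Action FintypeCat.{u} G ⥤ FintypeCat.{u} := Action.forget FintypeCat.{u} G

/-- the profinite completion. -/
abbrev Gh : ProfiniteGrp.{u} := completion (GrpCat.of G)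

variable {G}

/-- the kernel of the action on `X`. -/
noncomputable def kerX (X : Action FintypeCat.{u} G) : FiniteIndexNormalSubgroup G :=
  FiniteIndexNormalSubgroup.ofSubgroup (X.ρAut.ker)

/-- evaluation at `U`. -/
def evalHom (U : FiniteIndexNormalSubgroup G) : Gh G →* G ⧸ U.toSubgroup where
  toFun x := x.val U
  map_one' := rfl
  map_mul' _ _ := rfl

theorem exists_mk (x : Gh G) (U : FiniteIndexNormalSubgroup G) :
    ∃ g : G, x.val U = QuotientGroup.mk g :=
  ⟨_, (QuotientGroup.mk_surjective (x.val U)).choose_spec.symm⟩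

theorem val_of_le (x : Gh G) {U V : FiniteIndexNormalSubgroup G} (h : U ≤ V) (g : G)
    (hg : x.val U = QuotientGroup.mk g) : x.val V = QuotientGroup.mk g := by
  have := x.property (homOfLE h)
  rw [← this, hg]
  rfl

/-- the component at `X` of the comparison map. -/
noncomputable def comp (X : Action FintypeCat.{u} G) : Gh G →* Aut X.V :=
  (QuotientGroup.kerLift X.ρAut).comp (evalHom (kerX X))

theorem comp_eq (X : Action FintypeCat.{u} G) (x : Gh G) (g : G)
    (hg : x.val (kerX X) = QuotientGroup.mk g) : comp X x = X.ρAut g := by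
  change QuotientGroup.kerLift X.ρAut (x.val (kerX X)) = _
  rw [hg]
  rfl

theorem exists_common (x : Gh G) (X Y : Action FintypeCat.{u} G) :
    ∃ g : G, comp X x = X.ρAut g ∧ comp Y x = Y.ρAut g := by
  obtain ⟨g, hg⟩ := exists_mk x (kerX X ⊓ kerX Y)
  exact ⟨g, comp_eq X x g (val_of_le x inf_le_left g hg),
    comp_eq Y x g (val_of_le x inf_le_right g hg)⟩

/-- the comparison homomorphism. -/
noncomputable def phi0 : Gh G →* Aut (Fa G) where
  toFun x := NatIso.ofComponents (fun X => comp X x) (by
    intro X Y f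
    obtain ⟨g, hX, hY⟩ := exists_common x X Y
    rw [hX, hY]
    exact (f.comm g).symm)
  map_one' := by
    apply Iso.ext
    ext X t
    change ((comp X 1).hom) t = t
    rw [map_one]
    rfl
  map_mul' x y := by
    apply Iso.ext
    ext X t
    change ((comp X (x * y)).hom) t = (comp X x).hom ((comp X y).hom t)
    rw [map_mul]
    rfl

theorem phi0_app (x : Gh G) (X : Action FintypeCat.{u} G) :
    (phi0 x).app X = comp X x := rfl

theorem phi0_etaFn (g : G) (X : Action FintypeCat.{u} G) (t : X.V) :
    (phi0 (etaFn (GrpCat.of G) g)).hom.app X t = (X.ρ g).hom t := rfl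

theorem continuous_phi0 : Continuous (phi0 (G := G)) := by
  rw [(autEmbedding_isClosedEmbedding (Fa G)).isInducing.continuous_iff, continuous_pi_iff]
  intro X
  have h1 : Continuous (fun x : Gh G => x.val (kerX X)) :=
    (continuous_apply (kerX X)).comp continuous_subtype_val
  haveI : DiscreteTopology ((diagram (GrpCat.of G)).obj (kerX X)) := ⟨rfl⟩
  have h2 : Continuous (fun q : (diagram (GrpCat.of G)).obj (kerX X) =>
      (show Aut ((Fa G).obj X) from QuotientGroup.kerLift X.ρAut q)) :=
    continuous_of_discreteTopology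
  exact h2.comp h1

theorem injective_phi0 : Function.Injective (phi0 (G := G)) := by
  rw [injective_iff_map_eq_one]
  intro x hx
  apply limit_ext
  intro U
  haveI : U.toSubgroup.FiniteIndex := U.isFiniteIndex'
  haveI : Finite (G ⧸ U.toSubgroup) := Subgroup.finite_quotient_of_finiteIndex
  let X : Action FintypeCat.{u} G :=
    Action.FintypeCat.ofMulAction G (FintypeCat.of (G ⧸ U.toSubgroup))
  have hle : kerX X ≤ U := by
    intro g hg
    have h1 : X.ρAut g = 1 := hg
    have h2 : (X.ρ g).hom (QuotientGroup.mk 1 : G ⧸ U.toSubgroup) = QuotientGroup.mk 1 := by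
      have := congrArg (fun a : Aut X.V => a.hom (QuotientGroup.mk 1 : G ⧸ U.toSubgroup)) h1
      exact this
    have h3 : (QuotientGroup.mk (g * 1) : G ⧸ U.toSubgroup) = QuotientGroup.mk 1 := h2
    rw [mul_one, QuotientGroup.eq] at h3
    have h4 : g⁻¹ ∈ U.toSubgroup := by simpa using h3
    exact (Subgroup.inv_mem_iff _).1 h4
  obtain ⟨g, hg⟩ := exists_mk x (kerX X)
  have h4 : comp X x = 1 := by
    rw [← phi0_app, hx]
    rfl
  rw [comp_eq X x g hg] at h4
  have h5 : g ∈ U.toSubgroup := hle h4
  rw [val_of_le x hle g hg]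
  change (QuotientGroup.mk g : G ⧸ U.toSubgroup) = 1
  exact (QuotientGroup.eq_one_iff g).2 h5

theorem denseRange_phi0_etaFn :
    DenseRange (fun g : G => phi0 (etaFn (GrpCat.of G) g)) := by
  rw [DenseRange, dense_iff_inter_open]
  rintro U hU ⟨σ, hσ⟩
  let V : Set (Aut (Fa G)) := (fun τ => σ * τ) ⁻¹' U
  have hVo : IsOpen V := hU.preimage (continuous_const.mul continuous_id)
  have hV1 : (1 : Aut (Fa G)) ∈ V := by
    change σ * 1 ∈ U
    rw [mul_one]
    exact hσ
  obtain ⟨A, _, hA⟩ := (nhds_one_has_basis_stabilizers (Fa G)).mem_iff.1 (hVo.mem_nhds hV1)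
  haveI := A.isGalois
  haveI : MulAction.IsPretransitive G A.obj.V :=
    FintypeCat.Action.pretransitive_of_isConnected G A.obj
  obtain ⟨g, hg⟩ := MulAction.exists_smul_eq G (show A.obj.V from A.pt)
    (show A.obj.V from σ.hom.app A.obj A.pt)
  refine ⟨phi0 (etaFn (GrpCat.of G) g), ?_, ⟨g, rfl⟩⟩
  have hmem : σ⁻¹ * phi0 (etaFn (GrpCat.of G) g) ∈ MulAction.stabilizer (Aut (Fa G)) A.pt := by
    rw [MulAction.mem_stabilizer_iff, mul_smul]
    have h1 : (phi0 (etaFn (GrpCat.of G) g)) • A.pt = σ • A.pt := hg
    rw [h1, inv_smul_smul]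
  have := hA hmem
  change σ * (σ⁻¹ * phi0 (etaFn (GrpCat.of G) g)) ∈ U at this
  rw [mul_inv_cancel_left] at this
  exact this

theorem surjective_phi0 : Function.Surjective (phi0 (G := G)) := by
  have hcl : IsClosed (Set.range (phi0 (G := G))) :=
    (isCompact_range continuous_phi0).isClosed
  have hd : Dense (Set.range (phi0 (G := G))) := by
    apply Dense.mono _ (denseRange_phi0_etaFn (G := G))
    rintro _ ⟨g, rfl⟩
    exact ⟨_, rfl⟩
  have : Set.range (phi0 (G := G)) = Set.univ := by
    rw [← hcl.closure_eq]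
    exact hd.closure_eq
  intro σ
  have h : σ ∈ Set.range (phi0 (G := G)) := by
    rw [this]
    trivial
  exact h

/-- the comparison isomorphism of topological groups. -/
noncomputable def phi : Gh G ≃ₜ* Aut (Fa G) :=
  { MulEquiv.ofBijective (phi0 (G := G)) ⟨injective_phi0, surjective_phi0⟩ with
    continuous_toFun := continuous_phi0
    continuous_invFun := Continuous.continuous_symm_of_equiv_compact_to_t2
      (f := (MulEquiv.ofBijective (phi0 (G := G)) ⟨injective_phi0, surjective_phi0⟩).toEquiv)
      continuous_phi0 }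

theorem phi_apply (x : Gh G) : phi x = phi0 x := rfl

end Groth.Agent.H1.ProfCompAut
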