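import Mathlib

/-! A scheme covered by quasi-affine basic opens of global sections is quasi-affine. -/

universe u

open CategoryTheory CategoryTheory.Limits AlgebraicGeometry TopologicalSpace

namespace Groth.Agent.H1

/-- Lemma Q: a quasi-compact scheme each of whose points lies in a basic open `X_s`
(`s` a global section) which is a quasi-affine scheme, is quasi-affine. -/
theorem H1_isQuasiAffine_of_cover_basicOpen (X : Scheme.{u}) [CompactSpace X]
    (H : ∀ x : X, ∃ s : Γ(X, ⊤), x ∈ X.basicOpen s ∧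
      Scheme.IsQuasiAffine (X.basicOpen s : Scheme.{u})) :
    X.IsQuasiAffine := by
  classical
  choose s hxs hs using H
  haveI : QuasiSeparatedSpace X := by
    refine QuasiSeparatedSpace.of_isOpenCover (U := fun x => X.basicOpen (s x))
      (IsOpenCover.mk (eq_top_iff.mpr fun x _ ↦ Opens.mem_iSup.mpr ⟨x, hxs x⟩))
      (fun _ ↦ isRetrocompact_basicOpen _) (fun x ↦ ?_)
    haveI := hs x
    have hqs : QuasiSeparatedSpace ((X.basicOpen (s x) : Scheme.{u})) := inferInstance
    exact (isQuasiSeparated_iff_quasiSeparatedSpace _ (X.basicOpen (s x)).2).mpr hqs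
  refine Scheme.IsQuasiAffine.of_forall_exists_mem_basicOpen X fun x ↦ ?_
  haveI := hs x
  set U : X.Opens := X.basicOpen (s x) with hU
  let x' : U := ⟨x, hxs x⟩
  obtain ⟨_, ⟨_, ⟨r', hr', rfl⟩, rfl⟩, hxr, -⟩ :=
    (Scheme.IsQuasiAffine.isBasis_basicOpen (U : Scheme.{u})).exists_subset_of_mem_open
      (Set.mem_univ x') isOpen_univ
  -- the affine open of X
  have hW : IsAffineOpen (U.ι ''ᵁ (U : Scheme.{u}).basicOpen r') := hr'.image_of_isOpenImmersion U.ι
  have hxW : x ∈ U.ι ''ᵁ (U : Scheme.{u}).basicOpen r' := ⟨x', hxr, rfl⟩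
  rw [Scheme.Opens.ι_image_basicOpen'] at hW hxW
  set z : Γ(X, U) := X.presheaf.map (eqToHom U.ι_image_top.symm).op r' with hz
  obtain ⟨n, y, hy⟩ := exists_eq_pow_mul_of_isCompact_of_isQuasiSeparated X ⊤
    CompactSpace.isCompact_univ isQuasiSeparated_univ (s x) z
  have hzle : X.basicOpen z ≤ U := X.basicOpen_le z
  have key : X.basicOpen (y * s x) = X.basicOpen z := by
    rw [mul_comm, Scheme.basicOpen_mul]
    have h1 : X.basicOpen (y |_ X.basicOpen (s x)) = X.basicOpen (s x) ⊓ X.basicOpen y := by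
      dsimp only [TopCat.Presheaf.restrictOpenCommRingCat_apply]
      exact Scheme.basicOpen_res _ _ _
    rw [← h1, hy, Scheme.basicOpen_mul]
    have h2 : X.basicOpen ((s x |_ X.basicOpen (s x)) ^ n) = X.basicOpen (s x) := by
      apply Scheme.basicOpen_of_isUnit
      apply IsUnit.pow
      dsimp only [TopCat.Presheaf.restrictOpenCommRingCat_apply]
      exact RingedSpace.isUnit_res_basicOpen _ (s x)
    rw [h2]
    exact inf_eq_right.mpr hzle
  refine ⟨y * s x, ?_, ?_⟩
  · rw [key]; exact hW
  · rw [key]; exact hxW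

end Groth.Agent.H1
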