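import Mathlib
import Groth.Prelude.Def_MoreMor
import Groth.Prelude.Def_Mor2
import Groth.Agent.Lib.helper1.QuasiAffineLocal

/-! Support lemmas for quasi-affine and ind-quasi-affine morphisms. -/

universe u

open CategoryTheory CategoryTheory.Limits AlgebraicGeometry TopologicalSpace

namespace Groth.Agent.H1

variable {X Y : Scheme.{u}}

/-- Quasi-affineness is invariant under isomorphism. -/
theorem H1_isQuasiAffine_of_iso {X Y : Scheme.{u}} (e : X ≅ Y) [Y.IsQuasiAffine] :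
    X.IsQuasiAffine := by
  haveI : CompactSpace X := e.hom.homeomorph.symm.compactSpace
  exact Scheme.IsQuasiAffine.of_isImmersion e.hom

/-- A compact open inside a quasi-affine open is quasi-affine. -/
theorem H1_isQuasiAffine_of_le {X : Scheme.{u}} {U T : X.Opens} (h : U ≤ T)
    (hT : Scheme.IsQuasiAffine (T : Scheme.{u})) (hU : IsCompact (U : Set X)) :
    Scheme.IsQuasiAffine (U : Scheme.{u}) := by
  haveI : CompactSpace (U : Scheme.{u}) := isCompact_iff_compactSpace.mp hU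
  exact Scheme.IsQuasiAffine.of_isImmersion (X.homOfLE h)

theorem H1_isQuasiAffine_of_eq {X : Scheme.{u}} {U T : X.Opens} (h : U = T)
    (hT : Scheme.IsQuasiAffine (T : Scheme.{u})) : Scheme.IsQuasiAffine (U : Scheme.{u}) := by
  subst h; exact hT

/-- Compactness of a basic open of a section over a compact open. -/
theorem H1_isCompact_basicOpen {X : Scheme.{u}} {U : X.Opens} (hU : IsCompact (U : Set X))
    (r : Γ(X, U)) : IsCompact (X.basicOpen r : Set X) := by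
  haveI : CompactSpace (U : Scheme.{u}) := isCompact_iff_compactSpace.mp hU
  have h1 : IsCompact ((U : Scheme.{u}).basicOpen (U.topIso.inv r) : Set (U : Scheme.{u})) := by
    have := isRetrocompact_basicOpen (X := (U : Scheme.{u})) (U.topIso.inv r)
      CompactSpace.isCompact_univ isOpen_univ
    simpa using this
  have h2 := h1.image U.ι.continuous
  have h3 : (U.ι ''ᵁ (U : Scheme.{u}).basicOpen (U.topIso.inv r) : Set X) =
      (X.basicOpen r : Set X) := by
    rw [Scheme.Opens.ι_image_basicOpen_topIso_inv]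
  rw [← h3]
  exact h2

/-- Open-subscheme version of Lemma Q. -/
theorem H1_isQuasiAffine_opens_of_cover {X : Scheme.{u}} (U : X.Opens)
    (hU : IsCompact (U : Set X))
    (H : ∀ x ∈ U, ∃ r : Γ(X, U), x ∈ X.basicOpen r ∧
      Scheme.IsQuasiAffine (X.basicOpen r : Scheme.{u})) :
    Scheme.IsQuasiAffine (U : Scheme.{u}) := by
  haveI : CompactSpace (U : Scheme.{u}) := isCompact_iff_compactSpace.mp hU
  refine H1_isQuasiAffine_of_cover_basicOpen (U : Scheme.{u}) fun x ↦ ?_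
  obtain ⟨r, hxr, hr⟩ := H x.1 x.2
  refine ⟨U.topIso.inv r, ?_, ?_⟩
  · rw [← Scheme.Opens.ι_image_basicOpen_topIso_inv] at hxr
    obtain ⟨y, hy, hyx⟩ := hxr
    have : y = x := U.ι.isOpenEmbedding.injective hyx
    rw [← this]; exact hy
  · have e := U.ι.isoImage ((U : Scheme.{u}).basicOpen (U.topIso.inv r))
    haveI : Scheme.IsQuasiAffine
        (U.ι ''ᵁ (U : Scheme.{u}).basicOpen (U.topIso.inv r) : Scheme.{u}) :=
      H1_isQuasiAffine_of_eq (Scheme.Opens.ι_image_basicOpen_topIso_inv U r) hr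
    exact H1_isQuasiAffine_of_iso e

/-- In a quasi-affine open `T` of `Y`, every point has an affine basic-open neighbourhood
`Y.basicOpen r`, `r ∈ Γ(Y, T)`. -/
theorem H1_exists_affine_basicOpen {Y : Scheme.{u}} (T : Y.Opens)
    (hT : Scheme.IsQuasiAffine (T : Scheme.{u})) (y : Y) (hy : y ∈ T) :
    ∃ r : Γ(Y, T), y ∈ Y.basicOpen r ∧ IsAffineOpen (Y.basicOpen r) := by
  let y' : T := ⟨y, hy⟩
  obtain ⟨_, ⟨_, ⟨r', hr', rfl⟩, rfl⟩, hxr, -⟩ :=
    (Scheme.IsQuasiAffine.isBasis_basicOpen (T : Scheme.{u})).exists_subset_of_mem_open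
      (Set.mem_univ y') isOpen_univ
  have hW : IsAffineOpen (T.ι ''ᵁ (T : Scheme.{u}).basicOpen r') :=
    hr'.image_of_isOpenImmersion T.ι
  have hxW : y ∈ T.ι ''ᵁ (T : Scheme.{u}).basicOpen r' := ⟨y', hxr, rfl⟩
  rw [Scheme.Opens.ι_image_basicOpen'] at hW hxW
  exact ⟨_, hxW, hW⟩


/-- In a fibre product, the "product" of affine opens mapping into a common affine open is affine. -/
theorem H1_isAffineOpen_pullback {X S S' : Scheme.{u}} (f : X ⟶ S) (g : S' ⟶ S)
    {A : X.Opens} {D : S'.Opens} {V : S.Opens} (hA : IsAffineOpen A) (hD : IsAffineOpen D)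
    (hV : IsAffineOpen V) (hAV : A ≤ f ⁻¹ᵁ V) (hDV : D ≤ g ⁻¹ᵁ V) :
    IsAffineOpen ((pullback.fst f g) ⁻¹ᵁ A ⊓ (pullback.snd f g) ⁻¹ᵁ D) := by
  let a := f.resLE V A hAV
  let d := g.resLE V D hDV
  let φ := pullback.map a d f g A.ι D.ι V.ι (by simp [a]) (by simp [d])
  haveI : IsAffine (A : Scheme.{u}) := hA
  haveI : IsAffine (D : Scheme.{u}) := hD
  haveI : IsAffine (V : Scheme.{u}) := hV
  have h1 : IsAffineOpen φ.opensRange := isAffineOpen_opensRange φ
  convert h1 using 1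
  ext1
  rw [Scheme.Hom.coe_opensRange, Scheme.Pullback.range_map]
  simp


/-- In a fibre product, the "product" of a quasi-affine open and an affine open mapping into a
common affine open is quasi-affine. -/
theorem H1_isQuasiAffine_pullback {X S S' : Scheme.{u}} (f : X ⟶ S) (g : S' ⟶ S)
    {T : X.Opens} {D : S'.Opens} {V : S.Opens} (hT : Scheme.IsQuasiAffine (T : Scheme.{u}))
    (hD : IsAffineOpen D) (hV : IsAffineOpen V) (hTV : T ≤ f ⁻¹ᵁ V) (hDV : D ≤ g ⁻¹ᵁ V) :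
    Scheme.IsQuasiAffine
      (((pullback.fst f g) ⁻¹ᵁ T ⊓ (pullback.snd f g) ⁻¹ᵁ D : (pullback f g).Opens) : Scheme.{u}) := by
  classical
  set P : (pullback f g).Opens := (pullback.fst f g) ⁻¹ᵁ T ⊓ (pullback.snd f g) ⁻¹ᵁ D with hP
  have hex : ∀ x : T, ∃ r : Γ(X, T), (x : X) ∈ X.basicOpen r ∧ IsAffineOpen (X.basicOpen r) :=
    fun x => H1_exists_affine_basicOpen T hT x.1 x.2
  choose r hxr hr using hex
  have hTc : IsCompact (T : Set X) := isCompact_iff_compactSpace.mpr hT.toCompactSpace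
  obtain ⟨t, ht⟩ := hTc.elim_finite_subcover (fun x : T => (X.basicOpen (r x) : Set X))
    (fun x => (X.basicOpen (r x)).isOpen)
    (fun y hy => Set.mem_iUnion.mpr ⟨⟨y, hy⟩, hxr ⟨y, hy⟩⟩)
  have hPc : IsCompact (P : Set ↥(pullback f g)) := by
    have heq : (P : Set ↥(pullback f g)) = ⋃ x ∈ t,
        (((pullback.fst f g) ⁻¹ᵁ (X.basicOpen (r x)) ⊓ (pullback.snd f g) ⁻¹ᵁ D :
          (pullback f g).Opens) : Set ↥(pullback f g)) := by
      apply subset_antisymm
      · rintro z ⟨hz1, hz2⟩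
        have hz1' : (pullback.fst f g) z ∈ (T : Set X) := hz1
        obtain ⟨x, hx, hzx⟩ := Set.mem_iUnion₂.mp (ht hz1')
        exact Set.mem_iUnion₂.mpr ⟨x, hx, ⟨hzx, hz2⟩⟩
      · intro z hz
        obtain ⟨x, hx, hzx1, hzx2⟩ := Set.mem_iUnion₂.mp hz
        exact ⟨X.basicOpen_le (r x) hzx1, hzx2⟩
    rw [heq]
    exact t.isCompact_biUnion fun x _ => (H1_isAffineOpen_pullback f g (hr x) hD hV
      ((X.basicOpen_le _).trans hTV) hDV).isCompact
  refine H1_isQuasiAffine_opens_of_cover P hPc fun x hx => ?_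
  obtain ⟨r0, hxr0, hr0⟩ := H1_exists_affine_basicOpen T hT (pullback.fst f g x) hx.1
  have heq : (pullback f g).basicOpen ((pullback.fst f g).appLE T P inf_le_left r0) =
      (pullback.fst f g) ⁻¹ᵁ (X.basicOpen r0) ⊓ (pullback.snd f g) ⁻¹ᵁ D := by
    rw [Scheme.basicOpen_appLE]
    apply le_antisymm
    · rintro z ⟨⟨_, hz2⟩, hz3⟩
      exact ⟨hz3, hz2⟩
    · rintro z ⟨hz1, hz2⟩
      exact ⟨⟨X.basicOpen_le r0 hz1, hz2⟩, hz1⟩
  refine ⟨(pullback.fst f g).appLE T P inf_le_left r0, ?_, ?_⟩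
  · rw [Scheme.basicOpen_appLE]; exact ⟨hx, hxr0⟩
  · have haff := H1_isAffineOpen_pullback f g hr0 hD hV ((X.basicOpen_le r0).trans hTV) hDV
    rw [← heq] at haff
    haveI : IsAffine (((pullback f g).basicOpen
      ((pullback.fst f g).appLE T P inf_le_left r0) : (pullback f g).Opens) : Scheme.{u}) := haff
    infer_instance


/-- Ind-quasi-affine morphisms, phrased with opens of the source. -/
def H1_IQA {X Y : Scheme.{u}} (f : X ⟶ Y) : Prop :=
  ∀ V : Y.Opens, IsAffineOpen V → ∀ U : X.Opens, U ≤ f ⁻¹ᵁ V → IsCompact (U : Set X) →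
    Scheme.IsQuasiAffine (U : Scheme.{u})

theorem H1_isIndQuasiAffine_iff {X : Scheme.{u}} (T : X.Opens) :
    MoreMor.IsIndQuasiAffine (T : Scheme.{u}) ↔
      ∀ U : X.Opens, U ≤ T → IsCompact (U : Set X) → Scheme.IsQuasiAffine (U : Scheme.{u}) := by
  constructor
  · intro h U hUT hU
    have hc : IsCompact ((T.ι ⁻¹ᵁ U : (T : Scheme.{u}).Opens) : Set (T : Scheme.{u})) := by
      have hsub : (U : Set X) ⊆ Set.range T.ι := by
        rw [Scheme.Opens.range_ι]; exact hUT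
      exact (T.ι.isOpenEmbedding.isInducing.isCompact_preimage_iff hsub).mpr hU
    haveI := h (T.ι ⁻¹ᵁ U) hc
    have heq : T.ι ''ᵁ (T.ι ⁻¹ᵁ U) = U := by
      rw [Scheme.Hom.image_preimage_eq_opensRange_inf, Scheme.Opens.opensRange_ι]
      exact inf_eq_right.mpr hUT
    have e1 := T.ι.isoImage (T.ι ⁻¹ᵁ U)
    haveI : Scheme.IsQuasiAffine ((T.ι ''ᵁ (T.ι ⁻¹ᵁ U) : X.Opens) : Scheme.{u}) :=
      H1_isQuasiAffine_of_iso e1.symm
    exact H1_isQuasiAffine_of_eq heq.symm inferInstance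
  · intro h U' hU'
    have hle : T.ι ''ᵁ U' ≤ T := by
      rintro _ ⟨y, -, rfl⟩
      exact y.2
    have hc : IsCompact ((T.ι ''ᵁ U' : X.Opens) : Set X) := hU'.image T.ι.continuous
    haveI := h (T.ι ''ᵁ U') hle hc
    exact H1_isQuasiAffine_of_iso (T.ι.isoImage U')

theorem H1_IQA_iff {X Y : Scheme.{u}} (f : X ⟶ Y) :
    MoreMor.IsIndQuasiAffineHom f ↔ H1_IQA f := by
  unfold MoreMor.IsIndQuasiAffineHom H1_IQA
  exact forall₂_congr fun V _ => H1_isIndQuasiAffine_iff (f ⁻¹ᵁ V)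


/-- Quasi-affineness of a compact open over an open `V` of the target can be checked on a cover of
`V` by basic opens. -/
theorem H1_isQuasiAffine_of_basicOpen_cover {X Y : Scheme.{u}} (f : X ⟶ Y) (U : X.Opens)
    (hU : IsCompact (U : Set X)) (V : Y.Opens) (hUV : U ≤ f ⁻¹ᵁ V)
    (H : ∀ x ∈ U, ∃ b : Γ(Y, V), f x ∈ Y.basicOpen b ∧
      Scheme.IsQuasiAffine ((U ⊓ f ⁻¹ᵁ (Y.basicOpen b) : X.Opens) : Scheme.{u})) :
    Scheme.IsQuasiAffine (U : Scheme.{u}) := by
  refine H1_isQuasiAffine_opens_of_cover U hU fun x hx => ?_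
  obtain ⟨b, hxb, hb⟩ := H x hx
  refine ⟨f.appLE V U hUV b, ?_, ?_⟩
  · rw [Scheme.basicOpen_appLE]; exact ⟨hx, hxb⟩
  · exact H1_isQuasiAffine_of_eq (Scheme.basicOpen_appLE f U V hUV b) hb

/-- A compact subset of an open of a scheme is contained in a compact open inside that open. -/
theorem H1_exists_compact_open_between {Y : Scheme.{u}} {K : Set Y} (hK : IsCompact K)
    (O : Y.Opens) (hKO : K ⊆ O) :
    ∃ T : Y.Opens, IsCompact (T : Set Y) ∧ K ⊆ T ∧ T ≤ O := by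
  classical
  have hex : ∀ y : O, ∃ A : Y.Opens, IsAffineOpen A ∧ (y : Y) ∈ A ∧ A ≤ O := by
    intro y
    obtain ⟨_, ⟨A, hA, rfl⟩, hyA, hAO⟩ :=
      Y.isBasis_affineOpens.exists_subset_of_mem_open y.2 O.isOpen
    exact ⟨A, hA, hyA, hAO⟩
  choose A hA hyA hAO using hex
  obtain ⟨t, ht⟩ := hK.elim_finite_subcover (fun y : O => (A y : Set Y))
    (fun y => (A y).isOpen) (fun y hy => Set.mem_iUnion.mpr ⟨⟨y, hKO hy⟩, hyA ⟨y, hKO hy⟩⟩)
  refine ⟨⨆ y ∈ t, A y, ?_, ?_, ?_⟩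
  · have : ((⨆ y ∈ t, A y : Y.Opens) : Set Y) = ⋃ y ∈ t, (A y : Set Y) := by
      simp [Opens.coe_iSup]
    rw [this]
    exact t.isCompact_biUnion fun y _ => (hA y).isCompact
  · intro k hk
    obtain ⟨y, hy, hky⟩ := Set.mem_iUnion₂.mp (ht hk)
    exact Opens.mem_iSup.mpr ⟨y, Opens.mem_iSup.mpr ⟨hy, hky⟩⟩
  · exact iSup₂_le fun y _ => hAO y

end Groth.Agent.H1
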