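import Mathlib

/-!
Quasi-affine schemes and morphisms: helper lemmas.
-/

namespace Groth.Agent.H1

open AlgebraicGeometry CategoryTheory TopologicalSpace

universe u

/-- A quasi-compact scheme with an inducing map to an affine scheme is quasi-affine. -/
theorem H1_isQuasiAffine_of_isInducing {X' V : Scheme.{u}} [IsAffine V] [CompactSpace X']
    (f' : X' ⟶ V) (h : Topology.IsInducing f') : X'.IsQuasiAffine := by
  refine .of_forall_exists_mem_basicOpen _ fun x => ?_
  obtain ⟨_, ⟨W, hW : IsAffineOpen W, rfl⟩, hxW, -⟩ :=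
    X'.isBasis_affineOpens.exists_subset_of_mem_open (Set.mem_univ x) isOpen_univ
  obtain ⟨V', hV'open, hV'⟩ := h.isOpen_iff.mp W.isOpen
  have hfx : f' x ∈ V' := by
    have : x ∈ f' ⁻¹' V' := by rw [hV']; exact hxW
    exact this
  obtain ⟨_, ⟨_, ⟨a, rfl⟩, rfl⟩, hxa, haV'⟩ :=
    (isBasis_basicOpen V).exists_subset_of_mem_open hfx hV'open
  refine ⟨f'.appTop a, ?_, ?_⟩
  · have hle : X'.basicOpen (f'.appTop a) ≤ W := by
      rw [← Scheme.preimage_basicOpen_top]
      intro y hy
      have : y ∈ f' ⁻¹' V' := haV' hy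
      rw [hV'] at this
      exact this
    have e : X'.basicOpen (f'.appTop a) =
        X'.basicOpen (X'.presheaf.map (homOfLE (le_top : W ≤ ⊤)).op (f'.appTop a)) := by
      rw [Scheme.basicOpen_res]; exact (inf_eq_right.mpr hle).symm
    rw [e]; exact hW.basicOpen _
  · rw [← Scheme.preimage_basicOpen_top]; exact hxa

end Groth.Agent.H1
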