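import Mathlib

/-! Fully faithfulness of the functor induced between Serre quotients (S13989). -/

set_option autoImplicit false
universe v u v' u' v'' u''
open CategoryTheory CategoryTheory.Limits

namespace Groth.Agent.H1.SerreFF

variable {A A' : Type u} [Category.{v} A] [Abelian A] [Category.{v} A'] [Abelian A']
  (i : A' ⥤ A) [i.Full] [i.Faithful] [PreservesFiniteLimits i] [PreservesFiniteColimits i]
  (J : ObjectProperty A) [J.IsSerreClass] [(J.inverseImage i).IsSerreClass]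

/-- `i` sends isomorphisms modulo `J ∩ A'` to isomorphisms modulo `J`. -/
lemma map_mem {X Y : A'} (f : X ⟶ Y) (hf : (J.inverseImage i).isoModSerre f) :
    J.isoModSerre (i.map f) := by
  refine ⟨?_, ?_⟩
  · exact J.prop_of_iso (PreservesKernel.iso i f) hf.1
  · exact J.prop_of_iso (PreservesCokernel.iso i f) hf.2

lemma prop_cokernel_of_eq {X Y : A} {f g : X ⟶ Y} (h : f = g) (hJ : J (cokernel f)) :
    J (cokernel g) := by subst h; exact hJ

lemma prop_kernel_of_eq {X Y : A} {f g : X ⟶ Y} (h : f = g) (hJ : J (kernel f)) :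
    J (kernel g) := by subst h; exact hJ

lemma exists_sub
    (hquot : ∀ (M : A') (N : A) (p : i.obj M ⟶ N), Epi p → J N → i.essImage N)
    {M : A'} {Z : A} (s : Z ⟶ i.obj M) (hs : J (cokernel s)) :
    ∃ (M₁ : A') (m₁ : M₁ ⟶ M) (p : Z ⟶ i.obj M₁),
      (J.inverseImage i).isoModSerre m₁ ∧ Epi p ∧ p ≫ i.map m₁ = s := by
  obtain ⟨C, ⟨φ⟩⟩ := hquot M (cokernel s) (cokernel.π s) inferInstance hs
  obtain ⟨π₁, hπ₁⟩ : ∃ π₁ : M ⟶ C, i.map π₁ = cokernel.π s ≫ φ.inv :=
    ⟨i.preimage (cokernel.π s ≫ φ.inv), i.map_preimage _⟩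
  have h0 : s ≫ i.map π₁ = 0 := by
    rw [hπ₁, ← Category.assoc, cokernel.condition, zero_comp]
  have hm : Mono (i.map (kernel.ι π₁)) := inferInstance
  have hker : i.map (kernel.ι π₁) ≫ cokernel.π s = 0 := by
    have h1 : i.map (kernel.ι π₁) ≫ i.map π₁ = 0 := by
      rw [← i.map_comp, kernel.condition, i.map_zero]
    rw [hπ₁, ← Category.assoc] at h1
    have := congrArg (fun x => x ≫ φ.hom) h1
    simpa using this
  let p : Z ⟶ i.obj (kernel π₁) := kernel.lift (i.map π₁) s h0 ≫ (PreservesKernel.iso i π₁).inv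
  have hp : p ≫ i.map (kernel.ι π₁) = s := by
    simp only [p, Category.assoc, PreservesKernel.iso_inv_ι, kernel.lift_ι]
  have hepi : Epi p := by
    rw [epi_iff_surjective_up_to_refinements]
    intro T y
    obtain ⟨T', e, he, x₁, hx₁⟩ :=
      (ShortComplex.exact_iff_exact_up_to_refinements _).1 (ShortComplex.exact_cokernel s)
        (y ≫ i.map (kernel.ι π₁)) (by
          change (y ≫ i.map (kernel.ι π₁)) ≫ cokernel.π s = 0
          rw [Category.assoc, hker, comp_zero])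
    refine ⟨T', e, he, x₁, ?_⟩
    rw [← cancel_mono (i.map (kernel.ι π₁)), Category.assoc, Category.assoc, hp]
    exact hx₁
  refine ⟨kernel π₁, kernel.ι π₁, p, ?_, hepi, hp⟩
  rw [ObjectProperty.isoModSerre_iff_of_mono]
  change J (i.obj (cokernel (kernel.ι π₁)))
  have h2 : J (cokernel (p ≫ i.map (kernel.ι π₁))) := prop_cokernel_of_eq J hp.symm hs
  have h3 : J (cokernel (i.map (kernel.ι π₁))) :=
    J.prop_of_iso (cokernelEpiComp p (i.map (kernel.ι π₁))) h2
  exact J.prop_of_iso (PreservesCokernel.iso i (kernel.ι π₁)).symm h3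

lemma exists_quot
    (hsub : ∀ (M : A') (N : A) (f : N ⟶ i.obj M), Mono f → J N → i.essImage N)
    {N : A'} {Z : A} (s : i.obj N ⟶ Z) (hs : J (kernel s)) :
    ∃ (N₁ : A') (q₁ : N ⟶ N₁) (j : i.obj N₁ ⟶ Z),
      (J.inverseImage i).isoModSerre q₁ ∧ Mono j ∧ i.map q₁ ≫ j = s := by
  obtain ⟨K, ⟨φ⟩⟩ := hsub N (kernel s) (kernel.ι s) inferInstance hs
  obtain ⟨κ₁, hκ₁⟩ : ∃ κ₁ : K ⟶ N, i.map κ₁ = φ.hom ≫ kernel.ι s :=
    ⟨i.preimage (φ.hom ≫ kernel.ι s), i.map_preimage _⟩
  have h0 : i.map κ₁ ≫ s = 0 := by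
    rw [hκ₁, Category.assoc, kernel.condition, comp_zero]
  have he : Epi (i.map (cokernel.π κ₁)) := inferInstance
  let j : i.obj (cokernel κ₁) ⟶ Z :=
    (PreservesCokernel.iso i κ₁).hom ≫ cokernel.desc (i.map κ₁) s h0
  have hj : i.map (cokernel.π κ₁) ≫ j = s := by
    simp only [j, ← Category.assoc, PreservesCokernel.π_iso_hom, cokernel.π_desc]
  have hmono : Mono j := by
    apply Preadditive.mono_of_cancel_zero
    intro T t ht
    obtain ⟨T', e, he', x, hx⟩ :=
      (epi_iff_surjective_up_to_refinements (i.map (cokernel.π κ₁))).1 he t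
    have hxs : x ≫ s = 0 := by
      rw [← hj, ← Category.assoc, ← hx, Category.assoc, ht, comp_zero]
    have hx2 : x = (kernel.lift s x hxs ≫ φ.inv) ≫ i.map κ₁ := by
      rw [hκ₁, Category.assoc, Iso.inv_hom_id_assoc, kernel.lift_ι]
    have h3 : x ≫ i.map (cokernel.π κ₁) = 0 := by
      rw [hx2, Category.assoc, ← i.map_comp, cokernel.condition, i.map_zero, comp_zero]
    rw [h3] at hx
    rw [← cancel_epi e, hx, comp_zero]
  refine ⟨cokernel κ₁, cokernel.π κ₁, j, ?_, hmono, hj⟩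
  rw [ObjectProperty.isoModSerre_iff_of_epi]
  change J (i.obj (kernel (cokernel.π κ₁)))
  have h2 : J (kernel (i.map (cokernel.π κ₁) ≫ j)) := prop_kernel_of_eq J hj.symm hs
  have h3 : J (kernel (i.map (cokernel.π κ₁))) :=
    J.prop_of_iso (kernelCompMono (i.map (cokernel.π κ₁)) j) h2
  exact J.prop_of_iso (PreservesKernel.iso i (cokernel.π κ₁)).symm h3

section Main

variable
    (hsub : ∀ (M : A') (N : A) (f : N ⟶ i.obj M), Mono f → J N → i.essImage N)
    (hquot : ∀ (M : A') (N : A) (p : i.obj M ⟶ N), Epi p → J N → i.essImage N)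
    {Q : Type u'} [Category.{v'} Q] (L : A ⥤ Q) [L.IsLocalization J.isoModSerre]
    {Q' : Type u''} [Category.{v''} Q'] (L' : A' ⥤ Q')
    [L'.IsLocalization (J.inverseImage i).isoModSerre]
    (Φ : Q' ⥤ Q) (e : L' ⋙ Φ ≅ i ⋙ L)

include e in
lemma map_map_eq {X Y : A'} (x : X ⟶ Y) :
    Φ.map (L'.map x) = e.hom.app X ≫ L.map (i.map x) ≫ e.inv.app Y := by
  have := e.hom.naturality x
  simp only [Functor.comp_map] at this
  rw [← Category.assoc, ← this, Category.assoc, Iso.hom_inv_id_app, Category.comp_id]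

include hquot e in
theorem faithful : Φ.Faithful := by
  apply Functor.faithful_of_comp_of_hasLeftCalculusOfFractions L'
    (J.inverseImage i).isoModSerre Φ
  intro X₁ X₂ f g hfg
  rw [map_map_eq i L L' Φ e f, map_map_eq i L L' Φ e g] at hfg
  have h1 : L.map (i.map f) = L.map (i.map g) := by
    have := congrArg (fun x => e.inv.app X₁ ≫ x ≫ e.hom.app X₂) hfg
    simpa using this
  obtain ⟨Z, t, ht, htfg⟩ := (MorphismProperty.map_eq_iff_precomp L J.isoModSerre _ _).1 h1
  obtain ⟨M₁, m₁, p, hm₁, hp, hpt⟩ := exists_sub i J hquot t ht.2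
  rw [MorphismProperty.map_eq_iff_precomp L' (J.inverseImage i).isoModSerre]
  refine ⟨M₁, m₁, hm₁, ?_⟩
  apply i.map_injective
  rw [i.map_comp, i.map_comp, ← cancel_epi p, ← Category.assoc, ← Category.assoc, hpt, htfg]

include hsub hquot e in
theorem full : Φ.Full := by
  have := Localization.essSurj L' (J.inverseImage i).isoModSerre
  apply Functor.full_of_comp_essSurj Φ L'
  intro M N ψ
  obtain ⟨φ, hφ⟩ := Localization.exists_rightFraction L J.isoModSerre
    (e.inv.app M ≫ ψ ≫ e.hom.app N)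
  obtain ⟨M₁, m₁, p, hm₁, hp, hps⟩ := exists_sub i J hquot φ.s φ.hs.2
  have hWm : J.isoModSerre (i.map m₁) := map_mem i J m₁ hm₁
  have hWp : J.isoModSerre p :=
    MorphismProperty.of_postcomp J.isoModSerre p (i.map m₁) hWm (by rw [hps]; exact φ.hs)
  -- the quotient of the target
  let q := cokernel.π (kernel.ι p ≫ φ.f)
  have hq : J (kernel q) :=
    J.prop_of_epi (Abelian.factorThruImage (kernel.ι p ≫ φ.f)) hWp.1
  have hzero : kernel.ι p ≫ φ.f ≫ q = 0 := by
    rw [← Category.assoc]; exact cokernel.condition _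
  let g := (ShortComplex.exact_kernel p).desc (φ.f ≫ q) hzero
  have hg : p ≫ g = φ.f ≫ q := (ShortComplex.exact_kernel p).g_desc (φ.f ≫ q) hzero
  obtain ⟨N₁, q₁, j, hq₁, hj, hjq⟩ := exists_quot i J hsub q hq
  have hje : Epi j := epi_of_epi_fac hjq
  have hji : IsIso j := isIso_of_mono_of_epi j
  obtain ⟨g₁, hg₁⟩ : ∃ g₁ : M₁ ⟶ N₁, i.map g₁ = g ≫ inv j :=
    ⟨i.preimage (g ≫ inv j), i.map_preimage _⟩
  have hWq : J.isoModSerre (i.map q₁) := map_mem i J q₁ hq₁
  have key : p ≫ i.map g₁ = φ.f ≫ i.map q₁ := by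
    rw [hg₁, ← Category.assoc, hg, Category.assoc, ← hjq, Category.assoc, IsIso.hom_inv_id,
      Category.comp_id]
  haveI : IsIso (L'.map m₁) := Localization.inverts L' _ m₁ hm₁
  haveI : IsIso (L'.map q₁) := Localization.inverts L' _ q₁ hq₁
  haveI : IsIso (L.map (i.map m₁)) := Localization.inverts L _ _ hWm
  haveI : IsIso (L.map (i.map q₁)) := Localization.inverts L _ _ hWq
  haveI : IsIso (L.map p) := Localization.inverts L _ _ hWp
  haveI : IsIso (L.map φ.s) := Localization.inverts L _ _ φ.hs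
  refine ⟨inv (L'.map m₁) ≫ L'.map g₁ ≫ inv (L'.map q₁), ?_⟩
  -- the key identity in `Q`
  have hα : L.map (i.map m₁) ≫ (e.inv.app M ≫ ψ ≫ e.hom.app N) ≫ L.map (i.map q₁) =
      L.map (i.map g₁) := by
    rw [hφ, ← cancel_epi (L.map p)]
    have h1 : L.map p ≫ L.map (i.map m₁) = L.map φ.s := by rw [← L.map_comp, hps]
    rw [← Category.assoc, h1, ← Category.assoc,
      MorphismProperty.RightFraction.map_s_comp_map, ← L.map_comp, ← L.map_comp, key]
  have hψ : ψ = e.hom.app M ≫ (e.inv.app M ≫ ψ ≫ e.hom.app N) ≫ e.inv.app N := by simp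
  rw [← cancel_epi (Φ.map (L'.map m₁)), ← cancel_mono (Φ.map (L'.map q₁))]
  have h2 : Φ.map (L'.map m₁) ≫ Φ.map (inv (L'.map m₁) ≫ L'.map g₁ ≫ inv (L'.map q₁)) ≫
      Φ.map (L'.map q₁) = Φ.map (L'.map g₁) := by
    rw [← Φ.map_comp, ← Φ.map_comp]
    congr 1
    simp
  rw [Category.assoc, h2, map_map_eq i L L' Φ e g₁, ← hα, map_map_eq i L L' Φ e m₁,
    map_map_eq i L L' Φ e q₁]
  conv_rhs => rw [hψ]
  simp only [Category.assoc, Iso.inv_hom_id_app_assoc, Iso.hom_inv_id_app_assoc]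

end Main

end Groth.Agent.H1.SerreFF
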