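import Mathlib

set_option autoImplicit false
universe w v u
open CategoryTheory

namespace Groth.Agent.H1.SerreUniq

variable {k : Type w} [Field k] {T : Type u} [Category.{v} T] [Preadditive T] [Linear k T]
  [∀ X Y : T, Module.Finite k (X ⟶ Y)]

section One

variable (S : T ⥤ T) (c : ∀ X Y : T, (X ⟶ Y) ≃ₗ[k] Module.Dual k (Y ⟶ S.obj X))

/-- the trace functional -/
noncomputable def tr (X : T) : Module.Dual k (X ⟶ S.obj X) := c X X (𝟙 X)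

variable (hc₁ : ∀ (X Y Y' : T) (f : X ⟶ Y) (g : Y ⟶ Y'),
  c X Y' (f ≫ g) = (c X Y f) ∘ₗ Linear.leftComp k (S.obj X) g)

include hc₁ in
lemma c_eq_tr (X Y : T) (f : X ⟶ Y) (g : Y ⟶ S.obj X) : c X Y f g = tr S c X (f ≫ g) := by
  have := hc₁ X X Y (𝟙 X) f
  rw [Category.id_comp] at this
  rw [this]
  rfl

variable (hc₂ : ∀ (X' X Y : T) (a : X' ⟶ X) (f : X ⟶ Y),
  c X' Y (a ≫ f) = (c X Y f) ∘ₗ Linear.rightComp k Y (S.map a))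

include hc₁ hc₂ in
lemma tr_nat (X' X : T) (a : X' ⟶ X) (g : X ⟶ S.obj X') :
    tr S c X' (a ≫ g) = tr S c X (g ≫ S.map a) := by
  have := hc₂ X' X X a (𝟙 X)
  rw [Category.comp_id] at this
  rw [← c_eq_tr S c hc₁ X' X a g, this]
  rfl

include hc₁ in
lemma ext_of_pair (X Y : T) (u v : Y ⟶ S.obj X)
    (h : ∀ f : X ⟶ Y, tr S c X (f ≫ u) = tr S c X (f ≫ v)) : u = v := by
  rw [← sub_eq_zero, ← Module.forall_dual_apply_eq_zero_iff k]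
  intro ξ
  obtain ⟨f, rfl⟩ := (c X Y).surjective ξ
  rw [map_sub, c_eq_tr S c hc₁, c_eq_tr S c hc₁, h f, sub_self]

end One

section Two

variable (S : T ⥤ T) (c : ∀ X Y : T, (X ⟶ Y) ≃ₗ[k] Module.Dual k (Y ⟶ S.obj X))
  (S' : T ⥤ T) (c' : ∀ X Y : T, (X ⟶ Y) ≃ₗ[k] Module.Dual k (Y ⟶ S'.obj X))

/-- the comparison map -/
noncomputable def φ (X : T) : S.obj X ⟶ S'.obj X :=
  (Module.evalEquiv k (S.obj X ⟶ S'.obj X)).symm
    ((tr S c X) ∘ₗ (c' X (S.obj X)).symm.toLinearMap)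

variable (hc'₁ : ∀ (X Y Y' : T) (f : X ⟶ Y) (g : Y ⟶ Y'),
  c' X Y' (f ≫ g) = (c' X Y f) ∘ₗ Linear.leftComp k (S'.obj X) g)

include hc'₁ in
lemma tr_φ (X : T) (h : X ⟶ S.obj X) :
    tr S' c' X (h ≫ φ S c S' c' X) = tr S c X h := by
  rw [← c_eq_tr S' c' hc'₁]
  unfold φ
  rw [Module.apply_evalEquiv_symm_apply]
  simp

end Two

section Main

variable (S : T ⥤ T) (c : ∀ X Y : T, (X ⟶ Y) ≃ₗ[k] Module.Dual k (Y ⟶ S.obj X))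
  (hc₁ : ∀ (X Y Y' : T) (f : X ⟶ Y) (g : Y ⟶ Y'),
    c X Y' (f ≫ g) = (c X Y f) ∘ₗ Linear.leftComp k (S.obj X) g)
  (hc₂ : ∀ (X' X Y : T) (a : X' ⟶ X) (f : X ⟶ Y),
    c X' Y (a ≫ f) = (c X Y f) ∘ₗ Linear.rightComp k Y (S.map a))
  (S' : T ⥤ T) (c' : ∀ X Y : T, (X ⟶ Y) ≃ₗ[k] Module.Dual k (Y ⟶ S'.obj X))
  (hc'₁ : ∀ (X Y Y' : T) (f : X ⟶ Y) (g : Y ⟶ Y'),
    c' X Y' (f ≫ g) = (c' X Y f) ∘ₗ Linear.leftComp k (S'.obj X) g)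
  (hc'₂ : ∀ (X' X Y : T) (a : X' ⟶ X) (f : X ⟶ Y),
    c' X' Y (a ≫ f) = (c' X Y f) ∘ₗ Linear.rightComp k Y (S'.map a))

include hc₁ hc₂ hc'₁ hc'₂ in
lemma φ_nat (X' X : T) (a : X' ⟶ X) :
    S.map a ≫ φ S c S' c' X = φ S c S' c' X' ≫ S'.map a := by
  apply ext_of_pair S' c' hc'₁
  intro h
  calc tr S' c' X (h ≫ S.map a ≫ φ S c S' c' X)
      = tr S' c' X ((h ≫ S.map a) ≫ φ S c S' c' X) := by rw [Category.assoc]
    _ = tr S c X (h ≫ S.map a) := tr_φ S c S' c' hc'₁ X _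
    _ = tr S c X' (a ≫ h) := (tr_nat S c hc₁ hc₂ X' X a h).symm
    _ = tr S' c' X' ((a ≫ h) ≫ φ S c S' c' X') := (tr_φ S c S' c' hc'₁ X' _).symm
    _ = tr S' c' X' (a ≫ (h ≫ φ S c S' c' X')) := by rw [Category.assoc]
    _ = tr S' c' X ((h ≫ φ S c S' c' X') ≫ S'.map a) := tr_nat S' c' hc'₁ hc'₂ X' X a _
    _ = tr S' c' X (h ≫ φ S c S' c' X' ≫ S'.map a) := by rw [Category.assoc]

include hc₁ hc'₁ in
lemma φ_φ (X : T) : φ S c S' c' X ≫ φ S' c' S c X = 𝟙 _ := by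
  apply ext_of_pair S c hc₁
  intro h
  rw [← Category.assoc, tr_φ S' c' S c hc₁, tr_φ S c S' c' hc'₁, Category.comp_id]

/-- the isomorphism of functors -/
noncomputable def φIso : S ≅ S' :=
  NatIso.ofComponents (fun X => ⟨φ S c S' c' X, φ S' c' S c X, φ_φ S c hc₁ S' c' hc'₁ X,
    φ_φ S' c' hc'₁ S c hc₁ X⟩) (fun {X' X} a => φ_nat S c hc₁ hc₂ S' c' hc'₁ hc'₂ X' X a)

include hc₁ hc₂ hc'₁ hc'₂ in
theorem main : ∃! ψ : S ≅ S', ∀ (X Y : T) (f : X ⟶ Y),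
    c X Y f = (c' X Y f) ∘ₗ Linear.rightComp k Y (ψ.hom.app X) := by
  refine ⟨φIso S c hc₁ hc₂ S' c' hc'₁ hc'₂, ?_, ?_⟩
  · intro X Y f
    apply LinearMap.ext
    intro g
    change c X Y f g = c' X Y f (g ≫ φ S c S' c' X)
    rw [c_eq_tr S c hc₁, c_eq_tr S' c' hc'₁, ← Category.assoc, tr_φ S c S' c' hc'₁]
  · intro ψ hψ
    apply Iso.ext
    apply NatTrans.ext
    funext X
    change ψ.hom.app X = φ S c S' c' X
    apply ext_of_pair S' c' hc'₁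
    intro h
    rw [tr_φ S c S' c' hc'₁]
    have := LinearMap.congr_fun (hψ X X (𝟙 X)) h
    change tr S c X h = c' X X (𝟙 X) (h ≫ ψ.hom.app X) at this
    rw [this]
    rfl

end Main

end Groth.Agent.H1.SerreUniq
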