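import Mathlib
open CategoryTheory CategoryTheory.Limits Opposite
universe u

namespace Groth.Agent.H1.ShCof

variable {C : Type u} [SmallCategory C] (J : GrothendieckTopology C) {X : C} {ι : Type u}
  (Y : ι → C) (s : ∀ i, Y i ⟶ X)

/-- the presheaf coproduct of the representables -/
noncomputable abbrev Sg : Cᵒᵖ ⥤ Type u := ∐ (fun i => yoneda.obj (Y i))

/-- the comparison map -/
noncomputable abbrev sg : Sg Y ⟶ yoneda.obj X := Sigma.desc (fun i => yoneda.map (s i))

/-- evaluated colimit cofan -/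
noncomputable def evColim (V : Cᵒᵖ) :
    IsColimit (Cofan.mk ((Sg Y).obj V)
      (fun i => (Sigma.ι (fun i => yoneda.obj (Y i)) i).app V) :
        Cofan fun i => (V.unop ⟶ Y i)) :=
  isColimitCofanMkObjOfIsColimit ((evaluation Cᵒᵖ (Type u)).obj V) _ _
    (coproductIsCoproduct (fun i => yoneda.obj (Y i)))

lemma sg_surj (V : Cᵒᵖ) (t : (Sg Y).obj V) :
    ∃ (i : ι) (g : V.unop ⟶ Y i), (Sigma.ι (fun i => yoneda.obj (Y i)) i).app V g = t :=
  Cofan.inj_jointly_surjective_of_isColimit (evColim Y V) t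

lemma sg_idx (V : Cᵒᵖ) {i j : ι} (g : V.unop ⟶ Y i) (g' : V.unop ⟶ Y j)
    (h : (Sigma.ι (fun i => yoneda.obj (Y i)) i).app V g =
      (Sigma.ι (fun i => yoneda.obj (Y i)) j).app V g') : i = j :=
  Cofan.eq_of_inj_apply_eq_of_isColimit (evColim Y V) g g' h

lemma sg_inj (V : Cᵒᵖ) {i : ι} (g g' : V.unop ⟶ Y i)
    (h : (Sigma.ι (fun i => yoneda.obj (Y i)) i).app V g =
      (Sigma.ι (fun i => yoneda.obj (Y i)) i).app V g') : g = g' :=
  Cofan.inj_injective_of_isColimit (evColim Y V) i h

lemma sg_app (V : Cᵒᵖ) (i : ι) (g : V.unop ⟶ Y i) :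
    (sg Y s).app V ((Sigma.ι (fun i => yoneda.obj (Y i)) i).app V g) = g ≫ s i := by
  have := congrArg (fun φ => φ.app V g) (Sigma.ι_desc (fun i => yoneda.map (s i)) i)
  exact this

lemma sg_map {V W : Cᵒᵖ} (h : V ⟶ W) (i : ι) (g : V.unop ⟶ Y i) :
    (Sg Y).map h ((Sigma.ι (fun i => yoneda.obj (Y i)) i).app V g) =
      (Sigma.ι (fun i => yoneda.obj (Y i)) i).app W (h.unop ≫ g) := by
  have := ConcreteCategory.congr_hom ((Sigma.ι (fun i => yoneda.obj (Y i)) i).naturality h) g
  exact this.symm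


/-- (B) ↔ the sheafified comparison is an iso -/
lemma colim_iff_isIso :
    Nonempty (IsColimit (Cofan.mk ((presheafToSheaf J (Type u)).obj (yoneda.obj X))
      (fun i => (presheafToSheaf J (Type u)).map (yoneda.map (s i))))) ↔
    IsIso ((presheafToSheaf J (Type u)).map (sg Y s)) := by
  let a := presheafToSheaf J (Type u)
  have hc : IsColimit (Cofan.mk (a.obj (Sg Y))
      (fun i => a.map (Sigma.ι (fun i => yoneda.obj (Y i)) i)) :
        Cofan fun i => a.obj (yoneda.obj (Y i))) :=
    isColimitCofanMkObjOfIsColimit a _ _ (coproductIsCoproduct (fun i => yoneda.obj (Y i)))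
  have hfac : ∀ i, a.map (Sigma.ι (fun i => yoneda.obj (Y i)) i) ≫ a.map (sg Y s) =
      a.map (yoneda.map (s i)) := fun i => by
    rw [← a.map_comp, Sigma.ι_desc]
  constructor
  · rintro ⟨h⟩
    have : a.map (sg Y s) = (hc.coconePointUniqueUpToIso h).hom := by
      apply Cofan.IsColimit.hom_ext hc
      intro i
      have := hc.comp_coconePointUniqueUpToIso_hom h ⟨i⟩
      exact (hfac i).trans this.symm
    rw [this]
    infer_instance
  · intro hiso
    refine ⟨IsColimit.ofIsoColimit hc (Cocone.ext (asIso (a.map (sg Y s))) ?_)⟩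
    rintro ⟨i⟩
    exact hfac i


lemma ls_iff : Presheaf.IsLocallySurjective J (sg Y s) ↔ Sieve.ofArrows Y s ∈ J X := by
  constructor
  · intro h
    have h1 := Presheaf.imageSieve_mem J (sg Y s) (U := op X) (𝟙 X : X ⟶ X)
    refine J.superset_covering ?_ h1
    intro V f hf
    obtain ⟨t, ht⟩ := hf
    obtain ⟨i, g, rfl⟩ := sg_surj Y (op V) t
    rw [sg_app] at ht
    rw [Sieve.mem_ofArrows_iff]
    refine ⟨i, g, ?_⟩
    have : (yoneda.obj X).map f.op (𝟙 X) = f := by simp
    rw [this] at ht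
    exact ht.symm
  · intro h
    constructor
    intro V f
    refine J.superset_covering ?_ (J.pullback_stable (f : V ⟶ X) h)
    intro W k hk
    rw [Sieve.pullback_apply, Sieve.mem_ofArrows_iff] at hk
    obtain ⟨i, g, hg⟩ := hk
    refine ⟨(Sigma.ι (fun i => yoneda.obj (Y i)) i).app (op W) g, ?_⟩
    rw [sg_app]
    exact hg.symm

lemma li_iff : Presheaf.IsLocallyInjective J (sg Y s) ↔
    (∀ (i : ι) (V : C) (g g' : V ⟶ Y i), g ≫ s i = g' ≫ s i →
      ∃ S ∈ J V, ∀ (W : C) (h : W ⟶ V), S h → h ≫ g = h ≫ g') ∧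
    (∀ (i j : ι), i ≠ j → ∀ (V : C) (g : V ⟶ Y i) (g' : V ⟶ Y j),
      g ≫ s i = g' ≫ s j → ⊥ ∈ J V) := by
  constructor
  · intro h
    refine ⟨?_, ?_⟩
    · intro i V g g' hgg
      have h1 := Presheaf.equalizerSieve_mem J (sg Y s) (X := op V)
        ((Sigma.ι (fun i => yoneda.obj (Y i)) i).app (op V) g)
        ((Sigma.ι (fun i => yoneda.obj (Y i)) i).app (op V) g')
        (by rw [sg_app, sg_app]; exact hgg)
      refine ⟨_, h1, ?_⟩
      intro W k hk
      have hk' : (Sg Y).map k.op ((Sigma.ι (fun i => yoneda.obj (Y i)) i).app (op V) g) =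
        (Sg Y).map k.op ((Sigma.ι (fun i => yoneda.obj (Y i)) i).app (op V) g') := hk
      rw [sg_map, sg_map] at hk'
      exact sg_inj Y _ _ _ hk'
    · intro i j hij V g g' hgg
      have h1 := Presheaf.equalizerSieve_mem J (sg Y s) (X := op V)
        ((Sigma.ι (fun i => yoneda.obj (Y i)) i).app (op V) g)
        ((Sigma.ι (fun i => yoneda.obj (Y i)) j).app (op V) g')
        (by rw [sg_app, sg_app]; exact hgg)
      refine J.superset_covering ?_ h1
      intro W k hk
      have hk' : (Sg Y).map k.op ((Sigma.ι (fun i => yoneda.obj (Y i)) i).app (op V) g) =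
        (Sg Y).map k.op ((Sigma.ι (fun i => yoneda.obj (Y i)) j).app (op V) g') := hk
      rw [sg_map, sg_map] at hk'
      exact (hij (sg_idx Y _ _ _ hk')).elim
  · rintro ⟨h1, h2⟩
    constructor
    intro V x y hxy
    obtain ⟨i, g, rfl⟩ := sg_surj Y V x
    obtain ⟨j, g', rfl⟩ := sg_surj Y V y
    rw [sg_app, sg_app] at hxy
    by_cases hij : i = j
    · subst hij
      obtain ⟨S, hS, hS'⟩ := h1 i V.unop g g' hxy
      refine J.superset_covering ?_ hS
      intro W k hk
      change (Sg Y).map k.op _ = (Sg Y).map k.op _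
      rw [sg_map, sg_map]
      exact congrArg _ (hS' W k hk)
    · exact J.superset_covering bot_le (h2 i j hij V.unop g g' hxy)

/-- The key criterion. -/
theorem colim_iff :
    Nonempty (IsColimit (Cofan.mk ((presheafToSheaf J (Type u)).obj (yoneda.obj X))
      (fun i => (presheafToSheaf J (Type u)).map (yoneda.map (s i))))) ↔
    Sieve.ofArrows Y s ∈ J X ∧
    (∀ (i : ι) (V : C) (g g' : V ⟶ Y i), g ≫ s i = g' ≫ s i →
      ∃ S ∈ J V, ∀ (W : C) (h : W ⟶ V), S h → h ≫ g = h ≫ g') ∧
    (∀ (i j : ι), i ≠ j → ∀ (V : C) (g : V ⟶ Y i) (g' : V ⟶ Y j),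
      g ≫ s i = g' ≫ s j → ⊥ ∈ J V) := by
  rw [colim_iff_isIso, ← J.W_iff, J.W_iff_isLocallyBijective, ls_iff, li_iff]
  tauto


section initial

variable (C) in
/-- the empty presheaf -/
def emptyPsh : Cᵒᵖ ⥤ Type u := (Functor.const _).obj PEmpty

variable (C) in
def emptyIsInitial : IsInitial (emptyPsh C) :=
  IsInitial.ofUniqueHom
    (fun P => { app := fun V => TypeCat.ofHom (fun x : PEmpty => x.elim)
                naturality := by intro V W f; ext x; exact x.elim })
    (fun P m => by ext V x; exact x.elim)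

/-- `a P` is initial iff `P` has sections only over objects covered by the empty sieve. -/
lemma initial_iff (P : Cᵒᵖ ⥤ Type u) :
    Nonempty (IsInitial ((presheafToSheaf J (Type u)).obj P)) ↔
      ∀ (V : C), Nonempty (P.obj (op V)) → ⊥ ∈ J V := by
  let a := presheafToSheaf J (Type u)
  let e : emptyPsh C ⟶ P := (emptyIsInitial C).to P
  have hI : IsInitial (a.obj (emptyPsh C)) := (emptyIsInitial C).isInitialObj a
  have hLI : Presheaf.IsLocallyInjective J e := ⟨fun x _ _ => (x : PEmpty).elim⟩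
  constructor
  · rintro ⟨h⟩ V ⟨q⟩
    have hiso : IsIso (a.map e) := by
      have : a.map e = (hI.uniqueUpToIso h).hom := hI.hom_ext _ _
      rw [this]; infer_instance
    have hW : J.W e := (J.W_iff e).2 hiso
    have hLS : Presheaf.IsLocallySurjective J e := ((J.W_iff_isLocallyBijective e).1 hW).2
    refine J.superset_covering ?_ (Presheaf.imageSieve_mem J e (U := op V) q)
    rintro W k ⟨t, _⟩
    exact (t : PEmpty).elim
  · intro h
    have hLS : Presheaf.IsLocallySurjective J e := by
      constructor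
      intro V q
      exact J.superset_covering bot_le (h V ⟨q⟩)
    have hW : J.W e := (J.W_iff_isLocallyBijective e).2 ⟨hLI, hLS⟩
    have hiso : IsIso (a.map e) := (J.W_iff e).1 hW
    exact ⟨hI.ofIso (asIso (a.map e))⟩

end initial


section pb

variable {Y s}

lemma pb_sq (i j : ι) (V : Cᵒᵖ) :
    IsPullback ((pullback.fst (yoneda.map (s i)) (yoneda.map (s j))).app V)
      ((pullback.snd (yoneda.map (s i)) (yoneda.map (s j))).app V)
      ((yoneda.map (s i)).app V) ((yoneda.map (s j)).app V) :=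
  (IsPullback.of_hasPullback (yoneda.map (s i)) (yoneda.map (s j))).map
    ((evaluation Cᵒᵖ (Type u)).obj V)

lemma disj_iff (i j : ι) :
    Nonempty (IsInitial ((presheafToSheaf J (Type u)).obj
      (pullback (yoneda.map (s i)) (yoneda.map (s j))))) ↔
    ∀ (V : C) (g : V ⟶ Y i) (g' : V ⟶ Y j), g ≫ s i = g' ≫ s j → ⊥ ∈ J V := by
  rw [initial_iff]
  constructor
  · intro h V g g' hgg
    obtain ⟨q, _, _⟩ := Types.exists_of_isPullback (pb_sq i j (op V)) g g' hgg
    exact h V ⟨q⟩
  · rintro h V ⟨q⟩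
    refine h V ((pullback.fst (yoneda.map (s i)) (yoneda.map (s j))).app (op V) q)
      ((pullback.snd (yoneda.map (s i)) (yoneda.map (s j))).app (op V) q) ?_
    exact ConcreteCategory.congr_hom (pb_sq i j (op V)).w q

lemma diag_iff (i : ι) :
    IsIso ((presheafToSheaf J (Type u)).map (pullback.diagonal (yoneda.map (s i)))) ↔
    ∀ (V : C) (g g' : V ⟶ Y i), g ≫ s i = g' ≫ s i →
      ∃ S ∈ J V, ∀ (W : C) (h : W ⟶ V), S h → h ≫ g = h ≫ g' := by
  have hfst : ∀ (V : Cᵒᵖ) (t : V.unop ⟶ Y i),
      (pullback.fst (yoneda.map (s i)) (yoneda.map (s i))).app V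
        ((pullback.diagonal (yoneda.map (s i))).app V t) = t := fun V t =>
    congrArg (fun φ => φ.app V t) (pullback.diagonal_fst (yoneda.map (s i)))
  have hsnd : ∀ (V : Cᵒᵖ) (t : V.unop ⟶ Y i),
      (pullback.snd (yoneda.map (s i)) (yoneda.map (s i))).app V
        ((pullback.diagonal (yoneda.map (s i))).app V t) = t := fun V t =>
    congrArg (fun φ => φ.app V t) (pullback.diagonal_snd (yoneda.map (s i)))
  have hLI : Presheaf.IsLocallyInjective J (pullback.diagonal (yoneda.map (s i))) :=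
    Presheaf.isLocallyInjective_of_injective J _ (fun V t t' htt => by
      rw [← hfst V t, ← hfst V t', htt])
  rw [← J.W_iff, J.W_iff_isLocallyBijective]
  constructor
  · rintro ⟨_, hLS⟩ V g g' hgg
    obtain ⟨q, hq1, hq2⟩ := Types.exists_of_isPullback (pb_sq i i (op V)) g g' hgg
    refine ⟨_, Presheaf.imageSieve_mem J (pullback.diagonal (yoneda.map (s i))) (U := op V) q, ?_⟩
    rintro W k ⟨t, ht⟩
    have h1 := congrArg ((pullback.fst (yoneda.map (s i)) (yoneda.map (s i))).app (op W)) ht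
    have h2 := congrArg ((pullback.snd (yoneda.map (s i)) (yoneda.map (s i))).app (op W)) ht
    rw [hfst] at h1
    rw [hsnd] at h2
    have n1 := ConcreteCategory.congr_hom
      ((pullback.fst (yoneda.map (s i)) (yoneda.map (s i))).naturality k.op) q
    have n2 := ConcreteCategory.congr_hom
      ((pullback.snd (yoneda.map (s i)) (yoneda.map (s i))).naturality k.op) q
    have e1 : t = k ≫ g := by
      rw [h1]; refine n1.trans ?_; rw [← hq1]; rfl
    have e2 : t = k ≫ g' := by
      rw [h2]; refine n2.trans ?_; rw [← hq2]; rfl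
    exact e1.symm.trans e2
  · intro h
    refine ⟨hLI, ⟨fun {V} q => ?_⟩⟩
    obtain ⟨S, hS, hS'⟩ := h V
      ((pullback.fst (yoneda.map (s i)) (yoneda.map (s i))).app (op V) q)
      ((pullback.snd (yoneda.map (s i)) (yoneda.map (s i))).app (op V) q)
      (ConcreteCategory.congr_hom (pb_sq i i (op V)).w q)
    refine J.superset_covering ?_ hS
    intro W k hk
    refine ⟨k ≫ (pullback.fst (yoneda.map (s i)) (yoneda.map (s i))).app (op V) q, ?_⟩
    have n1 := ConcreteCategory.congr_hom
      ((pullback.fst (yoneda.map (s i)) (yoneda.map (s i))).naturality k.op) q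
    have n2 := ConcreteCategory.congr_hom
      ((pullback.snd (yoneda.map (s i)) (yoneda.map (s i))).naturality k.op) q
    apply Types.ext_of_isPullback (pb_sq i i (op W))
    · rw [hfst]; exact n1.symm
    · rw [hsnd]; exact (hS' W k hk).trans n2.symm

end pb

theorem colim_iff' :
    (Sieve.ofArrows Y s ∈ J X ∧
      (∀ i, IsIso ((presheafToSheaf J (Type u)).map (pullback.diagonal (yoneda.map (s i))))) ∧
      (∀ i j, i ≠ j → Nonempty (IsInitial ((presheafToSheaf J (Type u)).obj
        (pullback (yoneda.map (s i)) (yoneda.map (s j))))))) ↔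
    Nonempty (IsColimit (Cofan.mk ((presheafToSheaf J (Type u)).obj (yoneda.obj X))
      (fun i => (presheafToSheaf J (Type u)).map (yoneda.map (s i))))) := by
  rw [colim_iff]
  refine and_congr Iff.rfl (and_congr ?_ ?_)
  · exact forall_congr' fun i => diag_iff J i
  · exact forall_congr' fun i => forall_congr' fun j => imp_congr Iff.rfl (disj_iff J i j)

end Groth.Agent.H1.ShCof
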