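import Mathlib
import Groth.Agent.Lib.helper1.SheafCofan
open CategoryTheory CategoryTheory.Limits Opposite
universe u

namespace Groth.Agent.H1.ShCof

section canon
variable {C : Type u} [SmallCategory C]

/-- `ε = y ⋙ a ≅ J.yoneda` for a subcanonical topology -/
noncomputable def epsIso (J : GrothendieckTopology C) [J.Subcanonical] :
    yoneda ⋙ presheafToSheaf J (Type u) ≅ J.yoneda :=
  Functor.isoWhiskerRight (J.yonedaCompSheafToPresheaf).symm (presheafToSheaf J (Type u)) ≪≫
    Functor.associator _ _ _ ≪≫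
    Functor.isoWhiskerLeft J.yoneda (asIso (sheafificationAdjunction J (Type u)).counit) ≪≫
    Functor.rightUnitor _

instance (J : GrothendieckTopology C) [J.Subcanonical] :
    (yoneda ⋙ presheafToSheaf J (Type u)).Full := Functor.Full.of_iso (epsIso J).symm

instance (J : GrothendieckTopology C) [J.Subcanonical] :
    (yoneda ⋙ presheafToSheaf J (Type u)).Faithful := Functor.Faithful.of_iso (epsIso J).symm

/-- (B) ⇒ the cofan is a colimit in `C`. -/
lemma isColimit_of_sheafified (J : GrothendieckTopology C) [J.Subcanonical] {X : C} {ι : Type u}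
    (Y : ι → C) (s : ∀ i, Y i ⟶ X)
    (h : Nonempty (IsColimit (Cofan.mk ((presheafToSheaf J (Type u)).obj (yoneda.obj X))
      (fun i => (presheafToSheaf J (Type u)).map (yoneda.map (s i)))))) :
    Nonempty (IsColimit (Cofan.mk X s)) := by
  obtain ⟨h⟩ := h
  exact ⟨isColimitOfIsColimitCofanMkObj (yoneda ⋙ presheafToSheaf J (Type u)) Y s h⟩


local notation "Jc" => Sheaf.canonicalTopology C

lemma canon_sep {V T : C} {S : Sieve V} (hS : S ∈ Jc V) (g g' : V ⟶ T)
    (h : ∀ (W : C) (k : W ⟶ V), S k → k ≫ g = k ≫ g') : g = g' := by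
  have hs := (Sheaf.isSheaf_yoneda_obj (C := C) T) S hS
  exact hs.isSeparatedFor.ext (t₁ := g) (t₂ := g') (fun W k hk => h W k hk)

lemma canon_bot_unique {V : C} (hV : ⊥ ∈ Jc V) (T : C) (g g' : V ⟶ T) : g = g' :=
  canon_sep hV g g' (fun _ _ hk => hk.elim)

lemma canon_bot_initial {V : C} (hV : ⊥ ∈ Jc V) : Nonempty (IsInitial V) := by
  have key : ∀ T : C, Nonempty (V ⟶ T) := by
    intro T
    have hs := (Sheaf.isSheaf_yoneda_obj (C := C) T) (⊥ : Sieve V) hV
    obtain ⟨t, _, _⟩ := hs (fun W k hk => hk.elim) (fun _ _ _ _ _ _ _ h => h.elim)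
    exact ⟨t⟩
  exact ⟨IsInitial.ofUniqueHom (fun T => (key T).some)
    (fun T m => canon_bot_unique hV T _ _)⟩

lemma canon_bot_mem {V : C} (h : ∀ (W : C) (_ : W ⟶ V) (T : C), ∃! _ : W ⟶ T, True) :
    ⊥ ∈ Jc V := by
  apply Sheaf.mem_finestTopology_of_forall_isSheafFor
  rintro _ ⟨T, rfl⟩ W k
  intro x _
  obtain ⟨t, _, ht⟩ := h W k T
  refine ⟨t, ?_, fun t' _ => ht t' trivial⟩
  intro Z l hl
  exact hl.elim


variable {X : C} {ι : Type u} (Y : ι → C) (s : ∀ i, Y i ⟶ X)

/-- the three elementary conditions -/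
def Cond (J : GrothendieckTopology C) : Prop :=
  Sieve.ofArrows Y s ∈ J X ∧
    (∀ (i : ι) (V : C) (g g' : V ⟶ Y i), g ≫ s i = g' ≫ s i →
      ∃ S ∈ J V, ∀ (W : C) (h : W ⟶ V), S h → h ≫ g = h ≫ g') ∧
    (∀ (i j : ι), i ≠ j → ∀ (V : C) (g : V ⟶ Y i) (g' : V ⟶ Y j),
      g ≫ s i = g' ≫ s j → ⊥ ∈ J V)

variable {Y s}

lemma mono_of_cond (h : Cond Y s Jc) (i : ι) : Mono (s i) := by
  constructor
  intro V g g' hgg
  obtain ⟨S, hS, hS'⟩ := h.2.1 i V g g' hgg
  exact canon_sep hS g g' hS'

lemma isColimit_of_cond (h : Cond Y s Jc) : Nonempty (IsColimit (Cofan.mk X s)) :=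
  isColimit_of_sheafified Jc Y s ((colim_iff Jc Y s).2 h)

lemma universal_of_cond (h : Cond Y s Jc) : IsUniversalColimit (Cofan.mk X s) := by
  intro F' c' α f e hα H
  obtain ⟨Y', rfl⟩ : ∃ Y' : ι → C, F' = Discrete.functor Y' :=
    ⟨F'.obj ∘ Discrete.mk, Functor.hext (fun i ↦ rfl)
      (by rintro ⟨i⟩ ⟨j⟩ ⟨⟨rfl : i = j⟩⟩; simp)⟩
  have hm := mono_of_cond h
  have H' : ∀ j : ι, IsPullback (c'.ι.app ⟨j⟩) (α.app ⟨j⟩) f (s j) := fun j => H ⟨j⟩
  have hcond : Cond Y' (fun j => c'.ι.app ⟨j⟩) Jc := by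
    refine ⟨?_, ?_, ?_⟩
    · refine (Jc).superset_covering ?_ ((Jc).pullback_stable f h.1)
      intro V k hk
      rw [Sieve.pullback_apply, Sieve.mem_ofArrows_iff] at hk
      obtain ⟨i, g, hg⟩ := hk
      rw [Sieve.mem_ofArrows_iff]
      exact ⟨i, (H' i).lift k g hg, ((H' i).lift_fst k g hg).symm⟩
    · intro i V g g' hgg
      refine ⟨⊤, (Jc).top_mem V, fun W k _ => ?_⟩
      have : g = g' := by
        apply (H' i).hom_ext hgg
        haveI := hm i
        rw [← cancel_mono (s i), Category.assoc, Category.assoc, ← (H' i).w,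
          ← Category.assoc, ← Category.assoc, hgg]
      rw [this]
    · intro i j hij V g g' hgg
      refine h.2.2 i j hij V (g ≫ α.app ⟨i⟩) (g' ≫ α.app ⟨j⟩) ?_
      rw [Category.assoc, Category.assoc, ← (H' i).w, ← (H' j).w,
        ← Category.assoc, ← Category.assoc, hgg]
  obtain ⟨hc⟩ := isColimit_of_cond hcond
  exact ⟨IsColimit.ofIsoColimit hc (Cocone.ext (Iso.refl _) (by rintro ⟨j⟩; simp))⟩

lemma disjoint_of_cond [∀ i j, HasPullback (s i) (s j)] (h : Cond Y s Jc) :
    CoproductDisjoint Y := by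
  obtain ⟨hc⟩ := isColimit_of_cond h
  haveI : ∀ i, Mono ((Cofan.mk X s).inj i) := fun i => mono_of_cond h i
  have hI : ∀ {i j : ι} (_ : i ≠ j), Nonempty (IsInitial (pullback (s i) (s j))) :=
    fun {i j} hij => canon_bot_initial
      (h.2.2 i j hij _ (pullback.fst (s i) (s j)) (pullback.snd (s i) (s j)) pullback.condition)
  exact CoproductDisjoint.of_cofan hc
    (fun {i j} _ => pullback.cone (s i) (s j))
    (fun {i j} _ => pullback.isLimit (s i) (s j))
    (fun {i j} hij => (hI hij).some)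


section converse

variable [∀ (i : ι) (Z : C) (g : Z ⟶ X), HasPullback (s i) g]

/-- the pulled-back cofan is a colimit -/
lemma pulled_colimit (hu : IsUniversalColimit (Cofan.mk X s)) {W : C} (w : W ⟶ X) :
    Nonempty (IsColimit (Cofan.mk W (fun k => pullback.snd (s k) w))) := by
  refine hu (Cofan.mk W (fun k => pullback.snd (s k) w))
    (Discrete.natTrans (fun k => pullback.fst (s k.as) w)) w ?_ (.of_discrete _) ?_
  · ext ⟨k⟩
    simp [pullback.condition]
  · rintro ⟨k⟩
    exact (IsPullback.of_hasPullback (s k) w).flip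

/-- strictness: an object mapping to two different summands is initial -/
lemma strict_unique (hu : IsUniversalColimit (Cofan.mk X s))
    (hd : ∀ {i j : ι}, i ≠ j → Nonempty (IsInitial (pullback (s i) (s j))))
    {i j : ι} (hij : i ≠ j) {W : C} (m : W ⟶ Y i) (m' : W ⟶ Y j) (hm : m ≫ s i = m' ≫ s j)
    (T : C) : ∃! _ : W ⟶ T, True := by
  classical
  obtain ⟨hI⟩ := hd hij
  refine ⟨pullback.lift m m' hm ≫ hI.to T, trivial, ?_⟩
  have key : ∀ p q : W ⟶ T, p = q := by
    intro p q
    let w : W ⟶ X := m ≫ s i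
    obtain ⟨hcW⟩ := pulled_colimit hu w
    let σi : W ⟶ pullback (s i) w := pullback.lift m (𝟙 W) (by simp [w])
    let σj : W ⟶ pullback (s j) w := pullback.lift m' (𝟙 W) (by simp [w, hm])
    have hσi : σi ≫ pullback.snd (s i) w = 𝟙 W := pullback.lift_snd _ _ _
    have hσj : σj ≫ pullback.snd (s j) w = 𝟙 W := pullback.lift_snd _ _ _
    let r : W ⟶ T := Cofan.IsColimit.desc hcW
      (fun k => if k = j then pullback.snd (s k) w ≫ q else pullback.snd (s k) w ≫ p)
    have hr : ∀ k, pullback.snd (s k) w ≫ r =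
        if k = j then pullback.snd (s k) w ≫ q else pullback.snd (s k) w ≫ p := fun k =>
      Cofan.IsColimit.fac hcW _ k
    have h1 : p = r := by
      have := hr i
      rw [if_neg hij] at this
      calc p = σi ≫ pullback.snd (s i) w ≫ p := by rw [← Category.assoc, hσi, Category.id_comp]
        _ = σi ≫ pullback.snd (s i) w ≫ r := by rw [this]
        _ = r := by rw [← Category.assoc, hσi, Category.id_comp]
    have h2 : q = r := by
      have := hr j
      rw [if_pos rfl] at this
      calc q = σj ≫ pullback.snd (s j) w ≫ q := by rw [← Category.assoc, hσj, Category.id_comp]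
        _ = σj ≫ pullback.snd (s j) w ≫ r := by rw [this]
        _ = r := by rw [← Category.assoc, hσj, Category.id_comp]
    exact h1.trans h2.symm
  intro y _
  exact key _ _

lemma cond_of_universal (hc : IsColimit (Cofan.mk X s)) (hd : CoproductDisjoint Y)
    (hu : IsUniversalColimit (Cofan.mk X s)) : Cond Y s Jc := by
  have hd' : ∀ {i j : ι}, i ≠ j → Nonempty (IsInitial (pullback (s i) (s j))) :=
    fun {i j} hij => CoproductDisjoint.nonempty_isInitial_of_ne hc hij
      (pullback.cone (s i) (s j)) (pullback.isLimit (s i) (s j))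
  refine ⟨?_, ?_, ?_⟩
  · apply Sheaf.mem_finestTopology_of_forall_isSheafFor
    rintro _ ⟨T, rfl⟩ V f
    obtain ⟨hcV⟩ := pulled_colimit hu f
    have hEq : (Sieve.ofArrows Y s).pullback f =
        Sieve.ofArrows (fun k => pullback (s k) f) (fun k => pullback.snd (s k) f) := by
      ext W h
      rw [Sieve.pullback_apply, Sieve.mem_ofArrows_iff, Sieve.mem_ofArrows_iff]
      constructor
      · rintro ⟨k, g, hg⟩
        exact ⟨k, pullback.lift g h hg.symm, (pullback.lift_snd _ _ _).symm⟩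
      · rintro ⟨k, l, rfl⟩
        exact ⟨k, l ≫ pullback.fst (s k) f, by
          rw [Category.assoc, Category.assoc, pullback.condition]⟩
    rw [hEq, Sieve.ofArrows, ← Presieve.isSheafFor_iff_generate, Presieve.isSheafFor_arrows_iff]
    intro x _
    refine ⟨Cofan.IsColimit.desc hcV x, fun k => Cofan.IsColimit.fac hcV x k, ?_⟩
    intro t ht
    apply Cofan.IsColimit.hom_ext hcV
    intro k
    rw [Cofan.IsColimit.fac hcV x k]
    exact ht k
  · intro i V g g' hgg
    haveI : Mono (s i) := hd.mono_inj hc i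
    exact ⟨⊤, (Jc).top_mem V, fun W h _ => by rw [(cancel_mono (s i)).1 hgg]⟩
  · intro i j hij V g g' hgg
    apply canon_bot_mem
    intro W k T
    exact strict_unique hu hd' hij (k ≫ g) (k ≫ g') (by simp [hgg]) T

end converse

theorem canonical_iff [∀ (i : ι) (Z : C) (g : Z ⟶ X), HasPullback (s i) g] :
    Nonempty (IsColimit (Cofan.mk
        ((presheafToSheaf Jc (Type u)).obj (yoneda.obj X))
        (fun i => (presheafToSheaf Jc (Type u)).map (yoneda.map (s i))))) ↔
      (Nonempty (IsColimit (Cofan.mk X s)) ∧ CoproductDisjoint Y ∧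
        IsUniversalColimit (Cofan.mk X s)) := by
  rw [colim_iff]
  constructor
  · intro h
    exact ⟨isColimit_of_cond h, disjoint_of_cond h, universal_of_cond h⟩
  · rintro ⟨⟨hc⟩, hd, hu⟩
    exact cond_of_universal hc hd hu

end canon

end Groth.Agent.H1.ShCof
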