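import Mathlib
open CategoryTheory CategoryTheory.Limits Opposite MonoidalCategory
universe u

namespace Groth.Agent.H1.ShOpen

section general
variable {E : Type*} [Category E] [HasBinaryProducts E] [HasTerminal E]

/-- maps into a subterminal object are unique -/
lemma subterminal_ext {U : E} (hU : Mono (terminal.from U)) {T : E} (a b : T ⟶ U) : a = b := by
  rw [← cancel_mono (terminal.from U)]
  exact Subsingleton.elim _ _

lemma isIso_fst_self {U : E} (hU : Mono (terminal.from U)) : IsIso (prod.fst : U ⨯ U ⟶ U) := by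
  refine ⟨prod.lift (𝟙 U) (𝟙 U), ?_, prod.lift_fst _ _⟩
  apply Limits.prod.hom_ext
  · rw [Category.assoc, prod.lift_fst, Category.comp_id, Category.id_comp]
  · rw [Category.assoc, prod.lift_snd, Category.comp_id, Category.id_comp]
    exact subterminal_ext hU _ _

lemma isIso_map_snd {U : E} (hU : Mono (terminal.from U)) (Y : E) :
    IsIso (prod.map (𝟙 U) (prod.snd : U ⨯ Y ⟶ Y)) := by
  refine ⟨prod.lift prod.fst (𝟙 _), ?_, ?_⟩
  · apply Limits.prod.hom_ext
    · rw [Category.assoc, prod.lift_fst, prod.map_fst, Category.comp_id, Category.id_comp]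
    · rw [Category.assoc, prod.lift_snd, Category.comp_id, Category.id_comp]
      apply Limits.prod.hom_ext
      · rw [prod.map_fst, Category.comp_id]
        exact subterminal_ext hU _ _
      · rw [prod.map_snd]
  · apply Limits.prod.hom_ext
    · simp
    · simp

/-- closed complement is iso-invariant -/
lemma closed_of_iso {U X X' : E} (e : X ≅ X') (h : IsIso (prod.fst : U ⨯ X ⟶ U)) :
    IsIso (prod.fst : U ⨯ X' ⟶ U) := by
  have : (prod.fst : U ⨯ X' ⟶ U) = prod.map (𝟙 U) e.inv ≫ (prod.fst : U ⨯ X ⟶ U) := by simp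
  rw [this]
  infer_instance

end general


section sheaf
variable {C : Type u} [SmallCategory C] (J : GrothendieckTopology C)

/-- `U ⨯ -` is isomorphic to `tensorLeft U` on sheaves -/
noncomputable def prodIsoTensor (Z : Sheaf J (Type u)) :
    prod.functor.obj Z ≅ MonoidalCategory.tensorLeft Z := by
  let i : ∀ Y : Sheaf J (Type u), (Z ⨯ Y) ≅ Z ⊗ Y := fun Y =>
    (Limits.limit.isLimit (Limits.pair Z Y)).conePointUniqueUpToIso
        (CartesianMonoidalCategory.tensorProductIsBinaryProduct Z Y)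
  have h1 : ∀ Y, (i Y).hom ≫ SemiCartesianMonoidalCategory.fst Z Y = Limits.prod.fst := fun Y =>
    Limits.IsLimit.conePointUniqueUpToIso_hom_comp _ _ (Discrete.mk Limits.WalkingPair.left)
  have h2 : ∀ Y, (i Y).hom ≫ SemiCartesianMonoidalCategory.snd Z Y = Limits.prod.snd := fun Y =>
    Limits.IsLimit.conePointUniqueUpToIso_hom_comp _ _ (Discrete.mk Limits.WalkingPair.right)
  exact NatIso.ofComponents (fun Y => i Y)
      (by
        intro Y Y' f
        change Limits.prod.map (𝟙 Z) f ≫ (i Y').hom = (i Y).hom ≫ (Z ◁ f)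
        apply CartesianMonoidalCategory.hom_ext
        · rw [Category.assoc, Category.assoc, h1]
          erw [CartesianMonoidalCategory.whiskerLeft_fst]
          rw [h1, Limits.prod.map_fst, Category.comp_id]
        · rw [Category.assoc, Category.assoc, h2]
          erw [CartesianMonoidalCategory.whiskerLeft_snd]
          rw [← Category.assoc, h2, Limits.prod.map_snd])

lemma prod_preservesColimits.{w, w'} (Z : Sheaf J (Type u)) :
    PreservesColimitsOfSize.{w, w'} (prod.functor.obj Z) := by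
  haveI : PreservesColimitsOfSize.{w, w'} (MonoidalCategory.tensorLeft Z) :=
    (ihom.adjunction Z).leftAdjoint_preservesColimits
  exact preservesColimits_of_natIso (prodIsoTensor J Z).symm

/-- pushouts are preserved by `U ⨯ -` -/
lemma prod_isPushout (Z : Sheaf J (Type u)) {A B D P : Sheaf J (Type u)} {f : A ⟶ B} {g : A ⟶ D}
    {inl : B ⟶ P} {inr : D ⟶ P} (h : IsPushout f g inl inr) :
    IsPushout (prod.map (𝟙 Z) f) (prod.map (𝟙 Z) g) (prod.map (𝟙 Z) inl) (prod.map (𝟙 Z) inr) := by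
  haveI : PreservesColimit (span f g) (prod.functor.obj Z) := by
    haveI : PreservesColimitsOfShape WalkingSpan (prod.functor.obj Z) :=
      (prod_preservesColimits J Z :
        PreservesColimitsOfSize.{0, 0} (prod.functor.obj Z)).preservesColimitsOfShape
    infer_instance
  exact h.map (prod.functor.obj Z)


/-- `Y_CU` lies in the closed complement of `U`. -/
lemma closed_pushout (U : Sheaf J (Type u)) (hU : Mono (terminal.from U)) (Y : Sheaf J (Type u)) :
    IsIso (prod.fst : U ⨯ pushout (prod.fst : U ⨯ Y ⟶ U) (prod.snd : U ⨯ Y ⟶ Y) ⟶ U) := by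
  have hpo := prod_isPushout J U
    (IsPushout.of_hasPushout (prod.fst : U ⨯ Y ⟶ U) (prod.snd : U ⨯ Y ⟶ Y))
  haveI := isIso_map_snd hU Y
  haveI h1 : IsIso (prod.map (𝟙 U)
      (pushout.inl (prod.fst : U ⨯ Y ⟶ U) (prod.snd : U ⨯ Y ⟶ Y))) :=
    hpo.isIso_inl_of_isIso
  haveI := isIso_fst_self hU
  have : (prod.fst : U ⨯ pushout (prod.fst : U ⨯ Y ⟶ U) (prod.snd : U ⨯ Y ⟶ Y) ⟶ U) =
      inv (prod.map (𝟙 U) (pushout.inl (prod.fst : U ⨯ Y ⟶ U) (prod.snd : U ⨯ Y ⟶ Y))) ≫
        (prod.fst : U ⨯ U ⟶ U) := by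
    rw [IsIso.eq_inv_comp, prod.map_fst, Category.comp_id]
  rw [this]
  infer_instance

theorem closed_iff (U : Sheaf J (Type u)) (hU : Mono (terminal.from U)) (X : Sheaf J (Type u)) :
    (IsIso (prod.fst : U ⨯ X ⟶ U) ↔
      IsIso (pushout.inr (prod.fst : U ⨯ X ⟶ U) (prod.snd : U ⨯ X ⟶ X))) ∧
    ((∃ Y : Sheaf J (Type u),
        Nonempty (X ≅ pushout (prod.fst : U ⨯ Y ⟶ U) (prod.snd : U ⨯ Y ⟶ Y))) →
      IsIso (prod.fst : U ⨯ X ⟶ U)) := by
  have h2 : (∃ Y : Sheaf J (Type u),
        Nonempty (X ≅ pushout (prod.fst : U ⨯ Y ⟶ U) (prod.snd : U ⨯ Y ⟶ Y))) →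
      IsIso (prod.fst : U ⨯ X ⟶ U) := by
    rintro ⟨Y, ⟨e⟩⟩
    exact closed_of_iso e.symm (closed_pushout J U hU Y)
  refine ⟨⟨?_, ?_⟩, h2⟩
  · intro h
    infer_instance
  · intro h
    exact h2 ⟨X, ⟨asIso (pushout.inr (prod.fst : U ⨯ X ⟶ U) (prod.snd : U ⨯ X ⟶ X))⟩⟩

end sheaf

end Groth.Agent.H1.ShOpen
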