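import Mathlib
import Groth.Agent.Lib.helper1.SheafOpen
import Groth.Prelude.Def_SGA4a
open CategoryTheory CategoryTheory.Limits Opposite
universe u

namespace Groth.Agent.H1.ShClosed

section general
variable {E : Type*} [Category E] [HasBinaryProducts E]

/-- maps into a closed object from an object over `U` are unique -/
lemma maps_unique {U Z T : E} (hZ : IsIso (prod.fst : U ⨯ Z ⟶ U)) (t : T ⟶ U) (f g : T ⟶ Z) :
    f = g := by
  have h : prod.lift t f = prod.lift t g := by
    rw [← cancel_mono (prod.fst : U ⨯ Z ⟶ U), prod.lift_fst, prod.lift_fst]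
  have h2 := congrArg (fun k => k ≫ (prod.snd : U ⨯ Z ⟶ Z)) h
  simp only [prod.lift_snd] at h2
  exact h2

/-- the map `U ⟶ Z` -/
noncomputable def fromOpen {U Z : E} (hZ : IsIso (prod.fst : U ⨯ Z ⟶ U)) : U ⟶ Z :=
  inv (prod.fst : U ⨯ Z ⟶ U) ≫ prod.snd

variable [HasPushouts E]

noncomputable def poDesc {U X Z : E} (hZ : IsIso (prod.fst : U ⨯ Z ⟶ U)) (f : X ⟶ Z) :
    pushout (prod.fst : U ⨯ X ⟶ U) (prod.snd : U ⨯ X ⟶ X) ⟶ Z :=
  pushout.desc (fromOpen hZ) f (maps_unique hZ prod.fst _ _)

lemma inr_poDesc {U X Z : E} (hZ : IsIso (prod.fst : U ⨯ Z ⟶ U)) (f : X ⟶ Z) :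
    pushout.inr (prod.fst : U ⨯ X ⟶ U) (prod.snd : U ⨯ X ⟶ X) ≫ poDesc hZ f = f :=
  pushout.inr_desc _ _ _

lemma po_hom_ext {U X Z : E} (hZ : IsIso (prod.fst : U ⨯ Z ⟶ U))
    (g g' : pushout (prod.fst : U ⨯ X ⟶ U) (prod.snd : U ⨯ X ⟶ X) ⟶ Z)
    (h : pushout.inr _ _ ≫ g = pushout.inr _ _ ≫ g') : g = g' := by
  apply pushout.hom_ext
  · exact maps_unique hZ (𝟙 U) _ _
  · exact h

end general

section presheaf
variable {C : Type u} [SmallCategory C]

/-- the presheaf `V ↦ (U(V) = ∅ → X(V))` -/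
def Qobj (U₀ X : Cᵒᵖ ⥤ Type u) : Cᵒᵖ ⥤ Type u where
  obj V := IsEmpty (U₀.obj V) → X.obj V
  map {V W} g := ↾fun φ hW => X.map g (φ ⟨fun x => hW.false (U₀.map g x)⟩)
  map_id V := by
    ext φ h
    simp
  map_comp f g := by
    ext φ h
    simp

/-- the functor `Q` -/
def Q (U₀ : Cᵒᵖ ⥤ Type u) : (Cᵒᵖ ⥤ Type u) ⥤ (Cᵒᵖ ⥤ Type u) where
  obj X := Qobj U₀ X
  map {X Y} f :=
    { app := fun V => ↾fun φ h => f.app V (φ h)
      naturality := fun V W g => by
        ext φ
        funext h
        exact NatTrans.naturality_apply f g (φ _) }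
  map_id X := by
    ext V φ
    rfl
  map_comp f g := by
    ext V φ
    rfl

/-- the constant map `X ⟶ Q X` -/
def cst (U₀ : Cᵒᵖ ⥤ Type u) : 𝟭 (Cᵒᵖ ⥤ Type u) ⟶ Q U₀ where
  app X := { app := fun V => ↾fun x _ => x
             naturality := fun V W g => by
               ext x
               rfl }
  naturality X Y f := by
    ext V x
    rfl

/-- the map `U₀ ⟶ Q X` -/
def fromU (U₀ X : Cᵒᵖ ⥤ Type u) : U₀ ⟶ Qobj U₀ X where
  app V := ↾fun x h => (h.false x).elim
  naturality V W g := by
    ext x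
    funext h
    exact (h.false (U₀.map g x)).elim

lemma Qobj_subsingleton (U₀ X : Cᵒᵖ ⥤ Type u) {V : Cᵒᵖ} (x : U₀.obj V) (φ ψ : (Qobj U₀ X).obj V) :
    φ = ψ := by
  funext h
  exact (h.false x).elim

/-- `T ↦ (p → T)` -/
def powF (p : Prop) : Type u ⥤ Type u where
  obj T := p → T
  map f := ↾fun φ h => f (φ h)

def powFIso (p : Prop) : powF.{u} p ≅ coyoneda.obj (op (ULift.{u} (PLift p))) :=
  NatIso.ofComponents (fun T =>
    { hom := ↾fun φ => ↾fun h => φ h.down.down
      inv := ↾fun (ψ : ULift.{u} (PLift p) ⟶ T) h => ψ ⟨⟨h⟩⟩ })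

instance (p : Prop) : PreservesLimitsOfSize.{u, u} (powF.{u} p) :=
  preservesLimits_of_natIso (powFIso p).symm

instance (U₀ : Cᵒᵖ ⥤ Type u) : PreservesLimitsOfSize.{u, u} (Q U₀) := by
  apply preservesLimits_of_evaluation
  intro V
  have e : Q U₀ ⋙ (evaluation Cᵒᵖ (Type u)).obj V ≅
      (evaluation Cᵒᵖ (Type u)).obj V ⋙ powF (IsEmpty (U₀.obj V)) :=
    NatIso.ofComponents (fun X => Iso.refl _)
  exact preservesLimits_of_natIso e.symm

end presheaf

section sheaf
variable {C : Type u} [SmallCategory C] (J : GrothendieckTopology C) (U : Sheaf J (Type u))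

/-- the lex functor -/
noncomputable def L' : Sheaf J (Type u) ⥤ Sheaf J (Type u) :=
  sheafToPresheaf J (Type u) ⋙ Q U.obj ⋙ presheafToSheaf J (Type u)

instance : PreservesFiniteLimits (L' J U) := by unfold L'; infer_instance

/-- unit at presheaf level -/
noncomputable def eta₀ (X : Sheaf J (Type u)) : X.obj ⟶ ((L' J U).obj X).obj :=
  (cst U.obj).app X.obj ≫ (sheafificationAdjunction J (Type u)).unit.app ((Q U.obj).obj X.obj)

noncomputable def eta : 𝟭 (Sheaf J (Type u)) ⟶ L' J U where
  app X := ObjectProperty.homMk (eta₀ J U X)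
  naturality X Y m := by
    apply Sheaf.hom_ext
    change m.hom ≫ eta₀ J U Y = eta₀ J U X ≫ ((L' J U).map m).hom
    unfold eta₀
    have h1 := (cst U.obj).naturality m.hom
    have h2 := (sheafificationAdjunction J (Type u)).unit.naturality ((Q U.obj).map m.hom)
    simp only [Functor.id_map, Functor.comp_map, Functor.id_obj, Functor.comp_obj] at h1 h2
    rw [← Category.assoc, h1, Category.assoc, Category.assoc]
    congr 1

variable {J U}

/-- sections of a closed sheaf over `V` with `U(V)` inhabited are all equal -/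
lemma closed_subsingleton {Z : Sheaf J (Type u)} (hZ : IsIso (prod.fst : U ⨯ Z ⟶ U)) {V : Cᵒᵖ}
    (x : U.obj.obj V) (z z' : Z.obj.obj V) : z = z' := by
  obtain ⟨V⟩ := V
  let adj := sheafificationAdjunction J (Type u)
  let t : (presheafToSheaf J (Type u)).obj (yoneda.obj V) ⟶ U :=
    (adj.homEquiv _ _).symm (yonedaEquiv.symm x)
  have h := maps_unique hZ t ((adj.homEquiv _ _).symm (yonedaEquiv.symm z))
    ((adj.homEquiv _ _).symm (yonedaEquiv.symm z'))
  exact yonedaEquiv.symm.injective ((adj.homEquiv _ Z).symm.injective h)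

/-- maps into `L' X` from an object over `U` are unique -/
lemma maps_unique_L' (X : Sheaf J (Type u)) {T : Sheaf J (Type u)} (t : T ⟶ U)
    (f g : T ⟶ (L' J U).obj X) : f = g := by
  apply Sheaf.hom_ext
  ext V x
  obtain ⟨V⟩ := V
  let P := (Q U.obj).obj X.obj
  let un := (sheafificationAdjunction J (Type u)).unit.app P
  have hW : J.W un := J.W_toSheafify P
  rw [J.W_iff_isLocallyBijective] at hW
  obtain ⟨-, hs⟩ := hW
  have hsep := ((isSheaf_iff_isSheaf_of_type _ _).1 ((L' J U).obj X).property).isSeparated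
  let s := f.hom.app (op V) x
  let s' := g.hom.app (op V) x
  have m1 := Presheaf.imageSieve_mem J un s
  have m2 := Presheaf.imageSieve_mem J un s'
  refine (hsep _ (J.intersection_covering m1 m2)).ext ?_
  rintro W k ⟨⟨q, hq⟩, ⟨q', hq'⟩⟩
  have : q = q' := Qobj_subsingleton U.obj X.obj (U.obj.map k.op (t.hom.app (op V) x)) q q'
  subst this
  exact hq.symm.trans hq'

lemma closed_L' (X : Sheaf J (Type u)) : IsIso (prod.fst : U ⨯ (L' J U).obj X ⟶ U) := by
  let s : U ⟶ (L' J U).obj X := ObjectProperty.homMk (fromU U.obj X.obj ≫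
    (sheafificationAdjunction J (Type u)).unit.app ((Q U.obj).obj X.obj))
  refine ⟨prod.lift (𝟙 U) s, ?_, prod.lift_fst _ _⟩
  apply Limits.prod.hom_ext
  · rw [Category.assoc, prod.lift_fst, Category.comp_id, Category.id_comp]
  · rw [Category.assoc, prod.lift_snd, Category.id_comp]
    exact maps_unique_L' X prod.fst _ _

open Classical in
/-- extension of `f : X ⟶ Z` to `Q X ⟶ Z` at presheaf level -/
noncomputable def ext₀ {Z X : Sheaf J (Type u)} (hZ : IsIso (prod.fst : U ⨯ Z ⟶ U)) (f : X ⟶ Z) :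
    (Q U.obj).obj X.obj ⟶ Z.obj where
  app V := ↾fun φ => if h : IsEmpty (U.obj.obj V) then f.hom.app V (φ h)
        else (fromOpen hZ).hom.app V (Classical.choice (not_isEmpty_iff.1 h))
  naturality V W g := by
    ext φ
    by_cases hW : IsEmpty (U.obj.obj W)
    · have hV : IsEmpty (U.obj.obj V) := ⟨fun x => hW.false (U.obj.map g x)⟩
      change (if h : IsEmpty (U.obj.obj W) then f.hom.app W (((Q U.obj).obj X.obj).map g φ h) else _) =
        Z.obj.map g (if h : IsEmpty (U.obj.obj V) then f.hom.app V (φ h) else _)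
      rw [dif_pos hW, dif_pos hV]
      exact NatTrans.naturality_apply f.hom g (φ hV)
    · exact closed_subsingleton hZ (Classical.choice (not_isEmpty_iff.1 hW)) _ _

open Classical in
lemma cst_ext₀ {Z X : Sheaf J (Type u)} (hZ : IsIso (prod.fst : U ⨯ Z ⟶ U)) (f : X ⟶ Z) :
    (cst U.obj).app X.obj ≫ ext₀ hZ f = f.hom := by
  ext V x
  by_cases h : IsEmpty (U.obj.obj V)
  · change (if h : IsEmpty (U.obj.obj V) then f.hom.app V x else _) = _
    rw [dif_pos h]
    rfl
  · exact closed_subsingleton hZ (Classical.choice (not_isEmpty_iff.1 h)) _ _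

theorem eta_bijective {Z : Sheaf J (Type u)} (hZ : IsIso (prod.fst : U ⨯ Z ⟶ U))
    (X : Sheaf J (Type u)) :
    Function.Bijective (fun g : (L' J U).obj X ⟶ Z => (eta J U).app X ≫ g) := by
  let adj := sheafificationAdjunction J (Type u)
  constructor
  · intro g g' hgg
    apply (adj.homEquiv ((Q U.obj).obj X.obj) Z).injective
    rw [Adjunction.homEquiv_unit, Adjunction.homEquiv_unit]
    ext V φ
    by_cases h : IsEmpty (U.obj.obj V)
    · let x₀ : X.obj.obj V := φ h
      have hφ : φ = fun _ => x₀ := by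
        funext h'
        rfl
      rw [hφ]
      have := congrArg (fun k => k.hom.app V x₀) hgg
      exact this
    · exact closed_subsingleton hZ (Classical.choice (not_isEmpty_iff.1 h)) _ _
  · intro f
    refine ⟨(adj.homEquiv ((Q U.obj).obj X.obj) Z).symm (ext₀ hZ f), ?_⟩
    apply Sheaf.hom_ext
    have h1 : adj.unit.app ((Q U.obj).obj X.obj) ≫
        ((adj.homEquiv ((Q U.obj).obj X.obj) Z).symm (ext₀ hZ f)).hom = ext₀ hZ f := by
      have := (adj.homEquiv ((Q U.obj).obj X.obj) Z).apply_symm_apply (ext₀ hZ f)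
      rw [Adjunction.homEquiv_unit] at this
      exact this
    change eta₀ J U X ≫ _ = f.hom
    unfold eta₀
    rw [Category.assoc]
    exact (congrArg (fun k => (cst U.obj).app X.obj ≫ k) h1).trans (cst_ext₀ hZ f)

variable (J U) (hU : Mono (terminal.from U))

/-- the reflector -/
noncomputable def L₀ : Sheaf J (Type u) ⥤ (SGA4.closedCompl U).FullSubcategory :=
  ObjectProperty.lift _ (L' J U) (fun X => closed_L' X)

instance : PreservesFiniteLimits (L₀ J U) := by
  refine ⟨fun K _ _ => ?_⟩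
  haveI : PreservesLimitsOfShape K (L₀ J U ⋙ (SGA4.closedCompl U).ι) :=
    (inferInstance : PreservesLimitsOfShape K (L' J U))
  exact preservesLimitsOfShape_of_reflects_of_preserves (L₀ J U) (SGA4.closedCompl U).ι

/-- the hom equivalence -/
noncomputable def hEq (X : Sheaf J (Type u)) (Z : (SGA4.closedCompl U).FullSubcategory) :
    ((L₀ J U).obj X ⟶ Z) ≃ (X ⟶ Z.obj) :=
  (show ((L₀ J U).obj X ⟶ Z) ≃ ((L' J U).obj X ⟶ Z.obj) from
    ⟨fun g => g.hom, fun g => ObjectProperty.homMk g, fun _ => rfl, fun _ => rfl⟩).trans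
  (Equiv.ofBijective _ (eta_bijective Z.property X))

lemma hEq_apply (X : Sheaf J (Type u)) (Z : (SGA4.closedCompl U).FullSubcategory)
    (g : (L₀ J U).obj X ⟶ Z) : hEq J U X Z g = (eta J U).app X ≫ g.hom := rfl

/-- the adjunction -/
noncomputable def adj₀ : L₀ J U ⊣ (SGA4.closedCompl U).ι :=
  Adjunction.mkOfHomEquiv
    { homEquiv := hEq J U
      homEquiv_naturality_left_symm := by
        intro X' X Z f g
        apply (hEq J U X' Z).injective
        rw [Equiv.apply_symm_apply, hEq_apply]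
        have h1 : (eta J U).app X' ≫ ((L₀ J U).map f ≫ (hEq J U X Z).symm g).hom =
            f ≫ (eta J U).app X ≫ ((hEq J U X Z).symm g).hom := by
          have := (eta J U).naturality f
          simp only [Functor.id_map] at this
          rw [← Category.assoc, this]
          rfl
        rw [h1, ← hEq_apply, Equiv.apply_symm_apply]
      homEquiv_naturality_right := by
        intro X Z Z' f g
        rw [hEq_apply, hEq_apply]
        exact (Category.assoc _ _ _).symm }

lemma adj₀_unit (X : Sheaf J (Type u)) : (adj₀ J U).unit.app X = (eta J U).app X := by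
  simp only [adj₀, Adjunction.mkOfHomEquiv_unit_app]
  exact Category.comp_id ((eta J U).app X)

/-- the pushout formula -/
noncomputable def poIso (X : Sheaf J (Type u)) :
    (L' J U).obj X ≅ pushout (prod.fst : U ⨯ X ⟶ U) (prod.snd : U ⨯ X ⟶ X) where
  hom := (Equiv.ofBijective _ (eta_bijective
    (Groth.Agent.H1.ShOpen.closed_pushout J U hU X) X)).symm (pushout.inr _ _)
  inv := poDesc (closed_L' X) ((eta J U).app X)
  hom_inv_id := by
    apply (eta_bijective (closed_L' X) X).1
    change (eta J U).app X ≫ _ ≫ _ = (eta J U).app X ≫ 𝟙 _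
    have h1 : (eta J U).app X ≫ (Equiv.ofBijective _ (eta_bijective
        (Groth.Agent.H1.ShOpen.closed_pushout J U hU X) X)).symm (pushout.inr _ _) =
        pushout.inr _ _ :=
      (Equiv.ofBijective _ (eta_bijective
        (Groth.Agent.H1.ShOpen.closed_pushout J U hU X) X)).apply_symm_apply (pushout.inr _ _)
    rw [← Category.assoc, h1, inr_poDesc, Category.comp_id]
  inv_hom_id := by
    apply po_hom_ext (Groth.Agent.H1.ShOpen.closed_pushout J U hU X)
    have h1 : (eta J U).app X ≫ (Equiv.ofBijective _ (eta_bijective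
        (Groth.Agent.H1.ShOpen.closed_pushout J U hU X) X)).symm (pushout.inr _ _) =
        pushout.inr _ _ :=
      (Equiv.ofBijective _ (eta_bijective
        (Groth.Agent.H1.ShOpen.closed_pushout J U hU X) X)).apply_symm_apply (pushout.inr _ _)
    rw [← Category.assoc, inr_poDesc, h1, Category.comp_id]

lemma eta_poIso_hom (X : Sheaf J (Type u)) :
    (eta J U).app X ≫ (poIso J U hU X).hom = pushout.inr _ _ :=
  (Equiv.ofBijective _ (eta_bijective
        (Groth.Agent.H1.ShOpen.closed_pushout J U hU X) X)).apply_symm_apply (pushout.inr _ _)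

lemma inr_poIso_inv (X : Sheaf J (Type u)) :
    pushout.inr _ _ ≫ (poIso J U hU X).inv = (eta J U).app X :=
  inr_poDesc _ _

include hU in
theorem closed_reflective :
    ∃ (L : Sheaf J (Type u) ⥤ (SGA4.closedCompl U).FullSubcategory)
      (_ : L ⊣ (SGA4.closedCompl U).ι),
      PreservesFiniteLimits L ∧
      ∀ X : Sheaf J (Type u), Nonempty (((SGA4.closedCompl U).ι).obj (L.obj X) ≅
        pushout (prod.fst : U ⨯ X ⟶ U) (prod.snd : U ⨯ X ⟶ X)) :=
  ⟨L₀ J U, adj₀ J U, inferInstance, fun X => ⟨poIso J U hU X⟩⟩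

end sheaf

end Groth.Agent.H1.ShClosed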