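import Mathlib
import Groth.Agent.Lib.helper1.SheafClosed
open CategoryTheory CategoryTheory.Limits Opposite
universe u

namespace Groth.Agent.H1.ShClosed

lemma isPullback_snd_map {E : Type*} [Category E] [HasBinaryProducts E] (U : E) {X Y : E}
    (m : X ⟶ Y) :
    IsPullback (prod.snd : U ⨯ X ⟶ X) (prod.map (𝟙 U) m) m (prod.snd : U ⨯ Y ⟶ Y) := by
  refine ⟨⟨(prod.map_snd _ _).symm⟩, ⟨PullbackCone.IsLimit.mk _
    (fun s => prod.lift (s.snd ≫ prod.fst) s.fst) ?_ ?_ ?_⟩⟩
  · intro s
    exact prod.lift_snd _ _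
  · intro s
    apply Limits.prod.hom_ext
    · rw [Category.assoc, prod.map_fst, Category.comp_id, prod.lift_fst]
    · rw [Category.assoc, prod.map_snd, ← Category.assoc, prod.lift_snd, s.condition]
  · intro s l h1 h2
    apply Limits.prod.hom_ext
    · rw [prod.lift_fst, ← h2, Category.assoc, prod.map_fst, Category.comp_id]
    · rw [prod.lift_snd, h1]

lemma mono_snd_of_subterminal {E : Type*} [Category E] [HasBinaryProducts E] [HasTerminal E]
    {U : E} (hU : Mono (terminal.from U)) (X : E) : Mono (prod.snd : U ⨯ X ⟶ X) := by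
  refine ⟨fun {T} a b h => ?_⟩
  apply Limits.prod.hom_ext
  · exact Groth.Agent.H1.ShOpen.subterminal_ext hU _ _
  · exact h

section sheaf
variable {C : Type u} [SmallCategory C] (J : GrothendieckTopology C) (U : Sheaf J (Type u))
  (hU : Mono (terminal.from U))

instance : Adhesive (Sheaf J (Type u)) :=
  adhesive_of_reflective (sheafificationAdjunction J (Type u))

include hU in
theorem isIso_of_open_closed {X Y : Sheaf J (Type u)} (m : X ⟶ Y)
    (h1 : IsIso (prod.map (𝟙 U) m)) (h2 : IsIso ((L' J U).map m)) : IsIso m := by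
  let p : pushout (prod.fst : U ⨯ X ⟶ U) (prod.snd : U ⨯ X ⟶ X) ⟶
      pushout (prod.fst : U ⨯ Y ⟶ U) (prod.snd : U ⨯ Y ⟶ Y) :=
    (poIso J U hU X).inv ≫ (L' J U).map m ≫ (poIso J U hU Y).hom
  haveI : IsIso p := by dsimp only [p]; infer_instance
  have hp : pushout.inr _ _ ≫ p = m ≫ pushout.inr _ _ := by
    dsimp only [p]
    rw [← Category.assoc, inr_poIso_inv]
    have := (eta J U).naturality m
    simp only [Functor.id_map] at this
    rw [← Category.assoc, ← this, Category.assoc, eta_poIso_hom]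
  haveI := mono_snd_of_subterminal hU Y
  have H : IsPushout (prod.fst : U ⨯ Y ⟶ U) (prod.snd : U ⨯ Y ⟶ Y) (pushout.inl _ _)
      (pushout.inr _ _) := IsPushout.of_hasPushout _ _
  have vk := Adhesive.van_kampen' H
  have key := (vk (prod.fst : U ⨯ X ⟶ U) (prod.snd : U ⨯ X ⟶ X) (pushout.inl _ _)
    (pushout.inr _ _) (prod.map (𝟙 U) m) (𝟙 U) m p
    (IsPullback.of_vert_isIso ⟨by simp⟩) (isPullback_snd_map U m)
    ⟨maps_unique (Groth.Agent.H1.ShOpen.closed_pushout J U hU Y) (𝟙 U) _ _⟩ ⟨hp⟩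
    ⟨pushout.condition⟩).1 (IsPushout.of_hasPushout _ _)
  exact key.2.isIso_snd_of_isIso

end sheaf

end Groth.Agent.H1.ShClosed
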