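import Mathlib
import Groth.Agent.Lib.helper1.SheafEqRel
import Groth.Agent.Lib.helper1.SheafCanon
open CategoryTheory CategoryTheory.Limits Opposite
universe u

namespace Groth.Agent.H1.ShCof

section cofork
variable {C : Type u} [SmallCategory C] (J : GrothendieckTopology C)
  {R X : C} (p₁ p₂ : R ⟶ X) {Q : C} (π₀ : X ⟶ Q) (w : p₁ ≫ π₀ = p₂ ≫ π₀)

/-- presheaf coequalizer -/
noncomputable abbrev Kq : Cᵒᵖ ⥤ Type u := coequalizer (yoneda.map p₁) (yoneda.map p₂)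

noncomputable abbrev kq : yoneda.obj X ⟶ Kq p₁ p₂ := coequalizer.π (yoneda.map p₁) (yoneda.map p₂)

include w in
lemma kap_w : yoneda.map p₁ ≫ yoneda.map π₀ = yoneda.map p₂ ≫ yoneda.map π₀ := by
  rw [← yoneda.map_comp, ← yoneda.map_comp, w]

/-- comparison map -/
noncomputable abbrev kap : Kq p₁ p₂ ⟶ yoneda.obj Q :=
  coequalizer.desc (yoneda.map π₀) (kap_w p₁ p₂ π₀ w)

lemma kq_surj (V : Cᵒᵖ) (t : (Kq p₁ p₂).obj V) : ∃ f : V.unop ⟶ X, (kq p₁ p₂).app V f = t := by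
  have : Epi ((kq p₁ p₂).app V) := inferInstance
  rw [epi_iff_surjective] at this
  exact this t

lemma kap_app (V : Cᵒᵖ) (f : V.unop ⟶ X) :
    (kap p₁ p₂ π₀ w).app V ((kq p₁ p₂).app V f) = f ≫ π₀ := by
  have := congrArg (fun φ => φ.app V f)
    (coequalizer.π_desc (yoneda.map π₀) (kap_w p₁ p₂ π₀ w))
  exact this

lemma kq_map {V W : Cᵒᵖ} (h : V ⟶ W) (f : V.unop ⟶ X) :
    (Kq p₁ p₂).map h ((kq p₁ p₂).app V f) = (kq p₁ p₂).app W (h.unop ≫ f) := by
  have := ConcreteCategory.congr_hom ((kq p₁ p₂).naturality h) f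
  exact this.symm

lemma kq_eq_of_rel (V : Cᵒᵖ) (r : V.unop ⟶ R) :
    (kq p₁ p₂).app V (r ≫ p₁) = (kq p₁ p₂).app V (r ≫ p₂) := by
  have := congrArg (fun φ => φ.app V r) (coequalizer.condition (yoneda.map p₁) (yoneda.map p₂))
  exact this

lemma kq_rel (hE : ∀ T : C,
      Equivalence (fun a b : T ⟶ X => ∃ f : T ⟶ R, f ≫ p₁ = a ∧ f ≫ p₂ = b))
    (V : Cᵒᵖ) (f f' : V.unop ⟶ X) (h : (kq p₁ p₂).app V f = (kq p₁ p₂).app V f') :
    ∃ r : V.unop ⟶ R, r ≫ p₁ = f ∧ r ≫ p₂ = f' := by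
  have hw : (yoneda.map p₁).app V ≫ (kq p₁ p₂).app V =
      (yoneda.map p₂).app V ≫ (kq p₁ p₂).app V := by
    rw [← NatTrans.comp_app, ← NatTrans.comp_app, coequalizer.condition]
  have hcol : IsColimit (Cofork.ofπ ((kq p₁ p₂).app V) hw) :=
    isColimitCoforkMapOfIsColimit ((evaluation Cᵒᵖ (Type u)).obj V)
      (coequalizer.condition (yoneda.map p₁) (yoneda.map p₂))
      (coequalizerIsCoequalizer (yoneda.map p₁) (yoneda.map p₂))
  exact Groth.Agent.H1.ShEq.rel_of_isColimit hw hcol (hE V.unop) h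


lemma cofork_colim_iff_isIso (c : Cofork p₁ p₂) :
    Nonempty (IsColimit ((yoneda ⋙ presheafToSheaf J (Type u)).mapCocone c)) ↔
      IsIso ((presheafToSheaf J (Type u)).map (kap p₁ p₂ c.π c.condition)) := by
  let a := presheafToSheaf J (Type u)
  let ε := yoneda ⋙ a
  -- colimit cofork from the presheaf coequalizer
  have hK : IsColimit (Cofork.ofπ (a.map (kq p₁ p₂))
      (by rw [← a.map_comp, ← a.map_comp, coequalizer.condition]) :
        Cofork (a.map (yoneda.map p₁)) (a.map (yoneda.map p₂))) :=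
    isColimitCoforkMapOfIsColimit a (coequalizer.condition (yoneda.map p₁) (yoneda.map p₂))
      (coequalizerIsCoequalizer (yoneda.map p₁) (yoneda.map p₂))
  have hfac : a.map (kq p₁ p₂) ≫ a.map (kap p₁ p₂ c.π c.condition) = ε.map c.π := by
    rw [← a.map_comp, coequalizer.π_desc]
    rfl
  have step1 : Nonempty (IsColimit (ε.mapCocone c)) ↔
      Nonempty (IsColimit (Cofork.ofπ (ε.map c.π)
        (by rw [← ε.map_comp, ← ε.map_comp, c.condition]) :
          Cofork (ε.map p₁) (ε.map p₂))) := by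
    have e1 : ε.mapCocone c ≅ ε.mapCocone (Cofork.ofπ c.π c.condition) :=
      (Cocone.functoriality _ ε).mapIso (Cofork.isoCoforkOfπ c)
    constructor
    · rintro ⟨h⟩
      exact ⟨isColimitMapCoconeCoforkEquiv ε c.condition (IsColimit.ofIsoColimit h e1)⟩
    · rintro ⟨h⟩
      exact ⟨IsColimit.ofIsoColimit ((isColimitMapCoconeCoforkEquiv ε c.condition).symm h) e1.symm⟩
  rw [step1]
  constructor
  · rintro ⟨h⟩
    have : a.map (kap p₁ p₂ c.π c.condition) = (hK.coconePointUniqueUpToIso h).hom := by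
      apply Cofork.IsColimit.hom_ext hK
      have := hK.comp_coconePointUniqueUpToIso_hom h WalkingParallelPair.one
      exact hfac.trans this.symm
    rw [this]
    infer_instance
  · intro hiso
    refine ⟨IsColimit.ofIsoColimit hK
      (Cofork.ext (asIso (a.map (kap p₁ p₂ c.π c.condition))) ?_)⟩
    exact hfac

lemma kap_ls_iff : Presheaf.IsLocallySurjective J (kap p₁ p₂ π₀ w) ↔
    Sieve.generate (Presieve.singleton π₀) ∈ J Q := by
  constructor
  · intro h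
    have h1 := Presheaf.imageSieve_mem J (kap p₁ p₂ π₀ w) (U := op Q) (𝟙 Q : Q ⟶ Q)
    refine J.superset_covering ?_ h1
    intro V f hf
    obtain ⟨t, ht⟩ := hf
    obtain ⟨g, rfl⟩ := kq_surj p₁ p₂ (op V) t
    rw [kap_app] at ht
    have : (yoneda.obj Q).map f.op (𝟙 Q) = f := by simp
    rw [this] at ht
    exact ⟨X, g, π₀, Presieve.singleton.mk, ht⟩
  · intro h
    constructor
    intro V f
    refine J.superset_covering ?_ (J.pullback_stable (f : V ⟶ Q) h)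
    intro W k hk
    obtain ⟨Z, g, m, hm, hgm⟩ := hk
    cases hm
    refine ⟨(kq p₁ p₂).app (op W) g, ?_⟩
    rw [kap_app]
    exact hgm

lemma kap_li_iff (hE : ∀ T : C,
      Equivalence (fun a b : T ⟶ X => ∃ f : T ⟶ R, f ≫ p₁ = a ∧ f ≫ p₂ = b)) :
    Presheaf.IsLocallyInjective J (kap p₁ p₂ π₀ w) ↔
    ∀ (V : C) (f f' : V ⟶ X), f ≫ π₀ = f' ≫ π₀ →
      ∃ S ∈ J V, ∀ (W : C) (h : W ⟶ V), S h → ∃ r : W ⟶ R, r ≫ p₁ = h ≫ f ∧ r ≫ p₂ = h ≫ f' := by
  constructor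
  · intro h V f f' hff
    have h1 := Presheaf.equalizerSieve_mem J (kap p₁ p₂ π₀ w) (X := op V)
      ((kq p₁ p₂).app (op V) f) ((kq p₁ p₂).app (op V) f')
      (by rw [kap_app, kap_app]; exact hff)
    refine ⟨_, h1, ?_⟩
    intro W k hk
    have hk' : (Kq p₁ p₂).map k.op ((kq p₁ p₂).app (op V) f) =
      (Kq p₁ p₂).map k.op ((kq p₁ p₂).app (op V) f') := hk
    rw [kq_map, kq_map] at hk'
    exact kq_rel p₁ p₂ hE (op W) _ _ hk'
  · intro h
    constructor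
    intro V x y hxy
    obtain ⟨f, rfl⟩ := kq_surj p₁ p₂ V x
    obtain ⟨f', rfl⟩ := kq_surj p₁ p₂ V y
    rw [kap_app, kap_app] at hxy
    obtain ⟨S, hS, hS'⟩ := h V.unop f f' hxy
    refine J.superset_covering ?_ hS
    intro W k hk
    change (Kq p₁ p₂).map k.op _ = (Kq p₁ p₂).map k.op _
    rw [kq_map, kq_map]
    obtain ⟨r, hr1, hr2⟩ := hS' W k hk
    have := kq_eq_of_rel p₁ p₂ (op W) r
    rw [hr1, hr2] at this
    exact this


end cofork

section canon2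
variable {C : Type u} [SmallCategory C] {R X : C} (p₁ p₂ : R ⟶ X) {Q : C} (π₀ : X ⟶ Q)

local notation "Jc" => Sheaf.canonicalTopology C

lemma canon_lift
    (hinj : ∀ (T : C) (a b : T ⟶ R), a ≫ p₁ = b ≫ p₁ → a ≫ p₂ = b ≫ p₂ → a = b)
    {V : C} (f f' : V ⟶ X) {S : Sieve V} (hS : S ∈ Jc V)
    (hS' : ∀ (W : C) (h : W ⟶ V), S h → ∃ r : W ⟶ R, r ≫ p₁ = h ≫ f ∧ r ≫ p₂ = h ≫ f') :
    ∃ r : V ⟶ R, r ≫ p₁ = f ∧ r ≫ p₂ = f' := by
  let x : Presieve.FamilyOfElements (yoneda.obj R) S.arrows :=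
    fun W h hh => (hS' W h hh).choose
  have hx1 : ∀ (W : C) (h : W ⟶ V) (hh : S h), x h hh ≫ p₁ = h ≫ f :=
    fun W h hh => (hS' W h hh).choose_spec.1
  have hx2 : ∀ (W : C) (h : W ⟶ V) (hh : S h), x h hh ≫ p₂ = h ≫ f' :=
    fun W h hh => (hS' W h hh).choose_spec.2
  have hx : x.Compatible := by
    intro Y₁ Y₂ Z g₁ g₂ f₁ f₂ h₁ h₂ e
    change g₁ ≫ x f₁ h₁ = g₂ ≫ x f₂ h₂
    apply hinj
    · rw [Category.assoc, Category.assoc, hx1 _ f₁ h₁, hx1 _ f₂ h₂, ← Category.assoc,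
        ← Category.assoc, e]
    · rw [Category.assoc, Category.assoc, hx2 _ f₁ h₁, hx2 _ f₂ h₂, ← Category.assoc,
        ← Category.assoc, e]
  obtain ⟨r, hr, _⟩ := (Sheaf.isSheaf_yoneda_obj (C := C) R) S hS x hx
  have hr' : ∀ (W : C) (h : W ⟶ V) (hh : S h), h ≫ r = x h hh := fun W h hh => hr h hh
  refine ⟨r, ?_, ?_⟩
  · apply canon_sep hS
    intro W h hh
    rw [← Category.assoc, hr' W h hh, hx1 W h hh]
  · apply canon_sep hS
    intro W h hh
    rw [← Category.assoc, hr' W h hh, hx2 W h hh]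

lemma canon_kernelPair_iff (w : p₁ ≫ π₀ = p₂ ≫ π₀)
    (hinj : ∀ (T : C) (a b : T ⟶ R), a ≫ p₁ = b ≫ p₁ → a ≫ p₂ = b ≫ p₂ → a = b) :
    (∀ (V : C) (f f' : V ⟶ X), f ≫ π₀ = f' ≫ π₀ →
      ∃ S ∈ Jc V, ∀ (W : C) (h : W ⟶ V), S h →
        ∃ r : W ⟶ R, r ≫ p₁ = h ≫ f ∧ r ≫ p₂ = h ≫ f') ↔
    IsPullback p₁ p₂ π₀ π₀ := by
  constructor
  · intro h
    have key : ∀ (V : C) (f f' : V ⟶ X), f ≫ π₀ = f' ≫ π₀ →
        ∃ r : V ⟶ R, r ≫ p₁ = f ∧ r ≫ p₂ = f' := by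
      intro V f f' hff
      obtain ⟨S, hS, hS'⟩ := h V f f' hff
      exact canon_lift p₁ p₂ hinj f f' hS hS'
    refine ⟨⟨w⟩, ⟨PullbackCone.IsLimit.mk _
      (fun t => (key t.pt t.fst t.snd t.condition).choose)
      (fun t => (key t.pt t.fst t.snd t.condition).choose_spec.1)
      (fun t => (key t.pt t.fst t.snd t.condition).choose_spec.2) ?_⟩⟩
    intro t m hm1 hm2
    apply hinj
    · rw [hm1, (key t.pt t.fst t.snd t.condition).choose_spec.1]
    · rw [hm2, (key t.pt t.fst t.snd t.condition).choose_spec.2]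
  · intro hpb V f f' hff
    refine ⟨⊤, (Jc).top_mem V, fun W h _ => ?_⟩
    refine ⟨hpb.lift (h ≫ f) (h ≫ f') (by rw [Category.assoc, Category.assoc, hff]), ?_, ?_⟩
    · exact hpb.lift_fst _ _ _
    · exact hpb.lift_snd _ _ _

lemma canon_singleton_iff [HasPullbacks C] :
    Sieve.generate (Presieve.singleton π₀) ∈ Jc Q ↔
      ∀ (B' : C) (g : B' ⟶ Q), EffectiveEpi (pullback.snd π₀ g) := by
  have hEq : ∀ (B' : C) (g : B' ⟶ Q), (Sieve.generate (Presieve.singleton π₀)).pullback g =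
      Sieve.generate (Presieve.singleton (pullback.snd π₀ g)) := by
    intro B' g
    rw [← Sieve.pullbackArrows_comm, Presieve.pullback_singleton]
  constructor
  · intro h B' g
    rw [← Sieve.effectiveEpimorphic_singleton,
      Presieve.EffectiveEpimorphic.iff_forall_isSheafFor_yoneda]
    intro T
    rw [Presieve.isSheafFor_iff_generate, ← hEq]
    exact (Sheaf.isSheaf_yoneda_obj (C := C) T) _ ((Jc).pullback_stable g h)
  · intro h
    apply Sheaf.mem_finestTopology_of_forall_isSheafFor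
    rintro _ ⟨T, rfl⟩ B' g
    rw [hEq, ← Presieve.isSheafFor_iff_generate]
    have := h B' g
    rw [← Sieve.effectiveEpimorphic_singleton,
      Presieve.EffectiveEpimorphic.iff_forall_isSheafFor_yoneda] at this
    exact this T


lemma crit [HasPullbacks C]
    (hR : ∀ T : C, Function.Injective (fun f : T ⟶ R => (f ≫ p₁, f ≫ p₂)) ∧
      Equivalence (fun a b : T ⟶ X => ∃ f : T ⟶ R, f ≫ p₁ = a ∧ f ≫ p₂ = b))
    (c : Cofork p₁ p₂) :
    Nonempty (IsColimit ((yoneda ⋙ presheafToSheaf Jc (Type u)).mapCocone c)) ↔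
      IsPullback p₁ p₂ c.π c.π ∧ ∀ (B' : C) (g : B' ⟶ c.pt), EffectiveEpi (pullback.snd c.π g) := by
  have hinj : ∀ (T : C) (a b : T ⟶ R), a ≫ p₁ = b ≫ p₁ → a ≫ p₂ = b ≫ p₂ → a = b :=
    fun T a b h1 h2 => (hR T).1 (Prod.ext h1 h2)
  rw [cofork_colim_iff_isIso, ← (Jc).W_iff, (Jc).W_iff_isLocallyBijective,
    kap_ls_iff, kap_li_iff Jc p₁ p₂ c.π c.condition (fun T => (hR T).2),
    canon_kernelPair_iff p₁ p₂ c.π c.condition hinj, canon_singleton_iff]

theorem effUniv_iff [HasPullbacks C]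
    (hR : ∀ T : C, Function.Injective (fun f : T ⟶ R => (f ≫ p₁, f ≫ p₂)) ∧
      Equivalence (fun a b : T ⟶ X => ∃ f : T ⟶ R, f ≫ p₁ = a ∧ f ≫ p₂ = b))
    (c : Cofork p₁ p₂) (hc : IsColimit c) :
    (∃ (B : C) (π : X ⟶ B), IsPullback p₁ p₂ π π ∧ IsPushout p₁ p₂ π π ∧
      ∀ (B' : C) (g : B' ⟶ B), EffectiveEpi (pullback.snd π g)) ↔
    Nonempty (IsColimit ((yoneda ⋙ presheafToSheaf Jc (Type u)).mapCocone c)) := by
  constructor
  · rintro ⟨B, π, hk, hp, hu⟩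
    let c' : Cofork p₁ p₂ := Cofork.ofπ π hp.w
    have hc' : IsColimit c' := hp.isLimitFork
    have h1 : Nonempty (IsColimit ((yoneda ⋙ presheafToSheaf Jc (Type u)).mapCocone c')) :=
      (crit p₁ p₂ hR c').2 ⟨hk, hu⟩
    obtain ⟨h1⟩ := h1
    exact ⟨IsColimit.ofIsoColimit h1
      ((Cocone.functoriality _ (yoneda ⋙ presheafToSheaf Jc (Type u))).mapIso
        (hc'.uniqueUpToIso hc))⟩
  · intro h
    obtain ⟨hk, hu⟩ := (crit p₁ p₂ hR c).1 h
    obtain ⟨r, hr1, hr2⟩ := (hR X).2.refl (𝟙 X)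
    have hc' : IsColimit (Cofork.ofπ c.π c.condition) :=
      IsColimit.ofIsoColimit hc (Cofork.isoCoforkOfπ c)
    exact ⟨c.pt, c.π, hk,
      Groth.Agent.H1.ShEq.isPushout_of_isColimit_cofork c.condition hc' r hr1 hr2, hu⟩

end canon2

end Groth.Agent.H1.ShCof
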