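import Mathlib
open CategoryTheory CategoryTheory.Limits Opposite GrothendieckTopology
universe u

namespace Groth.Agent.H1.ShPts

open GrothendieckTopology.Point.ofIsCofiltered in
theorem enoughPoints_of_coversTop {C : Type u} [SmallCategory C] (J : GrothendieckTopology C)
    {ι : Type u} (X : ι → C) (hX : J.CoversTop X)
    (h : ∀ i, GrothendieckTopology.HasEnoughPoints.{u} (J.over (X i))) :
    GrothendieckTopology.HasEnoughPoints.{u} J := by
  choose P hPs hPc using fun i => (h i).exists_objectProperty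
  let Q : ObjectProperty (Point.{u} J) :=
    ObjectProperty.ofObj (fun (ψ : Σ i, (P i).FullSubcategory) =>
      ψ.2.obj.map (Over.forget (X ψ.1)) J)
  refine ⟨Q, inferInstance, ObjectProperty.IsConservativeFamilyOfPoints.mk' ?_⟩
  intro Y S hS
  refine J.transitive (hX Y) S ?_
  intro Z f hf
  obtain ⟨i, ⟨a⟩⟩ := hf
  haveI := hPs i
  have key : (Sieve.overEquiv (Over.mk a)).symm (S.pullback f) ∈ (J.over (X i)) (Over.mk a) := by
    obtain ⟨ι', W, g, hg⟩ := ((Sieve.overEquiv (Over.mk a)).symm (S.pullback f)).exists_eq_ofArrows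
    rw [hg, (hPc i).jointly_reflect_ofArrows_mem_of_small]
    intro Φ x
    suffices ∃ (W' : Over (X i)) (q : W' ⟶ Over.mk a)
        (_ : ((Sieve.overEquiv (Over.mk a)).symm (S.pullback f)) q)
        (y : Φ.obj.fiber.obj W'), Φ.obj.fiber.map q y = x by
      obtain ⟨W', q, hq, y, hy⟩ := this
      rw [hg, Sieve.mem_ofArrows_iff] at hq
      obtain ⟨j, b, rfl⟩ := hq
      refine ⟨j, Φ.obj.fiber.map b y, ?_⟩
      rw [← hy]
      exact (ConcreteCategory.congr_hom (Φ.obj.fiber.map_comp b (g j)) y).symm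
    let p := CategoryOfElements.π Φ.obj.fiber ⋙ Over.forget (X i)
    let Ψ : Q.FullSubcategory := ⟨Φ.obj.map (Over.forget (X i)) J,
      ObjectProperty.ofObj_apply (fun (ψ : Σ i, (P i).FullSubcategory) =>
        ψ.2.obj.map (Over.forget (X ψ.1)) J) ⟨i, Φ⟩⟩
    let U₀ : Φ.obj.fiber.Elements := ⟨Over.mk a, x⟩
    obtain ⟨Y', g', hg', y, hy⟩ := hS Ψ (fiberMk (p := p) (U := U₀) (f : Z ⟶ Y))
    obtain ⟨V, hV, rfl⟩ := fiberMk_jointly_surjective (p := p) y
    have hy' : fiberMk (p := p) (hV ≫ g') = fiberMk (p := p) (U := U₀) (f : Z ⟶ Y) :=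
      (fiber_map_fiberMk p hV g').symm.trans hy
    let W₀ := IsCofiltered.min V U₀
    let t₁ : W₀ ⟶ V := IsCofiltered.minToLeft V U₀
    let t₂ : W₀ ⟶ U₀ := IsCofiltered.minToRight V U₀
    have e1 : fiberMk (p := p) (p.map t₁ ≫ hV ≫ g') = fiberMk (p := p) (p.map t₂ ≫ f) := by
      rw [fiberMk_map_comp, fiberMk_map_comp]
      exact hy'
    obtain ⟨W₁, s, hs⟩ := exists_of_fiberMk_eq_fiberMk e1
    let q : W₁ ⟶ U₀ := s ≫ t₂
    refine ⟨W₁.1, q.1, ?_, W₁.2, q.2⟩
    rw [Sieve.overEquiv_symm_iff, Sieve.pullback_apply]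
    have : (q.1).left ≫ f = (p.map s ≫ p.map t₁ ≫ hV) ≫ g' := by
      have hq : (q.1).left = p.map s ≫ p.map t₂ := by
        rw [← p.map_comp]; rfl
      rw [hq]
      refine (Category.assoc _ _ _).trans (hs.symm.trans ?_)
      simp only [Category.assoc]
    rw [this]
    exact S.downward_closed hg' _
  rw [GrothendieckTopology.mem_over_iff, OrderIso.apply_symm_apply] at key
  exact key

end Groth.Agent.H1.ShPts
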