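import Mathlib

/-! A spectral space is a directed limit of finite sober spaces (S12462) (helper1). -/

set_option autoImplicit false
universe u
open CategoryTheory CategoryTheory.Limits TopologicalSpace Opposite Topology

namespace Groth.Agent.H1.SpecLim

/-- Finite spaces are quasi-sober. -/
theorem quasiSober_of_finite (Y : Type*) [TopologicalSpace Y] [Finite Y] : QuasiSober Y := by
  classical
  constructor
  intro S hS hSc
  have hfin : S.Finite := Set.toFinite S
  have h1 := isIrreducible_iff_sUnion_isClosed.1 hS
    (hfin.toFinset.image fun x => closure ({x} : Set Y))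
    (by
      intro z hz
      simp only [Finset.mem_image] at hz
      obtain ⟨x, _, rfl⟩ := hz
      exact isClosed_closure)
    (by
      intro x hx
      simp only [Finset.coe_image, Set.sUnion_image, Set.mem_iUnion]
      exact ⟨x, by simpa using hx, subset_closure rfl⟩)
  obtain ⟨z, hz, hSz⟩ := h1
  simp only [Finset.mem_image] at hz
  obtain ⟨x, hx, rfl⟩ := hz
  refine ⟨x, subset_antisymm ?_ hSz⟩
  apply closure_minimal _ hSc
  have : x ∈ S := by simpa using hx
  simpa using this

variable (X : Type u) [TopologicalSpace X]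

/-- compact opens -/
abbrev K : Type u := {U : Opens X // IsCompact (U : Set X)}

variable {X}

/-- The "type" of a point with respect to a finite set of compact opens. -/
def φ (j : Finset (K X)) (x : X) : ↥j → Prop := fun U => x ∈ (U.1.1 : Opens X)

lemma continuous_φ (j : Finset (K X)) : Continuous (φ j) := by
  apply continuous_pi
  intro U
  rw [continuous_Prop]
  exact U.1.1.2

/-- restriction of types -/
def res {j j' : Finset (K X)} (h : j ⊆ j') (w : ↥j' → Prop) : ↥j → Prop :=
  fun U => w ⟨U.1, h U.2⟩

lemma res_φ {j j' : Finset (K X)} (h : j ⊆ j') (x : X) : res h (φ j' x) = φ j x := rfl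

lemma continuous_res {j j' : Finset (K X)} (h : j ⊆ j') : Continuous (res h) := by
  apply continuous_pi
  intro U
  exact continuous_apply _

lemma isClosed_constructible_eq (U : K X) (b : Prop) :
    IsClosed[constructibleTopology X] {x : X | (x ∈ (U.1 : Opens X)) = b} := by
  by_cases hb : b
  · have : {x : X | (x ∈ (U.1 : Opens X)) = b} = (U.1 : Set X) := by
      ext x; simp [hb]
    rw [this]
    rw [← @isOpen_compl_iff _ _ (constructibleTopology X)]
    apply TopologicalSpace.isOpen_generateFrom_of_mem
    right
    exact ⟨U.1.2.isClosed_compl, by simpa using U.2⟩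
  · have : {x : X | (x ∈ (U.1 : Opens X)) = b} = (U.1 : Set X)ᶜ := by
      ext x; simp [hb]
    rw [this]
    rw [@isClosed_compl_iff _ (constructibleTopology X)]
    apply TopologicalSpace.isOpen_generateFrom_of_mem
    left
    exact ⟨U.1.2, U.2⟩

theorem key [SpectralSpace X] (v : ∀ j : Finset (K X), ↥j → Prop)
    (hv : ∀ j, v j ∈ Set.range (φ j))
    (hcompat : ∀ (j j' : Finset (K X)) (h : j ⊆ j'), res h (v j') = v j) :
    ∃! x : X, ∀ j, φ j x = v j := by
  classical
  -- existence
  have hex : ∃ x : X, ∀ j, φ j x = v j := by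
    let Y := WithConstructibleTopology X
    let t : Finset (K X) → Set Y := fun j => WithTopology.ofTopology ⁻¹' {x : X | φ j x = v j}
    have htc : ∀ j, IsClosed (t j) := by
      intro j
      rw [WithConstructibleTopology.isClosed_iff]
      have : WithTopology.toTopology (constructibleTopology X) ⁻¹' t j =
          ⋂ U : ↥j, {x : X | (x ∈ (U.1.1 : Opens X)) = v j U} := by
        ext x
        simp only [t, Set.mem_preimage, Set.mem_ofPred_eq, Set.mem_iInter]
        constructor
        · intro h U
          exact congrFun h U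
        · intro h
          funext U
          exact h U
      rw [this]
      exact @isClosed_iInter _ _ (constructibleTopology X) _ fun U =>
        isClosed_constructible_eq U.1 (v j U)
    have hmono : ∀ j j' : Finset (K X), j ⊆ j' → t j' ⊆ t j := by
      intro j j' h y hy
      simp only [t, Set.mem_preimage, Set.mem_ofPred_eq] at hy ⊢
      rw [← hcompat j j' h, ← hy]
      rfl
    have hfip : ∀ u : Finset (Finset (K X)), (Set.univ ∩ ⋂ j ∈ u, t j).Nonempty := by
      intro u
      obtain ⟨x, hx⟩ := hv (u.sup id)
      refine ⟨WithTopology.toTopology _ x, Set.mem_univ _, ?_⟩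
      simp only [Set.mem_iInter]
      intro j hj
      apply hmono j (u.sup id) (Finset.le_sup (f := id) hj)
      simpa [t] using hx
    obtain ⟨y, -, hy⟩ := isCompact_univ.inter_iInter_nonempty t htc hfip
    simp only [Set.mem_iInter] at hy
    exact ⟨WithTopology.ofTopology y, fun j => hy j⟩
  obtain ⟨x, hx⟩ := hex
  refine ⟨x, hx, ?_⟩
  intro y hy
  by_contra hne
  obtain ⟨U, hUo, hU⟩ := exists_isOpen_xor_mem hne
  -- find a compact open separating
  have hsep : ∀ a b : X, (∀ j, φ j a = φ j b) → a ∈ U → b ∈ U := by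
    intro a b hab ha
    obtain ⟨V, ⟨hVo, hVc⟩, haV, hVU⟩ :=
      (PrespectralSpace.isTopologicalBasis (X := X)).exists_subset_of_mem_open ha hUo
    let Vk : K X := ⟨⟨V, hVo⟩, hVc⟩
    have := congrFun (hab {Vk}) ⟨Vk, Finset.mem_singleton_self _⟩
    have hb : b ∈ V := by
      have h1 : (a ∈ V) = (b ∈ V) := this
      rw [← h1]; exact haV
    exact hVU hb
  have hxy : ∀ j, φ j y = φ j x := fun j => (hy j).trans (hx j).symm
  rcases hU with ⟨h1, h2⟩ | ⟨h1, h2⟩
  · exact h2 (hsep y x hxy h1)
  · exact h2 (hsep x y (fun j => (hxy j).symm) h1)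

end Groth.Agent.H1.SpecLim

namespace Groth.Agent.H1.SpecLim

variable {X : Type u} [TopologicalSpace X]

/-- The diagram of finite spaces. -/
noncomputable def F (X : Type u) [TopologicalSpace X] : (Finset (K X))ᵒᵖ ⥤ TopCat.{u} where
  obj j := TopCat.of (Set.range (φ (X := X) j.unop))
  map {a b} f := TopCat.ofHom
    ⟨fun w => ⟨res (leOfHom f.unop) w.1, by
      obtain ⟨x, hx⟩ := w.2
      exact ⟨x, by rw [← hx]; rfl⟩⟩,
      Continuous.subtype_mk ((continuous_res (leOfHom f.unop)).comp continuous_subtype_val) _⟩
  map_id j := rfl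
  map_comp f g := rfl

def val {j : (Finset (K X))ᵒᵖ} (w : (F X).obj j) : ↥(unop j) → Prop :=
  (show ↥(Set.range (φ (X := X) j.unop)) from w).1

lemma val_mem {j : (Finset (K X))ᵒᵖ} (w : (F X).obj j) : val w ∈ Set.range (φ (X := X) j.unop) :=
  (show ↥(Set.range (φ (X := X) j.unop)) from w).2

lemma val_ext {j : (Finset (K X))ᵒᵖ} {w w' : (F X).obj j} (h : val w = val w') : w = w' :=
  Subtype.ext h

lemma continuous_val {j : (Finset (K X))ᵒᵖ} : Continuous (val : (F X).obj j → _) :=
  continuous_subtype_val

lemma val_map {a b : (Finset (K X))ᵒᵖ} (f : a ⟶ b) (w : (F X).obj a) :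
    val ((F X).map f w) = res (leOfHom f.unop) (val w) := rfl

/-- The cone with vertex `X`. -/
noncomputable def cone (X : Type u) [TopologicalSpace X] : Cone (F X) where
  pt := TopCat.of X
  π :=
    { app := fun j => TopCat.ofHom
        ⟨fun x => ⟨φ j.unop x, Set.mem_range_self x⟩,
          Continuous.subtype_mk (continuous_φ j.unop) _⟩
      naturality := by
        intro a b f
        rfl }

lemma val_cone (j : (Finset (K X))ᵒᵖ) (x : X) :
    val ((cone X).π.app j (show (cone X).pt from x)) = φ j.unop x := rfl

lemma compat_of_cone (s : Cone (F X)) (p : s.pt) (j j' : Finset (K X)) (h : j ⊆ j') :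
    res h (val (s.π.app (op j') p)) = val (s.π.app (op j) p) := by
  have := s.w (homOfLE h).op
  rw [← this]
  rfl

noncomputable def liftFun [SpectralSpace X] (s : Cone (F X)) (p : s.pt) : X :=
  (key (fun j => val (s.π.app (op j) p)) (fun j => val_mem (s.π.app (op j) p))
    (fun j j' h => compat_of_cone s p j j' h)).choose

lemma liftFun_spec [SpectralSpace X] (s : Cone (F X)) (p : s.pt) (j : Finset (K X)) :
    φ j (liftFun s p) = val (s.π.app (op j) p) :=
  (key (fun j => val (s.π.app (op j) p)) (fun j => val_mem (s.π.app (op j) p))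
    (fun j j' h => compat_of_cone s p j j' h)).choose_spec.1 j

lemma liftFun_unique [SpectralSpace X] (s : Cone (F X)) (p : s.pt) (x : X)
    (hx : ∀ j : Finset (K X), φ j x = val (s.π.app (op j) p)) : x = liftFun s p :=
  (key (fun j => val (s.π.app (op j) p)) (fun j => val_mem (s.π.app (op j) p))
    (fun j j' h => compat_of_cone s p j j' h)).choose_spec.2 x hx

lemma continuous_liftFun [SpectralSpace X] (s : Cone (F X)) : Continuous (liftFun s) := by
  rw [(PrespectralSpace.isTopologicalBasis (X := X)).continuous_iff]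
  rintro V ⟨hVo, hVc⟩
  let Vk : K X := ⟨⟨V, hVo⟩, hVc⟩
  have : liftFun s ⁻¹' V = (s.π.app (op {Vk})).hom ⁻¹'
      {w | val w ⟨Vk, Finset.mem_singleton_self _⟩} := by
    ext p
    simp only [Set.mem_preimage, Set.mem_ofPred_eq]
    have := congrFun (liftFun_spec s p {Vk}) ⟨Vk, Finset.mem_singleton_self _⟩
    rw [← this]
    rfl
  rw [this]
  apply IsOpen.preimage (s.π.app (op {Vk})).hom.continuous
  have hc : Continuous (fun w : (F X).obj (op {Vk}) =>
      val w ⟨Vk, Finset.mem_singleton_self _⟩) :=
    (continuous_apply _).comp continuous_val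
  exact continuous_Prop.1 hc

noncomputable def isLimitCone [SpectralSpace X] : IsLimit (cone X) where
  lift s := TopCat.ofHom ⟨liftFun s, continuous_liftFun s⟩
  fac s j := by
    apply TopCat.hom_ext
    apply ContinuousMap.ext
    intro p
    apply val_ext
    exact liftFun_spec s p j.unop
  uniq s m hm := by
    apply TopCat.hom_ext
    apply ContinuousMap.ext
    intro p
    apply liftFun_unique s p
    intro j
    rw [← hm (op j)]
    rfl

theorem main (X : Type u) [TopologicalSpace X] [SpectralSpace X] :
    ∃ (J : Type u) (_ : Preorder J) (_ : Nonempty J) (_ : IsDirected J (· ≤ ·))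
      (F : Jᵒᵖ ⥤ TopCat.{u}) (c : Cone F), Nonempty (IsLimit c) ∧
        (∀ j : Jᵒᵖ, Finite (F.obj j) ∧ T0Space (F.obj j) ∧ QuasiSober (F.obj j)) ∧
        Nonempty (c.pt ≅ TopCat.of X) := by
  classical
  refine ⟨Finset (K X), inferInstance, ⟨∅⟩, inferInstance, F X, cone X, ⟨isLimitCone⟩, ?_,
    ⟨Iso.refl _⟩⟩
  intro j
  have hfin : Finite ((F X).obj j) := by
    change Finite (Set.range (φ (X := X) j.unop))
    infer_instance
  refine ⟨hfin, ?_, ?_⟩
  · change T0Space (Set.range (φ (X := X) j.unop))
    infer_instance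
  · exact quasiSober_of_finite _

end Groth.Agent.H1.SpecLim
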