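import Mathlib

/-!
Sections killed by a first order thickening multiply to zero.
-/

namespace Groth.Agent.H1

open AlgebraicGeometry CategoryTheory Limits Opposite

universe u

theorem H1_mul_eq_zero_of_app_eq_zero {T T' : Scheme.{u}} (t : T ⟶ T') [IsClosedImmersion t]
    (hker : t.ker * t.ker = ⊥) (W' : T'.Opens) (x₁ x₂ : Γ(T', W'))
    (h₁ : (t.app W').hom x₁ = 0) (h₂ : (t.app W').hom x₂ = 0) : x₁ * x₂ = 0 := by
  refine TopCat.Sheaf.eq_of_locally_eq' T'.sheaf
    (fun W : {W : T'.affineOpens // W.1 ≤ W'} => W.1.1) W' (fun W => homOfLE W.2) ?_ _ _ ?_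
  · intro x hx
    obtain ⟨_, ⟨W, hW : IsAffineOpen W, rfl⟩, hxW, hWW'⟩ :=
      T'.isBasis_affineOpens.exists_subset_of_mem_open hx W'.isOpen
    exact TopologicalSpace.Opens.mem_iSup.mpr ⟨⟨⟨W, hW⟩, hWW'⟩, hxW⟩
  · intro W
    have key : ∀ x : Γ(T', W'), (t.app W').hom x = 0 →
        (T'.presheaf.map (homOfLE W.2).op).hom x ∈ t.ker.ideal W.1 := by
      intro x hx
      rw [Scheme.Hom.ker_apply, RingHom.mem_ker]
      have := congr($(t.naturality (homOfLE W.2).op).hom x)
      simp only [CommRingCat.hom_comp, RingHom.coe_comp, Function.comp_apply] at this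
      rw [this, hx, map_zero]
    have h3 : (T'.presheaf.map (homOfLE W.2).op).hom x₁ *
        (T'.presheaf.map (homOfLE W.2).op).hom x₂ ∈ (t.ker * t.ker).ideal W.1 :=
      Ideal.mul_mem_mul (key x₁ h₁) (key x₂ h₂)
    rw [hker] at h3
    change (T'.presheaf.map (homOfLE W.2).op).hom (x₁ * x₂) =
      (T'.presheaf.map (homOfLE W.2).op).hom 0
    rw [map_mul, map_zero]
    exact h3

end Groth.Agent.H1
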