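import Mathlib
import Groth.Agent.Lib.helper1.DetTrick

set_option autoImplicit false
universe u

namespace Groth.Agent.H1

open MvPolynomial Algebra

/-- The relations of the localized complete-intersection presentation. -/
noncomputable def H1_v {R : Type u} [CommRing R] {n c : ℕ} (g : Fin c → MvPolynomial (Fin n) R)
    (h : MvPolynomial (Fin n) R) : Fin c ⊕ Unit → MvPolynomial (Fin n ⊕ Unit) R :=
  Sum.elim (fun j => rename Sum.inl (g j)) (fun _ => X (Sum.inr ()) * rename Sum.inl h - 1)

/-- The ring `R[x, y]/(g_1, …, g_c, y h - 1)`. -/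
abbrev H1_Q {R : Type u} [CommRing R] {n c : ℕ} (g : Fin c → MvPolynomial (Fin n) R)
    (h : MvPolynomial (Fin n) R) : Type u :=
  MvPolynomial (Fin n ⊕ Unit) R ⧸ Ideal.span (Set.range (H1_v g h))

theorem H1_pderiv_inr_rename_inl {R : Type u} [CommRing R] {n : ℕ} (p : MvPolynomial (Fin n) R)
    (i : Unit) : pderiv (Sum.inr i : Fin n ⊕ Unit) (rename Sum.inl p) = 0 := by
  induction p using MvPolynomial.induction_on with
  | C a => simp
  | add p q hp hq => simp [hp, hq]
  | mul_X p k hp =>
    rw [map_mul, rename_X, Derivation.leibniz, hp, pderiv_X_of_ne (by simp)]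
    simp

theorem H1_stdSmooth_quotient {R : Type u} [CommRing R] {n c : ℕ} (hcn : c ≤ n)
    (g : Fin c → MvPolynomial (Fin n) R) (h : MvPolynomial (Fin n) R)
    (hdiv : Matrix.det (Matrix.of fun j k : Fin c => pderiv (Fin.castLE hcn k) (g j)) ∣ h) :
    Algebra.IsStandardSmooth R (H1_Q g h) := by
  classical
  let amap : Fin c ⊕ Unit → Fin n ⊕ Unit := Sum.map (Fin.castLE hcn) _root_.id
  have hinj : Function.Injective amap :=
    Sum.map_injective.mpr ⟨Fin.castLE_injective hcn, fun _ _ h => h⟩
  let Pre : PreSubmersivePresentation R (H1_Q g h) (Fin n ⊕ Unit) (Fin c ⊕ Unit) :=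
    PreSubmersivePresentation.naive (v := H1_v g h) amap hinj
  have hmat : Pre.jacobiMatrix = (Matrix.fromBlocks
      (Matrix.of fun k j : Fin c => (rename Sum.inl (pderiv (Fin.castLE hcn k) (g j)) :
        MvPolynomial (Fin n ⊕ Unit) R))
      (Matrix.of fun (k : Fin c) (_ : Unit) =>
        pderiv (Sum.inl (Fin.castLE hcn k)) (H1_v g h (Sum.inr ())))
      (0 : Matrix Unit (Fin c) (MvPolynomial (Fin n ⊕ Unit) R))
      (Matrix.of fun (_ _ : Unit) => (rename Sum.inl h : MvPolynomial (Fin n ⊕ Unit) R)) :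
      Matrix (Fin c ⊕ Unit) (Fin c ⊕ Unit) (MvPolynomial (Fin n ⊕ Unit) R)) := by
    refine Matrix.ext fun i j => ?_
    rw [PreSubmersivePresentation.jacobiMatrix_naive]
    rcases i with i | i <;> rcases j with j | j
    · simp only [amap, Sum.map_inl, H1_v, Sum.elim_inl, Matrix.fromBlocks_apply₁₁, Matrix.of_apply]
      exact pderiv_rename Sum.inl_injective _ _
    · simp only [amap, Sum.map_inl, Matrix.fromBlocks_apply₁₂, Matrix.of_apply]
    · simp only [amap, Sum.map_inr, _root_.id, H1_v, Sum.elim_inl, Matrix.fromBlocks_apply₂₁,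
        Matrix.zero_apply]
      exact H1_pderiv_inr_rename_inl _ _
    · simp only [amap, Sum.map_inr, _root_.id, H1_v, Sum.elim_inr, Matrix.fromBlocks_apply₂₂,
        Matrix.of_apply]
      rw [map_sub, Derivation.leibniz, H1_pderiv_inr_rename_inl, pderiv_X_self]
      simp
  have hdet : Pre.jacobiMatrix.det = rename Sum.inl
      (Matrix.det (Matrix.of fun j k : Fin c => pderiv (Fin.castLE hcn k) (g j))) *
      rename Sum.inl h := by
    rw [hmat, Matrix.det_fromBlocks_zero₂₁]
    congr 1
    · rw [← Matrix.det_transpose]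
      have : Matrix.transpose (Matrix.of fun k j : Fin c =>
          (rename Sum.inl (pderiv (Fin.castLE hcn k) (g j)) : MvPolynomial (Fin n ⊕ Unit) R)) =
          (rename Sum.inl : MvPolynomial (Fin n) R →ₐ[R] MvPolynomial (Fin n ⊕ Unit) R).toRingHom.mapMatrix
            (Matrix.of fun j k : Fin c => pderiv (Fin.castLE hcn k) (g j)) := by
        refine Matrix.ext fun i j => ?_
        simp
      rw [this, ← RingHom.map_det]
      rfl
    · rw [Matrix.det_unique]
      rfl
  have hmk : ∀ p : MvPolynomial (Fin n ⊕ Unit) R,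
      algebraMap Pre.Ring (H1_Q g h) p = Ideal.Quotient.mk _ p := fun p => rfl
  have hunit_h : IsUnit (Ideal.Quotient.mk (Ideal.span (Set.range (H1_v g h)))
      (rename Sum.inl h)) := by
    have h0 : Ideal.Quotient.mk (Ideal.span (Set.range (H1_v g h)))
        (X (Sum.inr ()) * rename Sum.inl h - 1) = 0 := by
      rw [Ideal.Quotient.eq_zero_iff_mem]
      exact Ideal.subset_span ⟨Sum.inr (), rfl⟩
    rw [map_sub, map_one, sub_eq_zero, map_mul] at h0
    exact IsUnit.of_mul_eq_one _ (by rw [mul_comm]; exact h0)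
  have hjac : IsUnit Pre.jacobian := by
    rw [PreSubmersivePresentation.jacobian_eq_jacobiMatrix_det, hdet, hmk, map_mul]
    refine IsUnit.mul ?_ hunit_h
    obtain ⟨w, hw⟩ := hdiv
    have h5 : Ideal.Quotient.mk (Ideal.span (Set.range (H1_v g h))) (rename Sum.inl h) =
        Ideal.Quotient.mk (Ideal.span (Set.range (H1_v g h))) (rename Sum.inl
          (Matrix.det (Matrix.of fun j k : Fin c => pderiv (Fin.castLE hcn k) (g j)))) *
        Ideal.Quotient.mk (Ideal.span (Set.range (H1_v g h))) (rename Sum.inl w) := by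
      rw [← map_mul, ← map_mul, ← hw]
    rw [h5] at hunit_h
    exact isUnit_of_mul_isUnit_left hunit_h
  exact (SubmersivePresentation.mk Pre hjac).isStandardSmooth

end Groth.Agent.H1
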