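import Mathlib
import Groth.Agent.Lib.helper1.StdSmooth

set_option autoImplicit false
universe u

namespace Groth.Agent.H1

open MvPolynomial Algebra

section
variable {R A : Type u} [CommRing R] [CommRing A] [Algebra R A] {n m c : ℕ}
  (rel : Fin m → MvPolynomial (Fin n) R) (hom : MvPolynomial (Fin n) R →ₐ[R] A)
  (g : Fin c → MvPolynomial (Fin n) R) (h : MvPolynomial (Fin n) R) (a : A)

/-- the map `R[x,y] → A_a`. -/
noncomputable def H1_phi (u : Localization.Away a) :
    MvPolynomial (Fin n ⊕ Unit) R →ₐ[R] Localization.Away a :=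
  aeval (Sum.elim (fun i => algebraMap A (Localization.Away a) (hom (X i))) (fun _ => u))

theorem H1_phi_rename (u : Localization.Away a) (p : MvPolynomial (Fin n) R) :
    H1_phi hom a u (rename Sum.inl p) = algebraMap A (Localization.Away a) (hom p) := by
  unfold H1_phi
  rw [aeval_rename]
  have : ((IsScalarTower.toAlgHom R A (Localization.Away a)).comp hom) =
      aeval (fun i => algebraMap A (Localization.Away a) (hom (X i))) := by
    rw [aeval_unique ((IsScalarTower.toAlgHom R A (Localization.Away a)).comp hom)]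
    rfl
  have h2 := congr_arg (fun F : MvPolynomial (Fin n) R →ₐ[R] Localization.Away a => F p) this
  simp only [AlgHom.comp_apply, IsScalarTower.coe_toAlgHom'] at h2
  rw [h2]
  rfl

/-- The main isomorphism `R[x,y]/(g, y h - 1) ≃ A_a`. -/
theorem H1_Q_equiv_away
    (surj : Function.Surjective hom)
    (ker_eq : RingHom.ker hom.toRingHom = Ideal.span (Set.range rel))
    (hg : ∀ j, g j ∈ Ideal.span (Set.range rel))
    (at' h₀ : MvPolynomial (Fin n) R) (k : ℕ) (hk : hom h = a ^ k) (hat : hom at' = a)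
    (hdvd : at' ∣ h) (hdvd0 : h₀ ∣ h)
    (hkill : ∀ j, h₀ * rel j ∈ Ideal.span (Set.range g)) :
    Nonempty (H1_Q g h ≃ₐ[R] Localization.Away a) := by
  classical
  set S := Localization.Away a with hS
  set IQ := Ideal.span (Set.range (H1_v g h)) with hIQ
  -- the inverse of `hom h` in `S`
  let u : S := IsLocalization.Away.invSelf a ^ k
  have hu : algebraMap A S (hom h) * u = 1 := by
    rw [hk, map_pow, ← mul_pow, IsLocalization.Away.mul_invSelf, one_pow]
  have hker : ∀ p, p ∈ Ideal.span (Set.range rel) → hom p = 0 := by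
    intro p hp
    rw [← ker_eq] at hp
    exact hp
  -- φ kills the relations
  have hφ : ∀ x ∈ IQ, H1_phi hom a u x = 0 := by
    intro x hx
    have hle : IQ ≤ RingHom.ker (H1_phi hom a u).toRingHom := by
      rw [hIQ, Ideal.span_le]
      rintro _ ⟨j, rfl⟩
      rcases j with j | j
      · change H1_phi hom a u (rename Sum.inl (g j)) = 0
        rw [H1_phi_rename, hker _ (hg j), map_zero]
      · change H1_phi hom a u (X (Sum.inr ()) * rename Sum.inl h - 1) = 0
        rw [map_sub, map_mul, map_one, H1_phi_rename]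
        have : H1_phi hom a u (X (Sum.inr ())) = u := by
          unfold H1_phi
          rw [aeval_X]; rfl
        rw [this, mul_comm, hu, sub_self]
    exact hle hx
  let φ' : H1_Q g h →ₐ[R] S := Ideal.Quotient.liftₐ IQ (H1_phi hom a u) hφ
  -- the map `P → Q`
  let θ : MvPolynomial (Fin n) R →ₐ[R] H1_Q g h :=
    (Ideal.Quotient.mkₐ R IQ).comp (rename Sum.inl)
  have hθ : ∀ p, θ p = Ideal.Quotient.mk IQ (rename Sum.inl p) := fun p => rfl
  have hunit_h : IsUnit (θ h) := by
    have h0 : Ideal.Quotient.mk IQ (X (Sum.inr ()) * rename Sum.inl h - 1) = 0 := by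
      rw [Ideal.Quotient.eq_zero_iff_mem]
      exact Ideal.subset_span ⟨Sum.inr (), rfl⟩
    rw [map_sub, map_one, sub_eq_zero, map_mul] at h0
    rw [hθ]
    exact IsUnit.of_mul_eq_one _ (by rw [mul_comm]; exact h0)
  have hXh : Ideal.Quotient.mk IQ (X (Sum.inr ())) * θ h = 1 := by
    have h0 : Ideal.Quotient.mk IQ (X (Sum.inr ()) * rename Sum.inl h - 1) = 0 := by
      rw [Ideal.Quotient.eq_zero_iff_mem]
      exact Ideal.subset_span ⟨Sum.inr (), rfl⟩
    rw [map_sub, map_one, sub_eq_zero, map_mul] at h0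
    rw [hθ]; exact h0
  have hunit_at : IsUnit (θ at') := by
    obtain ⟨w, hw⟩ := hdvd
    have h5 : θ h = θ at' * θ w := by rw [← map_mul, ← hw]
    rw [h5] at hunit_h
    exact isUnit_of_mul_isUnit_left hunit_h
  have hunit_h₀ : IsUnit (θ h₀) := by
    obtain ⟨w, hw⟩ := hdvd0
    have h5 : θ h = θ h₀ * θ w := by rw [← map_mul, ← hw]
    rw [h5] at hunit_h
    exact isUnit_of_mul_isUnit_left hunit_h
  have hθg : ∀ p ∈ Ideal.span (Set.range g), θ p = 0 := by
    intro p hp
    have hle : Ideal.span (Set.range g) ≤ RingHom.ker θ.toRingHom := by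
      rw [Ideal.span_le]
      rintro _ ⟨j, rfl⟩
      change θ (g j) = 0
      rw [hθ, Ideal.Quotient.eq_zero_iff_mem]
      exact Ideal.subset_span ⟨Sum.inl j, rfl⟩
    exact hle hp
  have hθrel : ∀ j, θ (rel j) = 0 := by
    intro j
    have h1 := hθg _ (hkill j)
    rw [map_mul] at h1
    exact (hunit_h₀.mul_right_eq_zero).mp h1
  have hθker : RingHom.ker hom.toRingHom ≤ RingHom.ker θ.toRingHom := by
    rw [ker_eq, Ideal.span_le]
    rintro _ ⟨j, rfl⟩
    exact hθrel j
  let ψ₀ : A →ₐ[R] H1_Q g h := AlgHom.liftOfSurjective hom surj θ hθker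
  have hψ₀ : ∀ p, ψ₀ (hom p) = θ p := fun p => AlgHom.liftOfSurjective_apply hom surj θ hθker p
  have hψ₀unit : ∀ y : Submonoid.powers a, IsUnit (ψ₀ y) := by
    rintro ⟨_, ⟨l, rfl⟩⟩
    change IsUnit (ψ₀ (a ^ l))
    rw [map_pow, ← hat, hψ₀]
    exact hunit_at.pow l
  let ψ : S →ₐ[R] H1_Q g h := IsLocalization.liftAlgHom (M := Submonoid.powers a) hψ₀unit
  have hψ : ∀ x : A, ψ (algebraMap A S x) = ψ₀ x := fun x => by
    change IsLocalization.lift hψ₀unit (algebraMap A S x) = ψ₀ x
    exact IsLocalization.lift_eq _ _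
  refine ⟨AlgEquiv.ofAlgHom φ' ψ ?_ ?_⟩
  · -- φ' ∘ ψ = id on S
    apply IsLocalization.algHom_ext (Submonoid.powers a)
    ext x
    obtain ⟨p, rfl⟩ := surj x
    simp only [AlgHom.comp_apply, AlgHom.id_apply]
    change φ' (ψ (algebraMap A S (hom p))) = algebraMap A S (hom p)
    rw [hψ, hψ₀, hθ]
    change H1_phi hom a u (rename Sum.inl p) = _
    exact H1_phi_rename hom a u p
  · -- ψ ∘ φ' = id on Q
    apply Ideal.Quotient.algHom_ext
    apply MvPolynomial.algHom_ext
    intro i
    simp only [AlgHom.comp_apply, AlgHom.id_apply, Ideal.Quotient.mkₐ_eq_mk]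
    change ψ (H1_phi hom a u (X i)) = _
    rcases i with i | i
    · have : H1_phi hom a u (X (Sum.inl i)) = algebraMap A S (hom (X i)) := by
        unfold H1_phi; rw [aeval_X]; rfl
      rw [this, hψ, hψ₀, hθ, rename_X]
    · have : H1_phi hom a u (X (Sum.inr i)) = u := by
        unfold H1_phi; rw [aeval_X]; rfl
      rw [this]
      have h1 : ψ u * θ h = 1 := by
        rw [← hψ₀, ← hψ, ← map_mul, mul_comm, hu, map_one]
      calc ψ u = ψ u * (Ideal.Quotient.mk IQ (X (Sum.inr ())) * θ h) := by rw [hXh, mul_one]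
        _ = (ψ u * θ h) * Ideal.Quotient.mk IQ (X (Sum.inr ())) := by ring
        _ = Ideal.Quotient.mk IQ (X (Sum.inr i)) := by rw [h1, one_mul]

end

end Groth.Agent.H1
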