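import Mathlib

set_option autoImplicit false
open Finset

namespace Groth.Agent.H1

variable {n : ℕ}

/-- The basic quadratic-form identity for a symmetric matrix. -/
theorem H1_quad_identity (A : Matrix (Fin n) (Fin n) ℝ) (hsymm : A.IsSymm) (m y : Fin n → ℝ) :
    ∑ i, ∑ j, (y i * m i) * (A i j * (y j * m j)) =
      ∑ i, y i ^ 2 * (m i * ∑ j, A i j * m j) -
        (1 / 2) * ∑ i, ∑ j, A i j * m i * m j * (y i - y j) ^ 2 := by
  have hs : ∀ i j, A j i = A i j := fun i j => hsymm.apply i j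
  have h1 : ∀ i j, (y i * m i) * (A i j * (y j * m j)) =
      (1 / 2) * (y i ^ 2 * (A i j * m i * m j)) + (1 / 2) * (y j ^ 2 * (A i j * m i * m j)) -
        (1 / 2) * (A i j * m i * m j * (y i - y j) ^ 2) := by
    intro i j; ring
  have h2 : ∑ i, ∑ j, y j ^ 2 * (A i j * m i * m j) = ∑ i, ∑ j, y i ^ 2 * (A i j * m i * m j) := by
    rw [Finset.sum_comm]
    refine Finset.sum_congr rfl fun i _ => Finset.sum_congr rfl fun j _ => ?_
    rw [hs i j]; ring
  have h3 : ∑ i, ∑ j, y i ^ 2 * (A i j * m i * m j) = ∑ i, y i ^ 2 * (m i * ∑ j, A i j * m j) := by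
    refine Finset.sum_congr rfl fun i _ => ?_
    rw [Finset.mul_sum, Finset.mul_sum]
    refine Finset.sum_congr rfl fun j _ => ?_
    ring
  have h4 : ∑ i, ∑ j, (y i * m i) * (A i j * (y j * m j)) =
      (1 / 2) * ∑ i, ∑ j, y i ^ 2 * (A i j * m i * m j) +
        (1 / 2) * ∑ i, ∑ j, y j ^ 2 * (A i j * m i * m j) -
          (1 / 2) * ∑ i, ∑ j, A i j * m i * m j * (y i - y j) ^ 2 := by
    simp only [Finset.mul_sum, ← Finset.sum_add_distrib, ← Finset.sum_sub_distrib]
    refine Finset.sum_congr rfl fun i _ => Finset.sum_congr rfl fun j _ => ?_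
    exact h1 i j
  rw [h4, h2, h3]; ring

/-- dot product form -/
theorem H1_dot_mulVec (A : Matrix (Fin n) (Fin n) ℝ) (x : Fin n → ℝ) :
    dotProduct x (A.mulVec x) = ∑ i, ∑ j, x i * (A i j * x j) := by
  simp only [dotProduct, Matrix.mulVec, Finset.mul_sum]

/-- Under the sign hypotheses, all terms of the identity vanish when the form vanishes. -/
theorem H1_quad_nonpos_and_eq (A : Matrix (Fin n) (Fin n) ℝ) (hsymm : A.IsSymm)
    (hA : ∀ i j, i ≠ j → 0 ≤ A i j) (m : Fin n → ℝ) (hm : ∀ i, 0 < m i)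
    (hr : ∀ i, ∑ j, A i j * m j ≤ 0) (y : Fin n → ℝ) :
    ∑ i, ∑ j, (y i * m i) * (A i j * (y j * m j)) ≤ 0 ∧
    (∑ i, ∑ j, (y i * m i) * (A i j * (y j * m j)) = 0 →
      (∀ i, y i ≠ 0 → ∑ j, A i j * m j = 0) ∧ ∀ i j, i ≠ j → A i j ≠ 0 → y i = y j) := by
  rw [H1_quad_identity A hsymm m y]
  have t1 : ∀ i ∈ (univ : Finset (Fin n)), y i ^ 2 * (m i * ∑ j, A i j * m j) ≤ 0 := by
    intro i _
    exact mul_nonpos_of_nonneg_of_nonpos (sq_nonneg _)
      (mul_nonpos_of_nonneg_of_nonpos (hm i).le (hr i))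
  have t2 : ∀ i ∈ (univ : Finset (Fin n)), ∀ j ∈ (univ : Finset (Fin n)),
      0 ≤ A i j * m i * m j * (y i - y j) ^ 2 := by
    intro i _ j _
    by_cases hij : i = j
    · subst hij; simp
    · exact mul_nonneg (mul_nonneg (mul_nonneg (hA i j hij) (hm i).le) (hm j).le) (sq_nonneg _)
  have s1 : ∑ i, y i ^ 2 * (m i * ∑ j, A i j * m j) ≤ 0 := Finset.sum_nonpos t1
  have s2 : 0 ≤ ∑ i, ∑ j, A i j * m i * m j * (y i - y j) ^ 2 :=
    Finset.sum_nonneg fun i hi => Finset.sum_nonneg fun j hj => t2 i hi j hj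
  refine ⟨by linarith, fun h0 => ?_⟩
  have e1 : ∑ i, y i ^ 2 * (m i * ∑ j, A i j * m j) = 0 := by linarith
  have e2 : ∑ i, ∑ j, A i j * m i * m j * (y i - y j) ^ 2 = 0 := by linarith
  constructor
  · intro i hyi
    have := (Finset.sum_eq_zero_iff_of_nonpos t1).mp e1 i (mem_univ i)
    rcases mul_eq_zero.mp this with h | h
    · exact absurd ((pow_eq_zero_iff (two_ne_zero)).mp h) hyi
    · rcases mul_eq_zero.mp h with h | h
      · exact absurd h (hm i).ne'
      · exact h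
  · intro i j hij hAij
    have hi := (Finset.sum_eq_zero_iff_of_nonneg
      (fun i hi => Finset.sum_nonneg fun j hj => t2 i hi j hj)).mp e2 i (mem_univ i)
    have hj := (Finset.sum_eq_zero_iff_of_nonneg (fun j hj => t2 i (mem_univ i) j hj)).mp hi j
      (mem_univ j)
    rcases mul_eq_zero.mp hj with h | h
    · exfalso
      rcases mul_eq_zero.mp h with h | h
      · rcases mul_eq_zero.mp h with h | h
        · exact hAij h
        · exact (hm i).ne' h
      · exact (hm j).ne' h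
    · have := (pow_eq_zero_iff (two_ne_zero)).mp h
      linarith

end Groth.Agent.H1
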