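import Groth.Prelude.Def_SGA4c

/-!
Shortcut instances for colimits in `Sheaf J (Type u)` over a small site.
Under `import Mathlib` the instance search for these loops (through `EssentiallySmall`), so we
elaborate them here, with the small import set of the definition file, and re-export them with
high priority.
-/

set_option autoImplicit false
universe u
open CategoryTheory CategoryTheory.Limits Opposite

namespace Groth.Agent.H1
namespace TF

variable {C : Type u} [SmallCategory C] (J : GrothendieckTopology C)

theorem H1_hasColimitsOfShape_small (K : Type u) [SmallCategory K] :
    HasColimitsOfShape K (Sheaf J (Type u)) := inferInstance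

theorem H1_hasColimitsOfShape_fin (n : ℕ) :
    HasColimitsOfShape (Discrete (Fin n)) (Sheaf J (Type u)) := inferInstance

theorem H1_hasColimitsOfShape_pempty :
    HasColimitsOfShape (Discrete PEmpty.{1}) (Sheaf J (Type u)) := inferInstance

theorem H1_hasColimitsOfShape_wpp :
    HasColimitsOfShape WalkingParallelPair (Sheaf J (Type u)) := inferInstance

theorem H1_hasColimitsOfShape_wpair :
    HasColimitsOfShape (Discrete WalkingPair) (Sheaf J (Type u)) := inferInstance

instance (priority := 100000) instHCSmall (K : Type u) [SmallCategory K] :
    HasColimitsOfShape K (Sheaf J (Type u)) := H1_hasColimitsOfShape_small J K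

instance (priority := 100000) instHCFin (n : ℕ) :
    HasColimitsOfShape (Discrete (Fin n)) (Sheaf J (Type u)) := H1_hasColimitsOfShape_fin J n

instance (priority := 100000) instHCPEmpty :
    HasColimitsOfShape (Discrete PEmpty.{1}) (Sheaf J (Type u)) := H1_hasColimitsOfShape_pempty J

instance (priority := 100000) instHCWpp :
    HasColimitsOfShape WalkingParallelPair (Sheaf J (Type u)) := H1_hasColimitsOfShape_wpp J

instance (priority := 100000) instHCWpair :
    HasColimitsOfShape (Discrete WalkingPair) (Sheaf J (Type u)) := H1_hasColimitsOfShape_wpair J

instance (priority := 100000) instHColimSmall {K : Type u} [SmallCategory K]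
    (D : K ⥤ Sheaf J (Type u)) : HasColimit D :=
  haveI := H1_hasColimitsOfShape_small J K
  inferInstance

instance (priority := 100000) instHCoprodFin {n : ℕ} (F : Fin n → Sheaf J (Type u)) :
    HasCoproduct F :=
  haveI := H1_hasColimitsOfShape_fin J n
  inferInstance

instance (priority := 100000) instHInitial : HasInitial (Sheaf J (Type u)) :=
  H1_hasColimitsOfShape_pempty J

end TF
end Groth.Agent.H1
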