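import Mathlib
import Groth.Prelude.Def_SGA4c
import Groth.Agent.Lib.helper1.ToposFinInst

set_option autoImplicit false
universe u w w'
open CategoryTheory CategoryTheory.Limits Opposite

namespace Groth.Agent.H1
namespace TF

variable {C : Type u} [SmallCategory C] {J : GrothendieckTopology C}

/-- Jointly epimorphic family (categorical form). -/
def JE {ι : Type w} {X : Sheaf J (Type u)} {F : ι → Sheaf J (Type u)} (π : ∀ i, F i ⟶ X) : Prop :=
  ∀ ⦃Z : Sheaf J (Type u)⦄ (a b : X ⟶ Z), (∀ i, π i ≫ a = π i ≫ b) → a = b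

theorem H1_epi_sigmaDesc_iff {ι : Type w} {X : Sheaf J (Type u)} {F : ι → Sheaf J (Type u)}
    [HasCoproduct F] (π : ∀ i, F i ⟶ X) : Epi (Sigma.desc π) ↔ JE π := by
  constructor
  · intro h Z a b hab
    rw [← cancel_epi (Sigma.desc π)]
    apply Sigma.hom_ext
    intro i
    simp only [colimit.ι_desc_assoc, Cofan.mk_ι_app]
    exact hab i
  · intro h
    constructor
    intro Z a b hab
    apply h
    intro i
    have := congrArg (fun φ => Sigma.ι F i ≫ φ) hab
    simpa using this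

/-- The sieve of arrows along which `s` lifts to some member of the family. -/
def liftSieve {ι : Type w} {X : Sheaf J (Type u)} {F : ι → Sheaf J (Type u)} (π : ∀ i, F i ⟶ X)
    {U : C} (s : X.obj.obj (op U)) : Sieve U where
  arrows V g := ∃ i, ∃ t : (F i).obj.obj (op V), (π i).hom.app (op V) t = X.obj.map g.op s
  downward_closed := by
    rintro V W g ⟨i, t, ht⟩ k
    refine ⟨i, (F i).obj.map k.op t, ?_⟩
    have := NatTrans.naturality_apply (π i).hom k.op t
    rw [this, ht, op_comp, Functor.map_comp]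
    rfl

/-- Locally jointly surjective family. -/
def LJE {ι : Type w} {X : Sheaf J (Type u)} {F : ι → Sheaf J (Type u)} (π : ∀ i, F i ⟶ X) : Prop :=
  ∀ (U : C) (s : X.obj.obj (op U)), liftSieve π s ∈ J U

theorem H1_JE_of_LJE {ι : Type w} {X : Sheaf J (Type u)} {F : ι → Sheaf J (Type u)}
    (π : ∀ i, F i ⟶ X) (h : LJE π) : JE π := by
  intro Z a b hab
  ext U s
  induction U using Opposite.rec with | _ U => ?_
  apply ((isSheaf_iff_isSheaf_of_type J _).mp Z.2 _ (h U s)).isSeparatedFor.ext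
  rintro V g ⟨i, t, ht⟩
  have ha := NatTrans.naturality_apply a.hom g.op s
  have hb := NatTrans.naturality_apply b.hom g.op s
  change Z.obj.map g.op (a.hom.app (op U) s) = Z.obj.map g.op (b.hom.app (op U) s)
  rw [← ha, ← hb, ← ht]
  have := congrArg (fun φ : F i ⟶ Z => φ.hom.app (op V) t) (hab i)
  simpa using this

/-- The subsheaf of sections locally in the image of some member of the family. -/
noncomputable def imgSub {ι : Type w} {X : Sheaf J (Type u)} {F : ι → Sheaf J (Type u)}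
    (π : ∀ i, F i ⟶ X) : Subfunctor X.obj :=
  (⨆ i, Subfunctor.range (π i).hom).sheafify J

noncomputable def imgSheaf {ι : Type w} {X : Sheaf J (Type u)} {F : ι → Sheaf J (Type u)}
    (π : ∀ i, F i ⟶ X) : Sheaf J (Type u) :=
  ⟨(imgSub π).toFunctor, by
    rw [isSheaf_iff_isSheaf_of_type]
    apply Subfunctor.sheafify_isSheaf
    rw [← isSheaf_iff_isSheaf_of_type]
    exact X.2⟩

noncomputable def imgIncl {ι : Type w} {X : Sheaf J (Type u)} {F : ι → Sheaf J (Type u)}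
    (π : ∀ i, F i ⟶ X) : imgSheaf π ⟶ X := ⟨Subfunctor.ι _⟩

instance {ι : Type w} {X : Sheaf J (Type u)} {F : ι → Sheaf J (Type u)}
    (π : ∀ i, F i ⟶ X) : Mono (imgIncl π) :=
  (sheafToPresheaf J _).mono_of_mono_map
    (inferInstance : Mono (Subfunctor.ι (imgSub π)))

theorem H1_range_le_imgSub {ι : Type w} {X : Sheaf J (Type u)} {F : ι → Sheaf J (Type u)}
    (π : ∀ i, F i ⟶ X) (i : ι) : Subfunctor.range (π i).hom ≤ imgSub π :=
  le_trans (le_iSup (fun i => Subfunctor.range (π i).hom) i) (Subfunctor.le_sheafify J _)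

noncomputable def imgLift {ι : Type w} {X : Sheaf J (Type u)} {F : ι → Sheaf J (Type u)}
    (π : ∀ i, F i ⟶ X) (i : ι) : F i ⟶ imgSheaf π :=
  ⟨Subfunctor.lift (π i).hom (H1_range_le_imgSub π i)⟩

theorem H1_imgLift_incl {ι : Type w} {X : Sheaf J (Type u)} {F : ι → Sheaf J (Type u)}
    (π : ∀ i, F i ⟶ X) (i : ι) : imgLift π i ≫ imgIncl π = π i := by
  ext1
  rfl

theorem H1_LJE_of_JE {ι : Type w} {X : Sheaf J (Type u)} {F : ι → Sheaf J (Type u)}
    (π : ∀ i, F i ⟶ X) (h : JE π) : LJE π := by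
  have hepi : Epi (imgIncl π) := by
    constructor
    intro Z a b hab
    apply h
    intro i
    rw [← H1_imgLift_incl π i, Category.assoc, Category.assoc, hab]
  have hiso : IsIso (imgIncl π) := isIso_of_mono_of_epi _
  intro U s
  have hiso' : IsIso ((imgIncl π).hom.app (op U)) := by
    have : IsIso ((sheafToPresheaf J (Type u)).map (imgIncl π)) := inferInstance
    exact (NatIso.isIso_app_of_isIso ((sheafToPresheaf J (Type u)).map (imgIncl π)) (op U))
  have hsurj : Function.Surjective ((imgIncl π).hom.app (op U)) :=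
    ((isIso_iff_bijective _).1 hiso').2
  obtain ⟨⟨s', hs'⟩, rfl⟩ := hsurj s
  refine J.superset_covering ?_ hs'
  intro V g hg
  change X.obj.map g.op s' ∈ (⨆ i, Subfunctor.range (π i).hom).obj (op V) at hg
  rw [Subfunctor.iSup_obj, Set.mem_iUnion] at hg
  obtain ⟨i, t, ht⟩ := hg
  exact ⟨i, t, ht⟩

theorem H1_JE_iff_LJE {ι : Type w} {X : Sheaf J (Type u)} {F : ι → Sheaf J (Type u)}
    (π : ∀ i, F i ⟶ X) : JE π ↔ LJE π := ⟨H1_LJE_of_JE π, H1_JE_of_LJE π⟩

theorem H1_LJE_pullback {ι : Type w} {X X' : Sheaf J (Type u)} {F P : ι → Sheaf J (Type u)}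
    (π : ∀ i, F i ⟶ X) (g : X' ⟶ X) (p : ∀ i, P i ⟶ F i) (q : ∀ i, P i ⟶ X')
    (hpb : ∀ i, IsPullback (p i) (q i) (π i) g) (h : LJE π) : LJE q := by
  intro U s'
  refine J.superset_covering ?_ (h U (g.hom.app (op U) s'))
  rintro V k ⟨i, t, ht⟩
  have hV : IsPullback ((p i).hom.app (op V)) ((q i).hom.app (op V)) ((π i).hom.app (op V))
      (g.hom.app (op V)) :=
    (hpb i).map (sheafToPresheaf J (Type u) ⋙ (evaluation _ _).obj (op V))
  have hcomp : (π i).hom.app (op V) t = g.hom.app (op V) (X'.obj.map k.op s') := by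
    rw [ht]
    exact (NatTrans.naturality_apply g.hom k.op s').symm
  obtain ⟨x, hx1, hx2⟩ := Types.exists_of_isPullback hV t (X'.obj.map k.op s') hcomp
  exact ⟨i, x, hx2⟩

theorem H1_JE_pullback {ι : Type w} {X X' : Sheaf J (Type u)} {F P : ι → Sheaf J (Type u)}
    (π : ∀ i, F i ⟶ X) (g : X' ⟶ X) (p : ∀ i, P i ⟶ F i) (q : ∀ i, P i ⟶ X')
    (hpb : ∀ i, IsPullback (p i) (q i) (π i) g) (h : JE π) : JE q :=
  H1_JE_of_LJE q (H1_LJE_pullback π g p q hpb (H1_LJE_of_JE π h))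

theorem H1_JE_pullback_snd {ι : Type w} {X X' : Sheaf J (Type u)} {F : ι → Sheaf J (Type u)}
    (π : ∀ i, F i ⟶ X) (g : X' ⟶ X) (h : JE π) : JE (fun i => pullback.snd (π i) g) :=
  H1_JE_pullback π g (fun i => pullback.fst (π i) g) _ (fun _ => IsPullback.of_hasPullback _ _) h

theorem H1_JE_pullback_fst {ι : Type w} {X X' : Sheaf J (Type u)} {F : ι → Sheaf J (Type u)}
    (π : ∀ i, F i ⟶ X) (g : X' ⟶ X) (h : JE π) : JE (fun i => pullback.fst g (π i)) :=
  H1_JE_pullback π g (fun i => pullback.snd g (π i)) _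
    (fun _ => (IsPullback.of_hasPullback _ _).flip) h

/-- A single epimorphism is a jointly epimorphic family. -/
theorem H1_JE_of_epi {X Y : Sheaf J (Type u)} (p : X ⟶ Y) [Epi p] :
    JE (fun _ : PUnit.{1} => p) := by
  intro Z a b hab
  exact (cancel_epi p).1 (hab PUnit.unit)

theorem H1_epi_of_JE_unit {X Y : Sheaf J (Type u)} (p : X ⟶ Y)
    (h : JE (fun _ : PUnit.{1} => p)) : Epi p :=
  ⟨fun a b hab => h a b (fun _ => hab)⟩

/-- Epimorphisms in the sheaf topos are stable under base change. -/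
theorem H1_epi_of_isPullback {X Y X' Y' : Sheaf J (Type u)} {f : X ⟶ Y} {f' : X' ⟶ Y'}
    {i₁ : X' ⟶ X} {i₂ : Y' ⟶ Y} (hpb : IsPullback i₁ f' f i₂) [Epi f] : Epi f' :=
  H1_epi_of_JE_unit f' (H1_JE_pullback (fun _ : PUnit.{1} => f) i₂ (fun _ => i₁) (fun _ => f')
    (fun _ => hpb) (H1_JE_of_epi f))

/-- Restricting a family along a map of index types that still is jointly epi. -/
theorem H1_JE_of_factor {ι : Type w} {κ : Type w'} {X : Sheaf J (Type u)} {F : ι → Sheaf J (Type u)}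
    {G : κ → Sheaf J (Type u)} (π : ∀ i, F i ⟶ X) (ρ : ∀ k, G k ⟶ X) (hρ : JE ρ)
    (hfac : ∀ k, ∃ i, ∃ φ : G k ⟶ F i, φ ≫ π i = ρ k) : JE π := by
  intro Z a b hab
  apply hρ
  intro k
  obtain ⟨i, φ, hφ⟩ := hfac k
  rw [← hφ, Category.assoc, Category.assoc, hab i]

theorem H1_isQC_iff (X : Sheaf J (Type u)) :
    ToposFin.IsQC X ↔ ∀ (ι : Type u) (F : ι → Sheaf J (Type u)) (π : ∀ i, F i ⟶ X), JE π →
      ∃ s : Finset ι, JE (fun i : s => π i) := by
  constructor
  · intro h ι F π hπ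
    obtain ⟨s, hs⟩ := h ι F π ((H1_epi_sigmaDesc_iff π).2 hπ)
    exact ⟨s, (H1_epi_sigmaDesc_iff _).1 hs⟩
  · intro h ι F π hπ
    obtain ⟨s, hs⟩ := h ι F π ((H1_epi_sigmaDesc_iff π).1 hπ)
    exact ⟨s, (H1_epi_sigmaDesc_iff _).2 hs⟩

theorem H1_isQC_of_finite_cover {κ : Type w} [Finite κ] {X : Sheaf J (Type u)}
    (F : κ → Sheaf J (Type u)) (ρ : ∀ k, F k ⟶ X) (hρ : JE ρ) (hF : ∀ k, ToposFin.IsQC (F k)) :
    ToposFin.IsQC X := by
  classical
  haveI : Fintype κ := Fintype.ofFinite κ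
  rw [H1_isQC_iff]
  intro ι G π hπ
  have h1 : ∀ k, ∃ s : Finset ι, JE (fun i : s => pullback.fst (ρ k) (π i)) := by
    intro k
    exact (H1_isQC_iff (F k)).1 (hF k) ι _ _ (H1_JE_pullback_fst π (ρ k) hπ)
  choose sk hsk using h1
  refine ⟨Finset.univ.biUnion sk, ?_⟩
  intro Z a b hab
  apply hρ
  intro k
  apply hsk k
  intro i
  have hi : (i : ι) ∈ Finset.univ.biUnion sk :=
    Finset.mem_biUnion.2 ⟨k, Finset.mem_univ k, i.2⟩
  have := hab ⟨i, hi⟩
  simp only at this ⊢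
  rw [← Category.assoc, ← Category.assoc, pullback.condition, Category.assoc, Category.assoc, this]

theorem H1_isQC_of_epi {X Y : Sheaf J (Type u)} (p : X ⟶ Y) [Epi p] (h : ToposFin.IsQC X) :
    ToposFin.IsQC Y :=
  H1_isQC_of_finite_cover (fun _ : PUnit.{1} => X) (fun _ => p) (H1_JE_of_epi p) (fun _ => h)

theorem H1_isQC_of_iso {X Y : Sheaf J (Type u)} (e : X ≅ Y) (h : ToposFin.IsQC X) :
    ToposFin.IsQC Y :=
  H1_isQC_of_epi e.hom h

theorem H1_isQCHom_iff {X Y : Sheaf J (Type u)} (f : X ⟶ Y) :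
    ToposFin.IsQCHom f ↔ ∀ (P Y' : Sheaf J (Type u)) (a : P ⟶ X) (b : P ⟶ Y') (g : Y' ⟶ Y),
      IsPullback a b f g → ToposFin.IsQC Y' → ToposFin.IsQC P := by
  constructor
  · intro h P Y' a b g hpb hY'
    exact H1_isQC_of_iso hpb.isoPullback.symm (h Y' g hY')
  · intro h Y' g hY'
    exact h _ Y' _ _ g (IsPullback.of_hasPullback f g) hY'

theorem H1_isQS_iff (X : Sheaf J (Type u)) :
    ToposFin.IsQS X ↔ ∀ (P Y Z : Sheaf J (Type u)) (p : P ⟶ Y) (q : P ⟶ Z) (a : Y ⟶ X) (b : Z ⟶ X),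
      IsPullback p q a b → ToposFin.IsQC Y → ToposFin.IsQC Z → ToposFin.IsQC P := by
  constructor
  · intro h P Y Z p q a b hpb hY hZ
    exact H1_isQC_of_iso hpb.isoPullback.symm (h Y Z a b hY hZ)
  · intro h Y Z a b hY hZ
    exact h _ Y Z _ _ a b (IsPullback.of_hasPullback a b) hY hZ

theorem H1_isQCHom_of_isPullback {X Y X' Y' : Sheaf J (Type u)} {f : X ⟶ Y} {f' : X' ⟶ Y'}
    {i₁ : X' ⟶ X} {i₂ : Y' ⟶ Y} (hpb : IsPullback i₁ f' f i₂) (h : ToposFin.IsQCHom f) :
    ToposFin.IsQCHom f' := by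
  rw [H1_isQCHom_iff] at h ⊢
  intro P Y'' a b g hpb' hY''
  exact h P Y'' (a ≫ i₁) b (g ≫ i₂) (hpb'.paste_horiz hpb) hY''

theorem H1_isQCHom_comp {X Y Z : Sheaf J (Type u)} (f : X ⟶ Y) (g : Y ⟶ Z)
    (hf : ToposFin.IsQCHom f) (hg : ToposFin.IsQCHom g) : ToposFin.IsQCHom (f ≫ g) := by
  intro Z' k hZ'
  have h1 : ToposFin.IsQC (pullback g k) := hg Z' k hZ'
  have h2 : ToposFin.IsQC (pullback f (pullback.fst g k)) := hf _ _ h1
  have hpb : IsPullback (pullback.fst f (pullback.fst g k))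
      (pullback.snd f (pullback.fst g k) ≫ pullback.snd g k) (f ≫ g) k :=
    (IsPullback.of_hasPullback f (pullback.fst g k)).paste_vert (IsPullback.of_hasPullback g k)
  exact H1_isQC_of_iso hpb.isoPullback h2

theorem H1_isQCHom_of_isIso {X Y : Sheaf J (Type u)} (f : X ⟶ Y) [IsIso f] :
    ToposFin.IsQCHom f := by
  intro Y' g hY'
  haveI : IsIso (pullback.snd f g) := inferInstance
  exact H1_isQC_of_iso (asIso (pullback.snd f g)).symm hY'

theorem H1_isQCHom_of_comp_mono {X Y Z : Sheaf J (Type u)} (f : X ⟶ Y) (i : Y ⟶ Z) [Mono i]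
    (h : ToposFin.IsQCHom (f ≫ i)) : ToposFin.IsQCHom f := by
  intro Y' g hY'
  have h1 := h Y' (g ≫ i) hY'
  have hpb : IsPullback (pullback.fst f g) (pullback.snd f g) (f ≫ i) (g ≫ i) :=
    IsPullback.of_isLimit (pullbackIsPullbackOfCompMono f g i)
  exact H1_isQC_of_iso hpb.isoPullback.symm h1

theorem H1_isQSHom_of_comp {X Y Z : Sheaf J (Type u)} (f : X ⟶ Y) (g : Y ⟶ Z)
    (h : ToposFin.IsQSHom (f ≫ g)) : ToposFin.IsQSHom f := by
  unfold ToposFin.IsQSHom at h ⊢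
  let j : pullback f f ⟶ pullback (f ≫ g) (f ≫ g) :=
    pullback.map f f (f ≫ g) (f ≫ g) (𝟙 _) (𝟙 _) g (by simp) (by simp)
  have hj1 : j ≫ pullback.fst _ _ = pullback.fst _ _ :=
    (pullback.lift_fst _ _ _).trans (Category.comp_id _)
  have hj2 : j ≫ pullback.snd _ _ = pullback.snd _ _ :=
    (pullback.lift_snd _ _ _).trans (Category.comp_id _)
  haveI : Mono j := by
    constructor
    intro W a b hab
    apply pullback.hom_ext
    · have := congrArg (fun φ => φ ≫ pullback.fst _ _) hab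
      simpa only [Category.assoc, hj1] using this
    · have := congrArg (fun φ => φ ≫ pullback.snd _ _) hab
      simpa only [Category.assoc, hj2] using this
  have hfac : pullback.diagonal (f ≫ g) = pullback.diagonal f ≫ j := by
    apply pullback.hom_ext
    · rw [Category.assoc, hj1, pullback.diagonal_fst, pullback.diagonal_fst]
    · rw [Category.assoc, hj2, pullback.diagonal_snd, pullback.diagonal_snd]
  rw [hfac] at h
  exact H1_isQCHom_of_comp_mono _ j h

theorem H1_isQCHom_of_comp_of_isQSHom {X Y Z : Sheaf J (Type u)} (f : X ⟶ Y) (g : Y ⟶ Z)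
    (hg : ToposFin.IsQSHom g) (h : ToposFin.IsQCHom (f ≫ g)) : ToposFin.IsQCHom f := by
  have h1 : ToposFin.IsQCHom (pullback.lift (𝟙 X) f (by simp) : X ⟶ pullback (f ≫ g) g) :=
    H1_isQCHom_of_isPullback (pullback_lift_diagonal_isPullback f g) hg
  have h2 : ToposFin.IsQCHom (pullback.snd (f ≫ g) g) :=
    H1_isQCHom_of_isPullback (IsPullback.of_hasPullback (f ≫ g) g) h
  have h3 := H1_isQCHom_comp _ _ h1 h2
  rwa [pullback.lift_snd] at h3

theorem H1_isQS_of_isQSHom {X Y : Sheaf J (Type u)} (f : X ⟶ Y) (hf : ToposFin.IsQSHom f)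
    (hY : ToposFin.IsQS Y) : ToposFin.IsQS X := by
  intro Y₁ Z₁ a b hY₁ hZ₁
  have h1 : ToposFin.IsQC (pullback (a ≫ f) (b ≫ f)) := hY _ _ _ _ hY₁ hZ₁
  exact (H1_isQCHom_iff _).1 hf _ _ _ _ _ (pullback_map_diagonal_isPullback a b f) h1

theorem H1_isQS_of_mono {X Y : Sheaf J (Type u)} (i : X ⟶ Y) [Mono i]
    (hY : ToposFin.IsQS Y) : ToposFin.IsQS X := by
  intro Y₁ Z₁ a b hY₁ hZ₁
  have h1 : ToposFin.IsQC (pullback (a ≫ i) (b ≫ i)) := hY _ _ _ _ hY₁ hZ₁
  have hpb : IsPullback (pullback.fst a b) (pullback.snd a b) (a ≫ i) (b ≫ i) :=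
    IsPullback.of_isLimit (pullbackIsPullbackOfCompMono a b i)
  exact H1_isQC_of_iso hpb.isoPullback.symm h1

end TF
end Groth.Agent.H1

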