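import Groth.Agent.Lib.helper1.ToposFin9
set_option autoImplicit false
universe u w w' v₁ u₁
open CategoryTheory CategoryTheory.Limits Opposite

namespace Groth.Agent.H1
namespace TF

variable {C : Type u} [SmallCategory C] {J : GrothendieckTopology C}

/-- Product morphisms inherit any property stable under base change and composition. -/
theorem H1_prop_prod_map (P : ∀ ⦃X Y : Sheaf J (Type u)⦄, (X ⟶ Y) → Prop)
    (hbc : ∀ ⦃X Y X' Y' : Sheaf J (Type u)⦄ ⦃f : X ⟶ Y⦄ ⦃f' : X' ⟶ Y'⦄ ⦃i₁ : X' ⟶ X⦄ ⦃i₂ : Y' ⟶ Y⦄,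
      IsPullback i₁ f' f i₂ → P f → P f')
    (hcomp : ∀ ⦃X Y Z : Sheaf J (Type u)⦄ (f : X ⟶ Y) (g : Y ⟶ Z), P f → P g → P (f ≫ g))
    {X Y X' Y' S : Sheaf J (Type u)} (f : X ⟶ Y) (f' : X' ⟶ Y') (a : Y ⟶ S) (a' : Y' ⟶ S)
    (hf : P f) (hf' : P f') :
    P (pullback.map (f ≫ a) (f' ≫ a') a a' f f' (𝟙 S) (Category.comp_id _) (Category.comp_id _)) := by
  have hfac : pullback.map (f ≫ a) (f' ≫ a') a a' f f' (𝟙 S) (Category.comp_id _) (Category.comp_id _) =
      pullback.map (f ≫ a) (f' ≫ a') a (f' ≫ a') f (𝟙 _) (𝟙 S) (by simp) (by simp) ≫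
        pullback.map a (f' ≫ a') a a' (𝟙 Y) f' (𝟙 S) (by simp) (by simp) := by
    apply pullback.hom_ext
    · simp only [Category.assoc, pullback.lift_fst, Category.comp_id]
    · simp only [Category.assoc, pullback.lift_snd, pullback.lift_snd_assoc, Category.comp_id]
  rw [hfac]
  exact hcomp _ _ (hbc (H1_isPullback_map_left a (f' ≫ a') f).flip hf)
    (hbc (H1_isPullback_map_right a a' f').flip hf')

/-- Members of a jointly epimorphic family of pairwise disjoint monomorphisms are quasi-compact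
morphisms. -/
theorem H1_isQCHom_of_disjoint_cover {ι : Type u} {X : Sheaf J (Type u)} (A : ι → Sheaf J (Type u))
    (m : ∀ i, A i ⟶ X) (hm : JE m) (hmono : ∀ i, Mono (m i))
    (hdisj : ∀ i j, i ≠ j → ∀ (W : Sheaf J (Type u)) (a : W ⟶ A i) (b : W ⟶ A j),
      a ≫ m i = b ≫ m j → Nonempty (IsInitial W)) (i : ι) : ToposFin.IsQCHom (m i) := by
  intro T t hT
  refine H1_isQC_of_disjoint_cover (fun k => pullback (m k) t) (fun k => pullback.snd (m k) t)
    (H1_JE_pullback_snd m t hm) ?_ ?_ hT i
  · intro k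
    haveI := hmono k
    infer_instance
  · intro k l hkl W a b hab
    refine hdisj k l hkl W (a ≫ pullback.fst _ _) (b ≫ pullback.fst _ _) ?_
    rw [Category.assoc, Category.assoc, pullback.condition, pullback.condition, ← Category.assoc,
      ← Category.assoc, hab]

theorem H1_isQCHom_of_isInitial_source {A B : Sheaf J (Type u)} (φ : A ⟶ B) (hA : IsInitial A) :
    ToposFin.IsQCHom φ := by
  intro T t _
  exact H1_isQC_of_isInitial (IsInitial.ofStrict (pullback.fst φ t) hA)

/-- Quasi-separatedness can be tested on the members of a disjoint cover of the source by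
monomorphisms. -/
theorem H1_isQSHom_iff_of_disjoint_cover {ι : Type u} {X Y : Sheaf J (Type u)}
    (A : ι → Sheaf J (Type u)) (m : ∀ i, A i ⟶ X) (hm : JE m) (hmono : ∀ i, Mono (m i))
    (hdisj : ∀ i j, i ≠ j → ∀ (W : Sheaf J (Type u)) (a : W ⟶ A i) (b : W ⟶ A j),
      a ≫ m i = b ≫ m j → Nonempty (IsInitial W)) (f : X ⟶ Y) :
    ToposFin.IsQSHom f ↔ ∀ i, ToposFin.IsQSHom (m i ≫ f) := by
  classical
  constructor
  · intro h i
    haveI := hmono i
    exact H1_isQSHom_comp _ _ (H1_isQSHom_of_mono (m i)) h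
  · intro h
    -- the cover of `pullback f f`
    let hmap : ∀ p : Σ _ : ι, ι, pullback (m p.2 ≫ f) (m p.1 ≫ f) ⟶ pullback f f := fun p =>
      pullback.map (m p.2 ≫ f) (m p.1 ≫ f) f f (m p.2) (m p.1) (𝟙 Y) (by simp) (by simp)
    have hh1 : ∀ p, hmap p ≫ pullback.fst f f = pullback.fst _ _ ≫ m p.2 := fun p =>
      pullback.lift_fst _ _ _
    have hh2 : ∀ p, hmap p ≫ pullback.snd f f = pullback.snd _ _ ≫ m p.1 := fun p =>
      pullback.lift_snd _ _ _
    have hJE : JE hmap := H1_JE_prod_map f A m hm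
    have hmonoh : ∀ p, Mono (hmap p) := by
      intro p
      haveI := hmono p.1
      haveI := hmono p.2
      constructor
      intro W a b hab
      apply pullback.hom_ext
      · have := congrArg (fun φ => φ ≫ pullback.fst f f) hab
        simp only [Category.assoc, hh1] at this
        rw [← cancel_mono (m p.2)]
        simpa only [Category.assoc] using this
      · have := congrArg (fun φ => φ ≫ pullback.snd f f) hab
        simp only [Category.assoc, hh2] at this
        rw [← cancel_mono (m p.1)]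
        simpa only [Category.assoc] using this
    have hdisjh : ∀ p q, p ≠ q → ∀ (W : Sheaf J (Type u))
        (a : W ⟶ pullback (m p.2 ≫ f) (m p.1 ≫ f)) (b : W ⟶ pullback (m q.2 ≫ f) (m q.1 ≫ f)),
        a ≫ hmap p = b ≫ hmap q → Nonempty (IsInitial W) := by
      rintro ⟨p1, p2⟩ ⟨q1, q2⟩ hpq W a b hab
      by_cases h2 : p2 = q2
      · have h1 : p1 ≠ q1 := by
          intro h1
          apply hpq
          rw [h1, h2]
        refine hdisj p1 q1 h1 W (a ≫ pullback.snd _ _) (b ≫ pullback.snd _ _) ?_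
        have := congrArg (fun φ => φ ≫ pullback.snd f f) hab
        simpa only [Category.assoc, hh2] using this
      · refine hdisj p2 q2 h2 W (a ≫ pullback.fst _ _) (b ≫ pullback.fst _ _) ?_
        have := congrArg (fun φ => φ ≫ pullback.fst f f) hab
        simpa only [Category.assoc, hh1] using this
    have hqch : ∀ p, ToposFin.IsQCHom (hmap p) :=
      H1_isQCHom_of_disjoint_cover _ hmap hJE hmonoh hdisjh
    -- the base change of the diagonal to the members of the cover
    have hφ : ∀ p : Σ _ : ι, ι, ToposFin.IsQCHom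
        (pullback.map (m p.2) (m p.1) (m p.2 ≫ f) (m p.1 ≫ f) (𝟙 _) (𝟙 _) f
          (Category.id_comp _).symm (Category.id_comp _).symm) := by
      rintro ⟨j, i⟩
      by_cases hij : i = j
      · subst hij
        haveI := hmono i
        have hfac : pullback.diagonal (m i ≫ f) = pullback.diagonal (m i) ≫
            pullback.map (m i) (m i) (m i ≫ f) (m i ≫ f) (𝟙 _) (𝟙 _) f
              (Category.id_comp _).symm (Category.id_comp _).symm := by
          apply pullback.hom_ext
          · rw [Category.assoc, pullback.lift_fst, pullback.diagonal_fst, ← Category.assoc,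
              pullback.diagonal_fst, Category.id_comp]
          · rw [Category.assoc, pullback.lift_snd, pullback.diagonal_snd, ← Category.assoc,
              pullback.diagonal_snd, Category.id_comp]
        have h3 : pullback.map (m i) (m i) (m i ≫ f) (m i ≫ f) (𝟙 _) (𝟙 _) f
              (Category.id_comp _).symm (Category.id_comp _).symm =
            inv (pullback.diagonal (m i)) ≫ pullback.diagonal (m i ≫ f) := by
          rw [hfac, IsIso.inv_hom_id_assoc]
        rw [h3]
        exact H1_isQCHom_comp _ _ (H1_isQCHom_of_isIso _) (h i)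
      · obtain ⟨hI⟩ := hdisj i j hij _ (pullback.fst (m i) (m j)) (pullback.snd (m i) (m j))
          pullback.condition
        exact H1_isQCHom_of_isInitial_source _ hI
    intro T t hT
    have hcov : JE (fun p => pullback.snd (hmap p) t) := H1_JE_pullback_snd hmap t hJE
    obtain ⟨s, hs⟩ := (H1_isQC_iff T).1 hT _ _ _ hcov
    refine H1_isQC_of_finite_cover_base (pullback.snd (pullback.diagonal f) t)
      (fun p : s => pullback (hmap p) t) (fun p : s => pullback.snd (hmap p) t) hs ?_
    intro p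
    have hTp : ToposFin.IsQC (pullback (hmap p) t) := hqch p T t hT
    have hP := H1_isPullback_paste_cover (pullback.diagonal f) t (pullback.snd (hmap p) t)
    rw [← pullback.condition] at hP
    have hA := (IsPullback.of_hasPullback
      (pullback.map (m p.1.2) (m p.1.1) (m p.1.2 ≫ f) (m p.1.1 ≫ f) (𝟙 _) (𝟙 _) f
        (Category.id_comp _).symm (Category.id_comp _).symm)
      (pullback.fst (hmap p) t)).paste_horiz (pullback_map_diagonal_isPullback (m p.1.2) (m p.1.1) f)
    exact H1_isQC_of_isPullback_of_isPullback hA hP (hφ p.1 _ _ hTp)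

/-- S5581. -/
theorem H1_isQSHom_cofan_desc_iff {Y : Sheaf J (Type u)} {ι : Type u} (X : ι → Sheaf J (Type u))
    (c : Cofan X) (hc : IsColimit c) (f : c.pt ⟶ Y) :
    ToposFin.IsQSHom f ↔ ∀ i, ToposFin.IsQSHom (c.inj i ≫ f) := by
  let e : c.pt ≅ ∐ X := hc.coconePointUniqueUpToIso (coproductIsCoproduct X)
  have he : ∀ i, c.inj i ≫ e.hom = Sigma.ι X i := fun i =>
    IsColimit.comp_coconePointUniqueUpToIso_hom hc (coproductIsCoproduct X) ⟨i⟩
  refine H1_isQSHom_iff_of_disjoint_cover X c.inj ?_ ?_ ?_ f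
  · intro Z a b hab
    exact Cofan.IsColimit.hom_ext hc _ _ hab
  · intro i
    have : c.inj i = Sigma.ι X i ≫ e.inv := by rw [← he i, Category.assoc, e.hom_inv_id, Category.comp_id]
    rw [this]
    haveI := H1_mono_sigma_ι X i
    infer_instance
  · intro i j hij W a b hab
    refine H1_isInitial_of_sigma_ι_ne X hij a b ?_
    rw [← he i, ← he j, ← Category.assoc, ← Category.assoc, hab]

/-- The disjoint cover attached to a finite colimit cofan (reindexed to the universe `u`). -/
theorem H1_fin_cofan_disjoint_cover {n : ℕ} (X : Fin n → Sheaf J (Type u)) (c : Cofan X)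
    (hc : IsColimit c) :
    JE (fun k : ULift.{u} (Fin n) => c.inj k.down) ∧
    (∀ k : ULift.{u} (Fin n), Mono (c.inj k.down)) ∧
    (∀ i j : ULift.{u} (Fin n), i ≠ j → ∀ (W : Sheaf J (Type u)) (a : W ⟶ X i.down)
      (b : W ⟶ X j.down), a ≫ c.inj i.down = b ≫ c.inj j.down → Nonempty (IsInitial W)) := by
  refine ⟨?_, ?_, ?_⟩
  · intro Z a b hab
    exact Cofan.IsColimit.hom_ext hc _ _ (fun i => hab ⟨i⟩)
  · intro k
    exact FinitaryExtensive.mono_ι hc ⟨k.down⟩
  · intro i j hij W a b hab
    have hne : (⟨i.down⟩ : Discrete (Fin n)) ≠ ⟨j.down⟩ := by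
      intro h
      apply hij
      have := congrArg Discrete.as h
      exact ULift.ext _ _ this
    have hpb := FinitaryExtensive.isPullback_initial_to hc ⟨i.down⟩ ⟨j.down⟩ hne
    exact ⟨IsInitial.ofStrict (hpb.lift a b hab) initialIsInitial⟩

/-- S5580. -/
theorem H1_cofan_desc_fin_iff {Y : Sheaf J (Type u)} {n : ℕ} (X : Fin n → Sheaf J (Type u))
    (c : Cofan X) (hc : IsColimit c) (f : c.pt ⟶ Y) :
    (ToposFin.IsQCHom f ↔ ∀ i, ToposFin.IsQCHom (c.inj i ≫ f)) ∧
    (ToposFin.IsCohHom f ↔ ∀ i, ToposFin.IsCohHom (c.inj i ≫ f)) := by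
  obtain ⟨h1, h2, h3⟩ := H1_fin_cofan_disjoint_cover X c hc
  have hinj : ∀ i, ToposFin.IsQCHom (c.inj i) := fun i =>
    H1_isQCHom_of_disjoint_cover (fun k : ULift.{u} (Fin n) => X k.down) _ h1 h2 h3 ⟨i⟩
  have hqs := H1_isQSHom_iff_of_disjoint_cover (fun k : ULift.{u} (Fin n) => X k.down) _ h1 h2 h3 f
  have hJE : JE c.inj := fun Z a b hab => Cofan.IsColimit.hom_ext hc _ _ hab
  have hqc : ToposFin.IsQCHom f ↔ ∀ i, ToposFin.IsQCHom (c.inj i ≫ f) := by
    constructor
    · intro h i
      exact H1_isQCHom_comp _ _ (hinj i) h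
    · intro h
      exact H1_isQCHom_of_finite_cover_source f X c.inj hJE h
  refine ⟨hqc, ?_⟩
  constructor
  · rintro ⟨h, h'⟩ i
    exact ⟨hqc.1 h i, hqs.1 h' ⟨i⟩⟩
  · intro h
    exact ⟨hqc.2 (fun i => (h i).1), hqs.2 (fun k => (h k.down).2)⟩

end TF
end Groth.Agent.H1
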