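import Groth.Agent.Lib.helper1.ToposFin
set_option autoImplicit false
universe u w w'
open CategoryTheory CategoryTheory.Limits Opposite

namespace Groth.Agent.H1
namespace TF

variable {C : Type u} [SmallCategory C] {J : GrothendieckTopology C}

/-- Composite of jointly epimorphic families. -/
theorem H1_JE_comp {ι : Type w} {κ : ι → Type w'} {X : Sheaf J (Type u)}
    {F : ι → Sheaf J (Type u)} {G : ∀ i, κ i → Sheaf J (Type u)}
    (π : ∀ i, F i ⟶ X) (ρ : ∀ i (k : κ i), G i k ⟶ F i) (hπ : JE π) (hρ : ∀ i, JE (ρ i)) :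
    JE (fun p : Σ i, κ i => ρ p.1 p.2 ≫ π p.1) := by
  intro Z a b hab
  apply hπ
  intro i
  apply hρ i
  intro k
  have := hab ⟨i, k⟩
  simpa only [Category.assoc] using this

/-- Finite-cover criterion phrased with arbitrary pullback squares: if `P → Y'` is the base change of
... and `Y'` has a finite jointly epi family `w m : W m ⟶ Y'` such that the pullbacks of `P`
along the `w m` are quasi-compact, then `P` is quasi-compact. -/
theorem H1_isQC_of_finite_cover_base {κ : Type w} [Finite κ] {P Y' : Sheaf J (Type u)}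
    (q : P ⟶ Y') (W : κ → Sheaf J (Type u)) (w : ∀ m, W m ⟶ Y') (hw : JE w)
    (h : ∀ m, ToposFin.IsQC (pullback (w m) q)) : ToposFin.IsQC P :=
  H1_isQC_of_finite_cover (fun m => pullback (w m) q) (fun m => pullback.snd (w m) q)
    (H1_JE_pullback_snd w q hw) h

/-- Refinement of a cover of a quasi-compact object by a finite family of objects satisfying `Q`,
when objects satisfying `Q` generate. -/
theorem H1_exists_finite_refinement (Q : Sheaf J (Type u) → Prop)
    (hgen : ∀ X : Sheaf J (Type u), ∃ (ι : Type u) (F : ι → Sheaf J (Type u)) (π : ∀ i, F i ⟶ X),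
      (∀ i, Q (F i)) ∧ JE π)
    {Y' : Sheaf J (Type u)} (hY' : ToposFin.IsQC Y') {ι : Type u} (F : ι → Sheaf J (Type u))
    (π : ∀ i, F i ⟶ Y') (hπ : JE π) :
    ∃ (κ : Type u) (_ : Finite κ) (W : κ → Sheaf J (Type u)) (w : ∀ m, W m ⟶ Y') (idx : κ → ι)
      (v : ∀ m, W m ⟶ F (idx m)), (∀ m, Q (W m)) ∧ (∀ m, v m ≫ π (idx m) = w m) ∧ JE w := by
  choose κ G ρ hQ hρ using fun i => hgen (F i)
  have hcomp := H1_JE_comp π ρ hπ hρ
  obtain ⟨s, hs⟩ := (H1_isQC_iff Y').1 hY' (Σ i, κ i) _ _ hcomp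
  refine ⟨↥s, inferInstance, fun m => G m.1.1 m.1.2, fun m => ρ m.1.1 m.1.2 ≫ π m.1.1,
    fun m => m.1.1, fun m => ρ m.1.1 m.1.2, fun m => hQ _ _, fun m => rfl, hs⟩

theorem H1_hasQCGenerators_iff :
    ToposFin.HasQCGenerators J ↔ ∀ X : Sheaf J (Type u), ∃ (ι : Type u) (F : ι → Sheaf J (Type u))
      (π : ∀ i, F i ⟶ X), (∀ i, ToposFin.IsQC (F i)) ∧ JE π := by
  constructor
  · intro h X
    obtain ⟨ι, F, π, h1, h2⟩ := h X
    exact ⟨ι, F, π, h1, (H1_epi_sigmaDesc_iff π).1 h2⟩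
  · intro h X
    obtain ⟨ι, F, π, h1, h2⟩ := h X
    exact ⟨ι, F, π, h1, (H1_epi_sigmaDesc_iff π).2 h2⟩

/-- S3065. -/
theorem H1_isQCHom_of_finite_cover_source {κ : Type w} [Finite κ] {Y Z : Sheaf J (Type u)}
    (g : Y ⟶ Z) (X : κ → Sheaf J (Type u)) (f : ∀ k, X k ⟶ Y) (hf : JE f)
    (h : ∀ k, ToposFin.IsQCHom (f k ≫ g)) : ToposFin.IsQCHom g := by
  intro Z' k hZ'
  refine H1_isQC_of_finite_cover_base (pullback.fst g k) X f hf ?_
  intro m
  have hpb : IsPullback (pullback.fst (f m) (pullback.fst g k))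
      (pullback.snd (f m) (pullback.fst g k) ≫ pullback.snd g k) (f m ≫ g) k :=
    (IsPullback.of_hasPullback (f m) (pullback.fst g k)).paste_vert (IsPullback.of_hasPullback g k)
  exact (H1_isQCHom_iff _).1 (h m) _ _ _ _ _ hpb hZ'

end TF
end Groth.Agent.H1
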