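import Groth.Agent.Lib.helper1.ToposFin2
set_option autoImplicit false
universe u w w'
open CategoryTheory CategoryTheory.Limits Opposite

namespace Groth.Agent.H1
namespace TF

variable {C : Type u} [SmallCategory C] {J : GrothendieckTopology C}

theorem H1_isQC_of_isPullback_of_isPullback {P P' X Y Z : Sheaf J (Type u)} {f : X ⟶ Z} {g : Y ⟶ Z}
    {p : P ⟶ X} {q : P ⟶ Y} {p' : P' ⟶ X} {q' : P' ⟶ Y}
    (h : IsPullback p q f g) (h' : IsPullback p' q' f g) (hP : ToposFin.IsQC P) :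
    ToposFin.IsQC P' :=
  H1_isQC_of_iso (h.isoIsPullback _ _ h') hP

theorem H1_isPullback_paste_cover {X Y Y' W : Sheaf J (Type u)} (f : X ⟶ Y) (g : Y' ⟶ Y)
    (w : W ⟶ Y') :
    IsPullback (pullback.snd w (pullback.snd f g) ≫ pullback.fst f g)
      (pullback.fst w (pullback.snd f g)) f (w ≫ g) :=
  (IsPullback.of_hasPullback w (pullback.snd f g)).flip.paste_horiz (IsPullback.of_hasPullback f g)

theorem H1_isPullback_paste_cover' {Y Y₁ Z₁ W : Sheaf J (Type u)} (a : Y₁ ⟶ Y) (b : Z₁ ⟶ Y)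
    (w : W ⟶ Y₁) :
    IsPullback (pullback.fst w (pullback.fst a b))
      (pullback.snd w (pullback.fst a b) ≫ pullback.snd a b) (w ≫ a) b :=
  (IsPullback.of_hasPullback w (pullback.fst a b)).paste_vert (IsPullback.of_hasPullback a b)

/-- The trivial one-member cover. -/
theorem H1_JE_id (X : Sheaf J (Type u)) : JE (fun _ : PUnit.{u+1} => 𝟙 X) := by
  intro Z a b hab
  simpa using hab PUnit.unit

/-- A quasi-compact object admits a finite jointly epi family from objects satisfying `Q`. -/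
theorem H1_exists_finite_cover_of_gen (Q : Sheaf J (Type u) → Prop)
    (hgen : ∀ X : Sheaf J (Type u), ∃ (ι : Type u) (F : ι → Sheaf J (Type u)) (π : ∀ i, F i ⟶ X),
      (∀ i, Q (F i)) ∧ JE π)
    {Y' : Sheaf J (Type u)} (hY' : ToposFin.IsQC Y') :
    ∃ (κ : Type u) (_ : Finite κ) (W : κ → Sheaf J (Type u)) (w : ∀ m, W m ⟶ Y'),
      (∀ m, Q (W m)) ∧ JE w := by
  obtain ⟨κ, hκ, W, w, idx, v, h1, h2, h3⟩ :=
    H1_exists_finite_refinement Q hgen hY' (fun _ : PUnit.{u+1} => Y') (fun _ => 𝟙 Y') (H1_JE_id Y')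
  exact ⟨κ, hκ, W, w, h1, h3⟩

/-- S3063 (⇐). -/
theorem H1_isQCHom_of_gen (Q : Sheaf J (Type u) → Prop)
    (hgen : ∀ X : Sheaf J (Type u), ∃ (ι : Type u) (F : ι → Sheaf J (Type u)) (π : ∀ i, F i ⟶ X),
      (∀ i, Q (F i)) ∧ JE π)
    {X Y : Sheaf J (Type u)} (f : X ⟶ Y)
    (h : ∀ (W : Sheaf J (Type u)) (s : W ⟶ Y), Q W → ToposFin.IsQC (pullback f s)) :
    ToposFin.IsQCHom f := by
  intro Y' g hY'
  obtain ⟨κ, hκ, W, w, hQ, hw⟩ := H1_exists_finite_cover_of_gen Q hgen hY'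
  refine H1_isQC_of_finite_cover_base (pullback.snd f g) W w hw ?_
  intro m
  exact H1_isQC_of_isPullback_of_isPullback (IsPullback.of_hasPullback f (w m ≫ g))
    (H1_isPullback_paste_cover f g (w m)) (h _ _ (hQ m))

/-- S3068 (⇐). -/
theorem H1_isQS_of_gen (Q : Sheaf J (Type u) → Prop)
    (hgen : ∀ X : Sheaf J (Type u), ∃ (ι : Type u) (F : ι → Sheaf J (Type u)) (π : ∀ i, F i ⟶ X),
      (∀ i, Q (F i)) ∧ JE π)
    (Y : Sheaf J (Type u))
    (h : ∀ (W : Sheaf J (Type u)) (s : W ⟶ Y), Q W → ToposFin.IsQCHom s) :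
    ToposFin.IsQS Y := by
  intro Y₁ Z₁ a b hY₁ hZ₁
  obtain ⟨κ, hκ, W, w, hQ, hw⟩ := H1_exists_finite_cover_of_gen Q hgen hY₁
  refine H1_isQC_of_finite_cover_base (pullback.fst a b) W w hw ?_
  intro m
  exact H1_isQC_of_isPullback_of_isPullback (IsPullback.of_hasPullback (w m ≫ a) b)
    (H1_isPullback_paste_cover' a b (w m)) (h _ _ (hQ m) Z₁ b hZ₁)

/-- S3075 (no generators needed). -/
theorem H1_isQS_of_qs_cover_qc_maps {Y : Sheaf J (Type u)} {ι : Type u}
    (Yi : ι → Sheaf J (Type u)) (g : ∀ i, Yi i ⟶ Y) (hg : JE g)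
    (hqs : ∀ i, ToposFin.IsQS (Yi i)) (hqc : ∀ i, ToposFin.IsQCHom (g i)) : ToposFin.IsQS Y := by
  intro Y₁ Z₁ a b hY₁ hZ₁
  -- cover `Y₁` by the quasi-compact objects `pullback (g i) a`
  have hcov : JE (fun i => pullback.snd (g i) a) := H1_JE_pullback_snd g a hg
  obtain ⟨s, hs⟩ := (H1_isQC_iff Y₁).1 hY₁ ι _ _ hcov
  refine H1_isQC_of_finite_cover_base (pullback.fst a b) (fun i : s => pullback (g i) a)
    (fun i : s => pullback.snd (g i) a) hs ?_
  intro i
  have h1 : ToposFin.IsQC (pullback (g i) a) := hqc i Y₁ a hY₁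
  have h2 : ToposFin.IsQC (pullback (g i) b) := hqc i Z₁ b hZ₁
  have h3 : ToposFin.IsQC (pullback (pullback.fst (g i) a) (pullback.fst (g i) b)) :=
    hqs i _ _ _ _ h1 h2
  have hA : IsPullback (pullback.fst (pullback.fst (g i) a) (pullback.fst (g i) b))
      (pullback.snd (pullback.fst (g i) a) (pullback.fst (g i) b) ≫ pullback.snd (g i) b)
      (pullback.fst (g i) a ≫ g i) b :=
    (IsPullback.of_hasPullback (pullback.fst (g i) a) (pullback.fst (g i) b)).paste_vert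
      (IsPullback.of_hasPullback (g i) b)
  rw [pullback.condition] at hA
  exact H1_isQC_of_isPullback_of_isPullback hA
    (H1_isPullback_paste_cover' a b (pullback.snd (g i) a)) h3

/-- S3067 (2 ⇐): quasi-compactness of the double fibre products makes the `g i` quasi-compact. -/
theorem H1_isQCHom_of_double_qc (hE : ToposFin.HasQCGenerators J) {Y : Sheaf J (Type u)} {ι : Type u}
    (Yi : ι → Sheaf J (Type u)) (g : ∀ i, Yi i ⟶ Y) (hg : JE g)
    (hqs : ∀ i, ToposFin.IsQS (Yi i))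
    (h : ∀ i j, ToposFin.IsQC (pullback (g i) (g j))) (i : ι) : ToposFin.IsQCHom (g i) := by
  intro Y' k hY'
  have hcov : JE (fun j => pullback.snd (g j) k) := H1_JE_pullback_snd g k hg
  obtain ⟨κ, hκ, W, w, idx, v, hW, hv, hw⟩ :=
    H1_exists_finite_refinement ToposFin.IsQC (H1_hasQCGenerators_iff.1 hE) hY' _ _ hcov
  refine H1_isQC_of_finite_cover_base (pullback.snd (g i) k) W w hw ?_
  intro m
  have hP := H1_isPullback_paste_cover (g i) k (w m)
  have hwm : w m ≫ k = (v m ≫ pullback.fst (g (idx m)) k) ≫ g (idx m) := by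
    rw [← hv m, Category.assoc, Category.assoc, pullback.condition]
  rw [hwm] at hP
  have h3 : ToposFin.IsQC (pullback (pullback.snd (g i) (g (idx m)))
      (v m ≫ pullback.fst (g (idx m)) k)) :=
    hqs (idx m) _ _ _ _ (h i (idx m)) (hW m)
  have hA : IsPullback
      (pullback.fst (pullback.snd (g i) (g (idx m))) (v m ≫ pullback.fst (g (idx m)) k) ≫
        pullback.fst (g i) (g (idx m)))
      (pullback.snd (pullback.snd (g i) (g (idx m))) (v m ≫ pullback.fst (g (idx m)) k))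
      (g i) ((v m ≫ pullback.fst (g (idx m)) k) ≫ g (idx m)) :=
    (IsPullback.of_hasPullback (pullback.snd (g i) (g (idx m)))
      (v m ≫ pullback.fst (g (idx m)) k)).paste_horiz (IsPullback.of_hasPullback (g i) (g (idx m)))
  exact H1_isQC_of_isPullback_of_isPullback hA hP h3

end TF
end Groth.Agent.H1
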