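import Groth.Agent.Lib.helper1.ToposFin3
set_option autoImplicit false
universe u w w' v₁ u₁
open CategoryTheory CategoryTheory.Limits Opposite

namespace Groth.Agent.H1
namespace TF

section General
variable {D : Type u₁} [Category.{v₁} D] [HasPullbacks D]

/-- The diagonal of a base change is the base change of the diagonal. -/
theorem H1_diagonal_isPullback {X Y X' Y' : D} {f : X ⟶ Y} {f' : X' ⟶ Y'} {i₁ : X' ⟶ X}
    {i₂ : Y' ⟶ Y} (hpb : IsPullback i₁ f' f i₂) :
    IsPullback i₁ (pullback.diagonal f') (pullback.diagonal f)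
      (pullback.map f' f' f f i₁ i₁ i₂ hpb.w.symm hpb.w.symm) := by
  have hm1 : pullback.map f' f' f f i₁ i₁ i₂ hpb.w.symm hpb.w.symm ≫ pullback.fst f f =
      pullback.fst f' f' ≫ i₁ := pullback.lift_fst _ _ _
  have hm2 : pullback.map f' f' f f i₁ i₁ i₂ hpb.w.symm hpb.w.symm ≫ pullback.snd f f =
      pullback.snd f' f' ≫ i₁ := pullback.lift_snd _ _ _
  have hw : i₁ ≫ pullback.diagonal f =
      pullback.diagonal f' ≫ pullback.map f' f' f f i₁ i₁ i₂ hpb.w.symm hpb.w.symm := by
    apply pullback.hom_ext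
    · rw [Category.assoc, Category.assoc, hm1, pullback.diagonal_fst, Category.comp_id,
        ← Category.assoc, pullback.diagonal_fst, Category.id_comp]
    · rw [Category.assoc, Category.assoc, hm2, pullback.diagonal_snd, Category.comp_id,
        ← Category.assoc, pullback.diagonal_snd, Category.id_comp]
  refine ⟨⟨hw⟩, ⟨PullbackCone.IsLimit.mk _ (fun s => s.snd ≫ pullback.fst f' f') ?_ ?_ ?_⟩⟩
  · intro s
    have := congrArg (fun φ => φ ≫ pullback.fst f f) s.condition
    simp only [Category.assoc, hm1, pullback.diagonal_fst, Category.comp_id] at this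
    rw [Category.assoc]
    exact this.symm
  · intro s
    have h1 := congrArg (fun φ => φ ≫ pullback.fst f f) s.condition
    have h2 := congrArg (fun φ => φ ≫ pullback.snd f f) s.condition
    simp only [Category.assoc, hm1, hm2, pullback.diagonal_fst, pullback.diagonal_snd,
      Category.comp_id] at h1 h2
    have heq : s.snd ≫ pullback.fst f' f' = s.snd ≫ pullback.snd f' f' := by
      apply hpb.hom_ext
      · rw [Category.assoc, Category.assoc, ← h1, ← h2]
      · rw [Category.assoc, Category.assoc, pullback.condition]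
    apply pullback.hom_ext
    · rw [Category.assoc, Category.assoc, pullback.diagonal_fst, Category.comp_id]
    · rw [Category.assoc, Category.assoc, pullback.diagonal_snd, Category.comp_id, heq]
  · intro s m h1 h2
    rw [← h2, Category.assoc, pullback.diagonal_fst, Category.comp_id]

end General

variable {C : Type u} [SmallCategory C] {J : GrothendieckTopology C}

theorem H1_isQSHom_of_isPullback {X Y X' Y' : Sheaf J (Type u)} {f : X ⟶ Y} {f' : X' ⟶ Y'}
    {i₁ : X' ⟶ X} {i₂ : Y' ⟶ Y} (hpb : IsPullback i₁ f' f i₂) (h : ToposFin.IsQSHom f) :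
    ToposFin.IsQSHom f' :=
  H1_isQCHom_of_isPullback (H1_diagonal_isPullback hpb) h

/-- S3064 (1 ⇐). -/
theorem H1_isQCHom_of_local_target (hE : ToposFin.HasQCGenerators J) {X Y : Sheaf J (Type u)}
    (f : X ⟶ Y) {ι : Type u} (Yi : ι → Sheaf J (Type u)) (g : ∀ i, Yi i ⟶ Y) (hg : JE g)
    (h : ∀ i, ToposFin.IsQCHom (pullback.snd f (g i))) : ToposFin.IsQCHom f := by
  intro Y' k hY'
  have hcov : JE (fun j => pullback.snd (g j) k) := H1_JE_pullback_snd g k hg
  obtain ⟨κ, hκ, W, w, idx, v, hW, hv, hw⟩ :=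
    H1_exists_finite_refinement ToposFin.IsQC (H1_hasQCGenerators_iff.1 hE) hY' _ _ hcov
  refine H1_isQC_of_finite_cover_base (pullback.snd f k) W w hw ?_
  intro m
  have hP := H1_isPullback_paste_cover f k (w m)
  have hwm : w m ≫ k = (v m ≫ pullback.fst (g (idx m)) k) ≫ g (idx m) := by
    rw [← hv m, Category.assoc, Category.assoc, pullback.condition]
  rw [hwm] at hP
  have h3 : ToposFin.IsQC (pullback (pullback.snd f (g (idx m)))
      (v m ≫ pullback.fst (g (idx m)) k)) := h (idx m) _ _ (hW m)
  have hA : IsPullback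
      (pullback.fst (pullback.snd f (g (idx m))) (v m ≫ pullback.fst (g (idx m)) k) ≫
        pullback.fst f (g (idx m)))
      (pullback.snd (pullback.snd f (g (idx m))) (v m ≫ pullback.fst (g (idx m)) k))
      f ((v m ≫ pullback.fst (g (idx m)) k) ≫ g (idx m)) :=
    (IsPullback.of_hasPullback (pullback.snd f (g (idx m)))
      (v m ≫ pullback.fst (g (idx m)) k)).paste_horiz (IsPullback.of_hasPullback f (g (idx m)))
  exact H1_isQC_of_isPullback_of_isPullback hA hP h3

/-- S3064 (2 ⇐). -/
theorem H1_isQSHom_of_local_target (hE : ToposFin.HasQCGenerators J) {X Y : Sheaf J (Type u)}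
    (f : X ⟶ Y) {ι : Type u} (Yi : ι → Sheaf J (Type u)) (g : ∀ i, Yi i ⟶ Y) (hg : JE g)
    (h : ∀ i, ToposFin.IsQSHom (pullback.snd f (g i))) : ToposFin.IsQSHom f := by
  intro T t hT
  obtain ⟨p, hp⟩ : ∃ p : T ⟶ Y, p = t ≫ pullback.fst f f ≫ f := ⟨_, rfl⟩
  have hcov : JE (fun j => pullback.snd (g j) p) :=
    H1_JE_pullback_snd g _ hg
  obtain ⟨κ, hκ, W, w, idx, v, hW, hv, hw⟩ :=
    H1_exists_finite_refinement ToposFin.IsQC (H1_hasQCGenerators_iff.1 hE) hT _ _ hcov
  refine H1_isQC_of_finite_cover_base (pullback.snd (pullback.diagonal f) t) W w hw ?_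
  intro m
  have hP := H1_isPullback_paste_cover (pullback.diagonal f) t (w m)
  -- the map to `Y_j`
  let j := idx m
  let v' : W m ⟶ Yi j := v m ≫ pullback.fst (g j) p
  have hv' : v' ≫ g j = w m ≫ t ≫ pullback.fst f f ≫ f := by
    change (v m ≫ pullback.fst (g j) p) ≫ g j = _
    rw [Category.assoc, pullback.condition, ← Category.assoc, hv m, hp]
  let τ₁ : W m ⟶ pullback f (g j) :=
    pullback.lift (w m ≫ t ≫ pullback.fst f f) v' (by
      rw [hv']; simp only [Category.assoc])
  let τ₂ : W m ⟶ pullback f (g j) :=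
    pullback.lift (w m ≫ t ≫ pullback.snd f f) v' (by
      rw [hv']; simp only [Category.assoc]; rw [pullback.condition])
  have hτ₁ : τ₁ ≫ pullback.snd f (g j) = v' := pullback.lift_snd _ _ _
  have hτ₂ : τ₂ ≫ pullback.snd f (g j) = v' := pullback.lift_snd _ _ _
  have hτ₁' : τ₁ ≫ pullback.fst f (g j) = w m ≫ t ≫ pullback.fst f f := pullback.lift_fst _ _ _
  have hτ₂' : τ₂ ≫ pullback.fst f (g j) = w m ≫ t ≫ pullback.snd f f := pullback.lift_fst _ _ _
  let τ : W m ⟶ pullback (pullback.snd f (g j)) (pullback.snd f (g j)) :=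
    pullback.lift τ₁ τ₂ (by rw [hτ₁, hτ₂])
  have hsq := H1_diagonal_isPullback (IsPullback.of_hasPullback f (g j))
  have hτ : τ ≫ pullback.map (pullback.snd f (g j)) (pullback.snd f (g j)) f f
      (pullback.fst f (g j)) (pullback.fst f (g j)) (g j)
      (IsPullback.of_hasPullback f (g j)).w.symm (IsPullback.of_hasPullback f (g j)).w.symm =
      w m ≫ t := by
    apply pullback.hom_ext
    · rw [Category.assoc, pullback.lift_fst, ← Category.assoc, pullback.lift_fst, hτ₁',
        Category.assoc]
    · rw [Category.assoc, pullback.lift_snd, ← Category.assoc, pullback.lift_snd, hτ₂',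
        Category.assoc]
  have h3 : ToposFin.IsQC (pullback (pullback.diagonal (pullback.snd f (g j))) τ) :=
    h j _ τ (hW m)
  have hA := (IsPullback.of_hasPullback (pullback.diagonal (pullback.snd f (g j))) τ).paste_horiz hsq
  rw [hτ] at hA
  exact H1_isQC_of_isPullback_of_isPullback hA hP h3

end TF
end Groth.Agent.H1
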