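import Groth.Agent.Lib.helper1.ToposFin4
set_option autoImplicit false
universe u w w' v₁ u₁
open CategoryTheory CategoryTheory.Limits Opposite

namespace Groth.Agent.H1
namespace TF

section General
variable {D : Type u₁} [Category.{v₁} D] [HasPullbacks D]

theorem H1_isPullback_map_left {A A' B S : D} (a : A ⟶ S) (b : B ⟶ S) (c : A' ⟶ A) :
    IsPullback (pullback.map (c ≫ a) b a b c (𝟙 B) (𝟙 S) (by simp) (by simp))
      (pullback.fst (c ≫ a) b) (pullback.fst a b) c := by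
  have h1 : pullback.map (c ≫ a) b a b c (𝟙 B) (𝟙 S) (by simp) (by simp) ≫ pullback.snd a b =
      pullback.snd (c ≫ a) b := (pullback.lift_snd _ _ _).trans (Category.comp_id _)
  have h2 : pullback.map (c ≫ a) b a b c (𝟙 B) (𝟙 S) (by simp) (by simp) ≫ pullback.fst a b =
      pullback.fst (c ≫ a) b ≫ c := pullback.lift_fst _ _ _
  refine IsPullback.of_right ?_ h2 (IsPullback.of_hasPullback a b).flip
  rw [h1]
  exact (IsPullback.of_hasPullback (c ≫ a) b).flip

theorem H1_isPullback_map_right {A B B' S : D} (a : A ⟶ S) (b : B ⟶ S) (c : B' ⟶ B) :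
    IsPullback (pullback.map a (c ≫ b) a b (𝟙 A) c (𝟙 S) (by simp) (by simp))
      (pullback.snd a (c ≫ b)) (pullback.snd a b) c := by
  have h1 : pullback.map a (c ≫ b) a b (𝟙 A) c (𝟙 S) (by simp) (by simp) ≫ pullback.fst a b =
      pullback.fst a (c ≫ b) := (pullback.lift_fst _ _ _).trans (Category.comp_id _)
  have h2 : pullback.map a (c ≫ b) a b (𝟙 A) c (𝟙 S) (by simp) (by simp) ≫ pullback.snd a b =
      pullback.snd a (c ≫ b) ≫ c := pullback.lift_snd _ _ _
  refine IsPullback.of_right ?_ h2 (IsPullback.of_hasPullback a b)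
  rw [h1]
  exact IsPullback.of_hasPullback a (c ≫ b)

end General

variable {C : Type u} [SmallCategory C] {J : GrothendieckTopology C}

/-- The family `X_i ×_Z X_j → Y ×_Z Y` induced by a jointly epimorphic family `X_i → Y`. -/
theorem H1_JE_prod_map {Y Z : Sheaf J (Type u)} (g : Y ⟶ Z) {ι : Type w} (X : ι → Sheaf J (Type u))
    (f : ∀ i, X i ⟶ Y) (hf : JE f) :
    JE (fun p : Σ _ : ι, ι => pullback.map (f p.2 ≫ g) (f p.1 ≫ g) g g (f p.2) (f p.1) (𝟙 Z)
      (by simp) (by simp)) := by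
  -- first step: `Y ×_Z X_j → Y ×_Z Y`
  have hA : JE (fun j : ι => pullback.map g (f j ≫ g) g g (𝟙 Y) (f j) (𝟙 Z) (by simp) (by simp)) :=
    H1_JE_pullback f (pullback.snd g g) (fun j => pullback.snd g (f j ≫ g)) _
      (fun j => (H1_isPullback_map_right g g (f j)).flip) hf
  have hB : ∀ j : ι, JE (fun i : ι => pullback.map (f i ≫ g) (f j ≫ g) g (f j ≫ g) (f i) (𝟙 _) (𝟙 Z)
      (by simp) (by simp)) := fun j =>
    H1_JE_pullback f (pullback.fst g (f j ≫ g)) (fun i => pullback.fst (f i ≫ g) (f j ≫ g)) _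
      (fun i => (H1_isPullback_map_left g (f j ≫ g) (f i)).flip) hf
  have hcomp := H1_JE_comp _ _ hA hB
  intro W a b hab
  apply hcomp
  intro p
  have := hab p
  have hfac : pullback.map (f p.2 ≫ g) (f p.1 ≫ g) g g (f p.2) (f p.1) (𝟙 Z) (by simp) (by simp) =
      pullback.map (f p.2 ≫ g) (f p.1 ≫ g) g (f p.1 ≫ g) (f p.2) (𝟙 _) (𝟙 Z) (by simp) (by simp) ≫
        pullback.map g (f p.1 ≫ g) g g (𝟙 Y) (f p.1) (𝟙 Z) (by simp) (by simp) := by
    apply pullback.hom_ext
    · simp only [Category.assoc, pullback.lift_fst, Category.comp_id]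
    · simp only [Category.assoc, pullback.lift_snd, pullback.lift_snd_assoc, Category.comp_id]
  dsimp only at this ⊢
  rw [hfac] at this
  exact this

/-- Local-on-target criterion with arbitrary pullback squares. -/
theorem H1_isQCHom_of_local_target' (hE : ToposFin.HasQCGenerators J) {A B : Sheaf J (Type u)}
    (φ : A ⟶ B) {ι : Type u} (Bi : ι → Sheaf J (Type u)) (h : ∀ i, Bi i ⟶ B) (hh : JE h)
    (Ai : ι → Sheaf J (Type u)) (a : ∀ i, Ai i ⟶ A) (φi : ∀ i, Ai i ⟶ Bi i)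
    (hsq : ∀ i, IsPullback (a i) (φi i) φ (h i)) (hqc : ∀ i, ToposFin.IsQCHom (φi i)) :
    ToposFin.IsQCHom φ := by
  refine H1_isQCHom_of_local_target hE φ Bi h hh ?_
  intro i
  have e : (hsq i).isoPullback.inv ≫ φi i = pullback.snd φ (h i) := by
    rw [Iso.inv_comp_eq, IsPullback.isoPullback_hom_snd]
  rw [← e]
  exact H1_isQCHom_comp _ _ (H1_isQCHom_of_isIso _) (hqc i)

/-- A morphism from a quasi-compact object to a quasi-separated object is quasi-compact. -/
theorem H1_isQCHom_of_isQC_of_isQS {A B : Sheaf J (Type u)} (φ : A ⟶ B) (hA : ToposFin.IsQC A)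
    (hB : ToposFin.IsQS B) : ToposFin.IsQCHom φ := by
  intro T t hT
  exact hB A T φ t hA hT

/-- S3076, first part. -/
theorem H1_isQSHom_of_cover_of_source (hE : ToposFin.HasQCGenerators J) {Y Z : Sheaf J (Type u)}
    (g : Y ⟶ Z) {ι : Type u} (X : ι → Sheaf J (Type u)) (f : ∀ i, X i ⟶ Y) (hf : JE f)
    (hqc : ∀ i, ToposFin.IsQCHom (f i)) (hqs : ∀ i, ToposFin.IsQSHom (f i ≫ g)) :
    ToposFin.IsQSHom g := by
  refine H1_isQCHom_of_local_target' hE (pullback.diagonal g) _ _ (H1_JE_prod_map g X f hf)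
    (fun p => pullback (f p.2) (f p.1)) (fun p => pullback.fst _ _ ≫ f p.2)
    (fun p => pullback.map (f p.2) (f p.1) (f p.2 ≫ g) (f p.1 ≫ g) (𝟙 _) (𝟙 _) g
      (Category.id_comp _).symm (Category.id_comp _).symm)
    (fun p => pullback_map_diagonal_isPullback (f p.2) (f p.1) g) ?_
  intro p
  refine H1_isQCHom_of_comp_of_isQSHom _ (pullback.fst (f p.2 ≫ g) (f p.1 ≫ g)) ?_ ?_
  · exact H1_isQSHom_of_isPullback (IsPullback.of_hasPullback (f p.2 ≫ g) (f p.1 ≫ g)).flip (hqs p.1)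
  · have : pullback.map (f p.2) (f p.1) (f p.2 ≫ g) (f p.1 ≫ g) (𝟙 _) (𝟙 _) g
        (Category.id_comp _).symm (Category.id_comp _).symm ≫
        pullback.fst (f p.2 ≫ g) (f p.1 ≫ g) = pullback.fst (f p.2) (f p.1) :=
      (pullback.lift_fst _ _ _).trans (Category.comp_id _)
    rw [this]
    exact H1_isQCHom_of_isPullback (IsPullback.of_hasPullback (f p.2) (f p.1)).flip (hqc p.1)

/-- S3070. -/
theorem H1_isQSHom_of_cover_with_qs_products (hE : ToposFin.HasQCGenerators J)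
    {X Y : Sheaf J (Type u)} (f : X ⟶ Y) {ι : Type u} (Xi : ι → Sheaf J (Type u))
    (g : ∀ i, Xi i ⟶ X) (hg : JE g) (hqc : ∀ i, ToposFin.IsQC (Xi i))
    (hqs : ∀ i j, ToposFin.IsQS (pullback (g i ≫ f) (g j ≫ f))) (hX : ToposFin.IsQS X) :
    ToposFin.IsQSHom f := by
  refine H1_isQCHom_of_local_target' hE (pullback.diagonal f) _ _ (H1_JE_prod_map f Xi g hg)
    (fun p => pullback (g p.2) (g p.1)) (fun p => pullback.fst _ _ ≫ g p.2)
    (fun p => pullback.map (g p.2) (g p.1) (g p.2 ≫ f) (g p.1 ≫ f) (𝟙 _) (𝟙 _) f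
      (Category.id_comp _).symm (Category.id_comp _).symm)
    (fun p => pullback_map_diagonal_isPullback (g p.2) (g p.1) f) ?_
  intro p
  exact H1_isQCHom_of_isQC_of_isQS _ (hX _ _ _ _ (hqc p.2) (hqc p.1)) (hqs p.2 p.1)

end TF
end Groth.Agent.H1
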