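import Groth.Agent.Lib.helper1.ToposFin5
set_option autoImplicit false
universe u w w' v₁ u₁
open CategoryTheory CategoryTheory.Limits Opposite

namespace Groth.Agent.H1
namespace TF

variable {C : Type u} [SmallCategory C] {J : GrothendieckTopology C}

instance : FinitaryExtensive (Sheaf J (Type u)) := inferInstance

/-- the retraction-like map `∐ F ⟶ F i ⨿ ⊤`. -/
noncomputable def sigmaRetr {ι : Type u} (F : ι → Sheaf J (Type u)) (i : ι) :
    (∐ F) ⟶ (F i ⨿ ⊤_ (Sheaf J (Type u))) := by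
  classical
  exact Sigma.desc (fun j => if h : j = i then eqToHom (by rw [h]) ≫ coprod.inl
    else terminal.from _ ≫ coprod.inr)

theorem H1_ι_sigmaRetr {ι : Type u} (F : ι → Sheaf J (Type u)) (i : ι) :
    Sigma.ι F i ≫ sigmaRetr F i = coprod.inl := by
  classical
  unfold sigmaRetr
  rw [Sigma.ι_desc, dif_pos rfl]
  simp

theorem H1_ι_sigmaRetr_ne {ι : Type u} (F : ι → Sheaf J (Type u)) (i j : ι) (h : j ≠ i) :
    Sigma.ι F j ≫ sigmaRetr F i = terminal.from _ ≫ coprod.inr := by
  classical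
  unfold sigmaRetr
  rw [Sigma.ι_desc, dif_neg h]

theorem H1_mono_sigma_ι {ι : Type u} (F : ι → Sheaf J (Type u)) (i : ι) : Mono (Sigma.ι F i) := by
  haveI : Mono (Sigma.ι F i ≫ sigmaRetr F i) := by
    rw [H1_ι_sigmaRetr]
    infer_instance
  exact mono_of_mono (Sigma.ι F i) (sigmaRetr F i)

theorem H1_isInitial_of_sigma_ι_ne {ι : Type u} (F : ι → Sheaf J (Type u)) {i j : ι} (hij : i ≠ j)
    {W : Sheaf J (Type u)} (a : W ⟶ F i) (b : W ⟶ F j)
    (h : a ≫ Sigma.ι F i = b ≫ Sigma.ι F j) : Nonempty (IsInitial W) := by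
  have h1 : a ≫ (coprod.inl : F i ⟶ F i ⨿ ⊤_ (Sheaf J (Type u))) =
      (b ≫ terminal.from _) ≫ coprod.inr := by
    rw [← H1_ι_sigmaRetr F i, ← Category.assoc, h, Category.assoc, H1_ι_sigmaRetr_ne F i j hij.symm,
      Category.assoc]
  have hpb := FinitaryExtensive.isPullback_initial_to_binaryCofan
    (coprodIsCoprod (F i) (⊤_ (Sheaf J (Type u))))
  let φ : W ⟶ ⊥_ (Sheaf J (Type u)) := hpb.lift a (b ≫ terminal.from _) h1
  exact ⟨IsInitial.ofStrict φ initialIsInitial⟩

theorem H1_JE_sigma_ι {ι : Type u} (F : ι → Sheaf J (Type u)) : JE (Sigma.ι F) := by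
  intro Z a b hab
  exact Sigma.hom_ext _ _ hab

theorem H1_isQC_of_isInitial {X : Sheaf J (Type u)} (hX : IsInitial X) : ToposFin.IsQC X := by
  rw [H1_isQC_iff]
  intro ι F π _
  exact ⟨∅, fun Z a b _ => hX.hom_ext a b⟩

/-- Members of a jointly epimorphic family of pairwise disjoint monomorphisms into a quasi-compact
object are quasi-compact. -/
theorem H1_isQC_of_disjoint_cover {ι : Type u} {Y : Sheaf J (Type u)} (A : ι → Sheaf J (Type u))
    (m : ∀ i, A i ⟶ Y) (hm : JE m) (hmono : ∀ i, Mono (m i))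
    (hdisj : ∀ i j, i ≠ j → ∀ (W : Sheaf J (Type u)) (a : W ⟶ A i) (b : W ⟶ A j),
      a ≫ m i = b ≫ m j → Nonempty (IsInitial W))
    (hY : ToposFin.IsQC Y) (i : ι) : ToposFin.IsQC (A i) := by
  classical
  rw [H1_isQC_iff]
  intro κ G π hπ
  let F' : κ ⊕ {j : ι // j ≠ i} → Sheaf J (Type u) := fun x => Sum.rec (fun k => G k) (fun j => A j.1) x
  let π' : ∀ x, F' x ⟶ Y := fun x => Sum.rec (motive := fun x => F' x ⟶ Y)
    (fun k => π k ≫ m i) (fun j => m j.1) x
  have hπ' : JE π' := by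
    intro Z a b hab
    apply hm
    intro j
    by_cases hj : j = i
    · subst hj
      apply hπ
      intro k
      have : (π k ≫ m j) ≫ a = (π k ≫ m j) ≫ b := hab (Sum.inl k)
      simpa only [Category.assoc] using this
    · exact hab (Sum.inr ⟨j, hj⟩)
  obtain ⟨s, hs⟩ := (H1_isQC_iff Y).1 hY _ F' π' hπ'
  refine ⟨s.toLeft, ?_⟩
  intro Z a b hab
  have hpb := H1_JE_pullback_snd (fun x : s => π' x) (m i) hs
  apply hpb
  rintro ⟨x, hx⟩
  rcases x with k | j
  · have hk : k ∈ s.toLeft := Finset.mem_toLeft.2 hx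
    have h1 : pullback.fst (π k ≫ m i) (m i) ≫ π k = pullback.snd (π k ≫ m i) (m i) := by
      haveI := hmono i
      rw [← cancel_mono (m i), Category.assoc, pullback.condition]
    have h2 := hab ⟨k, hk⟩
    change pullback.snd (π k ≫ m i) (m i) ≫ a = pullback.snd (π k ≫ m i) (m i) ≫ b
    rw [← h1, Category.assoc, Category.assoc]
    exact congrArg _ h2
  · obtain ⟨hI⟩ := hdisj j.1 i j.2 _ (pullback.fst (m j.1) (m i)) (pullback.snd (m j.1) (m i))
      pullback.condition
    exact hI.hom_ext _ _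

/-- S3058. -/
theorem H1_isQC_sigma_iff {ι : Type u} (F : ι → Sheaf J (Type u)) :
    ToposFin.IsQC (∐ F) ↔
      (∀ i, ToposFin.IsQC (F i)) ∧ {i | IsEmpty (F i ≅ ⊥_ (Sheaf J (Type u)))}.Finite := by
  classical
  constructor
  · intro h
    constructor
    · intro i
      refine H1_isQC_of_disjoint_cover F (Sigma.ι F) (H1_JE_sigma_ι F) (H1_mono_sigma_ι F) ?_ h i
      intro i j hij W a b hab
      exact H1_isInitial_of_sigma_ι_ne F hij a b hab
    · obtain ⟨s, hs⟩ := (H1_isQC_iff _).1 h ι F (Sigma.ι F) (H1_JE_sigma_ι F)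
      refine Set.Finite.subset s.finite_toSet ?_
      intro i hi
      by_contra his
      apply hi.false
      have hq := H1_JE_pullback_snd (fun j : s => Sigma.ι F j) (Sigma.ι F i) hs
      haveI : Epi (initial.to (F i)) := by
        constructor
        intro Z a b _
        apply hq
        intro j
        have hji : (j : ι) ≠ i := fun h => his (h ▸ j.2)
        obtain ⟨hI⟩ := H1_isInitial_of_sigma_ι_ne F hji
          (pullback.fst (Sigma.ι F j) (Sigma.ι F i)) (pullback.snd (Sigma.ι F j) (Sigma.ι F i))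
          pullback.condition
        exact hI.hom_ext _ _
      haveI : IsIso (initial.to (F i)) := isIso_of_mono_of_epi _
      exact (asIso (initial.to (F i))).symm
  · rintro ⟨h1, h2⟩
    haveI : Finite ↥{i | IsEmpty (F i ≅ ⊥_ (Sheaf J (Type u)))} := h2.to_subtype
    refine H1_isQC_of_finite_cover
      (fun i : ↥{i | IsEmpty (F i ≅ ⊥_ (Sheaf J (Type u)))} => F i) (fun i => Sigma.ι F i) ?_
      (fun i => h1 i)
    intro Z a b hab
    apply Sigma.hom_ext
    intro i
    by_cases hi : IsEmpty (F i ≅ ⊥_ (Sheaf J (Type u)))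
    · exact hab ⟨i, hi⟩
    · rw [not_isEmpty_iff] at hi
      obtain ⟨e⟩ := hi
      exact (initialIsInitial.ofIso e.symm).hom_ext _ _

end TF
end Groth.Agent.H1
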