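import Groth.Agent.Lib.helper1.ToposFin6
set_option autoImplicit false
universe u w w' v₁ u₁
open CategoryTheory CategoryTheory.Limits Opposite

namespace Groth.Agent.H1
namespace TF

variable {C : Type u} [SmallCategory C] {J : GrothendieckTopology C}

theorem H1_JE_prod_map' {S Y₁ Z₁ : Sheaf J (Type u)} (a : Y₁ ⟶ S) (b : Z₁ ⟶ S)
    {ι : Type w} {κ : Type w'} (A : ι → Sheaf J (Type u)) (α : ∀ i, A i ⟶ Y₁) (hα : JE α)
    (B : κ → Sheaf J (Type u)) (β : ∀ j, B j ⟶ Z₁) (hβ : JE β) :
    JE (fun p : Σ _ : κ, ι => pullback.map (α p.2 ≫ a) (β p.1 ≫ b) a b (α p.2) (β p.1) (𝟙 S)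
      (by simp) (by simp)) := by
  have hA : JE (fun j : κ => pullback.map a (β j ≫ b) a b (𝟙 Y₁) (β j) (𝟙 S) (by simp) (by simp)) :=
    H1_JE_pullback β (pullback.snd a b) (fun j => pullback.snd a (β j ≫ b)) _
      (fun j => (H1_isPullback_map_right a b (β j)).flip) hβ
  have hB : ∀ j : κ, JE (fun i : ι => pullback.map (α i ≫ a) (β j ≫ b) a (β j ≫ b) (α i) (𝟙 _) (𝟙 S)
      (by simp) (by simp)) := fun j =>
    H1_JE_pullback α (pullback.fst a (β j ≫ b)) (fun i => pullback.fst (α i ≫ a) (β j ≫ b)) _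
      (fun i => (H1_isPullback_map_left a (β j ≫ b) (α i)).flip) hα
  have hcomp := H1_JE_comp _ _ hA hB
  intro W x y hxy
  apply hcomp
  intro p
  have := hxy p
  have hfac : pullback.map (α p.2 ≫ a) (β p.1 ≫ b) a b (α p.2) (β p.1) (𝟙 S) (by simp) (by simp) =
      pullback.map (α p.2 ≫ a) (β p.1 ≫ b) a (β p.1 ≫ b) (α p.2) (𝟙 _) (𝟙 S) (by simp) (by simp) ≫
        pullback.map a (β p.1 ≫ b) a b (𝟙 Y₁) (β p.1) (𝟙 S) (by simp) (by simp) := by
    apply pullback.hom_ext
    · simp only [Category.assoc, pullback.lift_fst, Category.comp_id]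
    · simp only [Category.assoc, pullback.lift_snd, pullback.lift_snd_assoc, Category.comp_id]
  dsimp only at this ⊢
  rw [hfac] at this
  exact this

/-- S3074 (2 ⇐). -/
theorem H1_isQS_sigma {ι : Type u} (F : ι → Sheaf J (Type u)) (h : ∀ i, ToposFin.IsQS (F i)) :
    ToposFin.IsQS (∐ F) := by
  classical
  -- general facts about the cover of a quasi-compact object over the coproduct
  have key : ∀ (Y₁ : Sheaf J (Type u)) (a : Y₁ ⟶ ∐ F), ToposFin.IsQC Y₁ →
      (∀ i, ToposFin.IsQC (pullback a (Sigma.ι F i))) ∧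
      ∃ s : Finset ι, JE (fun i : s => pullback.fst a (Sigma.ι F i)) := by
    intro Y₁ a hY₁
    have hJE : JE (fun i => pullback.fst a (Sigma.ι F i)) :=
      H1_JE_pullback_fst (Sigma.ι F) a (H1_JE_sigma_ι F)
    refine ⟨?_, (H1_isQC_iff Y₁).1 hY₁ ι _ _ hJE⟩
    refine H1_isQC_of_disjoint_cover (fun i => pullback a (Sigma.ι F i))
      (fun i => pullback.fst a (Sigma.ι F i)) hJE ?_ ?_ hY₁
    · intro i
      haveI := H1_mono_sigma_ι F i
      infer_instance
    · intro i j hij W x y hxy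
      refine H1_isInitial_of_sigma_ι_ne F hij (x ≫ pullback.snd _ _) (y ≫ pullback.snd _ _) ?_
      rw [Category.assoc, Category.assoc, ← pullback.condition, ← pullback.condition,
        ← Category.assoc, ← Category.assoc, hxy]
  intro Y₁ Z₁ a b hY₁ hZ₁
  obtain ⟨hA, s, hs⟩ := key Y₁ a hY₁
  obtain ⟨hB, t, ht⟩ := key Z₁ b hZ₁
  have hJE := H1_JE_prod_map' a b (fun i : s => pullback a (Sigma.ι F i))
    (fun i => pullback.fst a (Sigma.ι F i)) hs (fun j : t => pullback b (Sigma.ι F j))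
    (fun j => pullback.fst b (Sigma.ι F j)) ht
  refine H1_isQC_of_finite_cover _ _ hJE ?_
  have hpiece : ∀ i j : ι, ToposFin.IsQC (pullback (pullback.fst a (Sigma.ι F i) ≫ a)
      (pullback.fst b (Sigma.ι F j) ≫ b)) := by
    intro i j
    by_cases hij : i = j
    · subst hij
      haveI := H1_mono_sigma_ι F i
      have h1 : ToposFin.IsQC (pullback (pullback.snd a (Sigma.ι F i)) (pullback.snd b (Sigma.ι F i))) :=
        h i _ _ _ _ (hA i) (hB i)
      have hpb : IsPullback (pullback.fst (pullback.snd a (Sigma.ι F i)) (pullback.snd b (Sigma.ι F i)))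
          (pullback.snd (pullback.snd a (Sigma.ι F i)) (pullback.snd b (Sigma.ι F i)))
          (pullback.snd a (Sigma.ι F i) ≫ Sigma.ι F i) (pullback.snd b (Sigma.ι F i) ≫ Sigma.ι F i) :=
        IsPullback.of_isLimit (pullbackIsPullbackOfCompMono _ _ (Sigma.ι F i))
      have h2 := H1_isQC_of_iso hpb.isoPullback h1
      exact H1_isQC_of_iso (pullback.congrHom pullback.condition pullback.condition).symm h2
    · obtain ⟨hI⟩ := H1_isInitial_of_sigma_ι_ne F hij
        (pullback.fst (pullback.fst a (Sigma.ι F i) ≫ a) (pullback.fst b (Sigma.ι F j) ≫ b) ≫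
          pullback.snd a (Sigma.ι F i))
        (pullback.snd (pullback.fst a (Sigma.ι F i) ≫ a) (pullback.fst b (Sigma.ι F j) ≫ b) ≫
          pullback.snd b (Sigma.ι F j))
        (by
          rw [Category.assoc, Category.assoc, ← pullback.condition, ← pullback.condition]
          exact pullback.condition)
      exact H1_isQC_of_isInitial hI
  rintro ⟨j, i⟩
  exact hpiece i j

end TF
end Groth.Agent.H1
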