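import Groth.Agent.Lib.helper1.ToposFin7
import Groth.Prelude.Def_ToposFin2
set_option autoImplicit false
universe u w w' v₁ u₁
open CategoryTheory CategoryTheory.Limits Opposite

namespace Groth.Agent.H1
namespace TF

variable {C : Type u} [SmallCategory C] {J : GrothendieckTopology C}

theorem H1_isQS_of_iso {X Y : Sheaf J (Type u)} (e : X ≅ Y) (h : ToposFin.IsQS X) :
    ToposFin.IsQS Y :=
  H1_isQS_of_mono e.inv h

/-- S5578. -/
theorem H1_isQSHom_of_mono {X Y : Sheaf J (Type u)} (f : X ⟶ Y) [Mono f] : ToposFin.IsQSHom f :=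
  H1_isQCHom_of_isIso (pullback.diagonal f)

theorem H1_isQSHom_comp {X Y Z : Sheaf J (Type u)} (f : X ⟶ Y) (g : Y ⟶ Z)
    (hf : ToposFin.IsQSHom f) (hg : ToposFin.IsQSHom g) : ToposFin.IsQSHom (f ≫ g) := by
  unfold ToposFin.IsQSHom at hf hg ⊢
  rw [pullback.diagonal_comp]
  refine H1_isQCHom_comp _ _ hf (H1_isQCHom_comp _ _ (H1_isQCHom_of_isIso _) ?_)
  exact H1_isQCHom_of_isPullback (IsPullback.of_hasPullback _ _) hg

section Functor
variable {D : Type u} [SmallCategory D] {K : GrothendieckTopology D}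
  (F : Sheaf K (Type u) ⥤ Sheaf J (Type u)) (R : Sheaf J (Type u) ⥤ Sheaf K (Type u)) (adj : F ⊣ R)

include adj in
theorem H1_JE_map_of_adj {ι : Type w} {X : Sheaf K (Type u)} {G : ι → Sheaf K (Type u)}
    (π : ∀ i, G i ⟶ X) (hπ : JE π) : JE (fun i => F.map (π i)) := by
  intro Z a b hab
  apply (adj.homEquiv X Z).injective
  apply hπ
  intro i
  rw [← Adjunction.homEquiv_naturality_left, ← Adjunction.homEquiv_naturality_left, hab i]

include adj in
/-- S5589 (⇐). -/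
theorem H1_map_isQC_of_gen (S : Set (Sheaf K (Type u)))
    (hgen : ToposFin.IsGenerating S) (h : ∀ X ∈ S, ToposFin.IsQC (F.obj X))
    (X : Sheaf K (Type u)) (hX : ToposFin.IsQC X) : ToposFin.IsQC (F.obj X) := by
  have hgen' : ∀ X : Sheaf K (Type u), ∃ (ι : Type u) (G : ι → Sheaf K (Type u))
      (π : ∀ i, G i ⟶ X), (∀ i, (fun W => W ∈ S) (G i)) ∧ JE π := by
    intro X
    obtain ⟨ι, G, π, h1, h2⟩ := hgen X
    exact ⟨ι, G, π, h1, fun Z a b hab => h2 Z a b hab⟩
  obtain ⟨κ, hκ, W, w, hQ, hw⟩ := H1_exists_finite_cover_of_gen (fun W => W ∈ S) hgen' hX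
  exact H1_isQC_of_finite_cover (fun m => F.obj (W m)) (fun m => F.map (w m))
    (H1_JE_map_of_adj F R adj w hw) (fun m => h _ (hQ m))

include adj in
/-- S5590 (⇐, quasi-separated part). -/
theorem H1_map_isQS_of_gen [PreservesFiniteLimits F] (hE' : ToposFin.HasQCGenerators J)
    (S : Set (Sheaf K (Type u))) (hS : ∀ X ∈ S, ToposFin.IsCoherent X)
    (hgen : ToposFin.IsGenerating S) (h : ∀ X ∈ S, ToposFin.IsCoherent (F.obj X))
    (X : Sheaf K (Type u)) (hX : ToposFin.IsQS X) : ToposFin.IsQS (F.obj X) := by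
  have hqc : ∀ X : Sheaf K (Type u), ToposFin.IsQC X → ToposFin.IsQC (F.obj X) :=
    H1_map_isQC_of_gen F R adj S hgen (fun X hX => (h X hX).1)
  obtain ⟨ι, G, π, hG, hπ⟩ := hgen X
  have hπ' : JE π := fun Z a b hab => hπ Z a b hab
  have hJE := H1_JE_map_of_adj F R adj π hπ'
  have hdouble : ∀ i j, ToposFin.IsQC (pullback (F.map (π i)) (F.map (π j))) := by
    intro i j
    have h1 : ToposFin.IsQC (pullback (π i) (π j)) :=
      hX _ _ _ _ (hS _ (hG i)).1 (hS _ (hG j)).1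
    exact H1_isQC_of_iso (PreservesPullback.iso F (π i) (π j)) (hqc _ h1)
  have hqs : ∀ i, ToposFin.IsQS (F.obj (G i)) := fun i => (h _ (hG i)).2
  exact H1_isQS_of_qs_cover_qc_maps _ _ hJE hqs
    (fun i => H1_isQCHom_of_double_qc hE' _ _ hJE hqs hdouble i)

end Functor

theorem H1_gen_of_isGenerating {S : Set (Sheaf J (Type u))} (hgen : ToposFin.IsGenerating S) :
    ∀ X : Sheaf J (Type u), ∃ (ι : Type u) (G : ι → Sheaf J (Type u))
      (π : ∀ i, G i ⟶ X), (∀ i, (fun W => W ∈ S) (G i)) ∧ JE π := by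
  intro X
  obtain ⟨ι, G, π, h1, h2⟩ := hgen X
  exact ⟨ι, G, π, h1, fun Z a b hab => h2 Z a b hab⟩

theorem H1_hasQCGenerators_of_isGenerating {S : Set (Sheaf J (Type u))}
    (hqc : ∀ K ∈ S, ToposFin.IsQC K) (hgen : ToposFin.IsGenerating S) :
    ToposFin.HasQCGenerators J := by
  rw [H1_hasQCGenerators_iff]
  intro X
  obtain ⟨ι, G, π, h1, h2⟩ := H1_gen_of_isGenerating hgen X
  exact ⟨ι, G, π, fun i => hqc _ (h1 i), h2⟩

/-- Members of a generating set of quasi-compact objects closed under fibre products are coherent. -/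
theorem H1_isCoherent_of_mem {S : Set (Sheaf J (Type u))} (hqc : ∀ K ∈ S, ToposFin.IsQC K)
    (hgen : ToposFin.IsGenerating S) (hpb : ToposFin.ClosedUnderPullbacks S)
    {K : Sheaf J (Type u)} (hK : K ∈ S) : ToposFin.IsCoherent K := by
  refine ⟨hqc K hK, ?_⟩
  intro A B a b hA hB
  obtain ⟨κ, hκ, W, w, hW, hw⟩ :=
    H1_exists_finite_cover_of_gen (fun W => W ∈ S) (H1_gen_of_isGenerating hgen) hA
  obtain ⟨κ', hκ', V, v, hV, hv⟩ :=
    H1_exists_finite_cover_of_gen (fun W => W ∈ S) (H1_gen_of_isGenerating hgen) hB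
  refine H1_isQC_of_finite_cover _ _ (H1_JE_prod_map' a b W w hw V v hv) ?_
  rintro ⟨n, m⟩
  obtain ⟨P, p, q, hP, hpq⟩ := hpb (w m ≫ a) (v n ≫ b) (hW m) (hV n) hK
  exact H1_isQC_of_isPullback_of_isPullback hpq (IsPullback.of_hasPullback _ _) (hqc P hP)

section Functor2
variable {D : Type u} [SmallCategory D] {K : GrothendieckTopology D}
  (F : Sheaf K (Type u) ⥤ Sheaf J (Type u)) (R : Sheaf J (Type u) ⥤ Sheaf K (Type u)) (adj : F ⊣ R)

include adj in
/-- S5591. -/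
theorem H1_map_isQCHom [PreservesFiniteLimits F] (hE' : ToposFin.HasQCGenerators J)
    (S : Set (Sheaf K (Type u))) (hqc : ∀ X ∈ S, ToposFin.IsQC X) (hgen : ToposFin.IsGenerating S)
    (hpb : ToposFin.ClosedUnderPullbacks S)
    (hFqc : ∀ X : Sheaf K (Type u), ToposFin.IsQC X → ToposFin.IsQC (F.obj X))
    (hFqs : ∀ X : Sheaf K (Type u), ToposFin.IsQS X → ToposFin.IsQS (F.obj X))
    {X Y : Sheaf K (Type u)} (v : X ⟶ Y) (hv : ToposFin.IsQCHom v) :
    ToposFin.IsQCHom (F.map v) := by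
  obtain ⟨ι, G, π, hG, hπ⟩ := H1_gen_of_isGenerating hgen Y
  refine H1_isQCHom_of_local_target' hE' (F.map v) (fun i => F.obj (G i)) (fun i => F.map (π i))
    (H1_JE_map_of_adj F R adj π hπ) (fun i => F.obj (pullback v (π i)))
    (fun i => F.map (pullback.fst v (π i))) (fun i => F.map (pullback.snd v (π i)))
    (fun i => (IsPullback.of_hasPullback v (π i)).map F) ?_
  intro i
  refine H1_isQCHom_of_isQC_of_isQS _ (hFqc _ (hv _ _ (hqc _ (hG i)))) (hFqs _ ?_)
  exact (H1_isCoherent_of_mem hqc hgen hpb (hG i)).2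

end Functor2

end TF
end Groth.Agent.H1
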