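import Groth.Agent.Lib.helper1.ToposFin8
set_option autoImplicit false
universe u w w' v₁ u₁
open CategoryTheory CategoryTheory.Limits Opposite

namespace Groth.Agent.H1
namespace TF

variable {C : Type u} [SmallCategory C] {J : GrothendieckTopology C}

/-- In a topos with a generating set `S` of quasi-compact objects closed under fibre products, every
morphism from a quasi-separated object to a member of `S` is quasi-separated. -/
theorem H1_isQSHom_of_isQS_of_mem_target {S : Set (Sheaf J (Type u))}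
    (hqc : ∀ K ∈ S, ToposFin.IsQC K) (hgen : ToposFin.IsGenerating S)
    (hpb : ToposFin.ClosedUnderPullbacks S) {X' K : Sheaf J (Type u)} (hK : K ∈ S) (φ : X' ⟶ K)
    (hX' : ToposFin.IsQS X') : ToposFin.IsQSHom φ := by
  obtain ⟨ι, L, l, hL, hl⟩ := H1_gen_of_isGenerating hgen X'
  refine H1_isQSHom_of_cover_with_qs_products (H1_hasQCGenerators_of_isGenerating hqc hgen) φ L l hl
    (fun i => hqc _ (hL i)) ?_ hX'
  intro i j
  obtain ⟨P, p, q, hP, hpq⟩ := hpb (l i ≫ φ) (l j ≫ φ) (hL i) (hL j) hK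
  exact H1_isQS_of_iso hpq.isoPullback (H1_isCoherent_of_mem hqc hgen hpb hP).2

/-- S5587 (⇐). -/
theorem H1_isQSHom_of_forall_isQS_pullback {S : Set (Sheaf J (Type u))}
    (hqc : ∀ K ∈ S, ToposFin.IsQC K) (hgen : ToposFin.IsGenerating S)
    (hpb : ToposFin.ClosedUnderPullbacks S) {X Y : Sheaf J (Type u)} (f : X ⟶ Y)
    (h : ∀ (Y' : Sheaf J (Type u)) (g : Y' ⟶ Y), ToposFin.IsQS Y' → ToposFin.IsQS (pullback f g)) :
    ToposFin.IsQSHom f := by
  obtain ⟨ι, K, π, hK, hπ⟩ := H1_gen_of_isGenerating hgen Y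
  refine H1_isQSHom_of_local_target (H1_hasQCGenerators_of_isGenerating hqc hgen) f K π hπ ?_
  intro i
  exact H1_isQSHom_of_isQS_of_mem_target hqc hgen hpb (hK i) _
    (h _ _ (H1_isCoherent_of_mem hqc hgen hpb (hK i)).2)

/-- S5587 (⇒); no hypothesis on the topos needed. -/
theorem H1_isQS_pullback_of_isQSHom {X Y Y' : Sheaf J (Type u)} (f : X ⟶ Y) (g : Y' ⟶ Y)
    (hf : ToposFin.IsQSHom f) (hY' : ToposFin.IsQS Y') : ToposFin.IsQS (pullback f g) :=
  H1_isQS_of_isQSHom (pullback.snd f g)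
    (H1_isQSHom_of_isPullback (IsPullback.of_hasPullback f g) hf) hY'

/-- Fibre product over a binary product as an equalizer of a fibre product over the first factor
(in the form needed: any such equalizer object is a pullback). -/
theorem H1_isPullback_over_prod {A B L L' P E : Sheaf J (Type u)} (a : A ⟶ L ⨯ L') (b : B ⟶ L ⨯ L')
    (p : P ⟶ A) (q : P ⟶ B) (hpq : IsPullback p q (a ≫ prod.fst) (b ≫ prod.fst))
    (e : E ⟶ P) (w : e ≫ (p ≫ a ≫ prod.snd) = e ≫ (q ≫ b ≫ prod.snd))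
    (hE : IsLimit (Fork.ofι e w)) : IsPullback (e ≫ p) (e ≫ q) a b := by
  have hw : (e ≫ p) ≫ a = (e ≫ q) ≫ b := by
    apply Limits.prod.hom_ext
    · have := hpq.w
      simp only [Category.assoc]
      rw [this]
    · simpa only [Category.assoc] using w
  have hlift : ∀ s : PullbackCone a b, ∃ l : s.pt ⟶ E, l ≫ e ≫ p = s.fst ∧ l ≫ e ≫ q = s.snd := by
    intro s
    have h0 : s.fst ≫ a ≫ prod.fst = s.snd ≫ b ≫ prod.fst := by
      rw [← Category.assoc, s.condition, Category.assoc]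
    have h1 : hpq.lift s.fst s.snd h0 ≫ (p ≫ a ≫ prod.snd) =
        hpq.lift s.fst s.snd h0 ≫ (q ≫ b ≫ prod.snd) := by
      rw [← Category.assoc, hpq.lift_fst, ← Category.assoc (hpq.lift s.fst s.snd h0), hpq.lift_snd,
        ← Category.assoc, s.condition, Category.assoc]
    obtain ⟨l, hl⟩ := Fork.IsLimit.lift' hE (hpq.lift s.fst s.snd h0) h1
    have hl' : l ≫ e = hpq.lift s.fst s.snd h0 := hl
    refine ⟨l, ?_, ?_⟩
    · rw [← Category.assoc, hl', hpq.lift_fst]
    · rw [← Category.assoc, hl', hpq.lift_snd]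
  choose l hl1 hl2 using hlift
  refine ⟨⟨hw⟩, ⟨PullbackCone.IsLimit.mk _ l ?_ ?_ ?_⟩⟩
  · intro s
    exact hl1 s
  · intro s
    exact hl2 s
  · intro s m h1 h2
    apply Fork.IsLimit.hom_ext hE
    change m ≫ e = l s ≫ e
    apply hpq.hom_ext
    · rw [Category.assoc, Category.assoc, hl1 s]
      exact h1
    · rw [Category.assoc, Category.assoc, hl2 s]
      exact h2

/-- In an algebraic topos, the binary product of two members of the generating set is
quasi-separated. -/
theorem H1_isQS_prod_of_mem {S : Set (Sheaf J (Type u))}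
    (hqc : ∀ K ∈ S, ToposFin.IsQC K) (hgen : ToposFin.IsGenerating S)
    (hpb : ToposFin.ClosedUnderPullbacks S) (heq : ToposFin.ClosedUnderEqualizers S)
    {L L' : Sheaf J (Type u)} (hL : L ∈ S) (hL' : L' ∈ S) : ToposFin.IsQS (L ⨯ L') := by
  have key : ∀ (A B : Sheaf J (Type u)) (a : A ⟶ L ⨯ L') (b : B ⟶ L ⨯ L'), A ∈ S → B ∈ S →
      ToposFin.IsQC (pullback a b) := by
    intro A B a b hA hB
    obtain ⟨P, p, q, hP, hpq⟩ := hpb (a ≫ prod.fst) (b ≫ prod.fst) hA hB hL
    obtain ⟨E, e, w, hE, ⟨hlim⟩⟩ := heq (p ≫ a ≫ prod.snd) (q ≫ b ≫ prod.snd) hP hL'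
    exact H1_isQC_of_isPullback_of_isPullback (H1_isPullback_over_prod a b p q hpq e w hlim)
      (IsPullback.of_hasPullback a b) (hqc E hE)
  intro A B a b hA hB
  obtain ⟨κ, hκ, W, w, hW, hw⟩ :=
    H1_exists_finite_cover_of_gen (fun W => W ∈ S) (H1_gen_of_isGenerating hgen) hA
  obtain ⟨κ', hκ', V, v, hV, hv⟩ :=
    H1_exists_finite_cover_of_gen (fun W => W ∈ S) (H1_gen_of_isGenerating hgen) hB
  refine H1_isQC_of_finite_cover _ _ (H1_JE_prod_map' a b W w hw V v hv) ?_
  rintro ⟨n, m⟩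
  exact key _ _ _ _ (hW m) (hV n)

/-- In an algebraic topos every morphism out of a quasi-separated object is quasi-separated. -/
theorem H1_isQSHom_of_isQS_of_isAlgebraic (hE : ToposFin.IsAlgebraic J) {X Y : Sheaf J (Type u)}
    (f : X ⟶ Y) (hX : ToposFin.IsQS X) : ToposFin.IsQSHom f := by
  obtain ⟨S, hqc, hgen, hpb, heq⟩ := hE
  obtain ⟨ι, L, l, hL, hl⟩ := H1_gen_of_isGenerating hgen X
  refine H1_isQSHom_of_cover_with_qs_products (H1_hasQCGenerators_of_isGenerating hqc hgen) f L l hl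
    (fun i => hqc _ (hL i)) ?_ hX
  intro i j
  let m : pullback (l i ≫ f) (l j ≫ f) ⟶ L i ⨯ L j :=
    prod.lift (pullback.fst _ _) (pullback.snd _ _)
  have hm1 : m ≫ prod.fst = pullback.fst _ _ := prod.lift_fst _ _
  have hm2 : m ≫ prod.snd = pullback.snd _ _ := prod.lift_snd _ _
  haveI : Mono m := by
    constructor
    intro W p q hpq
    apply pullback.hom_ext
    · have := congrArg (fun φ => φ ≫ prod.fst) hpq
      simpa only [Category.assoc, hm1] using this
    · have := congrArg (fun φ => φ ≫ prod.snd) hpq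
      simpa only [Category.assoc, hm2] using this
  exact H1_isQS_of_mono m (H1_isQS_prod_of_mem hqc hgen hpb heq (hL i) (hL j))

theorem H1_hasQCGenerators_of_isAlgebraic (hE : ToposFin.IsAlgebraic J) :
    ToposFin.HasQCGenerators J := by
  obtain ⟨S, hqc, hgen, hpb, heq⟩ := hE
  exact H1_hasQCGenerators_of_isGenerating hqc hgen

/-- The source of a coherent morphism to a coherent object is coherent. -/
theorem H1_isCoherent_of_isCohHom {A B : Sheaf J (Type u)} (φ : A ⟶ B) (hφ : ToposFin.IsCohHom φ)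
    (hB : ToposFin.IsCoherent B) : ToposFin.IsCoherent A := by
  refine ⟨?_, H1_isQS_of_isQSHom φ hφ.2 hB.2⟩
  have h1 : ToposFin.IsQC (pullback φ (𝟙 B)) := hφ.1 B (𝟙 B) hB.1
  exact H1_isQC_of_iso (asIso (pullback.fst φ (𝟙 B))) h1

end TF
end Groth.Agent.H1
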