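import Groth.Agent.Lib.helper1.ToposFinSite
set_option autoImplicit false
universe u w w'
open CategoryTheory CategoryTheory.Limits Opposite

namespace Groth.Agent.H1
namespace TF

variable {C : Type u} [SmallCategory C] {J : GrothendieckTopology C}

/-- The sieve on which two sections become equal at a later stage. -/
def eqSieve {I : Type u} [SmallCategory I] (D : I ⥤ Sheaf J (Type u)) {i : I} {U : C}
    (t t' : (D.obj i).obj.obj (op U)) : Sieve U where
  arrows V g := ∃ (j : I) (a : i ⟶ j),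
    (D.map a).hom.app (op V) ((D.obj i).obj.map g.op t) =
      (D.map a).hom.app (op V) ((D.obj i).obj.map g.op t')
  downward_closed := by
    rintro V W g ⟨j, a, h⟩ k
    refine ⟨j, a, ?_⟩
    have e1 := NatTrans.naturality_apply (D.map a).hom k.op ((D.obj i).obj.map g.op t)
    have e2 := NatTrans.naturality_apply (D.map a).hom k.op ((D.obj i).obj.map g.op t')
    rw [op_comp, Functor.map_comp]
    change (D.map a).hom.app (op W) ((D.obj i).obj.map k.op ((D.obj i).obj.map g.op t)) =
      (D.map a).hom.app (op W) ((D.obj i).obj.map k.op ((D.obj i).obj.map g.op t'))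
    rw [e1, e2, h]

theorem H1_colim_loc_inj {I : Type u} [SmallCategory I] [IsFiltered I] (D : I ⥤ Sheaf J (Type u))
    (c : Cocone D) (hc : IsColimit c) {i : I} {U : C} (t t' : (D.obj i).obj.obj (op U))
    (h : (c.ι.app i).hom.app (op U) t = (c.ι.app i).hom.app (op U) t') :
    eqSieve D t t' ∈ J U := by
  let E := colimit.cocone (D ⋙ sheafToPresheaf J (Type u))
  let c' := Sheaf.sheafifyCocone (J := J) E
  have hc' : IsColimit c' := Sheaf.isColimitSheafifyCocone E (colimit.isColimit _)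
  let e := hc.coconePointUniqueUpToIso hc'
  have he : c.ι.app i ≫ e.hom = c'.ι.app i := hc.comp_coconePointUniqueUpToIso_hom hc' i
  have h1 : (c'.ι.app i).hom.app (op U) t = (c'.ι.app i).hom.app (op U) t' := by
    rw [← he]
    change e.hom.hom.app (op U) ((c.ι.app i).hom.app (op U) t) =
      e.hom.hom.app (op U) ((c.ι.app i).hom.app (op U) t')
    rw [h]
  have h2 : (c'.ι.app i).hom = E.ι.app i ≫ toSheafify J E.pt := Sheaf.sheafifyCocone_ι_app_val E i
  rw [h2] at h1
  have h3 := Presheaf.equalizerSieve_mem J (toSheafify J E.pt) ((E.ι.app i).app (op U) t)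
    ((E.ι.app i).app (op U) t') h1
  refine J.superset_covering ?_ h3
  intro V g hg
  change E.pt.map g.op ((E.ι.app i).app (op U) t) = E.pt.map g.op ((E.ι.app i).app (op U) t') at hg
  have e1 := NatTrans.naturality_apply (E.ι.app i) g.op t
  have e2 := NatTrans.naturality_apply (E.ι.app i) g.op t'
  replace hg : (E.ι.app i).app (op V) ((D.obj i).obj.map g.op t) =
      (E.ι.app i).app (op V) ((D.obj i).obj.map g.op t') := e1.trans (hg.trans e2.symm)
  have hev : IsColimit (((evaluation Cᵒᵖ (Type u)).obj (op V)).mapCocone E) :=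
    isColimitOfPreserves _ (colimit.isColimit _)
  obtain ⟨k, f, f', hk⟩ := (Types.FilteredColimit.isColimit_eq_iff _ hev).1 hg
  refine ⟨IsFiltered.coeq f f', f ≫ IsFiltered.coeqHom f f', ?_⟩
  have hk' : (D.map f).hom.app (op V) ((D.obj i).obj.map g.op t) =
      (D.map f').hom.app (op V) ((D.obj i).obj.map g.op t') := hk
  rw [Functor.map_comp]
  change (D.map (IsFiltered.coeqHom f f')).hom.app (op V) ((D.map f).hom.app (op V) _) =
    (D.map (IsFiltered.coeqHom f f')).hom.app (op V) ((D.map f).hom.app (op V) _)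
  rw [hk']
  have : f ≫ IsFiltered.coeqHom f f' = f' ≫ IsFiltered.coeqHom f f' := IsFiltered.coeq_condition f f'
  have e3 : (D.map (IsFiltered.coeqHom f f')).hom.app (op V) ((D.map f').hom.app (op V) ((D.obj i).obj.map g.op t')) =
      (D.map (f' ≫ IsFiltered.coeqHom f f')).hom.app (op V) ((D.obj i).obj.map g.op t') := by
    rw [Functor.map_comp]; rfl
  have e4 : (D.map (IsFiltered.coeqHom f f')).hom.app (op V) ((D.map f).hom.app (op V) ((D.obj i).obj.map g.op t')) =
      (D.map (f ≫ IsFiltered.coeqHom f f')).hom.app (op V) ((D.obj i).obj.map g.op t') := by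
    rw [Functor.map_comp]; rfl
  rw [e3, e4, this]

theorem H1_filtered_under_sup {I : Type u} [SmallCategory I] [IsFiltered I] (i : I)
    (s : Finset (Σ j : I, i ⟶ j)) :
    ∃ (k : I) (a₀ : i ⟶ k), ∀ x ∈ s, ∃ b : x.1 ⟶ k, x.2 ≫ b = a₀ := by
  classical
  induction s using Finset.induction with
  | empty => exact ⟨i, 𝟙 i, by simp⟩
  | insert x s hx ih =>
    obtain ⟨k, a₀, h⟩ := ih
    let m := IsFiltered.max k x.1
    let l : k ⟶ m := IsFiltered.leftToMax k x.1
    let r : x.1 ⟶ m := IsFiltered.rightToMax k x.1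
    let c := IsFiltered.coeqHom (a₀ ≫ l) (x.2 ≫ r)
    have hc : (a₀ ≫ l) ≫ c = (x.2 ≫ r) ≫ c := IsFiltered.coeq_condition _ _
    refine ⟨_, a₀ ≫ l ≫ c, ?_⟩
    intro y hy
    rcases Finset.mem_insert.1 hy with rfl | hy
    · exact ⟨r ≫ c, by rw [← Category.assoc, ← hc, Category.assoc]⟩
    · obtain ⟨b, hb⟩ := h y hy
      exact ⟨b ≫ l ≫ c, by rw [← Category.assoc, hb]⟩

theorem H1_hom_colim_inj_of_isQC {I : Type u} [SmallCategory I] [IsFiltered I]
    (D : I ⥤ Sheaf J (Type u)) (c : Cocone D) (hc : IsColimit c) {X : Sheaf J (Type u)}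
    (hX : ToposFin.IsQC X) {i : I} (f g : X ⟶ D.obj i) (h : f ≫ c.ι.app i = g ≫ c.ι.app i) :
    ∃ (j : I) (a : i ⟶ j), f ≫ D.map a = g ≫ D.map a := by
  classical
  let F : (Σ j : I, i ⟶ j) → Sheaf J (Type u) := fun x => equalizer (f ≫ D.map x.2) (g ≫ D.map x.2)
  let π : ∀ x, F x ⟶ X := fun x => equalizer.ι (f ≫ D.map x.2) (g ≫ D.map x.2)
  have hJE : JE π := by
    apply H1_JE_of_LJE
    intro U s
    have h0 : (c.ι.app i).hom.app (op U) (f.hom.app (op U) s) =
        (c.ι.app i).hom.app (op U) (g.hom.app (op U) s) := by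
      have := congrArg (fun φ : X ⟶ c.pt => φ.hom.app (op U) s) h
      exact this
    have h1 := H1_colim_loc_inj D c hc _ _ h0
    refine J.superset_covering ?_ h1
    rintro V k ⟨j, a, hk⟩
    refine ⟨⟨j, a⟩, ?_⟩
    have hcond : secMap J (X.obj.map k.op s) ≫ (f ≫ D.map a) =
        secMap J (X.obj.map k.op s) ≫ (g ≫ D.map a) := by
      apply H1_eps_hom_ext
      change (D.map a).hom.app (op V) (f.hom.app (op V) ((secMap J (X.obj.map k.op s)).hom.app (op V) (x0 J V))) =
        (D.map a).hom.app (op V) (g.hom.app (op V) ((secMap J (X.obj.map k.op s)).hom.app (op V) (x0 J V)))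
      rw [H1_secMap_x0]
      have e1 := NatTrans.naturality_apply f.hom k.op s
      have e2 := NatTrans.naturality_apply g.hom k.op s
      rw [e1, e2]
      exact hk
    refine ⟨(equalizer.lift (secMap J (X.obj.map k.op s)) hcond).hom.app (op V) (x0 J V), ?_⟩
    have e3 : equalizer.lift (secMap J (X.obj.map k.op s)) hcond ≫ π ⟨j, a⟩ =
        secMap J (X.obj.map k.op s) := equalizer.lift_ι _ _
    have := congrArg (fun φ : ToposFin.eps J V ⟶ X => φ.hom.app (op V) (x0 J V)) e3
    simp only [H1_secMap_x0] at this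
    exact this
  obtain ⟨s, hs⟩ := (H1_isQC_iff X).1 hX _ F π hJE
  obtain ⟨k, a₀, hk⟩ := H1_filtered_under_sup i s
  refine ⟨k, a₀, ?_⟩
  apply hs
  rintro ⟨x, hx⟩
  obtain ⟨b, hb⟩ := hk x hx
  have e : π x ≫ f ≫ D.map x.2 = π x ≫ g ≫ D.map x.2 :=
    equalizer.condition (f ≫ D.map x.2) (g ≫ D.map x.2)
  calc π x ≫ f ≫ D.map a₀ = (π x ≫ f ≫ D.map x.2) ≫ D.map b := by
        rw [← hb, Functor.map_comp]; simp only [Category.assoc]
    _ = (π x ≫ g ≫ D.map x.2) ≫ D.map b := by rw [e]
    _ = π x ≫ g ≫ D.map a₀ := by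
        rw [← hb, Functor.map_comp]; simp only [Category.assoc]

theorem H1_post_ι {I : Type u} [SmallCategory I] (D : I ⥤ Sheaf J (Type u))
    (X : Sheaf J (Type u)) (i : I) (f : X ⟶ D.obj i) :
    (colimit.post D (coyoneda.obj (op X))) (colimit.ι (D ⋙ coyoneda.obj (op X)) i f) =
      f ≫ colimit.ι D i := by
  have := colimit.ι_post D (coyoneda.obj (op X)) i
  have h2 := congrArg (fun φ => (ConcreteCategory.hom φ) f) this
  exact h2

theorem H1_post_injective_iff {I : Type u} [SmallCategory I] [IsFiltered I]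
    (D : I ⥤ Sheaf J (Type u)) (X : Sheaf J (Type u)) :
    Function.Injective (colimit.post D (coyoneda.obj (op X))) ↔
      ∀ (i : I) (f g : X ⟶ D.obj i), f ≫ colimit.ι D i = g ≫ colimit.ι D i →
        ∃ (j : I) (a : i ⟶ j), f ≫ D.map a = g ≫ D.map a := by
  constructor
  · intro h i f g hfg
    have h1 : colimit.ι (D ⋙ coyoneda.obj (op X)) i f = colimit.ι (D ⋙ coyoneda.obj (op X)) i g := by
      apply h
      rw [H1_post_ι, H1_post_ι, hfg]
    obtain ⟨j, a, ha⟩ := (Types.FilteredColimit.isColimit_eq_iff' (F := D ⋙ coyoneda.obj (op X)) (colimit.isColimit _) f g).1 h1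
    exact ⟨j, a, ha⟩
  · intro h x y hxy
    obtain ⟨i, f, rfl⟩ := Types.jointly_surjective' x
    obtain ⟨i', g, rfl⟩ := Types.jointly_surjective' y
    rw [H1_post_ι, H1_post_ι] at hxy
    let k := IsFiltered.max i i'
    let l : i ⟶ k := IsFiltered.leftToMax i i'
    let r : i' ⟶ k := IsFiltered.rightToMax i i'
    have h1 : (f ≫ D.map l) ≫ colimit.ι D k = (g ≫ D.map r) ≫ colimit.ι D k := by
      rw [Category.assoc, Category.assoc, colimit.w, colimit.w, hxy]
    obtain ⟨j, a, ha⟩ := h k _ _ h1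
    rw [Types.FilteredColimit.colimit_eq_iff]
    refine ⟨j, l ≫ a, r ≫ a, ?_⟩
    change f ≫ D.map (l ≫ a) = g ≫ D.map (r ≫ a)
    rw [Functor.map_comp, Functor.map_comp, ← Category.assoc, ← Category.assoc, ha]

theorem H1_post_surjective_iff {I : Type u} [SmallCategory I]
    (D : I ⥤ Sheaf J (Type u)) (X : Sheaf J (Type u)) :
    Function.Surjective (colimit.post D (coyoneda.obj (op X))) ↔
      ∀ (φ : X ⟶ colimit D), ∃ (i : I) (f : X ⟶ D.obj i), f ≫ colimit.ι D i = φ := by
  constructor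
  · intro h φ
    obtain ⟨x, hx⟩ := h φ
    obtain ⟨i, f, rfl⟩ := Types.jointly_surjective' x
    rw [H1_post_ι] at hx
    exact ⟨i, f, hx⟩
  · intro h φ
    obtain ⟨i, f, hf⟩ := h φ
    exact ⟨colimit.ι (D ⋙ coyoneda.obj (op X)) i f, by rw [H1_post_ι, hf]⟩

theorem H1_isQC_of_post_injective (X : Sheaf J (Type u))
    (h : ∀ (I : Type u) [SmallCategory I] [IsFiltered I] (D : I ⥤ Sheaf J (Type u)),
      Function.Injective (colimit.post D (coyoneda.obj (op X)))) : ToposFin.IsQC X := by
  classical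
  intro ι F π hπ
  let σ : ∀ s : Finset ι, (∐ fun i : s => F i) ⟶ X := fun s => Sigma.desc (fun i : s => π i)
  have hσ : ∀ (s : Finset ι) (i : ι) (hi : i ∈ s),
      π i ≫ pushout.inl (σ s) (σ s) = π i ≫ pushout.inr (σ s) (σ s) := by
    intro s i hi
    have e : π i = Sigma.ι (fun i : s => F i) ⟨i, hi⟩ ≫ σ s := by
      simp [σ]
    rw [e, Category.assoc, Category.assoc, pushout.condition]
  have key : ∀ (s s' : Finset ι) (hss : s ≤ s'),
      σ s ≫ pushout.inl (σ s') (σ s') = σ s ≫ pushout.inr (σ s') (σ s') := by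
    intro s s' hss
    apply Sigma.hom_ext
    intro i
    have e : Sigma.ι (fun i : s => F i) i ≫ σ s = π i := by simp [σ]
    rw [← Category.assoc, ← Category.assoc, e]
    exact hσ s' i (hss i.2)
  let Y : Finset ι ⥤ Sheaf J (Type u) :=
    { obj := fun s => pushout (σ s) (σ s)
      map := fun {s s'} a => pushout.desc (pushout.inl _ _) (pushout.inr _ _) (key s s' (leOfHom a))
      map_id := by
        intro s
        apply pushout.hom_ext
        · exact (pushout.inl_desc _ _ _).trans (Category.comp_id _).symm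
        · exact (pushout.inr_desc _ _ _).trans (Category.comp_id _).symm
      map_comp := by
        intro s s' s'' a b
        apply pushout.hom_ext
        · rw [pushout.inl_desc, ← Category.assoc, pushout.inl_desc, pushout.inl_desc]
        · rw [pushout.inr_desc, ← Category.assoc, pushout.inr_desc, pushout.inr_desc] }
  have hinj := (H1_post_injective_iff Y X).1 (h (Finset ι) Y)
  have hl : ∀ (s s' : Finset ι) (a : s ⟶ s'), pushout.inl (σ s) (σ s) ≫ Y.map a = pushout.inl (σ s') (σ s') := by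
    intro s s' a
    exact pushout.inl_desc _ _ _
  have hr : ∀ (s s' : Finset ι) (a : s ⟶ s'), pushout.inr (σ s) (σ s) ≫ Y.map a = pushout.inr (σ s') (σ s') := by
    intro s s' a
    exact pushout.inr_desc _ _ _
  have h0 : pushout.inl (σ ∅) (σ ∅) ≫ colimit.ι Y ∅ = pushout.inr (σ ∅) (σ ∅) ≫ colimit.ι Y ∅ := by
    rw [← cancel_epi (Sigma.desc π)]
    apply Sigma.hom_ext
    intro i
    simp only [colimit.ι_desc_assoc, Cofan.mk_ι_app]
    have a : (∅ : Finset ι) ⟶ {i} := homOfLE (Finset.empty_subset _)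
    rw [← colimit.w Y a, ← Category.assoc (pushout.inl _ _), ← Category.assoc (pushout.inr _ _),
      hl, hr, ← Category.assoc, ← Category.assoc, hσ {i} i (Finset.mem_singleton_self i)]
  obtain ⟨s, a, ha⟩ := hinj ∅ _ _ h0
  rw [hl, hr] at ha
  refine ⟨s, ?_⟩
  constructor
  intro Z a b hab
  have e1 : pushout.inl (σ s) (σ s) ≫ pushout.desc a b hab = a := pushout.inl_desc _ _ _
  have e2 : pushout.inr (σ s) (σ s) ≫ pushout.desc a b hab = b := pushout.inr_desc _ _ _
  calc a = pushout.inl (σ s) (σ s) ≫ pushout.desc a b hab := e1.symm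
    _ = pushout.inr (σ s) (σ s) ≫ pushout.desc a b hab := by rw [ha]
    _ = b := e2

end TF
end Groth.Agent.H1
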