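import Groth.Agent.Lib.helper1.ToposFinColim
set_option autoImplicit false
universe u w w'
open CategoryTheory CategoryTheory.Limits Opposite

namespace Groth.Agent.H1
namespace TF

variable {C : Type u} [SmallCategory C] {J : GrothendieckTopology C}

theorem H1_effectiveEpi_of_epi {X Y : Sheaf J (Type u)} (g : X ⟶ Y) [Epi g] : EffectiveEpi g := by
  haveI : IsRegularEpi g := IsRegularEpiCategory.regularEpiOfEpi g
  infer_instance

/-- Descend along an epimorphism a map equalizing the kernel pair. -/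
theorem H1_epi_desc {X Y Z : Sheaf J (Type u)} (g : X ⟶ Y) [Epi g] (e : X ⟶ Z)
    (h : pullback.fst g g ≫ e = pullback.snd g g ≫ e) : ∃ ψ : Y ⟶ Z, g ≫ ψ = e := by
  haveI := H1_effectiveEpi_of_epi g
  have h' : ∀ {W : Sheaf J (Type u)} (g₁ g₂ : W ⟶ X), g₁ ≫ g = g₂ ≫ g → g₁ ≫ e = g₂ ≫ e := by
    intro W g₁ g₂ hg
    have e1 : pullback.lift g₁ g₂ hg ≫ pullback.fst g g = g₁ := pullback.lift_fst _ _ _
    have e2 : pullback.lift g₁ g₂ hg ≫ pullback.snd g g = g₂ := pullback.lift_snd _ _ _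
    calc g₁ ≫ e = (pullback.lift g₁ g₂ hg ≫ pullback.fst g g) ≫ e := by rw [e1]
      _ = (pullback.lift g₁ g₂ hg ≫ pullback.snd g g) ≫ e := by
          rw [Category.assoc, Category.assoc, h]
      _ = g₂ ≫ e := by rw [e2]
  exact ⟨EffectiveEpi.desc g e h', EffectiveEpi.fac g e h'⟩

theorem H1_hom_colim_surj_of_isCoherent (hE : ToposFin.HasQCGenerators J)
    {I : Type u} [SmallCategory I] [IsFiltered I]
    (D : I ⥤ Sheaf J (Type u)) (c : Cocone D) (hc : IsColimit c) {X : Sheaf J (Type u)}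
    (hX : ToposFin.IsCoherent X) (φ : X ⟶ c.pt) :
    ∃ (i : I) (f : X ⟶ D.obj i), f ≫ c.ι.app i = φ := by
  classical
  have hJE : JE (fun i => c.ι.app i) := by
    intro Z a b hab
    exact hc.hom_ext hab
  have h1 : JE (fun i => pullback.fst φ (c.ι.app i)) := H1_JE_pullback_fst _ φ hJE
  have h2 : ∀ i, ∃ (κ : Type u) (G : κ → Sheaf J (Type u)) (ρ : ∀ k, G k ⟶ pullback φ (c.ι.app i)),
      (∀ k, ToposFin.IsQC (G k)) ∧ JE ρ := by
    intro i
    obtain ⟨κ, G, ρ, hG, hρ⟩ := hE (pullback φ (c.ι.app i))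
    exact ⟨κ, G, ρ, hG, (H1_epi_sigmaDesc_iff ρ).1 hρ⟩
  choose κ G ρ hG hρ using h2
  have h3 := H1_JE_comp (fun i => pullback.fst φ (c.ι.app i)) ρ h1 hρ
  obtain ⟨s, hs⟩ := (H1_isQC_iff X).1 hX.1 _ _ _ h3
  obtain ⟨i₀, hi₀⟩ := IsFiltered.sup_objs_exists (s.image (fun x => x.1))
  have hb : ∀ x : s, Nonempty (x.1.1 ⟶ i₀) := fun x =>
    hi₀ (Finset.mem_image.2 ⟨x.1, x.2, rfl⟩)
  let b : ∀ x : s, x.1.1 ⟶ i₀ := fun x => (hb x).some
  let gx : ∀ x : s, G x.1.1 x.1.2 ⟶ X := fun x => ρ x.1.1 x.1.2 ≫ pullback.fst φ (c.ι.app x.1.1)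
  let hx : ∀ x : s, G x.1.1 x.1.2 ⟶ D.obj i₀ := fun x =>
    ρ x.1.1 x.1.2 ≫ pullback.snd φ (c.ι.app x.1.1) ≫ D.map (b x)
  have hgh : ∀ x : s, gx x ≫ φ = hx x ≫ c.ι.app i₀ := by
    intro x
    simp only [gx, hx, Category.assoc]
    rw [c.w (b x), pullback.condition]
  let GG : Sheaf J (Type u) := ∐ (fun x : s => G x.1.1 x.1.2)
  have hGG : ToposFin.IsQC GG :=
    H1_isQC_of_finite_cover (fun x : s => G x.1.1 x.1.2) (Sigma.ι _) (H1_JE_sigma_ι _)
      (fun x => hG _ _)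
  let g : GG ⟶ X := Sigma.desc gx
  let h : GG ⟶ D.obj i₀ := Sigma.desc hx
  haveI : Epi g := (H1_epi_sigmaDesc_iff gx).2 hs
  have hgφ : g ≫ φ = h ≫ c.ι.app i₀ := by
    apply Sigma.hom_ext
    intro x
    simp only [g, h, colimit.ι_desc_assoc, Cofan.mk_ι_app]
    exact hgh x
  have hR : ToposFin.IsQC (pullback g g) := hX.2 _ _ g g hGG hGG
  have h4 : (pullback.fst g g ≫ h) ≫ c.ι.app i₀ = (pullback.snd g g ≫ h) ≫ c.ι.app i₀ := by
    rw [Category.assoc, Category.assoc, ← hgφ, ← Category.assoc, ← Category.assoc, pullback.condition]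
  obtain ⟨j, a, ha⟩ := H1_hom_colim_inj_of_isQC D c hc hR _ _ h4
  obtain ⟨ψ, hψ⟩ := H1_epi_desc g (h ≫ D.map a) (by simpa only [Category.assoc] using ha)
  refine ⟨j, ψ, ?_⟩
  rw [← cancel_epi g, ← Category.assoc, hψ, Category.assoc, c.w a, hgφ]

end TF
end Groth.Agent.H1
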