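import Groth.Agent.Lib.helper1.ToposFinColim2
set_option autoImplicit false
universe u w w'
open CategoryTheory CategoryTheory.Limits Opposite

namespace Groth.Agent.H1
namespace TF

variable {C : Type u} [SmallCategory C] {J : GrothendieckTopology C}

/-- Concrete form of finite presentability. -/
def FPc (X : Sheaf J (Type u)) : Prop :=
  ∀ (I : Type u) [SmallCategory I] [IsFiltered I] (D : I ⥤ Sheaf J (Type u)),
    (∀ (i : I) (f g : X ⟶ D.obj i), f ≫ colimit.ι D i = g ≫ colimit.ι D i →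
      ∃ (j : I) (a : i ⟶ j), f ≫ D.map a = g ≫ D.map a) ∧
    (∀ φ : X ⟶ colimit D, ∃ (i : I) (f : X ⟶ D.obj i), f ≫ colimit.ι D i = φ)

theorem H1_isFP_iff (X : Sheaf J (Type u)) : ToposFin.IsFP X ↔ FPc X := by
  constructor
  · intro h I _ _ D
    exact ⟨(H1_post_injective_iff D X).1 (h I D).1, (H1_post_surjective_iff D X).1 (h I D).2⟩
  · intro h I _ _ D
    exact ⟨(H1_post_injective_iff D X).2 (h I D).1, (H1_post_surjective_iff D X).2 (h I D).2⟩

theorem H1_FPc_of_isCoherent (hE : ToposFin.HasQCGenerators J) {X : Sheaf J (Type u)}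
    (hX : ToposFin.IsCoherent X) : FPc X := by
  intro I _ _ D
  exact ⟨fun i f g h => H1_hom_colim_inj_of_isQC D (colimit.cocone D) (colimit.isColimit D) hX.1 f g h,
    fun φ => H1_hom_colim_surj_of_isCoherent hE D (colimit.cocone D) (colimit.isColimit D) hX φ⟩

theorem H1_FPc_coequalizer {X₀ X₁ : Sheaf J (Type u)} (a b : X₁ ⟶ X₀) (h0 : FPc X₀) (h1 : FPc X₁) :
    FPc (coequalizer a b) := by
  intro I _ _ D
  constructor
  · intro i f g h
    have h' : (coequalizer.π a b ≫ f) ≫ colimit.ι D i = (coequalizer.π a b ≫ g) ≫ colimit.ι D i := by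
      rw [Category.assoc, Category.assoc, h]
    obtain ⟨j, a', ha'⟩ := (h0 I D).1 i _ _ h'
    refine ⟨j, a', ?_⟩
    rw [← cancel_epi (coequalizer.π a b)]
    simpa only [Category.assoc] using ha'
  · intro φ
    obtain ⟨i, ψ, hψ⟩ := (h0 I D).2 (coequalizer.π a b ≫ φ)
    have h' : (a ≫ ψ) ≫ colimit.ι D i = (b ≫ ψ) ≫ colimit.ι D i := by
      rw [Category.assoc, Category.assoc, hψ, ← Category.assoc, ← Category.assoc,
        coequalizer.condition]
    obtain ⟨j, a', ha'⟩ := (h1 I D).1 i _ _ h'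
    have hc : a ≫ (ψ ≫ D.map a') = b ≫ (ψ ≫ D.map a') := by
      simpa only [Category.assoc] using ha'
    refine ⟨j, coequalizer.desc (ψ ≫ D.map a') hc, ?_⟩
    rw [← cancel_epi (coequalizer.π a b), ← Category.assoc, coequalizer.π_desc, Category.assoc,
      colimit.w, hψ]

theorem H1_FPc_of_retract {X Q : Sheaf J (Type u)} (i : X ⟶ Q) (p : Q ⟶ X) (hip : i ≫ p = 𝟙 X)
    (hQ : FPc Q) : FPc X := by
  intro I _ _ D
  constructor
  · intro k f g h
    have h' : (p ≫ f) ≫ colimit.ι D k = (p ≫ g) ≫ colimit.ι D k := by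
      rw [Category.assoc, Category.assoc, h]
    obtain ⟨j, a', ha'⟩ := (hQ I D).1 k _ _ h'
    refine ⟨j, a', ?_⟩
    calc f ≫ D.map a' = (i ≫ p) ≫ f ≫ D.map a' := by rw [hip, Category.id_comp]
      _ = i ≫ ((p ≫ f) ≫ D.map a') := by simp only [Category.assoc]
      _ = i ≫ ((p ≫ g) ≫ D.map a') := by rw [ha']
      _ = (i ≫ p) ≫ g ≫ D.map a' := by simp only [Category.assoc]
      _ = g ≫ D.map a' := by rw [hip, Category.id_comp]
  · intro φ
    obtain ⟨k, ψ, hψ⟩ := (hQ I D).2 (p ≫ φ)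
    refine ⟨k, i ≫ ψ, ?_⟩
    rw [Category.assoc, hψ, ← Category.assoc, hip, Category.id_comp]

theorem H1_isCoherent_sigma_finite {ι : Type u} [Finite ι] (F : ι → Sheaf J (Type u))
    (h : ∀ i, ToposFin.IsCoherent (F i)) : ToposFin.IsCoherent (∐ F) :=
  ⟨H1_isQC_of_finite_cover F (Sigma.ι F) (H1_JE_sigma_ι F) (fun i => (h i).1),
    H1_isQS_sigma F (fun i => (h i).2)⟩

theorem H1_hasQCGenerators_of_hasCoherentGenerators (hE : ToposFin.HasCoherentGenerators J) :
    ToposFin.HasQCGenerators J := by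
  intro X
  obtain ⟨ι, F, π, hF, hπ⟩ := hE X
  exact ⟨ι, F, π, fun i => (hF i).1, hπ⟩

end TF
end Groth.Agent.H1
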