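import Groth.Agent.Lib.helper1.ToposFinColim3
set_option autoImplicit false
universe u w w'
open CategoryTheory CategoryTheory.Limits Opposite

namespace Groth.Agent.H1
namespace TF

variable {C : Type u} [SmallCategory C] {J : GrothendieckTopology C}

theorem H1_retract_of_FPc (hE : ToposFin.HasCoherentGenerators J) (X : Sheaf J (Type u))
    (hX : FPc X) :
    ∃ (X₀ X₁ : Sheaf J (Type u)) (a b : X₁ ⟶ X₀) (i : X ⟶ coequalizer a b)
      (p : coequalizer a b ⟶ X),
      ToposFin.IsCoherent X₀ ∧ ToposFin.IsCoherent X₁ ∧ i ≫ p = 𝟙 X := by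
  classical
  have hQC : ToposFin.IsQC X :=
    H1_isQC_of_post_injective X (fun I _ _ D => (H1_post_injective_iff D X).2 (hX I D).1)
  obtain ⟨κ, F, π, hF, hπ⟩ := hE X
  obtain ⟨s, hs⟩ := hQC κ F π hπ
  let X₀ : Sheaf J (Type u) := ∐ (fun k : s => F k)
  have hX₀ : ToposFin.IsCoherent X₀ := H1_isCoherent_sigma_finite _ (fun k => hF k)
  let g : X₀ ⟶ X := Sigma.desc (fun k : s => π k)
  haveI : Epi g := hs
  obtain ⟨μ, G, ρ, hG, hρ⟩ := hE (pullback g g)
  have hρ' : JE ρ := (H1_epi_sigmaDesc_iff ρ).1 hρ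
  let R : Finset μ → Sheaf J (Type u) := fun t => ∐ (fun m : t => G m)
  let α : ∀ t, R t ⟶ X₀ := fun t => Sigma.desc (fun m : t => ρ m ≫ pullback.fst g g)
  let β : ∀ t, R t ⟶ X₀ := fun t => Sigma.desc (fun m : t => ρ m ≫ pullback.snd g g)
  have hα : ∀ (t : Finset μ) (m : t), Sigma.ι (fun m : t => G m) m ≫ α t = ρ m ≫ pullback.fst g g := by
    intro t m
    exact colimit.ι_desc _ _
  have hβ : ∀ (t : Finset μ) (m : t), Sigma.ι (fun m : t => G m) m ≫ β t = ρ m ≫ pullback.snd g g := by
    intro t m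
    exact colimit.ι_desc _ _
  have hm : ∀ (t : Finset μ) (m : μ) (hm : m ∈ t),
      (ρ m ≫ pullback.fst g g) ≫ coequalizer.π (α t) (β t) =
        (ρ m ≫ pullback.snd g g) ≫ coequalizer.π (α t) (β t) := by
    intro t m hm
    have h1 := coequalizer.condition (α t) (β t)
    have h2 := congrArg (fun φ => Sigma.ι (fun m : t => G m) ⟨m, hm⟩ ≫ φ) h1
    simp only [← Category.assoc] at h2
    rw [hα, hβ] at h2
    exact h2
  have key : ∀ (t t' : Finset μ) (h : t ≤ t'),
      α t ≫ coequalizer.π (α t') (β t') = β t ≫ coequalizer.π (α t') (β t') := by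
    intro t t' h
    apply Sigma.hom_ext
    intro m
    rw [← Category.assoc, ← Category.assoc, hα, hβ]
    exact hm t' m (h m.2)
  let Q : Finset μ ⥤ Sheaf J (Type u) :=
    { obj := fun t => coequalizer (α t) (β t)
      map := fun {t t'} a => coequalizer.desc (coequalizer.π (α t') (β t')) (key t t' (leOfHom a))
      map_id := by
        intro t
        apply coequalizer.hom_ext
        exact (coequalizer.π_desc _ _).trans (Category.comp_id _).symm
      map_comp := by
        intro t t' t'' a b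
        apply coequalizer.hom_ext
        rw [coequalizer.π_desc, ← Category.assoc, coequalizer.π_desc, coequalizer.π_desc] }
  have hQπ : ∀ (t t' : Finset μ) (a : t ⟶ t'),
      coequalizer.π (α t) (β t) ≫ Q.map a = coequalizer.π (α t') (β t') :=
    fun _ _ _ => coequalizer.π_desc _ _
  have hg : ∀ t, α t ≫ g = β t ≫ g := by
    intro t
    apply Sigma.hom_ext
    intro m
    rw [← Category.assoc, ← Category.assoc, hα, hβ, Category.assoc, Category.assoc, pullback.condition]
  let q : ∀ t, Q.obj t ⟶ X := fun t => coequalizer.desc g (hg t)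
  have hq : ∀ t, coequalizer.π (α t) (β t) ≫ q t = g := fun t => coequalizer.π_desc _ _
  let qc : Cocone Q :=
    { pt := X
      ι :=
        { app := q
          naturality := by
            intro t t' a
            apply coequalizer.hom_ext
            simp only [Functor.const_obj_obj, Functor.const_obj_map, Category.comp_id]
            rw [← Category.assoc, hQπ, hq, hq] } }
  let z : X₀ ⟶ colimit Q := coequalizer.π (α ∅) (β ∅) ≫ colimit.ι Q ∅
  have hz : ∀ t, z = coequalizer.π (α t) (β t) ≫ colimit.ι Q t := by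
    intro t
    have a : (∅ : Finset μ) ⟶ t := homOfLE (Finset.empty_subset _)
    change coequalizer.π (α ∅) (β ∅) ≫ colimit.ι Q ∅ = _
    rw [← colimit.w Q a, ← Category.assoc, hQπ]
  have hz2 : pullback.fst g g ≫ z = pullback.snd g g ≫ z := by
    apply hρ'
    intro m
    rw [hz {m}, ← Category.assoc, ← Category.assoc, ← Category.assoc, ← Category.assoc,
      hm {m} m (Finset.mem_singleton_self m)]
  obtain ⟨ψ, hψ⟩ := H1_epi_desc g z hz2
  have hψ2 : ψ ≫ colimit.desc Q qc = 𝟙 X := by
    rw [← cancel_epi g, ← Category.assoc, hψ, Category.assoc, colimit.ι_desc, Category.comp_id]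
    exact hq ∅
  obtain ⟨t, i, hi⟩ := (hX _ Q).2 ψ
  refine ⟨X₀, R t, α t, β t, i, q t, hX₀, H1_isCoherent_sigma_finite _ (fun m => hG m), ?_⟩
  have e : q t = colimit.ι Q t ≫ colimit.desc Q qc := (colimit.ι_desc qc t).symm
  rw [e, ← Category.assoc, hi, hψ2]

end TF
end Groth.Agent.H1
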