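import Groth.Agent.Lib.helper1.ToposFinColim4
set_option autoImplicit false
universe u w w'
open CategoryTheory CategoryTheory.Limits Opposite

namespace Groth.Agent.H1
namespace TF

variable {C : Type u} [SmallCategory C] {J : GrothendieckTopology C}

theorem H1_exists_epi_from_mem (S : Set (Sheaf J (Type u)))
    (hgen : ToposFin.IsGenerating S)
    (hcolim : ∀ (K : Type) [SmallCategory K] [FinCategory K] (D : K ⥤ Sheaf J (Type u)),
      (∀ k, D.obj k ∈ S) → colimit D ∈ S)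
    {Y : Sheaf J (Type u)} (hY : ToposFin.IsQC Y) :
    ∃ (L : Sheaf J (Type u)) (ρ : L ⟶ Y), L ∈ S ∧ Epi ρ := by
  obtain ⟨κ, hκ, W, w, hW, hw⟩ :=
    H1_exists_finite_cover_of_gen (fun W => W ∈ S) (H1_gen_of_isGenerating hgen) hY
  let e : κ ≃ Fin (Nat.card κ) := Finite.equivFin κ
  let f : Fin (Nat.card κ) → Sheaf J (Type u) := fun j => W (e.symm j)
  refine ⟨∐ f, Sigma.desc (fun j => w (e.symm j)), ?_, ?_⟩
  · exact hcolim (Discrete (Fin (Nat.card κ))) (Discrete.functor f) (fun k => hW _)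
  · rw [H1_epi_sigmaDesc_iff]
    intro Z a b hab
    apply hw
    intro m
    obtain ⟨j, rfl⟩ : ∃ j, e.symm j = m := ⟨e m, e.symm_apply_apply m⟩
    exact hab j

/-- The target of an epimorphism is the coequalizer of any cover of its kernel pair. -/
theorem H1_coeq_kernel_iso {K X L : Sheaf J (Type u)} (g : K ⟶ X) [Epi g]
    (ρ : L ⟶ pullback g g) [Epi ρ] :
    Nonempty (coequalizer (ρ ≫ pullback.fst g g) (ρ ≫ pullback.snd g g) ≅ X) := by
  have h1 : (ρ ≫ pullback.fst g g) ≫ g = (ρ ≫ pullback.snd g g) ≫ g := by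
    rw [Category.assoc, Category.assoc, pullback.condition]
  have h2 : pullback.fst g g ≫ coequalizer.π (ρ ≫ pullback.fst g g) (ρ ≫ pullback.snd g g) =
      pullback.snd g g ≫ coequalizer.π (ρ ≫ pullback.fst g g) (ρ ≫ pullback.snd g g) := by
    rw [← cancel_epi ρ, ← Category.assoc, ← Category.assoc]
    exact coequalizer.condition _ _
  obtain ⟨ψ, hψ⟩ := H1_epi_desc g _ h2
  refine ⟨⟨coequalizer.desc g h1, ψ, ?_, ?_⟩⟩
  · apply coequalizer.hom_ext
    rw [← Category.assoc, coequalizer.π_desc, hψ, Category.comp_id]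
  · rw [← cancel_epi g, ← Category.assoc, hψ, coequalizer.π_desc, Category.comp_id]

theorem H1_retract_iso_coeq {X Q : Sheaf J (Type u)} (i : X ⟶ Q) (p : Q ⟶ X) (hip : i ≫ p = 𝟙 X) :
    Nonempty (coequalizer (𝟙 Q) (p ≫ i) ≅ X) := by
  have h1 : 𝟙 Q ≫ p = (p ≫ i) ≫ p := by
    rw [Category.id_comp, Category.assoc, hip, Category.comp_id]
  refine ⟨⟨coequalizer.desc p h1, i ≫ coequalizer.π _ _, ?_, ?_⟩⟩
  · apply coequalizer.hom_ext
    rw [← Category.assoc, coequalizer.π_desc, Category.comp_id, ← Category.assoc,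
      ← coequalizer.condition, Category.id_comp]
  · rw [Category.assoc, coequalizer.π_desc, hip]

theorem H1_coequalizer_mem (S : Set (Sheaf J (Type u)))
    (hcolim : ∀ (K : Type) [SmallCategory K] [FinCategory K] (D : K ⥤ Sheaf J (Type u)),
      (∀ k, D.obj k ∈ S) → colimit D ∈ S)
    {A B : Sheaf J (Type u)} (a b : A ⟶ B) (hA : A ∈ S) (hB : B ∈ S) : coequalizer a b ∈ S := by
  apply hcolim WalkingParallelPair (parallelPair a b)
  intro k
  cases k
  · exact hA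
  · exact hB

theorem H1_mem_of_isCoherent (S : Set (Sheaf J (Type u))) (hqc : ∀ K ∈ S, ToposFin.IsQC K)
    (hiso : ∀ ⦃K L : Sheaf J (Type u)⦄, K ∈ S → Nonempty (K ≅ L) → L ∈ S)
    (hgen : ToposFin.IsGenerating S)
    (hcolim : ∀ (K : Type) [SmallCategory K] [FinCategory K] (D : K ⥤ Sheaf J (Type u)),
      (∀ k, D.obj k ∈ S) → colimit D ∈ S)
    {X : Sheaf J (Type u)} (hX : ToposFin.IsCoherent X) : X ∈ S := by
  obtain ⟨K, g, hK, hg⟩ := H1_exists_epi_from_mem S hgen hcolim hX.1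
  have hR : ToposFin.IsQC (pullback g g) := hX.2 _ _ g g (hqc K hK) (hqc K hK)
  obtain ⟨L, ρ, hL, hρ⟩ := H1_exists_epi_from_mem S hgen hcolim hR
  obtain ⟨e⟩ := H1_coeq_kernel_iso g ρ
  exact hiso (H1_coequalizer_mem S hcolim _ _ hL hK) ⟨e⟩

theorem H1_S5588 (S : Set (Sheaf J (Type u))) (hqc : ∀ K ∈ S, ToposFin.IsQC K)
    (hiso : ∀ ⦃K L : Sheaf J (Type u)⦄, K ∈ S → Nonempty (K ≅ L) → L ∈ S)
    (hgen : ToposFin.IsGenerating S) (hpb : ToposFin.ClosedUnderPullbacks S)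
    (hcolim : ∀ (K : Type) [SmallCategory K] [FinCategory K] (D : K ⥤ Sheaf J (Type u)),
      (∀ k, D.obj k ∈ S) → colimit D ∈ S) :
    (∀ X : Sheaf J (Type u), X ∈ S ↔ ToposFin.IsCoherent X) ∧
    (∀ X : Sheaf J (Type u), ToposFin.IsFP X → ToposFin.IsCoherent X) := by
  have h1 : ∀ X : Sheaf J (Type u), X ∈ S ↔ ToposFin.IsCoherent X := fun X =>
    ⟨fun h => H1_isCoherent_of_mem hqc hgen hpb h, fun h => H1_mem_of_isCoherent S hqc hiso hgen hcolim h⟩
  refine ⟨h1, ?_⟩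
  intro X hX
  have hE : ToposFin.HasCoherentGenerators J := by
    intro Y
    obtain ⟨ι, G, π, hG, hπ⟩ := H1_gen_of_isGenerating hgen Y
    exact ⟨ι, G, π, fun i => (h1 _).1 (hG i), (H1_epi_sigmaDesc_iff π).2 hπ⟩
  obtain ⟨X₀, X₁, a, b, i, p, h0, h1', hip⟩ := H1_retract_of_FPc hE X ((H1_isFP_iff X).1 hX)
  have hQ : coequalizer a b ∈ S := H1_coequalizer_mem S hcolim a b ((h1 _).2 h1') ((h1 _).2 h0)
  obtain ⟨e⟩ := H1_retract_iso_coeq i p hip
  exact (h1 X).1 (hiso (H1_coequalizer_mem S hcolim _ _ hQ hQ) ⟨e⟩)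

end TF
end Groth.Agent.H1
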