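import Groth.Agent.Lib.helper1.ToposFinColim5
set_option autoImplicit false
universe u w w'
open CategoryTheory CategoryTheory.Limits Opposite

namespace Groth.Agent.H1
namespace TF

variable {C : Type u} [SmallCategory C] {J : GrothendieckTopology C}

/-- Jointly epimorphic families in a sheaf topos are effective: gluing of morphisms. -/
theorem H1_JE_glue {ι : Type u} {X Z : Sheaf J (Type u)} {F : ι → Sheaf J (Type u)}
    (π : ∀ i, F i ⟶ X) (hπ : JE π) (e : ∀ i, F i ⟶ Z)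
    (h : ∀ i j, pullback.fst (π i) (π j) ≫ e i = pullback.snd (π i) (π j) ≫ e j) :
    ∃ ψ : X ⟶ Z, ∀ i, π i ≫ ψ = e i := by
  haveI : Epi (Sigma.desc π) := (H1_epi_sigmaDesc_iff π).2 hπ
  haveI := H1_effectiveEpi_of_epi (Sigma.desc π)
  haveI : ∀ {W : Sheaf J (Type u)} (g : W ⟶ ∐ F),
      Epi (Sigma.desc fun a ↦ pullback.fst g (Sigma.ι F a)) := fun g =>
    (H1_epi_sigmaDesc_iff _).2 (H1_JE_pullback_fst (Sigma.ι F) g (H1_JE_sigma_ι F))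
  have h' : ∀ {W : Sheaf J (Type u)} (a₁ a₂ : ι) (g₁ : W ⟶ F a₁) (g₂ : W ⟶ F a₂),
      g₁ ≫ π a₁ = g₂ ≫ π a₂ → g₁ ≫ e a₁ = g₂ ≫ e a₂ := by
    intro W a₁ a₂ g₁ g₂ hg
    have e1 : pullback.lift g₁ g₂ hg ≫ pullback.fst (π a₁) (π a₂) = g₁ := pullback.lift_fst _ _ _
    have e2 : pullback.lift g₁ g₂ hg ≫ pullback.snd (π a₁) (π a₂) = g₂ := pullback.lift_snd _ _ _
    calc g₁ ≫ e a₁ = (pullback.lift g₁ g₂ hg ≫ pullback.fst (π a₁) (π a₂)) ≫ e a₁ := by rw [e1]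
      _ = (pullback.lift g₁ g₂ hg ≫ pullback.snd (π a₁) (π a₂)) ≫ e a₂ := by
          rw [Category.assoc, Category.assoc, h]
      _ = g₂ ≫ e a₂ := by rw [e2]
  have h'' : ∀ {W : Sheaf J (Type u)} (g₁ g₂ : W ⟶ ∐ F),
      g₁ ≫ Sigma.desc π = g₂ ≫ Sigma.desc π → g₁ ≫ Sigma.desc e = g₂ ≫ Sigma.desc e :=
    fun g₁ g₂ hg => effectiveEpiFamilyStructOfEffectiveEpiDesc_aux h' hg
  refine ⟨EffectiveEpi.desc (Sigma.desc π) (Sigma.desc e) h'', ?_⟩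
  intro i
  have e1 : π i = Sigma.ι F i ≫ Sigma.desc π := (Sigma.ι_desc π i).symm
  have e2 : e i = Sigma.ι F i ≫ Sigma.desc e := (Sigma.ι_desc e i).symm
  rw [e1, e2, Category.assoc, EffectiveEpi.fac]

end TF
end Groth.Agent.H1
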