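import Groth.Agent.Lib.helper1.ToposFinColim6
set_option autoImplicit false
universe u w w'
open CategoryTheory CategoryTheory.Limits Opposite

namespace Groth.Agent.H1
namespace TF

variable {C : Type u} [SmallCategory C] {J : GrothendieckTopology C}

/-- Index poset of finite presentations. -/
abbrev QIdx {κ M : Type u} (kk ll : M → κ) : Type u :=
  {T : Finset κ × Finset M // ∀ x ∈ T.2, kk x ∈ T.1 ∧ ll x ∈ T.1}

theorem QIdx.le_iff {κ M : Type u} {kk ll : M → κ} (T T' : QIdx kk ll) :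
    T ≤ T' ↔ T.1.1 ⊆ T'.1.1 ∧ T.1.2 ⊆ T'.1.2 := Iff.rfl

instance {κ M : Type u} (kk ll : M → κ) : Nonempty (QIdx kk ll) :=
  ⟨⟨(∅, ∅), by simp⟩⟩

instance {κ M : Type u} (kk ll : M → κ) : IsDirected (QIdx kk ll) (· ≤ ·) := by
  classical
  constructor
  intro T T'
  refine ⟨⟨(T.1.1 ∪ T'.1.1, T.1.2 ∪ T'.1.2), ?_⟩, ?_, ?_⟩
  · intro x hx
    simp only [Finset.mem_union] at hx ⊢
    rcases hx with hx | hx
    · exact ⟨Or.inl (T.2 x hx).1, Or.inl (T.2 x hx).2⟩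
    · exact ⟨Or.inr (T'.2 x hx).1, Or.inr (T'.2 x hx).2⟩
  · exact ⟨Finset.subset_union_left, Finset.subset_union_left⟩
  · exact ⟨Finset.subset_union_right, Finset.subset_union_right⟩

section Q
variable {κ M : Type u} (F : κ → Sheaf J (Type u)) (G : M → Sheaf J (Type u)) {kk ll : M → κ}
  (α : ∀ x, G x ⟶ F (kk x)) (β : ∀ x, G x ⟶ F (ll x))

noncomputable def QA (T : QIdx kk ll) : (∐ fun x : T.1.2 => G x) ⟶ ∐ fun k : T.1.1 => F k :=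
  Sigma.desc (fun x => α x ≫ Sigma.ι (fun k : T.1.1 => F k) ⟨kk x, (T.2 x x.2).1⟩)

noncomputable def QB (T : QIdx kk ll) : (∐ fun x : T.1.2 => G x) ⟶ ∐ fun k : T.1.1 => F k :=
  Sigma.desc (fun x => β x ≫ Sigma.ι (fun k : T.1.1 => F k) ⟨ll x, (T.2 x x.2).2⟩)

noncomputable def QQ (T : QIdx kk ll) : Sheaf J (Type u) := coequalizer (QA F G α T) (QB F G β T)

noncomputable def Qφ (T : QIdx kk ll) (k : κ) (hk : k ∈ T.1.1) : F k ⟶ QQ F G α β T :=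
  Sigma.ι (fun k : T.1.1 => F k) ⟨k, hk⟩ ≫ coequalizer.π (QA F G α T) (QB F G β T)

theorem Qφ_rel (T : QIdx kk ll) (x : M) (hx : x ∈ T.1.2) :
    α x ≫ Qφ F G α β T (kk x) (T.2 x hx).1 = β x ≫ Qφ F G α β T (ll x) (T.2 x hx).2 := by
  have h1 := coequalizer.condition (QA F G α T) (QB F G β T)
  have h2 := congrArg (fun φ => Sigma.ι (fun x : T.1.2 => G x) ⟨x, hx⟩ ≫ φ) h1
  simp only [← Category.assoc] at h2
  have e1 : Sigma.ι (fun x : T.1.2 => G x) ⟨x, hx⟩ ≫ QA F G α T =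
      α x ≫ Sigma.ι (fun k : T.1.1 => F k) ⟨kk x, (T.2 x hx).1⟩ := Sigma.ι_desc _ _
  have e2 : Sigma.ι (fun x : T.1.2 => G x) ⟨x, hx⟩ ≫ QB F G β T =
      β x ≫ Sigma.ι (fun k : T.1.1 => F k) ⟨ll x, (T.2 x hx).2⟩ := Sigma.ι_desc _ _
  rw [e1, e2] at h2
  simp only [Category.assoc] at h2
  exact h2

noncomputable def Qdesc (T : QIdx kk ll) {Z : Sheaf J (Type u)} (ψ : ∀ k, k ∈ T.1.1 → (F k ⟶ Z))
    (hψ : ∀ x (hx : x ∈ T.1.2), α x ≫ ψ (kk x) (T.2 x hx).1 = β x ≫ ψ (ll x) (T.2 x hx).2) :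
    QQ F G α β T ⟶ Z :=
  coequalizer.desc (Sigma.desc (fun k : T.1.1 => ψ k k.2)) (by
    apply Sigma.hom_ext
    intro x
    have e1 : Sigma.ι (fun x : T.1.2 => G x) x ≫ QA F G α T =
      α x ≫ Sigma.ι (fun k : T.1.1 => F k) ⟨kk x, (T.2 x x.2).1⟩ := Sigma.ι_desc _ _
    have e2 : Sigma.ι (fun x : T.1.2 => G x) x ≫ QB F G β T =
      β x ≫ Sigma.ι (fun k : T.1.1 => F k) ⟨ll x, (T.2 x x.2).2⟩ := Sigma.ι_desc _ _
    rw [← Category.assoc, ← Category.assoc, e1, e2, Category.assoc, Category.assoc,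
      Sigma.ι_desc, Sigma.ι_desc]
    exact hψ x x.2)

theorem Qφ_desc (T : QIdx kk ll) {Z : Sheaf J (Type u)} (ψ : ∀ k, k ∈ T.1.1 → (F k ⟶ Z))
    (hψ : ∀ x (hx : x ∈ T.1.2), α x ≫ ψ (kk x) (T.2 x hx).1 = β x ≫ ψ (ll x) (T.2 x hx).2)
    (k : κ) (hk : k ∈ T.1.1) : Qφ F G α β T k hk ≫ Qdesc F G α β T ψ hψ = ψ k hk := by
  unfold Qφ Qdesc
  rw [Category.assoc]
  erw [coequalizer.π_desc]
  exact Sigma.ι_desc (fun k : T.1.1 => ψ k k.2) ⟨k, hk⟩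

theorem Q_hom_ext (T : QIdx kk ll) {Z : Sheaf J (Type u)} (a b : QQ F G α β T ⟶ Z)
    (h : ∀ k hk, Qφ F G α β T k hk ≫ a = Qφ F G α β T k hk ≫ b) : a = b := by
  apply coequalizer.hom_ext
  apply Sigma.hom_ext
  intro k
  have := h k.1 k.2
  simp only [Qφ, Category.assoc] at this
  exact this

theorem H1_QQ_isCoherent
    (hcoeq : ∀ (X₀ X₁ : Sheaf J (Type u)) (a b : X₁ ⟶ X₀), ToposFin.IsCoherent X₀ →
      ToposFin.IsCoherent X₁ → ToposFin.IsCoherent (coequalizer a b))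
    (hF : ∀ k, ToposFin.IsCoherent (F k)) (hG : ∀ x, ToposFin.IsCoherent (G x))
    (T : QIdx kk ll) : ToposFin.IsCoherent (QQ F G α β T) :=
  hcoeq _ _ _ _ (H1_isCoherent_sigma_finite _ (fun k => hF k))
    (H1_isCoherent_sigma_finite _ (fun x => hG x))

end Q

end TF
end Groth.Agent.H1
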