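import Groth.Agent.Lib.helper1.ToposFinColim7
set_option autoImplicit false
universe u w w'
open CategoryTheory CategoryTheory.Limits Opposite

namespace Groth.Agent.H1
namespace TF

variable {C : Type u} [SmallCategory C] {J : GrothendieckTopology C}

section Q2
variable {κ M : Type u} (F : κ → Sheaf J (Type u)) (G : M → Sheaf J (Type u)) {kk ll : M → κ}
  (α : ∀ x, G x ⟶ F (kk x)) (β : ∀ x, G x ⟶ F (ll x))

noncomputable def QFun : QIdx kk ll ⥤ Sheaf J (Type u) where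
  obj T := QQ F G α β T
  map {T T'} a := Qdesc F G α β T (fun k hk => Qφ F G α β T' k ((leOfHom a).1 hk))
    (fun x hx => Qφ_rel F G α β T' x ((leOfHom a).2 hx))
  map_id T := Q_hom_ext F G α β T _ _ (fun k hk => by rw [Qφ_desc, Category.comp_id])
  map_comp a b := Q_hom_ext F G α β _ _ _
    (fun k hk => by rw [Qφ_desc, ← Category.assoc, Qφ_desc, Qφ_desc])

noncomputable def Dφ (T : QIdx kk ll) (k : κ) (hk : k ∈ T.1.1) : F k ⟶ (QFun F G α β).obj T :=
  Qφ F G α β T k hk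

theorem Dφ_map {T T' : QIdx kk ll} (a : T ⟶ T') (k : κ) (hk : k ∈ T.1.1) :
    Dφ F G α β T k hk ≫ (QFun F G α β).map a = Dφ F G α β T' k ((leOfHom a).1 hk) :=
  Qφ_desc F G α β T _ _ k hk

theorem Dφ_rel (T : QIdx kk ll) (x : M) (hx : x ∈ T.1.2) :
    α x ≫ Dφ F G α β T (kk x) (T.2 x hx).1 = β x ≫ Dφ F G α β T (ll x) (T.2 x hx).2 :=
  Qφ_rel F G α β T x hx

noncomputable def Ddesc (T : QIdx kk ll) {Z : Sheaf J (Type u)} (ψ : ∀ k, k ∈ T.1.1 → (F k ⟶ Z))
    (hψ : ∀ x (hx : x ∈ T.1.2), α x ≫ ψ (kk x) (T.2 x hx).1 = β x ≫ ψ (ll x) (T.2 x hx).2) :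
    (QFun F G α β).obj T ⟶ Z := Qdesc F G α β T ψ hψ

theorem Dφ_desc (T : QIdx kk ll) {Z : Sheaf J (Type u)} (ψ : ∀ k, k ∈ T.1.1 → (F k ⟶ Z))
    (hψ : ∀ x (hx : x ∈ T.1.2), α x ≫ ψ (kk x) (T.2 x hx).1 = β x ≫ ψ (ll x) (T.2 x hx).2)
    (k : κ) (hk : k ∈ T.1.1) : Dφ F G α β T k hk ≫ Ddesc F G α β T ψ hψ = ψ k hk :=
  Qφ_desc F G α β T ψ hψ k hk

theorem D_hom_ext (T : QIdx kk ll) {Z : Sheaf J (Type u)} (a b : (QFun F G α β).obj T ⟶ Z)
    (h : ∀ k hk, Dφ F G α β T k hk ≫ a = Dφ F G α β T k hk ≫ b) : a = b :=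
  Q_hom_ext F G α β T a b h

end Q2

theorem H1_exists_filtered_colimit_of_coherent (hE : ToposFin.HasCoherentGenerators J)
    (hcoeq : ∀ (X₀ X₁ : Sheaf J (Type u)) (a b : X₁ ⟶ X₀), ToposFin.IsCoherent X₀ →
      ToposFin.IsCoherent X₁ → ToposFin.IsCoherent (coequalizer a b))
    (X : Sheaf J (Type u)) :
    ∃ (I : Type u) (_ : SmallCategory I) (_ : IsFiltered I) (D : I ⥤ Sheaf J (Type u)),
      (∀ i, ToposFin.IsCoherent (D.obj i)) ∧ Nonempty (X ≅ colimit D) := by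
  classical
  obtain ⟨κ, F, π, hF, hπ⟩ := hE X
  have hπ' : JE π := (H1_epi_sigmaDesc_iff π).1 hπ
  have h2 : ∀ k l, ∃ (μ : Type u) (G : μ → Sheaf J (Type u))
      (ρ : ∀ m, G m ⟶ pullback (π k) (π l)), (∀ m, ToposFin.IsCoherent (G m)) ∧ JE ρ := by
    intro k l
    obtain ⟨μ, G, ρ, hG, hρ⟩ := hE (pullback (π k) (π l))
    exact ⟨μ, G, ρ, hG, (H1_epi_sigmaDesc_iff ρ).1 hρ⟩
  choose μ G' ρ' hG' hρ' using h2
  let M : Type u := Σ k : κ, Σ l : κ, μ k l
  let kk : M → κ := fun x => x.1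
  let ll : M → κ := fun x => x.2.1
  let G : M → Sheaf J (Type u) := fun x => G' x.1 x.2.1 x.2.2
  let α : ∀ x : M, G x ⟶ F (kk x) := fun x => ρ' x.1 x.2.1 x.2.2 ≫ pullback.fst _ _
  let β : ∀ x : M, G x ⟶ F (ll x) := fun x => ρ' x.1 x.2.1 x.2.2 ≫ pullback.snd _ _
  have hαβ : ∀ x : M, α x ≫ π (kk x) = β x ≫ π (ll x) := by
    intro x
    simp only [α, β, Category.assoc]
    rw [pullback.condition]
  let q : ∀ T : QIdx kk ll, (QFun F G α β).obj T ⟶ X := fun T =>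
    Ddesc F G α β T (fun k _ => π k) (fun x _ => hαβ x)
  have hq : ∀ (T : QIdx kk ll) (k : κ) (hk : k ∈ T.1.1), Dφ F G α β T k hk ≫ q T = π k :=
    fun T k hk => Dφ_desc F G α β T _ _ k hk
  let qc : Cocone (QFun F G α β) :=
    { pt := X
      ι :=
        { app := q
          naturality := by
            intro T T' a
            apply D_hom_ext F G α β T
            intro k hk
            simp only [Functor.const_obj_obj, Functor.const_obj_map, Category.comp_id]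
            rw [← Category.assoc, Dφ_map, hq, hq] } }
  let Tk : κ → QIdx kk ll := fun k => ⟨({k}, ∅), by simp⟩
  have hTk : ∀ k, k ∈ (Tk k).1.1 := fun k => Finset.mem_singleton_self k
  let e : ∀ k, F k ⟶ colimit (QFun F G α β) := fun k =>
    Dφ F G α β (Tk k) k (hTk k) ≫ colimit.ι (QFun F G α β) (Tk k)
  have key : ∀ (T : QIdx kk ll) (k : κ) (hk : k ∈ T.1.1),
      Dφ F G α β T k hk ≫ colimit.ι (QFun F G α β) T = e k := by
    intro T k hk
    have a : Tk k ⟶ T := homOfLE ⟨Finset.singleton_subset_iff.2 hk, Finset.empty_subset _⟩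
    change _ = Dφ F G α β (Tk k) k (hTk k) ≫ colimit.ι (QFun F G α β) (Tk k)
    rw [← colimit.w (QFun F G α β) a, ← Category.assoc, Dφ_map]
  have hglue : ∀ k l, pullback.fst (π k) (π l) ≫ e k = pullback.snd (π k) (π l) ≫ e l := by
    intro k l
    apply hρ' k l
    intro m
    let x : M := ⟨k, l, m⟩
    let Tx : QIdx kk ll := ⟨({k, l}, {x}), by
      intro y hy
      rw [Finset.mem_singleton] at hy
      subst hy
      simp [kk, ll, x]⟩
    have hx : x ∈ Tx.1.2 := Finset.mem_singleton_self x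
    rw [← key Tx k (Tx.2 x hx).1, ← key Tx l (Tx.2 x hx).2]
    have h3 := Dφ_rel F G α β Tx x hx
    calc ρ' k l m ≫ pullback.fst (π k) (π l) ≫ Dφ F G α β Tx k (Tx.2 x hx).1 ≫
          colimit.ι (QFun F G α β) Tx
        = (α x ≫ Dφ F G α β Tx (kk x) (Tx.2 x hx).1) ≫ colimit.ι (QFun F G α β) Tx := by
          simp only [α, x, kk, Category.assoc]
      _ = (β x ≫ Dφ F G α β Tx (ll x) (Tx.2 x hx).2) ≫ colimit.ι (QFun F G α β) Tx := by rw [h3]
      _ = ρ' k l m ≫ pullback.snd (π k) (π l) ≫ Dφ F G α β Tx l (Tx.2 x hx).2 ≫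
          colimit.ι (QFun F G α β) Tx := by
          simp only [β, x, ll, Category.assoc]
  obtain ⟨ψ, hψ⟩ := H1_JE_glue π hπ' e hglue
  refine ⟨QIdx kk ll, inferInstance, inferInstance, QFun F G α β, ?_,
    ⟨⟨ψ, colimit.desc (QFun F G α β) qc, ?_, ?_⟩⟩⟩
  · intro T
    exact H1_QQ_isCoherent F G α β hcoeq hF (fun x => hG' _ _ _) T
  · apply hπ'
    intro k
    rw [← Category.assoc, hψ, Category.comp_id]
    change (Dφ F G α β (Tk k) k (hTk k) ≫ colimit.ι (QFun F G α β) (Tk k)) ≫ _ = _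
    rw [Category.assoc, colimit.ι_desc]
    exact hq (Tk k) k _
  · apply colimit.hom_ext
    intro T
    rw [← Category.assoc, colimit.ι_desc, Category.comp_id]
    apply D_hom_ext F G α β T
    intro k hk
    change Dφ F G α β T k hk ≫ q T ≫ ψ = _
    rw [← Category.assoc, hq, hψ, key T k hk]

end TF
end Groth.Agent.H1
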