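import Groth.Agent.Lib.helper1.ToposFinColim8
set_option autoImplicit false
universe u w w'
open CategoryTheory CategoryTheory.Limits Opposite

namespace Groth.Agent.H1
namespace TF

variable {C : Type u} [SmallCategory C] {J : GrothendieckTopology C}

theorem H1_isCoherent_of_retract {X Q : Sheaf J (Type u)} (i : X ⟶ Q) (p : Q ⟶ X)
    (hip : i ≫ p = 𝟙 X) (hQ : ToposFin.IsCoherent Q) : ToposFin.IsCoherent X := by
  haveI : IsSplitEpi p := IsSplitEpi.mk' ⟨i, hip⟩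
  haveI : IsSplitMono i := IsSplitMono.mk' ⟨p, hip⟩
  exact ⟨H1_isQC_of_epi p hQ.1, H1_isQS_of_mono i hQ.2⟩

theorem H1_S5582 (hE : ToposFin.HasCoherentGenerators J) :
    ((∀ (X₀ X₁ : Sheaf J (Type u)) (a b : X₁ ⟶ X₀), ToposFin.IsCoherent X₀ →
        ToposFin.IsCoherent X₁ → ToposFin.IsCoherent (coequalizer a b)) ↔
      (∀ X : Sheaf J (Type u), ToposFin.IsFP X → ToposFin.IsCoherent X)) ∧
    ((∀ X : Sheaf J (Type u), ∃ (I : Type u) (_ : SmallCategory I) (_ : IsFiltered I)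
        (D : I ⥤ Sheaf J (Type u)),
        (∀ i, ToposFin.IsCoherent (D.obj i)) ∧ Nonempty (X ≅ colimit D)) ↔
      (∀ X : Sheaf J (Type u), ToposFin.IsFP X → ToposFin.IsCoherent X)) := by
  have hE' := H1_hasQCGenerators_of_hasCoherentGenerators hE
  have B : (∀ X : Sheaf J (Type u), ToposFin.IsFP X → ToposFin.IsCoherent X) →
      (∀ (X₀ X₁ : Sheaf J (Type u)) (a b : X₁ ⟶ X₀), ToposFin.IsCoherent X₀ →
        ToposFin.IsCoherent X₁ → ToposFin.IsCoherent (coequalizer a b)) := by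
    intro h X₀ X₁ a b h0 h1
    apply h
    rw [H1_isFP_iff]
    exact H1_FPc_coequalizer a b (H1_FPc_of_isCoherent hE' h0) (H1_FPc_of_isCoherent hE' h1)
  refine ⟨⟨?_, B⟩, ⟨?_, ?_⟩⟩
  · intro hcoeq X hX
    obtain ⟨X₀, X₁, a, b, i, p, h0, h1, hip⟩ := H1_retract_of_FPc hE X ((H1_isFP_iff X).1 hX)
    exact H1_isCoherent_of_retract i p hip (hcoeq _ _ a b h0 h1)
  · intro h X hX
    obtain ⟨I, _, _, D, hD, ⟨e⟩⟩ := h X
    obtain ⟨i, f, hf⟩ := ((H1_isFP_iff X).1 hX I D).2 e.hom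
    refine H1_isCoherent_of_retract f (colimit.ι D i ≫ e.inv) ?_ (hD i)
    rw [← Category.assoc, hf, e.hom_inv_id]
  · intro h X
    exact H1_exists_filtered_colimit_of_coherent hE (B h) X

end TF
end Groth.Agent.H1
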