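import Groth.Agent.Lib.helper1.ToposFin9
set_option autoImplicit false
universe u w w' v₁ u₁
open CategoryTheory CategoryTheory.Limits Opposite

namespace Groth.Agent.H1
namespace TF

variable {C : Type u} [SmallCategory C] (J : GrothendieckTopology C)

/-- The unit `yoneda X ⟶ ε(X)`. -/
noncomputable abbrev etaY (X : C) : yoneda.obj X ⟶ (ToposFin.eps J X).obj :=
  toSheafify J (yoneda.obj X)

/-- The universal section of `ε(X)` over `X`. -/
noncomputable def x0 (X : C) : (ToposFin.eps J X).obj.obj (op X) := yonedaEquiv (etaY J X)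

theorem H1_map_x0 {X V : C} (u : V ⟶ X) :
    (ToposFin.eps J X).obj.map u.op (x0 J X) = (etaY J X).app (op V) u :=
  map_yonedaEquiv (etaY J X) u

/-- The map `ε(X) ⟶ F` attached to a section of `F` over `X`. -/
noncomputable def secMap {X : C} {F : Sheaf J (Type u)} (s : F.obj.obj (op X)) :
    ToposFin.eps J X ⟶ F := ⟨sheafifyLift J (yonedaEquiv.symm s) F.2⟩

theorem H1_secMap_x0 {X : C} {F : Sheaf J (Type u)} (s : F.obj.obj (op X)) :
    (secMap J s).hom.app (op X) (x0 J X) = s := by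
  have h := toSheafify_sheafifyLift J (yonedaEquiv.symm s) F.2
  have h2 : yonedaEquiv (toSheafify J (yoneda.obj X) ≫ sheafifyLift J (yonedaEquiv.symm s) F.2) = s := by
    rw [h, Equiv.apply_symm_apply]
  rw [yonedaEquiv_comp] at h2
  exact h2

theorem H1_eps_hom_ext {X : C} {F : Sheaf J (Type u)} (a b : ToposFin.eps J X ⟶ F)
    (h : a.hom.app (op X) (x0 J X) = b.hom.app (op X) (x0 J X)) : a = b := by
  ext1
  apply sheafify_hom_ext J _ _ F.2
  apply yonedaEquiv.injective
  rw [yonedaEquiv_comp, yonedaEquiv_comp]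
  exact h

/-- `ε` on morphisms. -/
noncomputable abbrev epsMap {V X : C} (u : V ⟶ X) : ToposFin.eps J V ⟶ ToposFin.eps J X :=
  (presheafToSheaf J (Type u)).map (yoneda.map u)

theorem H1_epsMap_etaY {V X W : C} (u : V ⟶ X) (v : W ⟶ V) :
    (epsMap J u).hom.app (op W) ((etaY J V).app (op W) v) = (etaY J X).app (op W) (v ≫ u) := by
  have h := toSheafify_naturality J (yoneda.map u)
  have := congrArg (fun φ => φ.app (op W) v) h
  exact this.symm

theorem H1_epsMap_x0 {V X : C} (u : V ⟶ X) :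
    (epsMap J u).hom.app (op V) (x0 J V) = (ToposFin.eps J X).obj.map u.op (x0 J X) := by
  rw [H1_map_x0]
  have := H1_epsMap_etaY J u (𝟙 V)
  rw [Category.id_comp] at this
  rw [← this]
  rfl

/-- Local surjectivity of the unit. -/
theorem H1_etaY_imageSieve {X U : C} (s : (ToposFin.eps J X).obj.obj (op U)) :
    Presheaf.imageSieve (etaY J X) s ∈ J U :=
  Presheaf.imageSieve_mem J (etaY J X) s

/-- Local injectivity of the unit. -/
theorem H1_etaY_equalizerSieve {X V : C} (u u' : V ⟶ X)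
    (h : (etaY J X).app (op V) u = (etaY J X).app (op V) u') :
    Presheaf.equalizerSieve (F := yoneda.obj X) (X := op V) u u' ∈ J V :=
  Presheaf.equalizerSieve_mem J (etaY J X) u u' h

/-- A family into `ε(X)` is locally jointly surjective as soon as the universal section lifts
locally. -/
theorem H1_LJE_eps_iff {X : C} {ι : Type w} {F : ι → Sheaf J (Type u)}
    (π : ∀ i, F i ⟶ ToposFin.eps J X) : LJE π ↔ liftSieve π (x0 J X) ∈ J X := by
  constructor
  · intro h
    exact h X (x0 J X)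
  · intro h U s
    refine J.transitive (H1_etaY_imageSieve J s) _ ?_
    rintro V g ⟨u, hu⟩
    refine J.superset_covering ?_ (J.pullback_stable u h)
    rintro W k ⟨i, t, ht⟩
    refine ⟨i, t, ?_⟩
    rw [ht, op_comp, Functor.map_comp, op_comp, Functor.map_comp]
    change (ToposFin.eps J X).obj.map k.op ((ToposFin.eps J X).obj.map u.op (x0 J X)) =
      (ToposFin.eps J X).obj.map k.op ((ToposFin.eps J X).obj.map g.op s)
    rw [H1_map_x0, hu]

/-- S3056 (⇒). -/
theorem H1_isQC_eps_of_isQCSite {X : C} (hX : ToposFin.IsQCSite J X) :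
    ToposFin.IsQC (ToposFin.eps J X) := by
  classical
  rw [H1_isQC_iff]
  intro ι F π hπ
  have hL := (H1_LJE_eps_iff J π).1 (H1_LJE_of_JE π hπ)
  obtain ⟨n, V, g, hg, hcov⟩ := hX _ hL
  choose i t ht using hg
  refine ⟨Finset.univ.image i, H1_JE_of_LJE _ ((H1_LJE_eps_iff J _).2 ?_)⟩
  refine J.superset_covering ?_ hcov
  rw [Sieve.ofArrows, Sieve.generate_le_iff]
  rintro _ _ ⟨k⟩
  exact ⟨⟨i k, Finset.mem_image_of_mem i (Finset.mem_univ k)⟩, t k, ht k⟩

/-- S3056 (⇐). -/
theorem H1_isQCSite_of_isQC_eps {X : C} (hX : ToposFin.IsQC (ToposFin.eps J X)) :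
    ToposFin.IsQCSite J X := by
  classical
  intro S hS
  let ι := Σ V : C, {g : V ⟶ X // S g}
  let F : ι → Sheaf J (Type u) := fun p => ToposFin.eps J p.1
  let π : ∀ p : ι, F p ⟶ ToposFin.eps J X := fun p => epsMap J p.2.1
  have hπ : LJE π := by
    rw [H1_LJE_eps_iff]
    refine J.superset_covering ?_ hS
    intro V g hg
    exact ⟨⟨V, g, hg⟩, x0 J V, H1_epsMap_x0 J g⟩
  obtain ⟨s, hs⟩ := (H1_isQC_iff _).1 hX ι F π (H1_JE_of_LJE π hπ)
  have hT := (H1_LJE_eps_iff J _).1 (H1_LJE_of_JE _ hs)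
  let e := s.equivFin
  refine ⟨s.card, fun k => (e.symm k).1.1, fun k => (e.symm k).1.2.1, fun k => (e.symm k).1.2.2, ?_⟩
  refine J.transitive hT _ ?_
  rintro W h ⟨p, t, ht⟩
  obtain ⟨k0, rfl⟩ := e.symm.surjective p
  refine J.transitive (H1_etaY_imageSieve J t) _ ?_
  rintro W' k ⟨v, hv⟩
  -- `v : W' ⟶ p.1.1`, `η(v) = t|k`
  have h1 : (etaY J X).app (op W') (v ≫ (e.symm k0).1.2.1) = (etaY J X).app (op W') (k ≫ h) := by
    rw [← H1_epsMap_etaY J (e.symm k0).1.2.1 v, hv]
    have := NatTrans.naturality_apply (π (e.symm k0).1).hom k.op t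
    rw [this, ht, ← H1_map_x0]
    rw [op_comp, Functor.map_comp]
    rfl
  refine J.superset_covering ?_ (H1_etaY_equalizerSieve J _ _ h1)
  intro W'' l hl
  have hl' : l ≫ v ≫ (e.symm k0).1.2.1 = l ≫ k ≫ h := hl
  change Sieve.ofArrows _ _ ((l ≫ k) ≫ h)
  rw [Category.assoc, ← hl', ← Category.assoc]
  exact ⟨_, l ≫ v, _, Presieve.ofArrows.mk k0, rfl⟩

end TF
end Groth.Agent.H1
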