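import Groth.Agent.Lib.helper1.ToposFinSite
set_option autoImplicit false
universe u w w' v₁ u₁
open CategoryTheory CategoryTheory.Limits Opposite

namespace Groth.Agent.H1
namespace TF

variable {C : Type u} [SmallCategory C] (J : GrothendieckTopology C)

/-- The sheaves `ε(V)` generate. -/
theorem H1_eps_gen (F : Sheaf J (Type u)) :
    ∃ (ι : Type u) (G : ι → Sheaf J (Type u)) (π : ∀ i, G i ⟶ F),
      (∀ i, (fun W => ∃ V : C, W = ToposFin.eps J V) (G i)) ∧ JE π := by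
  refine ⟨Σ V : C, F.obj.obj (op V), fun p => ToposFin.eps J p.1, fun p => secMap J p.2,
    fun p => ⟨p.1, rfl⟩, H1_JE_of_LJE _ ?_⟩
  intro U s
  have h1 : liftSieve (fun p : Σ V : C, F.obj.obj (op V) => secMap J p.2) s (𝟙 U) :=
    ⟨⟨U, s⟩, x0 J U, by rw [H1_secMap_x0]; simp⟩
  have : liftSieve (fun p : Σ V : C, F.obj.obj (op V) => secMap J p.2) s = ⊤ :=
    (Sieve.id_mem_iff_eq_top).1 h1
  rw [this]
  exact J.top_mem U

/-- Local representability of a morphism `ε(V) ⟶ ε(X)` when `V` is quasi-compact. -/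
theorem H1_eps_local_repr {V X : C} (hV : ToposFin.IsQCSite J V)
    (a : ToposFin.eps J V ⟶ ToposFin.eps J X) :
    ∃ (n : ℕ) (Vk : Fin n → C) (c : ∀ k, Vk k ⟶ V) (u : ∀ k, Vk k ⟶ X),
      JE (fun k => epsMap J (c k)) ∧ ∀ k, epsMap J (c k) ≫ a = epsMap J (u k) := by
  obtain ⟨n, Vk, c, hc, hcov⟩ := hV _ (H1_etaY_imageSieve J (a.hom.app (op V) (x0 J V)))
  choose u hu using hc
  refine ⟨n, Vk, c, u, H1_JE_of_LJE _ ((H1_LJE_eps_iff J _).2 ?_), ?_⟩
  · refine J.superset_covering ?_ hcov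
    rw [Sieve.ofArrows, Sieve.generate_le_iff]
    rintro _ _ ⟨k⟩
    exact ⟨k, x0 J (Vk k), H1_epsMap_x0 J (c k)⟩
  · intro k
    apply H1_eps_hom_ext
    have e1 : a.hom.app (op (Vk k)) ((epsMap J (c k)).hom.app (op (Vk k)) (x0 J (Vk k))) =
        a.hom.app (op (Vk k)) ((ToposFin.eps J V).obj.map (c k).op (x0 J V)) := by
      rw [H1_epsMap_x0]
    have e2 : a.hom.app (op (Vk k)) ((ToposFin.eps J V).obj.map (c k).op (x0 J V)) =
        (ToposFin.eps J X).obj.map (c k).op (a.hom.app (op V) (x0 J V)) :=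
      NatTrans.naturality_apply a.hom (c k).op (x0 J V)
    have e3 : (epsMap J (u k)).hom.app (op (Vk k)) (x0 J (Vk k)) =
        (etaY J X).app (op (Vk k)) (u k) := by
      rw [H1_epsMap_x0, H1_map_x0]
    exact (e1.trans (e2.trans (hu k).symm)).trans e3.symm

section Pullbacks
variable [HasPullbacks C] (hC : ∀ X : C, ToposFin.IsQCSite J X)

/-- `ε` commutes with fibre products. -/
noncomputable def epsPullbackIso {V W X : C} (u : V ⟶ X) (v : W ⟶ X) :
    ToposFin.eps J (pullback u v) ≅ pullback (epsMap J u) (epsMap J v) :=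
  PreservesPullback.iso (yoneda ⋙ presheafToSheaf J (Type u)) u v

theorem H1_epsPullbackIso_hom_fst {V W X : C} (u : V ⟶ X) (v : W ⟶ X) :
    (epsPullbackIso J u v).hom ≫ pullback.fst _ _ = epsMap J (pullback.fst u v) :=
  PreservesPullback.iso_hom_fst (yoneda ⋙ presheafToSheaf J (Type u)) u v

theorem H1_epsPullbackIso_hom_snd {V W X : C} (u : V ⟶ X) (v : W ⟶ X) :
    (epsPullbackIso J u v).hom ≫ pullback.snd _ _ = epsMap J (pullback.snd u v) :=
  PreservesPullback.iso_hom_snd (yoneda ⋙ presheafToSheaf J (Type u)) u v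

include hC in
/-- Main lemma: fibre products of `ε`'s over an `ε` are quasi-compact. -/
theorem H1_isQC_pullback_eps {V W X : C} (a : ToposFin.eps J V ⟶ ToposFin.eps J X)
    (b : ToposFin.eps J W ⟶ ToposFin.eps J X) : ToposFin.IsQC (pullback a b) := by
  obtain ⟨n, Vk, c, u, hc, hu⟩ := H1_eps_local_repr J (hC V) a
  obtain ⟨m, Wl, d, v, hd, hv⟩ := H1_eps_local_repr J (hC W) b
  refine H1_isQC_of_finite_cover _ _
    (H1_JE_prod_map' a b (fun k => ToposFin.eps J (Vk k)) (fun k => epsMap J (c k)) hc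
      (fun l => ToposFin.eps J (Wl l)) (fun l => epsMap J (d l)) hd) ?_
  rintro ⟨l, k⟩
  have h1 : ToposFin.IsQC (ToposFin.eps J (pullback (u k) (v l))) :=
    H1_isQC_eps_of_isQCSite J (hC _)
  have h2 := H1_isQC_of_iso (epsPullbackIso J (u k) (v l)) h1
  exact H1_isQC_of_iso (pullback.congrHom (hu k) (hv l)).symm h2

include hC in
/-- S3069. -/
theorem H1_isCoherent_eps (X : C) : ToposFin.IsCoherent (ToposFin.eps J X) := by
  refine ⟨H1_isQC_eps_of_isQCSite J (hC X), ?_⟩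
  intro A B a b hA hB
  obtain ⟨κ, hκ, W, w, hW, hw⟩ :=
    H1_exists_finite_cover_of_gen (fun W => ∃ V : C, W = ToposFin.eps J V) (H1_eps_gen J) hA
  obtain ⟨κ', hκ', V, v, hV, hv⟩ :=
    H1_exists_finite_cover_of_gen (fun W => ∃ V : C, W = ToposFin.eps J V) (H1_eps_gen J) hB
  refine H1_isQC_of_finite_cover _ _ (H1_JE_prod_map' a b W w hw V v hv) ?_
  rintro ⟨n, m⟩
  obtain ⟨V₁, hV₁⟩ := hW m
  obtain ⟨V₂, hV₂⟩ := hV n
  have key : ∀ (A' B' : Sheaf J (Type u)) (a' : A' ⟶ ToposFin.eps J X) (b' : B' ⟶ ToposFin.eps J X),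
      A' = ToposFin.eps J V₁ → B' = ToposFin.eps J V₂ → ToposFin.IsQC (pullback a' b') := by
    rintro A' B' a' b' rfl rfl
    exact H1_isQC_pullback_eps J hC a' b'
  exact key _ _ _ _ hV₁ hV₂

end Pullbacks

end TF
end Groth.Agent.H1
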