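import Groth.Agent.Lib.helper1.ToposFinSite2
set_option autoImplicit false
universe u w w' v₁ u₁
open CategoryTheory CategoryTheory.Limits Opposite

namespace Groth.Agent.H1
namespace TF

variable {C : Type u} [SmallCategory C] (J : GrothendieckTopology C)
variable [HasPullbacks C] (hC : ∀ X : C, ToposFin.IsQCSite J X)

omit [HasPullbacks C] in
theorem H1_hasQCGenerators_of_qc_site (hC : ∀ X : C, ToposFin.IsQCSite J X) :
    ToposFin.HasQCGenerators J := by
  rw [H1_hasQCGenerators_iff]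
  intro F
  obtain ⟨ι, G, π, h1, h2⟩ := H1_eps_gen J F
  refine ⟨ι, G, π, ?_, h2⟩
  intro i
  obtain ⟨V, hV⟩ := h1 i
  rw [hV]
  exact H1_isQC_eps_of_isQCSite J (hC V)

include hC in
/-- `ε(v)` is a quasi-separated morphism. -/
theorem H1_isQSHom_epsMap {W X : C} (v : W ⟶ X) : ToposFin.IsQSHom (epsMap J v) := by
  unfold ToposFin.IsQSHom
  have hfac : pullback.diagonal (epsMap J v) =
      epsMap J (pullback.diagonal v) ≫ (epsPullbackIso J v v).hom := by
    apply pullback.hom_ext
    · rw [pullback.diagonal_fst, Category.assoc, H1_epsPullbackIso_hom_fst, ← Functor.map_comp,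
        ← Functor.map_comp, pullback.diagonal_fst, CategoryTheory.Functor.map_id, CategoryTheory.Functor.map_id]
    · rw [pullback.diagonal_snd, Category.assoc, H1_epsPullbackIso_hom_snd, ← Functor.map_comp,
        ← Functor.map_comp, pullback.diagonal_snd, CategoryTheory.Functor.map_id, CategoryTheory.Functor.map_id]
  rw [hfac]
  refine H1_isQCHom_comp _ _ ?_ (H1_isQCHom_of_isIso _)
  exact H1_isQCHom_of_isQC_of_isQS _ (H1_isQC_eps_of_isQCSite J (hC W)) (H1_isCoherent_eps J hC _).2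

include hC in
/-- Every morphism `ε(W) ⟶ ε(X)` is quasi-separated. -/
theorem H1_isQSHom_eps_hom {W X : C} (b : ToposFin.eps J W ⟶ ToposFin.eps J X) :
    ToposFin.IsQSHom b := by
  obtain ⟨n, Wk, c, v, hc, hv⟩ := H1_eps_local_repr J (hC W) b
  refine H1_isQSHom_of_cover_of_source (H1_hasQCGenerators_of_qc_site J hC) b
    (fun k : ULift.{u} (Fin n) => ToposFin.eps J (Wk k.down)) (fun k => epsMap J (c k.down)) ?_ ?_ ?_
  · exact H1_JE_of_factor _ _ hc (fun k => ⟨ULift.up k, 𝟙 _, Category.id_comp _⟩)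
  · intro k
    exact H1_isQCHom_of_isQC_of_isQS _ (H1_isQC_eps_of_isQCSite J (hC _))
      (H1_isCoherent_eps J hC _).2
  · intro k
    rw [hv k.down]
    exact H1_isQSHom_epsMap J hC _

include hC in
/-- Fibre products of `ε`'s over an `ε` are coherent. -/
theorem H1_isCoherent_pullback_eps {V W X : C} (a : ToposFin.eps J V ⟶ ToposFin.eps J X)
    (b : ToposFin.eps J W ⟶ ToposFin.eps J X) : ToposFin.IsCoherent (pullback a b) := by
  refine ⟨H1_isQC_pullback_eps J hC a b, ?_⟩
  exact H1_isQS_pullback_of_isQSHom b a (H1_isQSHom_eps_hom J hC b) (H1_isCoherent_eps J hC V).2 |>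
    H1_isQS_of_iso (pullbackSymmetry b a)

include hC in
/-- S5584. -/
theorem H1_isQSHom_to_eps {X : C} {G : Sheaf J (Type u)} (g : G ⟶ ToposFin.eps J X)
    (hG : ToposFin.IsQS G) : ToposFin.IsQSHom g := by
  obtain ⟨ι, L, l, hL, hl⟩ := H1_eps_gen J G
  refine H1_isQSHom_of_cover_with_qs_products (H1_hasQCGenerators_of_qc_site J hC) g L l hl ?_ ?_ hG
  · intro i
    obtain ⟨V, hV⟩ := hL i
    rw [hV]
    exact H1_isQC_eps_of_isQCSite J (hC V)
  · intro i j
    obtain ⟨V₁, hV₁⟩ := hL i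
    obtain ⟨V₂, hV₂⟩ := hL j
    have key : ∀ (A' B' : Sheaf J (Type u)) (a' : A' ⟶ ToposFin.eps J X)
        (b' : B' ⟶ ToposFin.eps J X), A' = ToposFin.eps J V₁ → B' = ToposFin.eps J V₂ →
        ToposFin.IsQS (pullback a' b') := by
      rintro A' B' a' b' rfl rfl
      exact (H1_isCoherent_pullback_eps J hC a' b').2
    exact key _ _ _ _ hV₁ hV₂

include hC in
theorem H1_isQS_pullback_over_eps {X : C} {G H : Sheaf J (Type u)} (g : G ⟶ ToposFin.eps J X)
    (h : H ⟶ ToposFin.eps J X) (hG : ToposFin.IsQS G) (hH : ToposFin.IsQS H) :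
    ToposFin.IsQS (pullback g h) :=
  H1_isQS_pullback_of_isQSHom g h (H1_isQSHom_to_eps J hC g hG) hH

include hC in
/-- S5583. -/
theorem H1_isCoherent_pullback_over_eps {G H F : Sheaf J (Type u)} (a : G ⟶ F) (b : H ⟶ F)
    (hG : ToposFin.IsCoherent G) (hH : ToposFin.IsCoherent H) (hF : ToposFin.IsCoherent F)
    (X : C) (w : F ⟶ ToposFin.eps J X) : ToposFin.IsCoherent (pullback a b) := by
  refine ⟨hF.2 _ _ a b hG.1 hH.1, ?_⟩
  let j : pullback a b ⟶ pullback (a ≫ w) (b ≫ w) :=
    pullback.map a b (a ≫ w) (b ≫ w) (𝟙 _) (𝟙 _) w (by simp) (by simp)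
  have hj1 : j ≫ pullback.fst _ _ = pullback.fst _ _ :=
    (pullback.lift_fst _ _ _).trans (Category.comp_id _)
  have hj2 : j ≫ pullback.snd _ _ = pullback.snd _ _ :=
    (pullback.lift_snd _ _ _).trans (Category.comp_id _)
  haveI : Mono j := by
    constructor
    intro W p q hpq
    apply pullback.hom_ext
    · have := congrArg (fun φ => φ ≫ pullback.fst _ _) hpq
      simpa only [Category.assoc, hj1] using this
    · have := congrArg (fun φ => φ ≫ pullback.snd _ _) hpq
      simpa only [Category.assoc, hj2] using this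
  exact H1_isQS_of_mono j (H1_isQS_pullback_over_eps J hC _ _ hG.2 hH.2)

end TF
end Groth.Agent.H1
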