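import Groth.Agent.Lib.helper1.ToposFinSite3
set_option autoImplicit false
universe u w w' v₁ u₁
open CategoryTheory CategoryTheory.Limits Opposite

namespace Groth.Agent.H1
namespace TF

variable {C D : Type u} [SmallCategory C] [SmallCategory D]
  (J : GrothendieckTopology C) (K : GrothendieckTopology D)
  (G : C ⥤ D) [Functor.IsContinuous G J K]

/-- The inverse image of `ε(X)` is `ε(G X)`. -/
noncomputable def sheafPullbackEpsIso (X : C) :
    (G.sheafPullback (Type u) J K).obj (ToposFin.eps J X) ≅ ToposFin.eps K (G.obj X) := by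
  let adj := G.sheafAdjunctionContinuous (Type u) J K
  let σ : ((G.sheafPullback (Type u) J K).obj (ToposFin.eps J X)).obj.obj (op (G.obj X)) :=
    (adj.unit.app (ToposFin.eps J X)).hom.app (op X) (x0 J X)
  let φ : ToposFin.eps K (G.obj X) ⟶ (G.sheafPullback (Type u) J K).obj (ToposFin.eps J X) :=
    secMap K σ
  let τ : ((G.sheafPushforwardContinuous (Type u) J K).obj (ToposFin.eps K (G.obj X))).obj.obj (op X) :=
    x0 K (G.obj X)
  let ψ : (G.sheafPullback (Type u) J K).obj (ToposFin.eps J X) ⟶ ToposFin.eps K (G.obj X) :=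
    (adj.homEquiv _ _).symm (secMap J τ)
  have hψ : adj.homEquiv _ _ ψ = secMap J τ := Equiv.apply_symm_apply _ _
  refine ⟨ψ, φ, ?_, ?_⟩
  · apply (adj.homEquiv _ _).injective
    rw [Adjunction.homEquiv_naturality_right, hψ]
    apply H1_eps_hom_ext
    have h1 : (secMap J τ ≫ (G.sheafPushforwardContinuous (Type u) J K).map φ).hom.app (op X) (x0 J X) =
        φ.hom.app (op (G.obj X)) ((secMap J τ).hom.app (op X) (x0 J X)) := rfl
    rw [h1, H1_secMap_x0]
    have h2 : φ.hom.app (op (G.obj X)) τ = σ := H1_secMap_x0 K σ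
    rw [h2, Adjunction.homEquiv_unit]
    simp only [CategoryTheory.Functor.map_id]
    rfl
  · apply H1_eps_hom_ext
    have h2 : φ.hom.app (op (G.obj X)) (x0 K (G.obj X)) = σ := H1_secMap_x0 K σ
    change ψ.hom.app (op (G.obj X)) (φ.hom.app (op (G.obj X)) (x0 K (G.obj X))) = _
    rw [h2]
    have h3 : (adj.homEquiv _ _ ψ).hom.app (op X) (x0 J X) = ψ.hom.app (op (G.obj X)) σ := by
      rw [Adjunction.homEquiv_unit]
      rfl
    rw [← h3, hψ, H1_secMap_x0]
    rfl

theorem H1_eps_isGenerating :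
    ToposFin.IsGenerating {A : Sheaf J (Type u) | ∃ X : C, A = ToposFin.eps J X} := by
  intro F
  obtain ⟨ι, L, π, h1, h2⟩ := H1_eps_gen J F
  exact ⟨ι, L, π, h1, fun Z a b hab => h2 a b hab⟩

/-- S6182. -/
theorem H1_sheafPullback_coherent [HasPullbacks C] [HasPullbacks D]
    (hC : ∀ X : C, ToposFin.IsQCSite J X) (hD : ∀ Y : D, ToposFin.IsQCSite K Y)
    [PreservesFiniteLimits (G.sheafPullback (Type u) J K)] :
    (∀ X : Sheaf J (Type u), ToposFin.IsQC X →
        ToposFin.IsQC ((G.sheafPullback (Type u) J K).obj X)) ∧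
      (∀ X : Sheaf J (Type u), ToposFin.IsQS X →
        ToposFin.IsQS ((G.sheafPullback (Type u) J K).obj X)) := by
  have hS : ∀ A ∈ {A : Sheaf J (Type u) | ∃ X : C, A = ToposFin.eps J X}, ToposFin.IsCoherent A := by
    rintro A ⟨X, rfl⟩
    exact H1_isCoherent_eps J hC X
  have h : ∀ A ∈ {A : Sheaf J (Type u) | ∃ X : C, A = ToposFin.eps J X},
      ToposFin.IsCoherent ((G.sheafPullback (Type u) J K).obj A) := by
    rintro A ⟨X, rfl⟩
    have h1 := H1_isCoherent_eps K hD (G.obj X)
    exact ⟨H1_isQC_of_iso (sheafPullbackEpsIso J K G X).symm h1.1,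
      H1_isQS_of_iso (sheafPullbackEpsIso J K G X).symm h1.2⟩
  refine ⟨?_, ?_⟩
  · intro X hX
    exact H1_map_isQC_of_gen _ _ (G.sheafAdjunctionContinuous (Type u) J K) _
      (H1_eps_isGenerating J) (fun A hA => (h A hA).1) X hX
  · intro X hX
    exact H1_map_isQS_of_gen _ _ (G.sheafAdjunctionContinuous (Type u) J K)
      (H1_hasQCGenerators_of_qc_site K hD) _ hS (H1_eps_isGenerating J) h X hX

end TF
end Groth.Agent.H1
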