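import Mathlib
import Groth.Agent.Lib.helper1.LexReflective
open CategoryTheory CategoryTheory.Limits Opposite
universe v u

namespace Groth.Agent.H1.ToposFun

section general
variable {C : Type u} [SmallCategory C] {A : Type v} [Category.{u} A]
  (Ψ : A ⥤ (Cᵒᵖ ⥤ Type u)) [Ψ.Full] [Ψ.Faithful] (L : (Cᵒᵖ ⥤ Type u) ⥤ A) (adj : L ⊣ Ψ)
  [PreservesFiniteLimits L]

/-- equivalence with the essential image -/
noncomputable def eEss : A ≌ Ψ.essImage.FullSubcategory := Ψ.toEssImage.asEquivalence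

noncomputable def isoEss : (eEss Ψ).inverse ⋙ Ψ ≅ Ψ.essImage.ι :=
  Functor.isoWhiskerLeft (eEss Ψ).inverse (Ψ.toEssImageCompι).symm ≪≫
    (Functor.associator _ _ _).symm ≪≫ Functor.isoWhiskerRight (eEss Ψ).counitIso _ ≪≫
    Functor.leftUnitor _

noncomputable def adjEss : L ⋙ (eEss Ψ).functor ⊣ Ψ.essImage.ι :=
  (adj.comp (eEss Ψ).toAdjunction).ofNatIsoRight (isoEss Ψ)

include adj in
theorem exists_topology : ∃ J : GrothendieckTopology C, Nonempty (A ≌ Sheaf J (Type u)) := by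
  letI : Reflective Ψ.essImage.ι := ⟨L ⋙ (eEss Ψ).functor, adjEss Ψ L adj⟩
  haveI : PreservesFiniteLimits (reflector Ψ.essImage.ι) := by
    change PreservesFiniteLimits (L ⋙ (eEss Ψ).functor)
    infer_instance
  obtain ⟨J, -, hJ⟩ := Groth.Agent.H1.LexRefl.main_thm Ψ.essImage
  refine ⟨J, ⟨(eEss Ψ).trans ?_⟩⟩
  let F : Ψ.essImage.FullSubcategory ⥤ Sheaf J (Type u) :=
    { obj := fun X => ⟨X.obj, (isSheaf_iff_isSheaf_of_type _ _).2 ((hJ X.obj).1 X.property)⟩
      map := fun f => ⟨f.hom⟩ }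
  haveI : F.Full := ⟨fun {X Y} f => ⟨ObjectProperty.homMk f.hom, rfl⟩⟩
  haveI : F.Faithful := ⟨fun {X Y} f g h => by
    ext1
    exact congrArg (fun k => k.hom) h⟩
  haveI : F.EssSurj := ⟨fun Y => ⟨⟨Y.obj, (hJ Y.obj).2 ((isSheaf_iff_isSheaf_of_type _ _).1 Y.property)⟩,
    ⟨Iso.refl _⟩⟩⟩
  haveI : F.IsEquivalence := {}
  exact F.asEquivalence

end general

section functor
variable {C : Type u} [SmallCategory C] (J : GrothendieckTopology C) (D : Type u) [SmallCategory D]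

/-- the site category -/
abbrev C2 := (D × Cᵒᵖ)ᵒᵖ

noncomputable def eqv : (D ⥤ (Cᵒᵖ ⥤ Type u)) ≌ ((C2 (C := C) D)ᵒᵖ ⥤ Type u) :=
  (Functor.currying (C := D) (D := Cᵒᵖ) (E := Type u)).trans
    (opOpEquivalence (D × Cᵒᵖ)).congrLeft.symm

noncomputable def Psi : (D ⥤ Sheaf J (Type u)) ⥤ ((C2 (C := C) D)ᵒᵖ ⥤ Type u) :=
  (Functor.whiskeringRight D _ _).obj (sheafToPresheaf J (Type u)) ⋙ (eqv D).functor

noncomputable def Lft : ((C2 (C := C) D)ᵒᵖ ⥤ Type u) ⥤ (D ⥤ Sheaf J (Type u)) :=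
  (eqv D).inverse ⋙ (Functor.whiskeringRight D _ _).obj (presheafToSheaf J (Type u))

noncomputable def adjPsi : Lft J D ⊣ Psi J D :=
  ((eqv D).symm.toAdjunction).comp ((sheafificationAdjunction J (Type u)).whiskerRight D)

instance : (Psi J D).Full := by unfold Psi; infer_instance
instance : (Psi J D).Faithful := by unfold Psi; infer_instance
instance : PreservesFiniteLimits (Lft J D) := by
  haveI : PreservesFiniteLimits
      ((Functor.whiskeringRight D _ _).obj (presheafToSheaf J (Type u))) :=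
    ⟨fun K _ _ => inferInstance⟩
  unfold Lft; infer_instance

theorem functor_topos : ∃ (C' : Type u) (_ : SmallCategory C') (J' : GrothendieckTopology C'),
    Nonempty ((D ⥤ Sheaf J (Type u)) ≌ Sheaf J' (Type u)) := by
  obtain ⟨J', h⟩ := exists_topology (Psi J D) (Lft J D) (adjPsi J D)
  exact ⟨C2 (C := C) D, inferInstance, J', h⟩

end functor

end Groth.Agent.H1.ToposFun
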