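import Mathlib

/-!
Flatness over an unramified algebra: if `R → T` is unramified (essentially of finite type) and `N` is a
`T`-module flat over `R`, then `N` is flat over `T` (it is a `T`-linear retract of `T ⊗[R] N`).
-/

namespace Groth.Agent.H1

open TensorProduct

theorem H1_flat_of_formallyUnramified (R T N : Type*) [CommRing R] [CommRing T] [Algebra R T]
    [Algebra.FormallyUnramified R T] [Algebra.EssFiniteType R T]
    [AddCommGroup N] [Module T N] [Module R N] [IsScalarTower R T N] [Module.Flat R N] :
    Module.Flat T N := by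
  let r : T ⊗[R] N →ₗ[T] N := LinearMap.liftBaseChange T LinearMap.id
  let μ : T ⊗[R] N →ₗ[R] N := r.restrictScalars R
  let Φ : (T ⊗[R] T) ⊗[R] N →ₗ[R] T ⊗[R] N :=
    (LinearMap.lTensor T μ) ∘ₗ (TensorProduct.assoc R T T N).toLinearMap
  have hΦ : ∀ (s u : T) (n : N), Φ ((s ⊗ₜ u) ⊗ₜ n) = s ⊗ₜ (u • n) := by
    intro s u n
    simp [Φ, μ, r]
  have h1 : ∀ (x : T ⊗[R] T) (t : T) (n : N),
      Φ (x ⊗ₜ (t • n)) = Φ ((x * (1 ⊗ₜ t)) ⊗ₜ n) := by
    intro x t n
    induction x using TensorProduct.induction_on with
    | zero => simp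
    | tmul s u => rw [Algebra.TensorProduct.tmul_mul_tmul, hΦ, hΦ, mul_one, smul_smul]
    | add x y hx hy =>
      rw [TensorProduct.add_tmul, map_add, hx, hy, add_mul, TensorProduct.add_tmul, map_add]
  have h2 : ∀ (x : T ⊗[R] T) (t : T) (n : N),
      Φ (((t ⊗ₜ 1) * x) ⊗ₜ n) = t • Φ (x ⊗ₜ n) := by
    intro x t n
    induction x using TensorProduct.induction_on with
    | zero => simp
    | tmul s u =>
      rw [Algebra.TensorProduct.tmul_mul_tmul, hΦ, hΦ, one_mul, TensorProduct.smul_tmul',
        smul_eq_mul]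
    | add x y hx hy =>
      rw [mul_add, TensorProduct.add_tmul, map_add, hx, hy, TensorProduct.add_tmul, map_add,
        smul_add]
  have h3 : ∀ (x : T ⊗[R] T) (n : N),
      r (Φ (x ⊗ₜ n)) = (Algebra.TensorProduct.lmul' R x) • n := by
    intro x n
    induction x using TensorProduct.induction_on with
    | zero => simp
    | tmul s u =>
      rw [hΦ]
      simp [r, mul_smul]
    | add x y hx hy =>
      rw [TensorProduct.add_tmul, map_add, map_add, hx, hy, map_add, add_smul]
  let i : N →ₗ[T] T ⊗[R] N :=
    { toFun := fun n => Φ (Algebra.FormallyUnramified.elem R T ⊗ₜ n)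
      map_add' := by
        intro a b
        rw [TensorProduct.tmul_add, map_add]
      map_smul' := by
        intro t n
        simp only [RingHom.id_apply]
        rw [h1, mul_comm, Algebra.FormallyUnramified.one_tmul_mul_elem, h2] }
  refine Module.Flat.of_retract i r ?_
  ext n
  change r (Φ (Algebra.FormallyUnramified.elem R T ⊗ₜ n)) = n
  rw [h3, Algebra.FormallyUnramified.lmul_elem, one_smul]

end Groth.Agent.H1
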