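import Mathlib
import Groth.Agent.Lib.helper1.HeightOne

/-!
Primes avoiding an element of the Jacobson radical in a Noetherian ring.
-/

namespace Groth.Agent.H1

theorem H1_zariski_infinite (A : Type*) [CommRing A] [IsNoetherianRing A] (f : A)
    (hf : f ∈ (⊥ : Ideal A).jacobson) (p q : Ideal A) [p.IsPrime] [q.IsPrime] (hpq : p < q)
    (hfq : f ∉ q) : {t : Ideal A | t.IsPrime ∧ p ≤ t ∧ f ∉ t}.Infinite := by
  classical
  -- a maximal ideal above `q`
  obtain ⟨m, hm, hqm⟩ := Ideal.exists_le_maximal q (Ideal.IsPrime.ne_top inferInstance)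
  haveI := hm
  have hfm : f ∈ m := by
    have := Ideal.mem_sInf.mp hf (I := m) ⟨bot_le, hm⟩
    exact this
  have hqm' : q < m := lt_of_le_of_ne hqm (fun h => hfq (h ▸ hfm))
  let π := Ideal.Quotient.mk p
  have hπ : Function.Surjective π := Ideal.Quotient.mk_surjective
  have hker : RingHom.ker π = p := Ideal.mk_ker
  -- images in the domain `A ⧸ p`
  have hqP : (q.map π).IsPrime :=
    Ideal.map_isPrime_of_surjective hπ (by rw [hker]; exact hpq.le)
  have hmP : (m.map π).IsPrime :=
    Ideal.map_isPrime_of_surjective hπ (by rw [hker]; exact (hpq.le.trans hqm))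
  have hcomap : ∀ J : Ideal A, p ≤ J → (J.map π).comap π = J := by
    intro J hJ
    rw [Ideal.comap_map_of_surjective π hπ, ← RingHom.ker_eq_comap_bot, hker]
    exact sup_eq_left.mpr hJ
  have hq0 : q.map π ≠ ⊥ := by
    intro h
    have := hcomap q hpq.le
    rw [h, ← RingHom.ker_eq_comap_bot, hker] at this
    exact hpq.ne this
  have hqm2 : q.map π < m.map π := by
    refine lt_of_le_of_ne (Ideal.map_mono hqm) ?_
    intro h
    have h1 := hcomap q hpq.le
    have h2 := hcomap m (hpq.le.trans hqm)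
    rw [h, h2] at h1
    exact hqm'.ne h1.symm
  have hheight : 2 ≤ (m.map π).height := by
    have h1 : 1 ≤ (q.map π).height := by
      rw [Order.one_le_iff_pos, pos_iff_ne_zero, Ne, Ideal.height_eq_zero_iff_eq_bot]
      exact hq0
    have h2 := Ideal.height_add_one_le_of_lt_of_isPrime hqm2
    calc (2 : ℕ∞) = 1 + 1 := by norm_num
      _ ≤ (q.map π).height + 1 := by gcongr
      _ ≤ (m.map π).height := h2
  have hinf := H1_infinite_height_one_le (A ⧸ p) (m.map π) hheight
  have hf0 : π f ≠ 0 := by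
    rw [Ne, Ideal.Quotient.eq_zero_iff_mem]
    exact fun h => hfq (hpq.le h)
  have hfin : ({t : Ideal (A ⧸ p) | t.IsPrime ∧ t.height = 1 ∧ t ≤ m.map π} ∩
      {t | π f ∈ t}).Finite := by
    refine (Ideal.finite_minimalPrimes_of_isNoetherianRing (A ⧸ p) (Ideal.span {π f})).subset ?_
    rintro t ⟨⟨ht, ht1, -⟩, hft⟩
    haveI := ht
    refine Ideal.mem_minimalPrimes_of_height_le ((Ideal.span_singleton_le_iff_mem _).mpr hft) ?_
    rw [ht1]
    exact Ideal.one_le_height_span_singleton_of_mem_nonZeroDivisors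
      (mem_nonZeroDivisors_of_ne_zero hf0)
  have hinf2 := hinf.sdiff hfin
  refine Set.infinite_of_injOn_mapsTo (f := fun t : Ideal (A ⧸ p) => t.comap π) ?_ ?_ hinf2
  · intro t _ t' _ htt'
    have h1 := Ideal.map_comap_of_surjective π hπ t
    have h2 := Ideal.map_comap_of_surjective π hπ t'
    simp only at htt'
    rw [← h1, ← h2, htt']
  · rintro t ⟨⟨ht, ht1, htm⟩, hft⟩
    haveI := ht
    refine ⟨inferInstance, ?_, ?_⟩
    · intro y hy
      change π y ∈ t
      rw [Ideal.Quotient.eq_zero_iff_mem.mpr hy]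
      exact t.zero_mem
    · intro hmem
      exact hft ⟨⟨ht, ht1, htm⟩, hmem⟩

end Groth.Agent.H1
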